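import Mathlib.GroupTheory.Sylow
import Mathlib.GroupTheory.Transfer
import Mathlib.GroupTheory.Perm.Sign
import Mathlib.GroupTheory.SpecificGroups.Alternating
import Mathlib.Tactic

/-!
Basic tools for groups of small order: indices of Sylow normalizers, embeddings of simple
groups into alternating groups, Burnside's transfer theorem for simple groups.
-/

set_option autoImplicit false

namespace CfsgLib.SmallGroups

variable {G : Type*} [Group G]

section Basics

variable [Finite G] {p : ℕ} [Fact p.Prime]

theorem card_sylow_eq_index (P : Sylow p G) :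
    Nat.card (Sylow p G) = (Subgroup.normalizer ((P : Subgroup G) : Set G)).index :=
  Sylow.card_eq_index_normalizer P

theorem card_sylow_mul_card_normalizer (P : Sylow p G) :
    Nat.card (Sylow p G) * Nat.card (Subgroup.normalizer ((P : Subgroup G) : Set G)) = Nat.card G := by
  rw [card_sylow_eq_index P, mul_comm, Subgroup.card_mul_index]

theorem card_sylow_dvd_card : Nat.card (Sylow p G) ∣ Nat.card G := by
  obtain ⟨P⟩ : Nonempty (Sylow p G) := inferInstance
  exact Dvd.intro _ (card_sylow_mul_card_normalizer P)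

/-- A Sylow subgroup has order `p ^ a` when `|G| = p ^ a * m` with `p ∤ m`. -/
theorem card_sylow_eq {a m : ℕ} (hG : Nat.card G = p ^ a * m) (hm : ¬ p ∣ m) (P : Sylow p G) :
    Nat.card (P : Subgroup G) = p ^ a := by
  have hp : p.Prime := Fact.out
  have hm0 : m ≠ 0 := fun h => hm (h ▸ dvd_zero p)
  rw [P.card_eq_multiplicity, hG, Nat.factorization_mul (pow_ne_zero _ hp.ne_zero) hm0,
    Finsupp.add_apply, hp.factorization_pow, Finsupp.single_eq_same,
    Nat.factorization_eq_zero_of_not_dvd hm, add_zero]

theorem card_sylow_dvd_of_card_eq {a m : ℕ} (hG : Nat.card G = p ^ a * m) (hm : ¬ p ∣ m) :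
    Nat.card (Sylow p G) ∣ m := by
  obtain ⟨P⟩ : Nonempty (Sylow p G) := inferInstance
  have h1 := Sylow.card_dvd_index P
  have hp : p.Prime := Fact.out
  have h2 : (P : Subgroup G).index = m := by
    have := (P : Subgroup G).card_mul_index
    rw [card_sylow_eq hG hm P, hG] at this
    exact Nat.eq_of_mul_eq_mul_left (pow_pos hp.pos _) this
  rwa [h2] at h1

theorem mod_eq_one_card_sylow : Nat.card (Sylow p G) % p = 1 := by
  have := card_sylow_modEq_one p G
  rw [Nat.ModEq, Nat.mod_eq_of_lt (Fact.out : p.Prime).one_lt] at this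
  exact this

/-- The finite list of possible Sylow numbers. -/
theorem card_sylow_mem_filter {a m : ℕ} (hG : Nat.card G = p ^ a * m) (hm : ¬ p ∣ m) :
    Nat.card (Sylow p G) ∈ (Finset.range (m + 1)).filter fun d => m % d = 0 ∧ d % p = 1 := by
  have h1 := card_sylow_dvd_of_card_eq hG hm
  have hm0 : m ≠ 0 := fun h => hm (h ▸ dvd_zero p)
  simp only [Finset.mem_filter, Finset.mem_range]
  exact ⟨Nat.lt_succ_of_le (Nat.le_of_dvd (Nat.pos_of_ne_zero hm0) h1),
    Nat.mod_eq_zero_of_dvd h1, mod_eq_one_card_sylow⟩

theorem sylow_normal_of_card_eq_one (h : Nat.card (Sylow p G) = 1) (P : Sylow p G) :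
    (P : Subgroup G).Normal := by
  rw [← Subgroup.normalizer_eq_top_iff, ← Subgroup.index_eq_one, ← card_sylow_eq_index P]
  exact h

theorem card_sylow_eq_one_of_normal (P : Sylow p G) (h : (P : Subgroup G).Normal) :
    Nat.card (Sylow p G) = 1 := by
  rw [card_sylow_eq_index P, Subgroup.normalizer_eq_top_iff.mpr h, Subgroup.index_top]

/-- A `p`-subgroup acting on the Sylow subgroups fixes only those Sylow subgroups containing it. -/
theorem sylow_eq_of_normalizes (P Q : Sylow p G)
    (h : (P : Subgroup G) ≤ Subgroup.normalizer ((Q : Subgroup G) : Set G)) : P = Q := by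
  have h1 := P.2.inf_normalizer_sylow Q
  have h' : (P : Subgroup G) ≤ Subgroup.normalizer (Q : Set G) := h
  rw [inf_eq_left.mpr h'] at h1
  have h2 : (P : Subgroup G) ≤ (Q : Subgroup G) := h1 ▸ inf_le_right
  exact Sylow.ext (P.3 Q.2 h2).symm

end Basics

section Simple

theorem not_isMulCommutative_of_not_prime [Finite G] [IsSimpleGroup G]
    (h : ¬ (Nat.card G).Prime) : ¬ IsMulCommutative G := by
  intro hc
  letI : CommGroup G := { (inferInstance : Group G) with mul_comm := mul_comm' }
  exact h IsSimpleGroup.prime_card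

theorem eq_bot_of_normal_ne_top [IsSimpleGroup G] {H : Subgroup G} (hH : H.Normal) (h : H ≠ ⊤) :
    H = ⊥ := (IsSimpleGroup.eq_bot_or_eq_top_of_normal H hH).resolve_right h

theorem eq_bot_or_comm_of_centre [IsSimpleGroup G] (hG : ¬ IsMulCommutative G) :
    Subgroup.center G = ⊥ := by
  refine eq_bot_of_normal_ne_top inferInstance fun h => hG ⟨⟨fun a b => ?_⟩⟩
  exact (Subgroup.mem_center_iff.mp (h ▸ Subgroup.mem_top b) a)

theorem index_ne_two_of_simple [Finite G] [IsSimpleGroup G] (hG : ¬ IsMulCommutative G)
    (H : Subgroup G) : H.index ≠ 2 := by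
  intro h
  have hn : H.Normal := Subgroup.normal_of_index_eq_two h
  have hb : H = ⊥ := eq_bot_of_normal_ne_top hn (fun ht => by simp [ht] at h)
  rw [hb, Subgroup.index_bot] at h
  haveI : Fact (Nat.Prime 2) := ⟨Nat.prime_two⟩
  have := isCyclic_of_prime_card h
  exact hG ⟨⟨fun a b => IsCyclic.commGroup.mul_comm a b⟩⟩

/-- A transitive action of a simple group on a non-trivial set is faithful. -/
theorem toPermHom_injective_of_not_trivial [IsSimpleGroup G] {X : Type*} [MulAction G X]
    (h : ∃ (g : G) (x : X), g • x ≠ x) : Function.Injective (MulAction.toPermHom G X) := by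
  rw [← MonoidHom.ker_eq_bot_iff]
  refine eq_bot_of_normal_ne_top inferInstance fun ht => ?_
  obtain ⟨g, x, hx⟩ := h
  have : g ∈ (MulAction.toPermHom G X).ker := ht ▸ Subgroup.mem_top g
  exact hx (congrArg (fun σ : Equiv.Perm X => σ x) (MonoidHom.mem_ker.mp this))

/-- Every homomorphism from a non-abelian simple group to a symmetric group has even image. -/
theorem sign_eq_one_of_simple [Finite G] [IsSimpleGroup G] (hG : ¬ IsMulCommutative G)
    {X : Type*} [Fintype X] [DecidableEq X] (f : G →* Equiv.Perm X) (g : G) :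
    Equiv.Perm.sign (f g) = 1 := by
  set φ : G →* ℤˣ := Equiv.Perm.sign.comp f with hφ
  rcases IsSimpleGroup.eq_bot_or_eq_top_of_normal φ.ker inferInstance with h | h
  · refine absurd ⟨⟨fun a b => ?_⟩⟩ hG
    exact (MonoidHom.ker_eq_bot_iff φ).mp h (by simp [mul_comm])
  · have : g ∈ φ.ker := h ▸ Subgroup.mem_top g
    exact MonoidHom.mem_ker.mp this

/-- A non-abelian simple group with a proper subgroup of index `n` embeds in `A_n`. -/
theorem exists_injective_alternating [Finite G] [IsSimpleGroup G] (hG : ¬ IsMulCommutative G)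
    (H : Subgroup G) (hH : H ≠ ⊤) :
    ∃ f : G →* ↥(alternatingGroup (Fin H.index)), Function.Injective f := by
  classical
  have : Fintype (G ⧸ H) := Fintype.ofFinite _
  have e : (G ⧸ H) ≃ Fin H.index := Finite.equivFin _
  let f : G →* Equiv.Perm (Fin H.index) :=
    (e.permCongrHom).toMonoidHom.comp (MulAction.toPermHom G (G ⧸ H))
  have hf : Function.Injective f := by
    apply e.permCongrHom.injective.comp
    apply toPermHom_injective_of_not_trivial
    obtain ⟨g, hg⟩ : ∃ g, g ∉ H := by
      by_contra h
      push Not at h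
      exact hH (eq_top_iff.mpr fun g _ => h g)
    refine ⟨g, ((1 : G) : G ⧸ H), fun h => hg ?_⟩
    rw [MulAction.Quotient.smul_coe, smul_eq_mul, mul_one, QuotientGroup.eq, mul_one] at h
    exact inv_mem_iff.mp h
  refine ⟨f.codRestrict _ fun g => Equiv.Perm.mem_alternatingGroup.mpr
    (sign_eq_one_of_simple hG f g), fun a b h => hf (congrArg Subtype.val h)⟩

/-- `2 * |G|` divides `n!` when a non-abelian simple group has a proper subgroup of index `n`. -/
theorem two_mul_card_dvd_factorial [Finite G] [IsSimpleGroup G] (hG : ¬ IsMulCommutative G)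
    (H : Subgroup G) (hH : H ≠ ⊤) : 2 * Nat.card G ∣ H.index.factorial := by
  obtain ⟨f, hf⟩ := exists_injective_alternating hG H hH
  have h2 : 2 ≤ H.index := by
    have h1 : H.index ≠ 1 := fun h => hH (Subgroup.index_eq_one.mp h)
    have h0 : H.index ≠ 0 := Subgroup.index_ne_zero_of_finite
    omega
  haveI : Nontrivial (Fin H.index) := Fin.nontrivial_iff_two_le.mpr h2
  have h := two_mul_nat_card_alternatingGroup (α := Fin H.index)
  rw [Nat.card_perm, Nat.card_eq_fintype_card (α := Fin H.index), Fintype.card_fin] at h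
  rw [← h]
  exact Nat.mul_dvd_mul_left 2 (Subgroup.card_dvd_of_injective f hf)

variable [Finite G] [IsSimpleGroup G] {p : ℕ} [Fact p.Prime]

theorem card_sylow_ne_one (hG : ¬ IsMulCommutative G) (hp : p ∣ Nat.card G) :
    Nat.card (Sylow p G) ≠ 1 := by
  intro h
  obtain ⟨P⟩ : Nonempty (Sylow p G) := inferInstance
  rcases IsSimpleGroup.eq_bot_or_eq_top_of_normal _ (sylow_normal_of_card_eq_one h P) with hP | hP
  · have := P.dvd_card_of_dvd_card hp
    rw [hP, Subgroup.card_bot, Nat.dvd_one] at this
    exact (Fact.out : p.Prime).ne_one this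
  · refine hG ?_
    have hP2 : IsPGroup p (⊤ : Subgroup G) := hP ▸ P.2
    have hpG : IsPGroup p G := hP2.of_equiv Subgroup.topEquiv
    haveI : Nontrivial G := IsSimpleGroup.toNontrivial
    obtain hn := hpG.center_nontrivial
    rcases IsSimpleGroup.eq_bot_or_eq_top_of_normal (Subgroup.center G) inferInstance with hc | hc
    · rw [hc] at hn; exact absurd hn (not_nontrivial _)
    · exact ⟨⟨fun a b => Subgroup.mem_center_iff.mp (hc ▸ Subgroup.mem_top b) a⟩⟩

theorem normalizer_sylow_ne_top (hG : ¬ IsMulCommutative G) (hp : p ∣ Nat.card G) (P : Sylow p G) :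
    Subgroup.normalizer ((P : Subgroup G) : Set G) ≠ ⊤ := fun h =>
  card_sylow_ne_one hG hp (by rw [card_sylow_eq_index P, h, Subgroup.index_top])

/-- `2 * |G|` divides the factorial of every non-trivial Sylow number. -/
theorem two_mul_card_dvd_factorial_card_sylow (hG : ¬ IsMulCommutative G) (hp : p ∣ Nat.card G) :
    2 * Nat.card G ∣ (Nat.card (Sylow p G)).factorial := by
  obtain ⟨P⟩ : Nonempty (Sylow p G) := inferInstance
  rw [card_sylow_eq_index P]
  exact two_mul_card_dvd_factorial hG _ (normalizer_sylow_ne_top hG hp P)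

/-- Burnside: in a non-abelian simple group `P` is never central in its normalizer. -/
theorem not_normalizer_le_centralizer (hG : ¬ IsMulCommutative G) (hp : p ∣ Nat.card G)
    (P : Sylow p G) :
    ¬ Subgroup.normalizer ((P : Subgroup G) : Set G) ≤ Subgroup.centralizer ((P : Subgroup G) : Set G) := by
  intro h
  have hc := MonoidHom.ker_transferSylow_isComplement' P h
  have hn := MonoidHom.not_dvd_card_ker_transferSylow P h
  rcases IsSimpleGroup.eq_bot_or_eq_top_of_normal (MonoidHom.transferSylow P h).ker
    inferInstance with h1 | h1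
  · apply normalizer_sylow_ne_top hG hp P
    rw [h1, Subgroup.isComplement'_bot_left] at hc
    rw [Subgroup.normalizer_eq_top_iff, hc]
    infer_instance
  · apply hn
    rw [h1, Subgroup.card_top]; exact hp

theorem card_normalizer_ne_of_isMulCommutative (hG : ¬ IsMulCommutative G) (hp : p ∣ Nat.card G)
    (P : Sylow p G)
    (hab : IsMulCommutative (Subgroup.normalizer ((P : Subgroup G) : Set G))) : False := by
  refine not_normalizer_le_centralizer hG hp P fun g hg => ?_
  rw [Subgroup.mem_centralizer_iff]
  intro x hx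
  exact congrArg Subtype.val (hab.is_comm.comm
    ⟨x, Subgroup.le_normalizer hx⟩ ⟨g, hg⟩)

end Simple

end CfsgLib.SmallGroups
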