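import Mathlib

/-!
Transfer into an abelian Sylow subgroup: in a perfect group no non-trivial element of an abelian
Sylow subgroup is centralised by the normalizer of that subgroup.
-/

set_option autoImplicit false

namespace CfsgLib.SmallGroups

open scoped commutatorElement

open scoped IsMulCommutative in
theorem eq_one_of_central_in_normalizer_of_abelian_sylow {G : Type*} [Group G] [Finite G]
    (hperf : commutator G = ⊤) {p : ℕ} [Fact p.Prime] (S : Sylow p G)
    [IsMulCommutative (S : Subgroup G)] {z : G} (hz : z ∈ (S : Subgroup G))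
    (hfix : ∀ n ∈ Subgroup.normalizer ((S : Subgroup G) : Set G), n * z = z * n) : z = 1 := by
  have key : ∀ (k : ℕ) (g₀ : G), g₀⁻¹ * z ^ k * g₀ ∈ (S : Subgroup G) → g₀⁻¹ * z ^ k * g₀ = z ^ k := by
    intro k g₀ hk
    obtain ⟨n, hn, hn'⟩ := S.conj_eq_normalizer_conj_of_mem (z ^ k) g₀ (pow_mem hz k) hk
    rw [hn']
    have hc : Commute n z := hfix n hn
    rw [mul_assoc, ← (hc.pow_right k).eq, inv_mul_cancel_left]
  let τ : G →* (S : Subgroup G) := MonoidHom.transfer (MonoidHom.id (S : Subgroup G))
  have h1 : τ z = ⟨z ^ (S : Subgroup G).index, MonoidHom.transfer_eq_pow_aux z key⟩ :=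
    MonoidHom.transfer_eq_pow (MonoidHom.id (S : Subgroup G)) z key
  have h2 : τ z = 1 := by
    have hmem : z ∈ τ.ker := by
      have hle : commutator G ≤ τ.ker := Abelianization.commutator_subset_ker τ
      rw [hperf] at hle
      exact hle (Subgroup.mem_top z)
    exact hmem
  have h3 : z ^ (S : Subgroup G).index = 1 := congrArg Subtype.val (h1.symm.trans h2)
  have hd : orderOf z ∣ (S : Subgroup G).index := orderOf_dvd_of_pow_eq_one h3
  obtain ⟨k, hk⟩ := S.2 ⟨z, hz⟩
  have hk' : z ^ p ^ k = 1 := congrArg Subtype.val hk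
  have hd2 : orderOf z ∣ p ^ k := orderOf_dvd_of_pow_eq_one hk'
  have hco : Nat.Coprime (p ^ k) (S : Subgroup G).index :=
    Nat.Coprime.pow_left _ ((Nat.Prime.coprime_iff_not_dvd Fact.out).mpr S.not_dvd_index)
  exact orderOf_eq_one_iff.mp (Nat.eq_one_of_dvd_coprimes hco hd2 hd)

theorem commutator_eq_top_of_simple {G : Type*} [Group G] [IsSimpleGroup G]
    (hG : ¬ IsMulCommutative G) : commutator G = ⊤ := by
  refine (IsSimpleGroup.eq_bot_or_eq_top_of_normal (commutator G) inferInstance).resolve_left fun h => ?_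
  refine hG ⟨⟨fun a b => ?_⟩⟩
  have h1 : ⁅a, b⁆ ∈ commutator G := Subgroup.commutator_mem_commutator (Subgroup.mem_top a) (Subgroup.mem_top b)
  rw [h, Subgroup.mem_bot] at h1
  exact commutatorElement_eq_one_iff_mul_comm.mp h1

end CfsgLib.SmallGroups
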