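import Mathlib

/-!
A group `N` acting on a finite set, with a normal subgroup `⟨z⟩` of prime order `p` all of whose
non-trivial elements move every point: `N` permutes the `⟨z⟩`-orbits, and this permutation together
with the conjugation action determines an element up to a `p`-element; signs are governed by the
orbit permutation.
-/

set_option autoImplicit false

namespace CfsgLib.SmallGroups.FreePrime

variable {N β : Type*} [Group N] [MulAction N β] (z : N) [hnorm : (Subgroup.zpowers z).Normal]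

theorem smul_related (g : N) {x y : β} (h : (MulAction.orbitRel (Subgroup.zpowers z) β).r x y) :
    (MulAction.orbitRel (Subgroup.zpowers z) β).r (g • x) (g • y) := by
  obtain ⟨⟨u, hu⟩, hux⟩ := h
  have hux' : u • y = x := hux
  refine ⟨⟨g * u * g⁻¹, hnorm.conj_mem u hu g⟩, ?_⟩
  show (g * u * g⁻¹) • (g • y) = g • x
  rw [mul_smul, inv_smul_smul, mul_smul, hux']

/-- The orbits of `⟨z⟩`. -/
abbrev Orb (β : Type*) [MulAction N β] := MulAction.orbitRel.Quotient (Subgroup.zpowers z) β

/-- The permutation of the `⟨z⟩`-orbits induced by an element of `N`. -/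
def orbPerm : N →* Equiv.Perm (Orb z β) where
  toFun g :=
    { toFun := Quotient.map (g • ·) fun _ _ h => smul_related z g h
      invFun := Quotient.map (g⁻¹ • ·) fun _ _ h => smul_related z g⁻¹ h
      left_inv := fun q => Quotient.inductionOn q fun x => congrArg _ (inv_smul_smul g x)
      right_inv := fun q => Quotient.inductionOn q fun x => congrArg _ (smul_inv_smul g x) }
  map_one' := Equiv.ext fun q => Quotient.inductionOn q fun x => congrArg _ (one_smul N x)
  map_mul' g h := Equiv.ext fun q => Quotient.inductionOn q fun x => congrArg _ (mul_smul g h x)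

theorem orbPerm_mk (g : N) (x : β) :
    orbPerm z g (Quotient.mk _ x : Orb z β) = (Quotient.mk _ (g • x) : Orb z β) := rfl

theorem pow_smul_eq_of_ker {p : ℕ} (hz : orderOf z = p) {g : N}
    (hc : g * z = z * g) (ho : orbPerm (β := β) z g = 1) (x : β) : g ^ p • x = x := by
  have h1 : orbPerm z g (Quotient.mk _ x : Orb z β) = (Quotient.mk _ x : Orb z β) := by rw [ho]; rfl
  rw [orbPerm_mk] at h1
  obtain ⟨⟨u, hu⟩, hux⟩ := Quotient.exact h1
  have hux' : u • x = g • x := hux
  have hgu : Commute g u := by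
    obtain ⟨k, rfl⟩ := Subgroup.mem_zpowers_iff.mp hu
    exact Commute.zpow_right hc k
  have hpow : ∀ n : ℕ, g ^ n • x = u ^ n • x := by
    intro n
    induction n with
    | zero => simp
    | succ n ih =>
      rw [pow_succ', mul_smul, ih, ← mul_smul, (hgu.pow_right n).eq, mul_smul, ← hux', ← mul_smul,
        ← pow_succ]
  rw [hpow]
  obtain ⟨k, rfl⟩ := Subgroup.mem_zpowers_iff.mp hu
  rw [← zpow_natCast, ← zpow_mul, mul_comm, zpow_mul, zpow_natCast, ← hz, pow_orderOf_eq_one,
    one_zpow, one_smul]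

section Sign

variable {p : ℕ} [hp : Fact p.Prime] (hz : orderOf z = p) (hfree : ∀ x : β, z • x ≠ x)
include hz hfree

theorem pow_smul_inj {x : β} {i j : ZMod p} (h : z ^ i.val • x = z ^ j.val • x) : i = j := by
  by_contra hne
  have hmem : z ^ ((i.val : ℤ) - j.val) ∈ MulAction.stabilizer N x := by
    rw [MulAction.mem_stabilizer_iff, zpow_sub, zpow_natCast, zpow_natCast]
    have hcomm : Commute (z ^ i.val) (z ^ j.val)⁻¹ := ((Commute.refl z).pow_pow _ _).inv_right
    rw [hcomm.eq, mul_smul, h, inv_smul_smul]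
  -- some power of z fixes x, hence z does
  have hzp : z ^ p = 1 := by
    have h1 := pow_orderOf_eq_one z
    rwa [hz] at h1
  have hpz : ((p : ℤ)).gcd ((i.val : ℤ) - j.val) = 1 := by
    refine Int.isCoprime_iff_gcd_eq_one.mp ((Nat.prime_iff_prime_int.mp hp.out).coprime_iff_not_dvd.mpr ?_)
    rw [← ZMod.intCast_zmod_eq_zero_iff_dvd]
    push_cast
    rw [ZMod.natCast_zmod_val, ZMod.natCast_zmod_val]
    exact sub_ne_zero.mpr hne
  apply hfree x
  have hb := Int.gcd_eq_gcd_ab (p : ℤ) ((i.val : ℤ) - j.val)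
  rw [hpz] at hb
  have : z = z ^ (((i.val : ℤ) - j.val) * Int.gcdB (p : ℤ) ((i.val : ℤ) - j.val)) := by
    conv_lhs => rw [← zpow_one z, show (1 : ℤ) = _ from hb, zpow_add, zpow_mul, zpow_natCast, hzp,
      one_zpow, one_mul]
  rw [← MulAction.mem_stabilizer_iff, this, zpow_mul]
  exact Subgroup.zpow_mem _ hmem _

variable [Fintype β] [DecidableEq β] [Fintype (Orb z β)]

omit [DecidableEq β] in
theorem card_eq_mul : Fintype.card β = p * Fintype.card (Orb z β) := by
  have e : Function.Bijective (fun v : Orb z β × ZMod p => z ^ v.2.val • v.1.out) := by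
    constructor
    · rintro ⟨o, i⟩ ⟨o', j⟩ h
      have h' : z ^ i.val • o.out = z ^ j.val • o'.out := h
      have ho : o = o' := by
        rw [← Quotient.out_eq o, ← Quotient.out_eq o']
        refine Quotient.sound ⟨⟨(z ^ i.val)⁻¹ * z ^ j.val, mul_mem (inv_mem (Subgroup.pow_mem _
          (Subgroup.mem_zpowers z) _)) (Subgroup.pow_mem _ (Subgroup.mem_zpowers z) _)⟩, ?_⟩
        show ((z ^ i.val)⁻¹ * z ^ j.val) • o'.out = o.out
        rw [mul_smul, ← h', inv_smul_smul]
      subst ho
      rw [pow_smul_inj z hz hfree h']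
    · intro x
      obtain ⟨⟨u, hu⟩, hux⟩ := Quotient.mk_out (s := MulAction.orbitRel (Subgroup.zpowers z) β) x
      obtain ⟨k, rfl⟩ := Subgroup.mem_zpowers_iff.mp hu
      have hux' : z ^ k • x = (Quotient.mk (MulAction.orbitRel (Subgroup.zpowers z) β) x).out := hux
      refine ⟨(Quotient.mk _ x, ((-k : ℤ) : ZMod p)), ?_⟩
      show z ^ ((-k : ℤ) : ZMod p).val • _ = x
      rw [← hux', ← zpow_natCast, ZMod.val_intCast, ← hz, zpow_mod_orderOf, ← mul_smul, zpow_neg,
        inv_mul_cancel, one_smul]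
  rw [← Fintype.card_congr (Equiv.ofBijective _ e), Fintype.card_prod, ZMod.card, mul_comm]

/-- The sign of an element is the sign of its permutation of the orbits, provided it centralises
`z` or the number of orbits is even. -/
theorem sign_eq [DecidableEq (Orb z β)] (hp2 : p ≠ 2) (g : N)
    (h : g * z = z * g ∨ Even (Fintype.card (Orb z β))) :
    Equiv.Perm.sign (MulAction.toPerm g : Equiv.Perm β) = Equiv.Perm.sign (orbPerm (β := β) z g) := by
  classical
  have hbij : Function.Bijective (fun v : Orb z β × ZMod p => z ^ v.2.val • v.1.out) :=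
    (Fintype.bijective_iff_injective_and_card _).mpr ⟨by
      rintro ⟨o, i⟩ ⟨o', j⟩ hv
      have h' : z ^ i.val • o.out = z ^ j.val • o'.out := hv
      have ho : o = o' := by
        rw [← Quotient.out_eq o, ← Quotient.out_eq o']
        refine Quotient.sound ⟨⟨(z ^ i.val)⁻¹ * z ^ j.val, mul_mem (inv_mem (Subgroup.pow_mem _
          (Subgroup.mem_zpowers z) _)) (Subgroup.pow_mem _ (Subgroup.mem_zpowers z) _)⟩, ?_⟩
        show ((z ^ i.val)⁻¹ * z ^ j.val) • o'.out = o.out
        rw [mul_smul, ← h', inv_smul_smul]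
      subst ho
      rw [pow_smul_inj z hz hfree h'], by
      rw [Fintype.card_prod, ZMod.card, card_eq_mul z hz hfree, mul_comm]⟩
  set E := Equiv.ofBijective _ hbij with hE
  have hzp : z ^ p = 1 := by
    have h1 := pow_orderOf_eq_one z
    rwa [hz] at h1
  have hEv : ∀ o i, E (o, i) = z ^ i.val • o.out := fun o i => rfl
  have hadd : ∀ (i j : ZMod p), z ^ (i + j).val = z ^ i.val * z ^ j.val := fun i j => by
    rw [← pow_add, ZMod.val_add]
    conv_rhs => rw [← Nat.mod_add_div (i.val + j.val) p, pow_add, pow_mul, hzp, one_pow, mul_one]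
  obtain ⟨a, ha⟩ : ∃ a : ℕ, g * z * g⁻¹ = z ^ a := by
    obtain ⟨a, ha⟩ := (Submonoid.mem_powers_iff _ _).mp
      ((IsOfFinOrder.mem_powers_iff_mem_zpowers (orderOf_pos_iff.mp (hz ▸ hp.out.pos))).mpr
        (hnorm.conj_mem z (Subgroup.mem_zpowers z) g))
    exact ⟨a, ha.symm⟩
  have hpa : ∀ i : ZMod p, g * z ^ i.val = z ^ ((a : ZMod p) * i).val * g := fun i => by
    have h1 : z ^ ((a : ZMod p) * i).val = (z ^ a) ^ i.val := by
      rw [← pow_mul, ZMod.val_mul, ZMod.val_natCast, Nat.mod_mul_mod]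
      conv_rhs => rw [← Nat.mod_add_div (a * i.val) p, pow_add, pow_mul, hzp, one_pow, mul_one]
    rw [h1, ← ha, conj_pow, inv_mul_cancel_right]
  have ha0 : (a : ZMod p) ≠ 0 := by
    intro h0
    have h1 : z ^ a = 1 := orderOf_dvd_iff_pow_eq_one.mp (hz ▸ (ZMod.natCast_eq_zero_iff _ _).mp h0)
    rw [h1, conj_eq_one_iff] at ha
    rw [ha, orderOf_one] at hz
    exact hp.out.ne_one hz.symm
  -- coordinates of g
  have hgo : ∀ o : Orb z β, ∃ c : ZMod p, g • o.out = E (orbPerm z g o, c) := by
    intro o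
    obtain ⟨⟨o', c⟩, hoc⟩ := E.surjective (g • o.out)
    refine ⟨c, ?_⟩
    have : orbPerm z g o = o' := by
      conv_lhs => rw [← Quotient.out_eq o, orbPerm_mk, ← hoc, hEv]
      conv_rhs => rw [← Quotient.out_eq o']
      exact Quotient.sound ⟨⟨z ^ c.val, Subgroup.pow_mem _ (Subgroup.mem_zpowers z) _⟩, rfl⟩
    rw [this, hoc]
  choose c hc using hgo
  set L : Equiv.Perm (Orb z β × ZMod p) := Equiv.prodCongrLeft fun _ : ZMod p => orbPerm z g with hL
  set R : Equiv.Perm (Orb z β × ZMod p) := Equiv.prodCongrRight fun o : Orb z β =>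
    (Equiv.mulLeft₀ (a : ZMod p) ha0).trans (Equiv.addRight (c o)) with hR
  have hfac : (MulAction.toPerm g : Equiv.Perm β) = E.permCongr (L * R) := by
    ext x
    obtain ⟨⟨o, i⟩, rfl⟩ := E.surjective x
    rw [Equiv.permCongr_apply, E.symm_apply_apply, Equiv.Perm.mul_apply, hR,
      Equiv.prodCongrRight_apply, hL, Equiv.prodCongrLeft_apply, MulAction.toPerm_apply, hEv, hEv,
      ← mul_smul, hpa, mul_smul, hc, hEv, ← mul_smul, ← hadd]
    simp [add_comm]
  rw [hfac, Equiv.Perm.sign_permCongr, map_mul, hL, hR, Equiv.Perm.sign_prodCongrLeft,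
    Equiv.Perm.sign_prodCongrRight, Finset.prod_const, Finset.card_univ, ZMod.card]
  have hodd : Odd p := hp.out.odd_of_ne_two hp2
  have hpow : ∀ u : ℤˣ, u ^ p = u := fun u => by
    rcases Int.units_eq_one_or u with rfl | rfl
    · simp
    · exact hodd.neg_one_pow
  have hshift : ∀ t : ZMod p, Equiv.Perm.sign (Equiv.addRight t) = 1 := fun t => by
    have h2 : (Equiv.addRight t : Equiv.Perm (ZMod p)) ^ p = 1 := by
      ext j
      have key : ∀ n : ℕ, ((Equiv.addRight t : Equiv.Perm (ZMod p)) ^ n) j = j + n • t := by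
        intro n
        induction n with
        | zero => simp
        | succ n ih => rw [pow_succ', Equiv.Perm.mul_apply, ih, succ_nsmul, Equiv.coe_addRight, ← add_assoc]
      rw [key, nsmul_eq_mul, ZMod.natCast_self, zero_mul, add_zero]
      rfl
    have h3 := congrArg Equiv.Perm.sign h2
    rw [map_pow, map_one, hpow] at h3
    exact h3
  rw [hpow]
  have : ∏ o : Orb z β, Equiv.Perm.sign ((Equiv.mulLeft₀ (a : ZMod p) ha0).trans (Equiv.addRight (c o)))
      = Equiv.Perm.sign (Equiv.mulLeft₀ (a : ZMod p) ha0) ^ Fintype.card (Orb z β) := by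
    rw [Finset.prod_congr rfl (g := fun _ => Equiv.Perm.sign (Equiv.mulLeft₀ (a : ZMod p) ha0))
      (fun o _ => by rw [Equiv.Perm.sign_trans, hshift, one_mul]), Finset.prod_const, Finset.card_univ]
  rw [this]
  rcases h with h | ⟨k, hk⟩
  · have ha1 : (a : ZMod p) = 1 := by
      have h1 : z ^ a = z ^ 1 := by rw [← ha, h, mul_inv_cancel_right, pow_one]
      rw [pow_eq_pow_iff_modEq, hz] at h1
      rw [(ZMod.natCast_eq_natCast_iff _ _ _).mpr h1, Nat.cast_one]
    have h1 : Equiv.mulLeft₀ (a : ZMod p) ha0 = (1 : Equiv.Perm (ZMod p)) := by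
      ext j; simp [ha1]
    rw [h1]; simp
  · rw [hk, pow_add, Int.units_mul_self, mul_one]

end Sign

end CfsgLib.SmallGroups.FreePrime
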