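import Cfsg.Agent.Lib.SmallGroups.Basic
import Mathlib.GroupTheory.Perm.Centralizer
import Mathlib.GroupTheory.SpecificGroups.Cyclic

/-!
Elements of prime order `p` in permutation groups of degree less than `2 p`, and the
normalizers of the subgroups they generate.
-/

set_option autoImplicit false

namespace CfsgLib.SmallGroups

open Equiv Equiv.Perm

variable {α : Type*} [Fintype α] [DecidableEq α] {p : ℕ} [Fact p.Prime]

theorem cycleType_eq_singleton_of_orderOf_eq (hn : Fintype.card α < 2 * p) {σ : Perm α}
    (hσ : orderOf σ = p) : σ.cycleType = {p} := by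
  have hc : σ.IsCycle := isCycle_of_prime_order' (hσ ▸ (Fact.out : p.Prime)) (hσ ▸ hn)
  rw [hc.cycleType, ← hc.orderOf, hσ]

theorem card_support_of_orderOf_eq (hn : Fintype.card α < 2 * p) {σ : Perm α}
    (hσ : orderOf σ = p) : σ.support.card = p := by
  rw [← σ.sum_cycleType, cycleType_eq_singleton_of_orderOf_eq hn hσ, Multiset.sum_singleton]

theorem card_centralizer_of_orderOf_eq (hn : Fintype.card α < 2 * p) {σ : Perm α}
    (hσ : orderOf σ = p) :
    Nat.card (Subgroup.centralizer ({σ} : Set (Perm α))) = (Fintype.card α - p).factorial * p := by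
  rw [Equiv.Perm.nat_card_centralizer, cycleType_eq_singleton_of_orderOf_eq hn hσ]
  simp

theorem exists_conj_eq_pow (hn : Fintype.card α < 2 * p) {σ τ : Perm α} (hσ : orderOf σ = p)
    (hτ : orderOf τ = p) : ∃ g : Perm α, g * σ * g⁻¹ = τ := by
  have : IsConj σ τ := by
    rw [isConj_iff_cycleType_eq, cycleType_eq_singleton_of_orderOf_eq hn hσ,
      cycleType_eq_singleton_of_orderOf_eq hn hτ]
  exact isConj_iff.mp this

section Normalizer

variable {G : Type*} [Group G]

theorem exists_zpowers_of_card_prime {P : Subgroup G} (hP : Nat.card P = p) :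
    ∃ σ : G, orderOf σ = p ∧ P = Subgroup.zpowers σ := by
  haveI : Finite P := Nat.finite_of_card_ne_zero (by rw [hP]; exact (Fact.out : p.Prime).ne_zero)
  haveI : Nontrivial P := Finite.one_lt_card_iff_nontrivial.mp (hP ▸ (Fact.out : p.Prime).one_lt)
  obtain ⟨x, hx⟩ := exists_ne (1 : P)
  have h1 : orderOf (x : G) = p := by
    rw [Subgroup.orderOf_coe]; exact orderOf_eq_prime (hP ▸ pow_card_eq_one') hx
  refine ⟨x, h1, ?_⟩
  symm
  apply Subgroup.eq_of_le_of_card_ge (Subgroup.zpowers_le.mpr x.2)
  rw [Nat.card_zpowers, h1, hP]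

theorem card_mulAut_of_card_prime {P : Subgroup G} (hP : Nat.card P = p) :
    Nat.card (MulAut P) = p - 1 := by
  haveI : Finite P := Nat.finite_of_card_ne_zero (by rw [hP]; exact (Fact.out : p.Prime).ne_zero)
  haveI : IsCyclic P := isCyclic_of_prime_card hP
  rw [IsCyclic.card_mulAut, hP, Nat.totient_prime Fact.out]

theorem centralizer_le_normalizer' (P : Subgroup G) :
    Subgroup.centralizer (P : Set G) ≤ Subgroup.normalizer (P : Set G) := by
  intro g hg
  rw [Subgroup.mem_centralizer_iff] at hg
  intro x
  constructor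
  · intro hx
    rwa [← hg x hx, mul_assoc, mul_inv_cancel, mul_one]
  · intro hx
    have := hg _ hx
    have h2 : g * x * g⁻¹ = x := by
      calc g * x * g⁻¹ = g⁻¹ * ((g * x * g⁻¹) * g) * 1 := by
            rw [this]; group
        _ = x := by group
    rwa [h2] at hx

theorem card_normalizer_eq_index_mul [Finite G] (P : Subgroup G) :
    Nat.card (Subgroup.normalizer (P : Set G)) =
      P.normalizerMonoidHom.ker.index * Nat.card (Subgroup.centralizer (P : Set G)) := by
  rw [← P.normalizerMonoidHom.ker.index_mul_card]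
  congr 1
  rw [Subgroup.normalizerMonoidHom_ker]
  exact Nat.card_congr (Subgroup.subgroupOfEquivOfLe (centralizer_le_normalizer' P)).toEquiv

/-- `N(P)/C(P)` has order dividing `p - 1` for a subgroup of prime order. -/
theorem card_normalizer_dvd_of_card_prime [Finite G] {P : Subgroup G} (hP : Nat.card P = p) :
    Nat.card (Subgroup.normalizer (P : Set G)) ∣
      (p - 1) * Nat.card (Subgroup.centralizer (P : Set G)) := by
  rw [card_normalizer_eq_index_mul P, Subgroup.index_ker, ← card_mulAut_of_card_prime hP]
  exact Nat.mul_dvd_mul_right (Subgroup.card_subgroup_dvd_card _) _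

end Normalizer

theorem card_normalizer_perm (hn : Fintype.card α < 2 * p) {P : Subgroup (Perm α)}
    (hP : Nat.card P = p) :
    Nat.card (Subgroup.normalizer (P : Set (Perm α))) =
      (p - 1) * ((Fintype.card α - p).factorial * p) := by
  obtain ⟨σ, hσ, rfl⟩ := exists_zpowers_of_card_prime hP
  have hC : Subgroup.centralizer ((Subgroup.zpowers σ : Subgroup (Perm α)) : Set (Perm α))
      = Subgroup.centralizer {σ} := by
    rw [Subgroup.zpowers_eq_closure, Subgroup.centralizer_closure]
  have hs : Function.Surjective (Subgroup.zpowers σ).normalizerMonoidHom := by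
    intro φ
    set τ : Perm α := ((φ ⟨σ, Subgroup.mem_zpowers σ⟩ : Subgroup.zpowers σ) : Perm α) with hτdef
    have hτ : orderOf τ = p := by
      rw [hτdef, Subgroup.orderOf_coe, MulEquiv.orderOf_eq, Subgroup.orderOf_mk, hσ]
    obtain ⟨g, hg⟩ := exists_conj_eq_pow hn hσ hτ
    have hgN : g ∈ Subgroup.normalizer ((Subgroup.zpowers σ : Subgroup (Perm α)) : Set (Perm α)) := by
      have hle : (Subgroup.zpowers σ).map (MulAut.conj g).toMonoidHom = Subgroup.zpowers σ := by
        apply Subgroup.eq_of_le_of_card_ge
        · rw [MonoidHom.map_zpowers, Subgroup.zpowers_le]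
          show g * σ * g⁻¹ ∈ _
          rw [hg]
          exact (φ ⟨σ, Subgroup.mem_zpowers σ⟩).2
        · rw [Subgroup.card_map_of_injective (MulAut.conj g).injective]
      intro x
      constructor
      · intro hx
        rw [← hle]
        exact ⟨x, hx, rfl⟩
      · intro hx
        rw [← hle] at hx
        obtain ⟨y, hy, hy'⟩ := hx
        have : y = x := (MulAut.conj g).injective hy'
        exact this ▸ hy
    refine ⟨⟨g, hgN⟩, MulEquiv.ext fun x => ?_⟩
    obtain ⟨k, hk⟩ := Subgroup.mem_zpowers_iff.mp x.2
    have hx : x = ⟨σ, Subgroup.mem_zpowers σ⟩ ^ k := Subtype.ext (by simp [hk])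
    rw [hx, map_zpow, map_zpow]
    congr 1
    exact Subtype.ext hg
  rw [card_normalizer_eq_index_mul, Subgroup.index_ker, MonoidHom.range_eq_top.mpr hs,
    Subgroup.card_top, card_mulAut_of_card_prime hP, hC, card_centralizer_of_orderOf_eq hn hσ]

/-- In a permutation group of degree less than `2 p` the order of the normalizer of a
subgroup of order `p` divides that in the symmetric group. -/
theorem card_normalizer_dvd_perm (hn : Fintype.card α < 2 * p) {G : Subgroup (Perm α)}
    {P : Subgroup G} (hP : Nat.card P = p) :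
    Nat.card (Subgroup.normalizer (P : Set G)) ∣
      (p - 1) * ((Fintype.card α - p).factorial * p) := by
  have h1 : Nat.card (P.map G.subtype) = p :=
    (Subgroup.card_map_of_injective G.subtype_injective).trans hP
  have h2 := Subgroup.card_map_of_injective (K := Subgroup.normalizer (P : Set G)) G.subtype_injective
  rw [← card_normalizer_perm hn h1, ← h2]
  apply Subgroup.card_dvd_of_le
  rintro _ ⟨g, hg, rfl⟩
  intro x
  constructor
  · rintro ⟨y, hy, rfl⟩
    exact ⟨g * y * g⁻¹, (hg y).mp hy, by simp⟩
  · rintro ⟨y, hy, hy'⟩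
    refine ⟨g⁻¹ * y * g, ?_, ?_⟩
    · apply (hg _).mpr
      convert hy using 1
      group
    · have hy2 : (y : Perm α) = G.subtype g * x * (G.subtype g)⁻¹ := hy'
      rw [map_mul, map_mul, map_inv]
      change (G.subtype g)⁻¹ * (y : Perm α) * G.subtype g = x
      rw [hy2]; group

end CfsgLib.SmallGroups
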