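import Cfsg.Agent.Lib.SmallGroups.Basic
import Cfsg.Agent.Lib.SmallGroups.PrimeDegree
import Cfsg.Agent.Lib.SmallGroups.FreePrime
import Mathlib

/-!
Fixed points of elements of `N(P)` on the Sylow `p`-subgroups, `|P| = p`, in a simple group.
An element centralising `P` that fixes more than `t + 1` of the `p t + 1` Sylow subgroups has a
centraliser with more than one Sylow `p`-subgroup.
-/

set_option autoImplicit false
set_option linter.style.haveILetI false

namespace CfsgLib.SmallGroups.SylowFixed

variable {G : Type*} [Group G] [Finite G] {p : ℕ} [Fact p.Prime]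

/-- The number of Sylow `p`-subgroups fixed by `g`. -/
noncomputable def fixCard (p : ℕ) (g : G) : ℕ := Nat.card {Q : Sylow p G // g • Q = Q}

theorem faithful [IsSimpleGroup G] (hn : Nat.card (Sylow p G) ≠ 1) {g : G}
    (h : ∀ Q : Sylow p G, g • Q = Q) : g = 1 := by
  have hinj : Function.Injective (MulAction.toPermHom G (Sylow p G)) := by
    apply toPermHom_injective_of_not_trivial
    by_contra hall
    push Not at hall
    haveI : Subsingleton (Sylow p G) := ⟨fun P Q => by
      obtain ⟨g, hg⟩ := MulAction.exists_smul_eq G P Q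
      rw [← hg, hall]⟩
    exact hn (Nat.card_eq_one_iff_unique.mpr ⟨inferInstance, inferInstance⟩)
  exact hinj (Equiv.ext fun Q => by simpa using h Q)

/-- `⟨z⟩ = P` fixes only `P`. -/
theorem eq_of_zpowers_fix (P Q : Sylow p G) {z : G} (hPz : (P : Subgroup G) = Subgroup.zpowers z)
    (h : z • Q = Q) : Q = P := by
  refine (sylow_eq_of_normalizes P Q ?_).symm
  rw [hPz, Subgroup.zpowers_le]
  exact Sylow.smul_eq_iff_mem_normalizer.mp h

/-- A non-trivial power of `z` generates `P` as well. -/
theorem zpowers_eq_of_mem (P : Sylow p G) (hP : Nat.card (P : Subgroup G) = p) {u : G}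
    (hu : u ∈ (P : Subgroup G)) (hu1 : u ≠ 1) : (P : Subgroup G) = Subgroup.zpowers u := by
  have h1 : orderOf u = p := by
    rw [← Subgroup.orderOf_mk u hu]
    refine orderOf_eq_prime ?_ fun h => hu1 (congrArg Subtype.val h)
    have h2 := pow_card_eq_one' (x := (⟨u, hu⟩ : (P : Subgroup G)))
    rwa [hP] at h2
  exact (Subgroup.eq_of_le_of_card_ge (Subgroup.zpowers_le.mpr hu) (by rw [Nat.card_zpowers, h1, hP])).symm

/-- An element centralising `P` fixes `1 + p k` Sylow subgroups. -/
theorem exists_fixCard_eq (P : Sylow p G) (hP : Nat.card (P : Subgroup G) = p) {g : G}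
    (hg : g ∈ Subgroup.centralizer ((P : Subgroup G) : Set G)) :
    ∃ k, fixCard p g = 1 + p * k := by
  let act : MulAction (P : Subgroup G) {Q : Sylow p G // g • Q = Q} :=
    { smul := fun u Q => ⟨(u : G) • Q.1, by
        rw [← mul_smul, ← (Subgroup.mem_centralizer_iff.mp hg) _ u.2, mul_smul, Q.2]⟩
      one_smul := fun Q => Subtype.ext (one_smul G Q.1)
      mul_smul := fun a b Q => Subtype.ext (mul_smul (a : G) (b : G) Q.1) }
  letI := act
  have hgP : g • P = P := Sylow.smul_eq_iff_mem_normalizer.mpr (Subgroup.centralizer_le_normalizer _ hg)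
  have hfix : MulAction.fixedPoints (P : Subgroup G) {Q : Sylow p G // g • Q = Q} = {⟨P, hgP⟩} := by
    ext Q
    rw [MulAction.mem_fixedPoints, Set.mem_singleton_iff]
    constructor
    · intro h
      refine Subtype.ext (sylow_eq_of_normalizes P Q.1 fun u hu => ?_).symm
      exact Sylow.smul_eq_iff_mem_normalizer.mp (congrArg Subtype.val (h ⟨u, hu⟩))
    · rintro rfl u
      exact Subtype.ext (Sylow.smul_eq_iff_mem_normalizer.mpr (Subgroup.le_normalizer u.2))
  have hpg : IsPGroup p (P : Subgroup G) := P.2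
  have hmod := hpg.card_modEq_card_fixedPoints {Q : Sylow p G // g • Q = Q}
  rw [hfix, Nat.card_coe_set_eq, Set.ncard_singleton] at hmod
  have hpos : 1 ≤ fixCard p g := by
    haveI : Nonempty {Q : Sylow p G // g • Q = Q} := ⟨⟨P, hgP⟩⟩
    exact Nat.card_pos
  obtain ⟨k, hk⟩ := (Nat.modEq_iff_dvd' hpos).mp hmod.symm
  exact ⟨k, by show _ = _; omega⟩

/-- An element of `N(P) \ C(P)` fixes at most one point in each orbit of `P`. -/
theorem mem_centralizer_of_lt_fixCard (P : Sylow p G) (hP : Nat.card (P : Subgroup G) = p) {t : ℕ}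
    (hn : Nat.card (Sylow p G) = p * t + 1) {g : G}
    (hgN : g ∈ Subgroup.normalizer ((P : Subgroup G) : Set G)) (hlt : t + 1 < fixCard p g) :
    g ∈ Subgroup.centralizer ((P : Subgroup G) : Set G) := by
  classical
  by_contra hgC
  haveI := Fintype.ofFinite (Sylow p G)
  obtain ⟨z, hz, hPz⟩ := exists_zpowers_of_card_prime hP
  -- two fixed points in one orbit
  have hsmall : ∀ Q : Sylow p G, g • Q = Q → ∀ u ∈ (P : Subgroup G), g • (u • Q) = u • Q → Q ≠ P → u = 1 := by
    intro Q hQ u hu hguQ hQP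
    by_contra hu1
    apply hgC
    have hgu : g * u * g⁻¹ ∈ (P : Subgroup G) := (hgN u).mp hu
    set w := u⁻¹ * (g * u * g⁻¹) with hw
    have hwP : w ∈ (P : Subgroup G) := mul_mem (inv_mem hu) hgu
    have hwQ : w • Q = Q := by
      have h1 : g⁻¹ • Q = Q := by rw [inv_smul_eq_iff, hQ]
      rw [hw, mul_smul, mul_smul, mul_smul, h1, hguQ, inv_smul_smul]
    by_cases hw1 : w = 1
    · rw [hw, inv_mul_eq_one] at hw1
      have hgu' : g * u = u * g := mul_inv_eq_iff_eq_mul.mp hw1.symm
      rw [zpowers_eq_of_mem P hP hu hu1, Subgroup.mem_centralizer_iff]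
      intro x hx
      obtain ⟨i, rfl⟩ := Subgroup.mem_zpowers_iff.mp hx
      exact ((Commute.zpow_right hgu' i).eq).symm
    · exact absurd (eq_of_zpowers_fix P Q (zpowers_eq_of_mem P hP hwP hw1) hwQ) hQP
  -- the fixed points other than `P` meet every orbit at most once
  set S : Finset (Sylow p G) := (Finset.univ.filter fun Q => g • Q = Q).erase P with hS
  haveI := Fintype.ofFinite ↥(P : Subgroup G)
  have hinj : Set.InjOn (fun v : ↥(P : Subgroup G) × Sylow p G => (v.1 : G) • v.2)
      ↑((Finset.univ : Finset ↥(P : Subgroup G)) ×ˢ S) := by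
    rintro ⟨u, Q⟩ h1 ⟨u', Q'⟩ h2 heq
    simp only [Finset.coe_product, Set.mem_prod, Finset.mem_coe, hS, Finset.mem_erase,
      Finset.mem_filter, Finset.mem_univ, true_and] at h1 h2
    have heq' : (u : G) • Q = (u' : G) • Q' := heq
    have hQ' : Q' = ((u' : G)⁻¹ * u) • Q := by rw [mul_smul, heq', inv_smul_smul]
    have h3 := hsmall Q h1.2 ((u' : G)⁻¹ * u) (mul_mem (inv_mem u'.2) u.2) (hQ' ▸ h2.2) h1.1
    rw [h3, one_smul] at hQ'
    exact Prod.ext (Subtype.ext (inv_mul_eq_one.mp h3).symm) hQ'.symm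
  have himg : ((Finset.univ : Finset ↥(P : Subgroup G)) ×ˢ S).image
      (fun v => (v.1 : G) • v.2) ⊆ Finset.univ.erase P := by
    intro R hR
    obtain ⟨⟨u, Q⟩, hv, rfl⟩ := Finset.mem_image.mp hR
    simp only [Finset.mem_product, hS, Finset.mem_erase, Finset.mem_filter, Finset.mem_univ, true_and] at hv
    refine Finset.mem_erase.mpr ⟨fun e => hv.1 ?_, Finset.mem_univ _⟩
    exact MulAction.injective (u : G)
      (e.trans (Sylow.smul_eq_iff_mem_normalizer.mpr (Subgroup.le_normalizer u.2)).symm)
  have hcard := Finset.card_le_card himg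
  rw [Finset.card_image_of_injOn hinj, Finset.card_product, Finset.card_univ, ← Nat.card_eq_fintype_card,
    hP, Finset.card_erase_of_mem (Finset.mem_univ _), Finset.card_univ, ← Nat.card_eq_fintype_card, hn,
    Nat.add_sub_cancel] at hcard
  have hSle : S.card ≤ t := Nat.le_of_mul_le_mul_left hcard (Fact.out : p.Prime).pos
  have hfix : fixCard p g = (Finset.univ.filter fun Q : Sylow p G => g • Q = Q).card := by
    rw [fixCard, Nat.card_eq_fintype_card, Fintype.card_subtype]
  have hPmem : P ∈ Finset.univ.filter fun Q : Sylow p G => g • Q = Q :=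
    Finset.mem_filter.mpr ⟨Finset.mem_univ _, Sylow.smul_eq_iff_mem_normalizer.mpr hgN⟩
  rw [hS, Finset.card_erase_of_mem hPmem] at hSle
  omega

/-- The basic trick. -/
theorem card_sylow_centralizer_ne_one (P : Sylow p G) (hP : Nat.card (P : Subgroup G) = p) {t : ℕ}
    (hn : Nat.card (Sylow p G) = p * t + 1) {g : G}
    (hg : g ∈ Subgroup.centralizer ((P : Subgroup G) : Set G)) (hlt : t + 1 < fixCard p g) :
    Nat.card (Sylow p (Subgroup.centralizer ({g} : Set G))) ≠ 1 := by
  intro h1
  obtain ⟨⟨Q, hQ⟩, hQP⟩ : ∃ Q : {Q : Sylow p G // g • Q = Q}, Q.1 ≠ P := by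
    by_contra hall
    push Not at hall
    haveI : Subsingleton {Q : Sylow p G // g • Q = Q} :=
      ⟨fun A B => Subtype.ext ((hall A).trans (hall B).symm)⟩
    have h2 : fixCard p g ≤ 1 := Finite.card_le_one_iff_subsingleton.mpr ‹_›
    omega
  have hP2 : ∀ R : Sylow p G, Nat.card (R : Subgroup G) = p := fun R => by
    rw [Nat.card_congr (R.equiv P).toEquiv, hP]
  have hgQ : g ∈ Subgroup.centralizer ((Q : Subgroup G) : Set G) :=
    mem_centralizer_of_lt_fixCard Q (hP2 Q) hn (Sylow.smul_eq_iff_mem_normalizer.mp hQ) hlt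
  have hle : ∀ R : Sylow p G, g ∈ Subgroup.centralizer ((R : Subgroup G) : Set G) →
      (R : Subgroup G) ≤ Subgroup.centralizer ({g} : Set G) := fun R hR x hx => by
    rw [Subgroup.mem_centralizer_singleton_iff]
    exact Subgroup.mem_centralizer_iff.mp hR x hx
  haveI := (Nat.card_eq_one_iff_unique.mp h1).1
  exact hQP (Sylow.subtype_injective (Subsingleton.elim (Q.subtype (hle Q hgQ)) (P.subtype (hle P hg))))

/-- An involution in a simple group moves a multiple of four Sylow subgroups. -/
theorem four_dvd_moved [IsSimpleGroup G] (hG : ¬ IsMulCommutative G) {g : G} (hg : g * g = 1) :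
    4 ∣ Nat.card (Sylow p G) - fixCard p g := by
  classical
  haveI := Fintype.ofFinite (Sylow p G)
  set σ := MulAction.toPermHom G (Sylow p G) g with hσ
  have h2 : σ ^ 2 = 1 := by rw [hσ, ← map_pow, pow_two, hg, map_one]
  have hfix : Nat.card (Sylow p G) - fixCard p g = σ.support.card := by
    rw [fixCard, Nat.card_eq_fintype_card, Nat.card_eq_fintype_card, Fintype.card_subtype,
      show σ.support = Finset.univ.filter (fun Q => ¬ g • Q = Q) from by ext Q; simp [hσ]]
    have := Finset.card_filter_add_card_filter_not (s := (Finset.univ : Finset (Sylow p G))) (fun Q => g • Q = Q)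
    rw [Finset.card_univ] at this
    omega
  rw [hfix]
  have hs : Equiv.Perm.sign σ = 1 := sign_eq_one_of_simple hG _ g
  have htwo : ∀ x ∈ σ.cycleType, x = 2 := fun x hx => by
    have hd : x ∣ 2 := dvd_trans (Equiv.Perm.dvd_of_mem_cycleType hx) (orderOf_dvd_of_pow_eq_one h2)
    exact le_antisymm (Nat.le_of_dvd two_pos hd) (Equiv.Perm.two_le_of_mem_cycleType hx)
  rw [Equiv.Perm.sign_of_cycleType, Multiset.eq_replicate_card.mpr htwo, Multiset.sum_replicate,
    Multiset.card_replicate, smul_eq_mul] at hs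
  rw [← Equiv.Perm.sum_cycleType, Multiset.eq_replicate_card.mpr htwo, Multiset.sum_replicate, smul_eq_mul]
  obtain ⟨k, hk⟩ | ⟨k, hk⟩ := Nat.even_or_odd (Multiset.card σ.cycleType)
  · exact ⟨k, by omega⟩
  · exfalso
    have hodd : Odd (Multiset.card σ.cycleType * 2 + Multiset.card σ.cycleType) :=
      ⟨3 * k + 1, by omega⟩
    rw [hodd.neg_one_pow] at hs
    exact absurd hs (by decide)

/-- A subgroup containing `N(P)` has order a Sylow number times `|N(P)|`. -/
theorem card_eq_card_sylow_mul (P : Sylow p G) {H : Subgroup G}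
    (hH : Subgroup.normalizer ((P : Subgroup G) : Set G) ≤ H) :
    Nat.card H = Nat.card (Sylow p H) * Nat.card (Subgroup.normalizer ((P : Subgroup G) : Set G)) := by
  have hPH : (P : Subgroup G) ≤ H := Subgroup.le_normalizer.trans hH
  rw [← card_sylow_mul_card_normalizer (P.subtype hPH), Sylow.coe_subtype,
    ← Subgroup.subgroupOf_normalizer_eq hPH, Nat.card_congr (Subgroup.subgroupOfEquivOfLe hH).toEquiv]

/-- If `|N(P)| = p r^a` and `p < |C(P)|`, some element of order `r` of `C(P)` is central in `N(P)`. -/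
theorem exists_central (P : Sylow p G) (hP : Nat.card (P : Subgroup G) = p) {r a : ℕ} (hr : r.Prime)
    (hpr : p ≠ r) (hN : Nat.card (Subgroup.normalizer ((P : Subgroup G) : Set G)) = p * r ^ a)
    (hC : p < Nat.card (Subgroup.centralizer ((P : Subgroup G) : Set G))) :
    ∃ y ∈ Subgroup.centralizer ((P : Subgroup G) : Set G), orderOf y = r ∧
      Subgroup.normalizer ((P : Subgroup G) : Set G) ≤ Subgroup.centralizer ({y} : Set G) := by
  haveI : Fact r.Prime := ⟨hr⟩
  set N := Subgroup.normalizer ((P : Subgroup G) : Set G) with hNdef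
  set C := Subgroup.centralizer ((P : Subgroup G) : Set G) with hCdef
  have hCN : C ≤ N := Subgroup.centralizer_le_normalizer _
  haveI : IsMulCommutative (P : Subgroup G) :=
    haveI := isCyclic_of_prime_card (p := p) hP
    inferInstance
  have hPC : (P : Subgroup G) ≤ C := Subgroup.le_centralizer _
  have hrC : r ∣ Nat.card C := by
    by_contra hrC
    have h1 := Subgroup.card_dvd_of_le hCN
    rw [hN] at h1
    have h2 : Nat.card C ∣ p :=
      (Nat.Coprime.dvd_mul_right (((hr.coprime_iff_not_dvd).mpr hrC).symm.pow_right a)).mp h1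
    have := Nat.le_of_dvd (Fact.out : p.Prime).pos h2
    omega
  obtain ⟨W⟩ : Nonempty (Sylow r N) := inferInstance
  have hW : Nat.card (W : Subgroup N) = r ^ a :=
    card_sylow_eq (by rw [hN, mul_comm]) (fun h => hpr ((Nat.prime_dvd_prime_iff_eq hr Fact.out).mp h).symm) W
  haveI hCn : (C.subgroupOf N).Normal := by
    rw [hCdef, hNdef, ← Subgroup.normalizerMonoidHom_ker]
    exact MonoidHom.normal_ker _
  -- a Sylow r-subgroup of N meets C
  obtain ⟨c, hc⟩ := exists_prime_orderOf_dvd_card' (G := C.subgroupOf N) r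
    (by rwa [Nat.card_congr (Subgroup.subgroupOfEquivOfLe hCN).toEquiv])
  have hcp : IsPGroup r (Subgroup.zpowers (c : N)) :=
    IsPGroup.of_card (n := 1) (by rw [Nat.card_zpowers, Subgroup.orderOf_coe, hc, pow_one])
  obtain ⟨W', hW'⟩ := hcp.exists_le_sylow
  obtain ⟨n, hn⟩ := MulAction.exists_smul_eq N W' W
  have hc' : n * (c : N) * n⁻¹ ∈ (W : Subgroup N) := by
    rw [← hn, Sylow.smul_def, Sylow.pointwise_smul_def]
    exact Subgroup.smul_mem_pointwise_smul (c : N) (MulAut.conj n) _ (hW' (Subgroup.mem_zpowers _))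
  set K : Subgroup W := (C.subgroupOf N).subgroupOf (W : Subgroup N) with hK
  haveI : K.Normal := hCn.subgroupOf _
  haveI : Nontrivial K := by
    refine ⟨⟨⟨⟨n * (c : N) * n⁻¹, hc'⟩, hCn.conj_mem _ c.2 n⟩, 1, fun h => ?_⟩⟩
    have h1 : n * (c : N) * n⁻¹ = 1 := congrArg (fun v : K => ((v : W) : N)) h
    rw [conj_eq_one_iff] at h1
    have h2 : orderOf c = 1 := by rw [orderOf_eq_one_iff]; exact Subtype.ext h1
    exact hr.ne_one (hc.symm.trans h2)
  have hpW : IsPGroup r W := W.2
  have hnt : Nontrivial ↥(K ⊓ Subgroup.center W) := by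
    let act : MulAction (ConjAct W) K := inferInstance
    have h1 : IsPGroup r (ConjAct W) := hpW.of_equiv ConjAct.toConjAct
    have hrK : r ∣ Nat.card K := by
      obtain ⟨k, hk⟩ := IsPGroup.iff_card.mp (hpW.to_subgroup K)
      rcases Nat.eq_zero_or_pos k with rfl | hk0
      · have := Finite.one_lt_card_iff_nontrivial.mpr (‹Nontrivial K›)
        rw [hk, pow_zero] at this
        omega
      · rw [hk]; exact dvd_pow_self r hk0.ne'
    have hone : (1 : K) ∈ MulAction.fixedPoints (ConjAct W) K := fun g => Subtype.ext (smul_one g)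
    obtain ⟨b, hb, hb1⟩ := h1.exists_fixed_point_of_prime_dvd_card_of_fixed_point K hrK hone
    refine ⟨⟨⟨(b : W), b.2, Subgroup.mem_center_iff.mpr fun g => ?_⟩, 1, fun h => hb1 ?_⟩⟩
    · have h2 := congrArg Subtype.val (hb (ConjAct.toConjAct g))
      have h3 : g * (b : W) * g⁻¹ = b := h2
      exact mul_inv_eq_iff_eq_mul.mp h3
    · exact (Subtype.ext (congrArg (fun v : ↥(K ⊓ Subgroup.center W) => (v : W)) h) : b = 1).symm
  obtain ⟨⟨d, hdK, hdZ⟩, hd⟩ := exists_prime_orderOf_dvd_card' (G := ↥(K ⊓ Subgroup.center W)) r (by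
    obtain ⟨k, hk⟩ := IsPGroup.iff_card.mp (hpW.to_subgroup (K ⊓ Subgroup.center W))
    have := Finite.one_lt_card_iff_nontrivial.mpr hnt
    rcases Nat.eq_zero_or_pos k with rfl | hk0
    · rw [hk, pow_zero] at this; omega
    · rw [hk]; exact dvd_pow_self r hk0.ne')
  set y : G := ((d : N) : G) with hy
  refine ⟨y, hdK, ?_, ?_⟩
  · rw [hy, Subgroup.orderOf_coe, Subgroup.orderOf_coe, ← Subgroup.orderOf_mk (H := K ⊓ Subgroup.center W) d ⟨hdK, hdZ⟩]
    exact hd
  · set D := (Subgroup.centralizer ({y} : Set G)).subgroupOf N with hD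
    have h1 : (P : Subgroup G).subgroupOf N ≤ D := fun u hu => by
      rw [hD, Subgroup.mem_subgroupOf, Subgroup.mem_centralizer_singleton_iff]
      exact Subgroup.mem_centralizer_iff.mp hdK u hu
    have h2 : (W : Subgroup N) ≤ D := fun u hu => by
      rw [hD, Subgroup.mem_subgroupOf, Subgroup.mem_centralizer_singleton_iff]
      exact congrArg (fun v : W => ((v : N) : G)) (Subgroup.mem_center_iff.mp hdZ ⟨u, hu⟩)
    have hcard : p * r ^ a ∣ Nat.card D := by
      refine Nat.Coprime.mul_dvd_of_dvd_of_dvd (((Nat.coprime_primes Fact.out hr).mpr hpr).pow_right a) ?_ ?_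
      · have h3 := Subgroup.card_dvd_of_le h1
        rwa [Nat.card_congr (Subgroup.subgroupOfEquivOfLe Subgroup.le_normalizer).toEquiv, hP] at h3
      · rw [← hW]; exact Subgroup.card_dvd_of_le h2
    have htop : D = ⊤ := Subgroup.eq_top_of_le_card _ (by rw [hN]; exact Nat.le_of_dvd Nat.card_pos hcard)
    exact fun u hu => (Subgroup.mem_subgroupOf.mp (htop ▸ Subgroup.mem_top (⟨u, hu⟩ : N)) :)

/-- `C(P)/P` acts faithfully by even permutations on the `t` orbits of `P`. -/
theorem card_centralizer_dvd [IsSimpleGroup G] (hG : ¬ IsMulCommutative G) (P : Sylow p G)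
    (hp2 : p ≠ 2) (hP : Nat.card (P : Subgroup G) = p) {t : ℕ} (ht : 2 ≤ t)
    (hn : Nat.card (Sylow p G) = p * t + 1) :
    2 * Nat.card (Subgroup.centralizer ((P : Subgroup G) : Set G)) ∣ p * t.factorial := by
  classical
  haveI := Fintype.ofFinite (Sylow p G)
  set C := Subgroup.centralizer ((P : Subgroup G) : Set G) with hCdef
  obtain ⟨z, hz, hPz⟩ := exists_zpowers_of_card_prime hP
  haveI : IsMulCommutative (P : Subgroup G) :=
    haveI := isCyclic_of_prime_card (p := p) hP
    inferInstance
  have hzC : z ∈ C := Subgroup.le_centralizer _ (hPz ▸ Subgroup.mem_zpowers z)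
  set z' : C := ⟨z, hzC⟩
  have hcomm : ∀ g : C, g * z' = z' * g := fun g =>
    Subtype.ext (Subgroup.mem_centralizer_iff.mp g.2 z (hPz ▸ Subgroup.mem_zpowers z)).symm
  have hzord : orderOf z' = p := by rw [Subgroup.orderOf_mk]; exact hz
  haveI : (Subgroup.zpowers z').Normal := ⟨fun u hu g => by
    obtain ⟨i, rfl⟩ := Subgroup.mem_zpowers_iff.mp hu
    rw [(Commute.zpow_right (hcomm g) i).eq, mul_inv_cancel_right]
    exact Subgroup.zpow_mem _ (Subgroup.mem_zpowers z') i⟩
  have hCP : ∀ g : C, (g : G) • P = P := fun g =>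
    Sylow.smul_eq_iff_mem_normalizer.mpr (Subgroup.centralizer_le_normalizer _ g.2)
  let β := {Q : Sylow p G // Q ≠ P}
  letI act : MulAction C β :=
    { smul := fun g Q => ⟨(g : G) • Q.1, fun e => Q.2 (MulAction.injective (g : G) (e.trans (hCP g).symm))⟩
      one_smul := fun Q => Subtype.ext (one_smul G Q.1)
      mul_smul := fun a b Q => Subtype.ext (mul_smul (a : G) (b : G) Q.1) }
  have hfree : ∀ Q : β, z' • Q ≠ Q := fun Q e =>
    Q.2 (eq_of_zpowers_fix P Q.1 hPz (congrArg Subtype.val e))
  haveI := Fintype.ofFinite (FreePrime.Orb z' β)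
  have hcardO : Fintype.card (FreePrime.Orb z' β) = t := by
    have h1 := FreePrime.card_eq_mul z' hzord hfree
    rw [Fintype.card_subtype_compl, Fintype.card_subtype_eq, ← Nat.card_eq_fintype_card, hn,
      Nat.add_sub_cancel] at h1
    exact (Nat.eq_of_mul_eq_mul_left (Fact.out : p.Prime).pos h1).symm
  let f := FreePrime.orbPerm (β := β) z'
  have hsgn : ∀ g, Equiv.Perm.sign (f g) = 1 := by
    intro g
    rw [← FreePrime.sign_eq z' hzord hfree hp2 g (Or.inl (hcomm g))]
    have hiff : ∀ Q, (MulAction.toPerm (g : G) : Equiv.Perm (Sylow p G)) Q ≠ P ↔ Q ≠ P := by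
      intro Q
      simp only [MulAction.toPerm_apply, ne_eq]
      rw [← hCP g, smul_left_cancel_iff]
      rw [hCP g]
    rw [show (MulAction.toPerm g : Equiv.Perm β) = Equiv.Perm.subtypePerm _ hiff from rfl,
      Equiv.Perm.sign_subtypePerm (MulAction.toPerm (g : G) : Equiv.Perm (Sylow p G))
      (p := fun Q => Q ≠ P) hiff (fun Q hQ e => hQ (by rw [e]; exact hCP g))]
    exact sign_eq_one_of_simple hG (MulAction.toPermHom G (Sylow p G)) (g : G)
  have hker : f.ker ≤ (P : Subgroup G).subgroupOf C := by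
    intro g hg
    have hp1 : (g : G) ^ p = 1 := by
      refine faithful (by rw [hn]; nlinarith [(Fact.out : p.Prime).pos]) fun Q => ?_
      by_cases hQ : Q = P
      · subst hQ
        exact Sylow.smul_eq_iff_mem_normalizer.mpr (pow_mem (Subgroup.centralizer_le_normalizer _ g.2) p)
      · exact congrArg Subtype.val (FreePrime.pow_smul_eq_of_ker z' hzord (hcomm g) hg (⟨Q, hQ⟩ : β))
    have hpg : IsPGroup p (Subgroup.zpowers (g : G)) := fun ⟨x, hx⟩ => by
      obtain ⟨l, rfl⟩ := Subgroup.mem_zpowers_iff.mp hx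
      refine ⟨1, Subtype.ext ?_⟩
      show ((g : G) ^ l) ^ p ^ 1 = 1
      rw [pow_one, ← zpow_natCast, ← zpow_mul, mul_comm, zpow_mul, zpow_natCast, hp1, one_zpow]
    have h2 : (g : G) ∈ Subgroup.zpowers (g : G) ⊓ Subgroup.normalizer ((P : Subgroup G) : Set G) :=
      ⟨Subgroup.mem_zpowers _, Subgroup.centralizer_le_normalizer _ g.2⟩
    have h3 : Subgroup.zpowers (g : G) ⊓ Subgroup.normalizer (P : Set G) = Subgroup.zpowers (g : G) ⊓ P :=
      hpg.inf_normalizer_sylow P
    exact (h3 ▸ h2 : (g : G) ∈ Subgroup.zpowers (g : G) ⊓ (P : Subgroup G)).2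
  haveI : Nontrivial (FreePrime.Orb z' β) := Fintype.one_lt_card_iff_nontrivial.mp (by omega)
  have hr : f.range ≤ alternatingGroup (FreePrime.Orb z' β) := by
    rintro _ ⟨g, rfl⟩
    exact Equiv.Perm.mem_alternatingGroup.mpr (hsgn g)
  have h1 := Nat.mul_dvd_mul_left 2 (Subgroup.card_dvd_of_le hr)
  rw [two_mul_nat_card_alternatingGroup, Nat.card_perm,
    Nat.card_eq_fintype_card (α := FreePrime.Orb z' β), hcardO] at h1
  have h2 : Nat.card f.ker ∣ p := by
    have h3 := Subgroup.card_dvd_of_le hker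
    rwa [Nat.card_congr (Subgroup.subgroupOfEquivOfLe (Subgroup.le_centralizer _)).toEquiv, hP] at h3
  rw [← f.ker.card_mul_index, Subgroup.index_ker, show 2 * (Nat.card f.ker * Nat.card f.range) =
    Nat.card f.ker * (2 * Nat.card f.range) by ring]
  exact Nat.mul_dvd_mul h2 h1

/-- No non-abelian simple group has a subgroup of index `m` when `|G| j = m!/2` with `1 < j` and
`j! < m!/2`, because `A_m` is simple. -/
theorem index_ne_of_alternating [IsSimpleGroup G] (hG : ¬ IsMulCommutative G) {m j : ℕ} (hm : 5 ≤ m)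
    (hj : 1 < j) (hlt : 2 * j.factorial < m.factorial) (hcard : 2 * (Nat.card G * j) = m.factorial)
    (H : Subgroup G) : H.index ≠ m := by
  classical
  intro hH
  have hHt : H ≠ ⊤ := fun e => by rw [e, Subgroup.index_top] at hH; omega
  obtain ⟨f, hf⟩ := exists_injective_alternating hG H hHt
  have hm' : 5 ≤ Nat.card (Fin H.index) := by rw [Nat.card_fin, hH]; exact hm
  haveI : IsSimpleGroup (alternatingGroup (Fin H.index)) := alternatingGroup.isSimpleGroup hm'
  haveI : Nontrivial (Fin H.index) := Fin.nontrivial_iff_two_le.mpr (by omega)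
  have hA : 2 * Nat.card (alternatingGroup (Fin H.index)) = m.factorial := by
    rw [two_mul_nat_card_alternatingGroup, Nat.card_perm, Nat.card_eq_fintype_card, Fintype.card_fin, hH]
  have hr : Nat.card f.range = Nat.card G := Nat.card_congr (MonoidHom.ofInjective hf).toEquiv.symm
  have hidx : f.range.index = j := by
    have h1 := f.range.card_mul_index
    rw [hr] at h1
    exact Nat.eq_of_mul_eq_mul_left (Nat.card_pos (α := G)) (by linarith)
  have hne : f.range ≠ ⊤ := fun e => by rw [e, Subgroup.index_top] at hidx; omega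
  obtain ⟨g, hg⟩ : ∃ g, g ∉ f.range := by
    by_contra hall
    push Not at hall
    exact hne (eq_top_iff.mpr fun g _ => hall g)
  have hinj : Function.Injective (MulAction.toPermHom (alternatingGroup (Fin H.index))
      (alternatingGroup (Fin H.index) ⧸ f.range)) := by
    refine toPermHom_injective_of_not_trivial
      ⟨g, ((1 : ↥(alternatingGroup (Fin H.index))) : ↥(alternatingGroup (Fin H.index)) ⧸ f.range), fun h => hg ?_⟩
    rw [MulAction.Quotient.smul_coe, smul_eq_mul, mul_one, QuotientGroup.eq, mul_one] at h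
    exact inv_mem_iff.mp h
  have hle := Nat.card_le_card_of_injective _ hinj
  rw [Nat.card_perm, ← Subgroup.index_eq_card, hidx] at hle
  omega

end CfsgLib.SmallGroups.SylowFixed

namespace CfsgLib.SmallGroups.SylowFixed

variable {G : Type*} [Group G] [Finite G] {p : ℕ} [Fact p.Prime]

/-- In degree less than `2 p` the normalizer of a cycle of length `p` is small. -/
theorem card_normalizer_dvd [IsSimpleGroup G] (hG : ¬ IsMulCommutative G) (hdvd : p ∣ Nat.card G)
    (P : Sylow p G) (hP : Nat.card (P : Subgroup G) = p) (hn : Nat.card (Sylow p G) < 2 * p) :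
    Nat.card (Subgroup.normalizer ((P : Subgroup G) : Set G)) ∣
      (p - 1) * ((Nat.card (Sylow p G) - p).factorial * p) := by
  classical
  haveI := Fintype.ofFinite (Sylow p G)
  rw [Nat.card_eq_fintype_card (α := Sylow p G)] at hn ⊢
  set g := MulAction.toPermHom G (Sylow p G)
  have hg : Function.Injective g := by
    intro a b hab
    have h1 : a⁻¹ * b = 1 := faithful (card_sylow_ne_one hG hdvd) fun Q => by
      rw [mul_smul, inv_smul_eq_iff]
      exact (congrArg (fun σ : Equiv.Perm (Sylow p G) => σ Q) hab).symm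
    exact inv_mul_eq_one.mp h1
  have hgr : Function.Injective g.rangeRestrict := MonoidHom.rangeRestrict_injective_iff.mpr hg
  have h2 := card_normalizer_dvd_perm (p := p) (G := g.range) hn (P := (P : Subgroup G).map g.rangeRestrict)
    ((Subgroup.card_map_of_injective hgr).trans hP)
  refine dvd_trans ?_ h2
  rw [← Subgroup.card_map_of_injective (K := Subgroup.normalizer ((P : Subgroup G) : Set G)) hgr]
  exact Subgroup.card_dvd_of_le (Subgroup.le_normalizer_map _)

/-- The centraliser of a non-trivial element is proper. -/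
theorem centralizer_ne_top [IsSimpleGroup G] (hG : ¬ IsMulCommutative G) {y : G} (hy : y ≠ 1) :
    Subgroup.centralizer ({y} : Set G) ≠ ⊤ := by
  intro h
  apply hy
  have : y ∈ Subgroup.center G := Subgroup.mem_center_iff.mpr fun g =>
    Subgroup.mem_centralizer_singleton_iff.mp (h ▸ Subgroup.mem_top g)
  rwa [eq_bot_or_comm_of_centre hG, Subgroup.mem_bot] at this

/-- The usual preparation. -/
theorem setup [IsSimpleGroup G] {a m : ℕ} (hG : Nat.card G = p ^ a * m) (hm : ¬ p ∣ m) (ha : a = 1)
    (P : Sylow p G) : Nat.card (P : Subgroup G) = p := by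
  have := card_sylow_eq hG hm P
  rwa [ha, pow_one] at this

end CfsgLib.SmallGroups.SylowFixed
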