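import Cfsg.Prelude.Def_Perm
import Mathlib

/-!
Invariant subspaces of permutation modules in characteristic `p`, and polynomial functions
on `ZMod p`.
-/

set_option autoImplicit false

namespace CfsgLib.SmallGroups.PermModule

open Finset

section General

variable {G : Type*} [Group G] {K : Type*} [Field K] {Ω : Type*} [Fintype Ω] [MulAction G Ω]

theorem permRep_apply (g : G) (v : Ω → K) (x : Ω) : Cfsg.permRep K G Ω g v x = v (g⁻¹ • x) := rfl

theorem mem_sumZero {v : Ω → K} :
    v ∈ (Cfsg.permSumZero K G Ω).toSubmodule ↔ ∑ x, v x = 0 := Iff.rfl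

theorem mem_constants {v : Ω → K} :
    v ∈ (Cfsg.permConstants K G Ω).toSubmodule ↔ ∃ c : K, ∀ x, v x = c := by
  show v ∈ Submodule.span K {fun _ : Ω => (1 : K)} ↔ _
  rw [Submodule.mem_span_singleton]
  constructor
  · rintro ⟨c, rfl⟩; exact ⟨c, fun x => by simp⟩
  · rintro ⟨c, hc⟩; exact ⟨c, funext fun x => by simp [hc x]⟩

theorem one_mem_constants : (fun _ : Ω => (1 : K)) ∈ (Cfsg.permConstants K G Ω).toSubmodule :=
  mem_constants.mpr ⟨1, fun _ => rfl⟩

theorem constants_le_of_one_mem {W : Subrepresentation (Cfsg.permRep K G Ω)}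
    (h : (fun _ : Ω => (1 : K)) ∈ W.toSubmodule) :
    (Cfsg.permConstants K G Ω).toSubmodule ≤ W.toSubmodule := by
  show Submodule.span K {fun _ : Ω => (1 : K)} ≤ _
  rwa [Submodule.span_singleton_le_iff_mem]

/-- The orthogonal of an invariant subspace for the standard bilinear form. -/
def perp (W : Subrepresentation (Cfsg.permRep K G Ω)) : Subrepresentation (Cfsg.permRep K G Ω) where
  toSubmodule :=
    { carrier := {u | ∀ w ∈ W.toSubmodule, ∑ x, u x * w x = 0}
      add_mem' := by
        intro a b ha hb w hw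
        simp only [Pi.add_apply, add_mul, Finset.sum_add_distrib, ha w hw, hb w hw, add_zero]
      zero_mem' := by intro w _; simp
      smul_mem' := by
        intro c u hu w hw
        simp only [Pi.smul_apply, smul_eq_mul, mul_assoc, ← Finset.mul_sum, hu w hw, mul_zero] }
  apply_mem_toSubmodule g u hu w hw := by
    have h := hu _ (W.apply_mem_toSubmodule g⁻¹ hw)
    calc (∑ x, Cfsg.permRep K G Ω g u x * w x) = ∑ y, u y * Cfsg.permRep K G Ω g⁻¹ w y :=
          Fintype.sum_equiv (MulAction.toPerm g⁻¹) _ _ (fun x => by simp [permRep_apply])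
      _ = 0 := h

theorem mem_perp {W : Subrepresentation (Cfsg.permRep K G Ω)} {u : Ω → K} :
    u ∈ (perp W).toSubmodule ↔ ∀ w ∈ W.toSubmodule, ∑ x, u x * w x = 0 := Iff.rfl

theorem perp_toSubmodule_eq (W : Subrepresentation (Cfsg.permRep K G Ω)) [DecidableEq Ω] :
    (perp W).toSubmodule =
      W.toSubmodule.dualAnnihilator.comap (Pi.basisFun K Ω).toDualEquiv.toLinearMap := by
  ext u
  rw [mem_perp, Submodule.mem_comap, Submodule.mem_dualAnnihilator]
  refine forall₂_congr fun w _ => ?_
  rw [LinearEquiv.coe_coe, Module.Basis.toDualEquiv_apply]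
  have : (Pi.basisFun K Ω).toDual u w = ∑ x, u x * w x := by
    conv_lhs => rw [← (Pi.basisFun K Ω).sum_repr w]
    rw [map_sum]
    refine Finset.sum_congr rfl fun x _ => ?_
    rw [map_smul, Module.Basis.toDual_apply_left, Pi.basisFun_repr, Pi.basisFun_repr, smul_eq_mul,
      mul_comm]
  rw [this]

theorem finrank_perp_add (W : Subrepresentation (Cfsg.permRep K G Ω)) :
    Module.finrank K (perp W).toSubmodule + Module.finrank K W.toSubmodule = Fintype.card Ω := by
  classical
  rw [perp_toSubmodule_eq, Submodule.comap_equiv_eq_map_symm, LinearEquiv.finrank_map_eq,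
    add_comm, Subspace.finrank_add_finrank_dualAnnihilator_eq, Module.finrank_pi]

theorem perp_ne_bot {W : Subrepresentation (Cfsg.permRep K G Ω)} (hW : W.toSubmodule ≠ ⊤) :
    (perp W).toSubmodule ≠ ⊥ := by
  intro h
  apply hW
  apply Submodule.eq_top_of_finrank_eq
  have := finrank_perp_add W
  rw [h, finrank_bot] at this
  rw [Module.finrank_pi]
  omega

/-- The `ρ`-linear span over the prime field of the translates of a vector. -/
theorem exists_fixed_of_isPGroup {p : ℕ} [Fact p.Prime] [CharP K p] {P : Subgroup G} [Finite P]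
    (hP : IsPGroup p P) (W : Subrepresentation (Cfsg.permRep K G Ω)) {v : Ω → K}
    (hv : v ∈ W.toSubmodule) (hv0 : v ≠ 0) :
    ∃ w ∈ W.toSubmodule, w ≠ 0 ∧ ∀ g ∈ P, ∀ x, w (g • x) = w x := by
  classical
  haveI := Fintype.ofFinite P
  letI : Algebra (ZMod p) K := ZMod.algebra K p
  let L : (P → ZMod p) →ₗ[ZMod p] (Ω → K) :=
    { toFun := fun c => fun x => ∑ h : P, algebraMap (ZMod p) K (c h) * Cfsg.permRep K G Ω (h : G) v x
      map_add' := fun a b => by
        funext x; simp [add_mul, Finset.sum_add_distrib]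
      map_smul' := fun a b => by
        funext x; simp [Finset.mul_sum, Algebra.smul_def, mul_assoc] }
  let S := LinearMap.range L
  have hsub : ∀ s ∈ S, s ∈ W.toSubmodule := by
    rintro _ ⟨c, rfl⟩
    have : L c = ∑ h : P, algebraMap (ZMod p) K (c h) • Cfsg.permRep K G Ω (h : G) v := by
      funext x; simp [L, Algebra.smul_def]
    rw [this]
    exact Submodule.sum_mem _ fun h _ => W.toSubmodule.smul_mem _ (W.apply_mem_toSubmodule _ hv)
  have hinv : ∀ (g : P) (s : Ω → K), s ∈ S → Cfsg.permRep K G Ω (g : G) s ∈ S := by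
    rintro g _ ⟨c, rfl⟩
    refine ⟨fun h => c (g⁻¹ * h), funext fun x => ?_⟩
    rw [permRep_apply]
    refine Fintype.sum_equiv (Equiv.mulLeft g⁻¹) _ _ (fun h => ?_)
    simp [permRep_apply, mul_smul]
  letI : MulAction P S :=
    { smul := fun g s => ⟨Cfsg.permRep K G Ω (g : G) s, hinv g s s.2⟩
      one_smul := fun s => Subtype.ext (funext fun x => by
        show (s : Ω → K) (((1 : P) : G)⁻¹ • x) = _
        simp)
      mul_smul := fun g h s => Subtype.ext (funext fun x => by
        show (s : Ω → K) (((g * h : P) : G)⁻¹ • x) = (s : Ω → K) ((h : G)⁻¹ • ((g : G)⁻¹ • x))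
        simp [mul_smul]) }
  haveI : Finite S := Finite.of_surjective L.rangeRestrict L.surjective_rangeRestrict
  have hvS : v ∈ S := ⟨Pi.single 1 1, funext fun x => by
    show (∑ h : P, _) = _
    rw [Finset.sum_eq_single (1 : P)]
    · simp [permRep_apply]
    · intro h _ hh; simp [hh]
    · simp⟩
  have hdvd : p ∣ Nat.card S := by
    rw [Module.natCard_eq_pow_finrank (K := ZMod p) (V := S), Nat.card_zmod]
    apply dvd_pow_self
    intro h
    have : Subsingleton S := Module.finrank_zero_iff.mp h
    exact hv0 (congrArg Subtype.val (Subsingleton.elim (⟨v, hvS⟩ : S) 0))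
  have h0 : (0 : S) ∈ MulAction.fixedPoints P S := fun g => Subtype.ext (funext fun x => rfl)
  obtain ⟨s, hs, hs0⟩ := hP.exists_fixed_point_of_prime_dvd_card_of_fixed_point S hdvd h0
  refine ⟨s, hsub s s.2, fun e => hs0 (Subtype.ext e.symm), fun g hg x => ?_⟩
  have h := congrFun (congrArg Subtype.val (hs ⟨g, hg⟩)) (g • x)
  change (s : Ω → K) (g⁻¹ • g • x) = (s : Ω → K) (g • x) at h
  rw [inv_smul_smul] at h
  exact h.symm

theorem exists_transitive_pSubgroup [Finite G] {p f : ℕ} [Fact p.Prime]
    [MulAction.IsPretransitive G Ω] (hcard : Fintype.card Ω = p ^ f) :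
    ∃ P : Subgroup G, IsPGroup p P ∧ MulAction.IsPretransitive P Ω := by
  classical
  obtain ⟨P⟩ : Nonempty (Sylow p G) := inferInstance
  refine ⟨P, P.2, ⟨fun a b => ?_⟩⟩
  have hp : p.Prime := Fact.out
  have h1 : Fintype.card Ω * Nat.card (MulAction.stabilizer G a) = Nat.card G := by
    rw [← Nat.card_eq_fintype_card, ← MulAction.index_stabilizer_of_transitive (G := G) a,
      mul_comm, Subgroup.card_mul_index]
  obtain ⟨k, hk⟩ := IsPGroup.iff_card.mp (P.2.to_subgroup (MulAction.stabilizer (P : Subgroup G) a))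
  have hd : Nat.card (MulAction.stabilizer (P : Subgroup G) a) ∣ Nat.card (MulAction.stabilizer G a) :=
    Subgroup.card_dvd_of_injective
      ({ toFun := fun g => ⟨(g.1 : G), g.2⟩, map_one' := rfl, map_mul' := fun _ _ => rfl } :
        MulAction.stabilizer (P : Subgroup G) a →* MulAction.stabilizer G a)
      (fun g h e => Subtype.ext (Subtype.ext (congrArg (fun z => (z.1 : G)) e)))
  have hkle : f + k ≤ (Nat.card G).factorization p := by
    rw [← hp.pow_dvd_iff_le_factorization Nat.card_pos.ne', ← h1, hcard, pow_add, ← hk]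
    exact Nat.mul_dvd_mul_left _ hd
  have horb := MulAction.index_stabilizer (P : Subgroup G) a
  have hmul := (MulAction.stabilizer (P : Subgroup G) a).card_mul_index
  rw [horb, hk, P.card_eq_multiplicity] at hmul
  have hge : p ^ f ≤ (MulAction.orbit (P : Subgroup G) a).ncard := by
    apply Nat.le_of_mul_le_mul_left _ (pow_pos hp.pos k)
    rw [hmul, ← pow_add]
    exact Nat.pow_le_pow_right hp.pos (by omega)
  have huniv : MulAction.orbit (P : Subgroup G) a = Set.univ := by
    apply Set.eq_of_subset_of_ncard_le (Set.subset_univ _)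
    rwa [Set.ncard_univ, Nat.card_eq_fintype_card, hcard]
  obtain ⟨g, hg⟩ : b ∈ MulAction.orbit (P : Subgroup G) a := huniv ▸ Set.mem_univ b
  exact ⟨g, hg⟩

/-- In a transitive permutation module of degree a power of the characteristic, every non-zero
invariant subspace contains the constants. -/
theorem constants_le [Finite G] {p f : ℕ} [Fact p.Prime] [CharP K p] [MulAction.IsPretransitive G Ω]
    (hcard : Fintype.card Ω = p ^ f) {W : Subrepresentation (Cfsg.permRep K G Ω)}
    (hW : W.toSubmodule ≠ ⊥) :
    (Cfsg.permConstants K G Ω).toSubmodule ≤ W.toSubmodule := by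
  obtain ⟨v, hv, hv0⟩ := Submodule.exists_mem_ne_zero_of_ne_bot hW
  obtain ⟨P, hP, htr⟩ := exists_transitive_pSubgroup (G := G) hcard
  obtain ⟨w, hw, hw0, hfix⟩ := exists_fixed_of_isPGroup hP W hv hv0
  obtain ⟨a, ha⟩ := Function.ne_iff.mp hw0
  apply constants_le_of_one_mem
  convert W.toSubmodule.smul_mem (w a)⁻¹ hw using 1
  funext x
  obtain ⟨g, hg⟩ := htr.exists_smul_eq a x
  rw [Pi.smul_apply, smul_eq_mul, ← hg, show g • a = (g : G) • a from rfl, hfix g g.2,
    inv_mul_cancel₀ ha]

/-- Dually, every proper invariant subspace consists of sum-zero functions. -/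
theorem le_sumZero [Finite G] {p f : ℕ} [Fact p.Prime] [CharP K p] [MulAction.IsPretransitive G Ω]
    (hcard : Fintype.card Ω = p ^ f) {W : Subrepresentation (Cfsg.permRep K G Ω)}
    (hW : W.toSubmodule ≠ ⊤) :
    W.toSubmodule ≤ (Cfsg.permSumZero K G Ω).toSubmodule := by
  intro w hw
  have h1 := mem_perp.mp (constants_le hcard (perp_ne_bot hW) one_mem_constants) w hw
  rw [mem_sumZero]
  simpa using h1

end General

section Poly

variable (p : ℕ) [hp : Fact p.Prime] (K : Type*) [Field K] [CharP K p]

open Polynomial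

/-- A polynomial as a function on `ZMod p`. -/
noncomputable def evalFun : K[X] →ₗ[K] (ZMod p → K) where
  toFun P j := P.eval (ZMod.cast j : K)
  map_add' P Q := by funext j; simp
  map_smul' c P := by funext j; simp

/-- Functions given by polynomials of degree less than `r`. -/
noncomputable def polyFun (r : ℕ) : Submodule K (ZMod p → K) :=
  (Polynomial.degreeLT K r).map (evalFun p K)

theorem evalFun_apply (P : K[X]) (j : ZMod p) : evalFun p K P j = P.eval (ZMod.cast j : K) := rfl

theorem cast_injective : Function.Injective (fun j : ZMod p => (ZMod.cast j : K)) := by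
  intro a b h
  exact ((ZMod.castHom (dvd_refl p) K).injective) (by simpa [ZMod.castHom_apply] using h)

theorem eq_of_evalFun_eq {P Q : K[X]} (hP : P.degree < p) (hQ : Q.degree < p)
    (h : evalFun p K P = evalFun p K Q) : P = Q := by
  rw [← sub_eq_zero]
  have hd : (P - Q).degree < p := lt_of_le_of_lt (Polynomial.degree_sub_le _ _) (max_lt hP hQ)
  by_contra h0
  have hn : (P - Q).natDegree < p := (Polynomial.natDegree_lt_iff_degree_lt h0).mpr hd
  refine h0 (Polynomial.eq_zero_of_natDegree_lt_card_of_eval_eq_zero (P - Q)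
    (f := fun j : ZMod p => (ZMod.cast j : K)) (cast_injective p K) (fun j => ?_) ?_)
  · rw [Polynomial.eval_sub, sub_eq_zero]
    exact congrFun h j
  · rwa [ZMod.card]

theorem finrank_polyFun {r : ℕ} (hr : r ≤ p) : Module.finrank K (polyFun p K r) = r := by
  have hinj : ∀ x ∈ Polynomial.degreeLT K r, ∀ y ∈ Polynomial.degreeLT K r,
      evalFun p K x = evalFun p K y → x = y := fun x hx y hy h =>
    eq_of_evalFun_eq p K
      (lt_of_lt_of_le (Polynomial.mem_degreeLT.mp hx) (by exact_mod_cast hr))
      (lt_of_lt_of_le (Polynomial.mem_degreeLT.mp hy) (by exact_mod_cast hr)) h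
  rw [polyFun, ← LinearMap.range_domRestrict, LinearMap.finrank_range_of_inj,
    (Polynomial.degreeLTEquiv K r).finrank_eq, Module.finrank_fin_fun]
  rintro ⟨x, hx⟩ ⟨y, hy⟩ h
  exact Subtype.ext (hinj x hx y hy h)

theorem polyFun_mono {r s : ℕ} (h : r ≤ s) : polyFun p K r ≤ polyFun p K s :=
  Submodule.map_mono (Polynomial.degreeLT_mono h)

theorem polyFun_top : polyFun p K p = ⊤ := by
  apply Submodule.eq_top_of_finrank_eq
  rw [finrank_polyFun p K le_rfl, Module.finrank_pi, ZMod.card]

theorem cast_sub_one (j : ZMod p) : (ZMod.cast (j - 1) : K) = (ZMod.cast j : K) - 1 := by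
  rw [ZMod.cast_sub (dvd_refl p), ZMod.cast_one (dvd_refl p)]

variable {p K}

theorem evalFun_comp_mem (W : Submodule K (ZMod p → K))
    (hW : ∀ f ∈ W, (fun j => f (j - 1)) ∈ W) {P : K[X]} (h : evalFun p K P ∈ W) :
    evalFun p K (P.comp (X - C 1)) ∈ W := by
  convert hW _ h using 1
  funext j
  simp [evalFun_apply, cast_sub_one]

theorem polyFun_le_of_mem (W : Submodule K (ZMod p → K))
    (hW : ∀ f ∈ W, (fun j => f (j - 1)) ∈ W) :
    ∀ (d : ℕ) (P : K[X]), P.natDegree = d → P ≠ 0 → d < p → evalFun p K P ∈ W →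
      polyFun p K (d + 1) ≤ W := by
  intro d
  induction d with
  | zero =>
    intro P hP h0 _ hmem
    rw [polyFun, Submodule.map_le_iff_le_comap]
    intro Q hQ
    rw [Polynomial.mem_degreeLT] at hQ
    rw [Submodule.mem_comap]
    have hQd : Q.natDegree = 0 := by
      by_cases hQ0 : Q = 0
      · simp [hQ0]
      · have := (Polynomial.natDegree_lt_iff_degree_lt hQ0).mpr hQ; omega
    rw [Polynomial.eq_C_of_natDegree_eq_zero hQd]
    rw [Polynomial.eq_C_of_natDegree_eq_zero hP] at h0 hmem
    have hc : P.coeff 0 ≠ 0 := fun e => h0 (by rw [e, map_zero])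
    convert W.smul_mem (Q.coeff 0 / P.coeff 0) hmem using 1
    funext j
    simp [evalFun_apply, div_mul_cancel₀ _ hc]
  | succ d ih =>
    intro P hP h0 hdp hmem
    have hdK : ((d + 1 : ℕ) : K) ≠ 0 := by
      rw [Ne, CharP.cast_eq_zero_iff K p]
      exact fun h => absurd (Nat.le_of_dvd (Nat.succ_pos _) h) (by omega)
    set T := P - P.comp (X - C 1) with hT
    have hTmem : evalFun p K T ∈ W := by
      rw [hT, map_sub]; exact W.sub_mem hmem (evalFun_comp_mem W hW hmem)
    -- the coefficient of degree d
    have hcomp : P.comp (X - C 1) = Polynomial.taylor (-1) P := by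
      simp [Polynomial.taylor_apply, sub_eq_add_neg]
    have hdeg : T.natDegree ≤ d := by
      rw [Polynomial.natDegree_le_iff_coeff_eq_zero]
      intro n hn
      rw [hT, Polynomial.coeff_sub, hcomp]
      rcases (Nat.succ_le_iff.mpr hn).eq_or_lt with e | e
      · rw [← e, show d.succ = d + 1 from rfl, ← hP, Polynomial.coeff_natDegree]
        have := Polynomial.leadingCoeff_taylor (r := (-1 : K)) (f := P)
        rw [Polynomial.leadingCoeff, Polynomial.natDegree_taylor] at this
        rw [this, Polynomial.leadingCoeff, sub_self]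
      · rw [Polynomial.coeff_eq_zero_of_natDegree_lt (by omega),
          Polynomial.coeff_eq_zero_of_natDegree_lt (by rw [Polynomial.natDegree_taylor]; omega), sub_self]
    have hcoeff : T.coeff d = ((d + 1 : ℕ) : K) * P.coeff (d + 1) := by
      rw [hT, Polynomial.coeff_sub, hcomp, Polynomial.taylor_coeff]
      have he : (Polynomial.hasseDeriv d P).natDegree ≤ 1 := by
        have := Polynomial.natDegree_hasseDeriv_le P d
        omega
      rw [Polynomial.eq_X_add_C_of_natDegree_le_one he]
      simp only [Polynomial.eval_add, Polynomial.eval_mul, Polynomial.eval_C, Polynomial.eval_X,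
        Polynomial.hasseDeriv_coeff, zero_add, Nat.choose_self, Nat.cast_one, one_mul]
      rw [show 1 + d = d + 1 by ring, Nat.choose_succ_self_right]
      push_cast
      ring
    have hlead : P.coeff (d + 1) ≠ 0 := by
      rw [← hP, Polynomial.coeff_natDegree]; exact Polynomial.leadingCoeff_ne_zero.mpr h0
    have hTd : T.natDegree = d :=
      le_antisymm hdeg (Polynomial.le_natDegree_of_ne_zero (hcoeff ▸ mul_ne_zero hdK hlead))
    have hT0 : T ≠ 0 := fun e => (mul_ne_zero hdK hlead) (by rw [← hcoeff, e, Polynomial.coeff_zero])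
    have hih := ih T hTd hT0 (by omega) hTmem
    rw [polyFun, Submodule.map_le_iff_le_comap]
    intro Q hQ
    rw [Polynomial.mem_degreeLT] at hQ
    rw [Submodule.mem_comap]
    set c := Q.coeff (d + 1) / P.coeff (d + 1)
    have hQd : Q.natDegree ≤ d + 1 := by
      by_cases hQ0 : Q = 0
      · simp [hQ0]
      · have := (Polynomial.natDegree_lt_iff_degree_lt hQ0).mpr hQ; omega
    have hR : (Q - C c * P) ∈ Polynomial.degreeLT K (d + 1) := by
      rw [Polynomial.mem_degreeLT, Polynomial.degree_lt_iff_coeff_zero]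
      intro n hn
      rw [Polynomial.coeff_sub, Polynomial.coeff_C_mul]
      rcases hn.eq_or_lt with e | e
      · subst e; simp [c, div_mul_cancel₀ _ hlead]
      · rw [Polynomial.coeff_eq_zero_of_natDegree_lt (by omega),
          Polynomial.coeff_eq_zero_of_natDegree_lt (by omega), mul_zero, sub_zero]
    have := W.add_mem (hih (Submodule.mem_map_of_mem hR)) (W.smul_mem c hmem)
    convert this using 1
    funext j
    simp [evalFun_apply]

/-- A translation invariant space of functions on `ZMod p` consists of the polynomial functions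
of degree less than its dimension. -/
theorem eq_polyFun (W : Submodule K (ZMod p → K)) (hW : ∀ f ∈ W, (fun j => f (j - 1)) ∈ W) :
    ∃ r ≤ p, W = polyFun p K r := by
  classical
  have h0 : polyFun p K 0 ≤ W := by
    rw [polyFun, Submodule.map_le_iff_le_comap]
    intro Q hQ
    rw [Polynomial.mem_degreeLT] at hQ
    have : Q = 0 := by
      rw [← Polynomial.degree_eq_bot]
      exact Nat.WithBot.lt_zero_iff.mp hQ
    simp [this]
  set r := Nat.findGreatest (fun r => polyFun p K r ≤ W) p with hr
  have hspec : polyFun p K r ≤ W := Nat.findGreatest_spec (P := fun r => polyFun p K r ≤ W) (Nat.zero_le p) h0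
  refine ⟨r, Nat.findGreatest_le p, le_antisymm ?_ hspec⟩
  intro f hf
  have hmem : f ∈ polyFun p K p := by rw [polyFun_top]; trivial
  obtain ⟨P, hP, rfl⟩ := hmem
  by_cases hP0 : P = 0
  · rw [hP0, map_zero]; exact Submodule.zero_mem _
  have hdp : P.natDegree < p :=
    (Polynomial.natDegree_lt_iff_degree_lt hP0).mpr (Polynomial.mem_degreeLT.mp hP)
  have hle := polyFun_le_of_mem W hW P.natDegree P rfl hP0 hdp hf
  have hdr : P.natDegree + 1 ≤ r := Nat.le_findGreatest (P := fun r => polyFun p K r ≤ W) hdp hle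
  refine polyFun_mono p K hdr ⟨P, Polynomial.mem_degreeLT.mpr ?_, rfl⟩
  exact lt_of_le_of_lt Polynomial.degree_le_natDegree (by exact_mod_cast Nat.lt_succ_self _)

end Poly

end CfsgLib.SmallGroups.PermModule
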