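import Cfsg.Agent.Lib.SmallGroups.PrimeDegree
import Cfsg.Agent.Lib.SmallGroups.PermModule
import Mathlib

/-!
Transitive permutation groups of prime degree: the regular cycle, coordinates in `ZMod p`,
the solvable normalizer of the cycle, and irreducibility of the heart of the permutation module.
-/

set_option autoImplicit false

namespace CfsgLib.SmallGroups

open PermModule

variable {α : Type*} [Fintype α] [DecidableEq α] {p : ℕ} [hp : Fact p.Prime]

theorem exists_orderOf_eq_of_isPretransitive (hα : Fintype.card α = p) (G : Subgroup (Equiv.Perm α))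
    [MulAction.IsPretransitive G α] : ∃ σ ∈ G, orderOf σ = p := by
  obtain ⟨a⟩ : Nonempty α := Fintype.card_pos_iff.mp (hα ▸ hp.out.pos)
  have h : p ∣ Nat.card G := by
    rw [← hα, ← Nat.card_eq_fintype_card (α := α), ← MulAction.index_stabilizer_of_transitive (G := G) a]
    exact Subgroup.index_dvd_card _
  obtain ⟨g, hg⟩ := exists_prime_orderOf_dvd_card' p h
  exact ⟨g, g.2, by rw [Subgroup.orderOf_coe, hg]⟩

/-- Coordinates in `ZMod p` turning a `p`-cycle into the translation by one. -/
theorem exists_coord (hα : Fintype.card α = p) {σ : Equiv.Perm α} (hσ : orderOf σ = p) (a : α) :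
    ∃ e : ZMod p ≃ α, e 0 = a ∧ ∀ j, σ (e j) = e (j + 1) := by
  have hp' : p.Prime := hp.out
  have h2 := hp'.two_le
  have hn : Fintype.card α < 2 * p := by omega
  have hc : σ.IsCycle := Equiv.Perm.isCycle_of_prime_order' (hσ ▸ hp') (hσ ▸ hn)
  have hsupp : σ.support = Finset.univ := by
    apply Finset.eq_univ_of_card
    rw [card_support_of_orderOf_eq hn hσ, hα]
  have hmem : ∀ x, σ x ≠ x := fun x => Equiv.Perm.mem_support.mp (hsupp ▸ Finset.mem_univ x)
  have hpow : ∀ n : ℕ, (σ ^ (n % p)) a = (σ ^ n) a := fun n => by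
    rw [← hσ, pow_mod_orderOf]
  have hsurj : Function.Surjective (fun j : ZMod p => (σ ^ j.val) a) := by
    intro y
    obtain ⟨i, hi⟩ := hc.exists_pow_eq (hmem a) (hmem y)
    refine ⟨(i : ZMod p), ?_⟩
    show (σ ^ (i : ZMod p).val) a = y
    rw [ZMod.val_natCast, hpow, hi]
  have hbij : Function.Bijective (fun j : ZMod p => (σ ^ j.val) a) :=
    (Fintype.bijective_iff_surjective_and_card _).mpr ⟨hsurj, by rw [ZMod.card, hα]⟩
  refine ⟨Equiv.ofBijective _ hbij, by simp, fun j => ?_⟩
  show σ ((σ ^ j.val) a) = (σ ^ (j + 1).val) a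
  rw [← Equiv.Perm.mul_apply, ← pow_succ', ZMod.val_add, hpow, ZMod.val_one]

theorem coord_zpow {σ : Equiv.Perm α} {e : ZMod p ≃ α} (he : ∀ j, σ (e j) = e (j + 1)) (n : ℕ)
    (j : ZMod p) : (σ ^ n) (e j) = e (j + (n : ZMod p)) := by
  induction n generalizing j with
  | zero => simp
  | succ n ih => rw [pow_succ', Equiv.Perm.mul_apply, ih, he]; push_cast; rw [add_assoc]

theorem isSolvable_normalizer (hα : Fintype.card α = p) {σ : Equiv.Perm α} (hσ : orderOf σ = p)
    {G : Subgroup (Equiv.Perm α)}
    (hG : G ≤ Subgroup.normalizer ((Subgroup.zpowers σ : Subgroup (Equiv.Perm α)) : Set (Equiv.Perm α))) :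
    Group.IsSolvable G := by
  have hn : Fintype.card α < 2 * p := by have := hp.out.two_le; omega
  set P := Subgroup.zpowers σ with hP
  have hPc : Nat.card P = p := by rw [hP, Nat.card_zpowers, hσ]
  have hCle : Subgroup.centralizer (P : Set (Equiv.Perm α)) ≤ P := by
    have hc : Subgroup.centralizer (P : Set (Equiv.Perm α)) = Subgroup.centralizer {σ} := by
      rw [hP, Subgroup.zpowers_eq_closure, Subgroup.centralizer_closure]
    rw [hc]
    have hle : P ≤ Subgroup.centralizer {σ} := by
      rw [hP, Subgroup.zpowers_le, Subgroup.mem_centralizer_iff]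
      simp
    rw [Subgroup.eq_of_le_of_card_ge hle]
    rw [card_centralizer_of_orderOf_eq hn hσ, hα, hPc]
    simp
  haveI : IsCyclic P := isCyclic_of_prime_card hPc
  let f : G →* MulAut P := P.normalizerMonoidHom.comp (Subgroup.inclusion hG)
  let incl : (P ⊓ G : Subgroup (Equiv.Perm α)) →* G := Subgroup.inclusion inf_le_right
  have hker : f.ker ≤ incl.range := by
    intro g hg
    have h1 : Subgroup.inclusion hG g ∈ P.normalizerMonoidHom.ker := hg
    rw [Subgroup.normalizerMonoidHom_ker, Subgroup.mem_subgroupOf] at h1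
    exact ⟨⟨(g : Equiv.Perm α), hCle h1, g.2⟩, Subtype.ext rfl⟩
  haveI : Group.IsSolvable P := by
    letI : CommGroup P := IsCyclic.commGroup
    infer_instance
  haveI : Group.IsSolvable (P ⊓ G : Subgroup (Equiv.Perm α)) :=
    Group.isSolvable_of_isSolvable_injective (f := Subgroup.inclusion inf_le_left) (Subgroup.inclusion_injective _)
  haveI : Group.IsSolvable (MulAut P) := by
    letI : CommGroup (MulAut P) :=
      { (inferInstance : Group (MulAut P)) with
        mul_comm := fun a b => (IsCyclic.mulAutMulEquiv P).injective (by rw [map_mul, map_mul, mul_comm]) }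
    infer_instance
  exact Group.isSolvable_of_ker_le_range incl f hker

variable {K : Type*} [Field K] [CharP K p]

/-- Pull a subspace of functions on `α` back to `ZMod p`. -/
def pullback (e : ZMod p ≃ α) (W : Submodule K (α → K)) : Submodule K (ZMod p → K) :=
  W.map (LinearEquiv.funCongrLeft K K e).toLinearMap

theorem mem_pullback {e : ZMod p ≃ α} {W : Submodule K (α → K)} {f : ZMod p → K} :
    f ∈ pullback e W ↔ (fun x => f (e.symm x)) ∈ W := by
  constructor
  · rintro ⟨v, hv, rfl⟩
    have h : (fun x => (LinearEquiv.funCongrLeft K K e).toLinearMap v (e.symm x)) = v := by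
      funext x; simp [LinearEquiv.funCongrLeft]
    rw [h]; exact hv
  · intro h
    exact ⟨_, h, by funext j; simp [LinearEquiv.funCongrLeft]⟩

theorem finrank_pullback (e : ZMod p ≃ α) (W : Submodule K (α → K)) :
    Module.finrank K (pullback e W) = Module.finrank K W :=
  LinearEquiv.finrank_map_eq _ _

theorem finrank_constants (hne : Nonempty α) {G : Subgroup (Equiv.Perm α)} :
    Module.finrank K (Cfsg.permConstants K G α).toSubmodule = 1 := by
  refine finrank_span_singleton ?_
  intro h
  exact one_ne_zero (congrFun h hne.some)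

theorem finrank_sumZero (hne : Nonempty α) {G : Subgroup (Equiv.Perm α)} :
    Module.finrank K (Cfsg.permSumZero K G α).toSubmodule + 1 = Fintype.card α := by
  have h : (Cfsg.permSumZero K G α).toSubmodule = (perp (Cfsg.permConstants K G α)).toSubmodule := by
    ext v
    rw [mem_sumZero, mem_perp]
    constructor
    · intro hv w hw
      obtain ⟨c, hc⟩ := mem_constants.mp hw
      simp [hc, ← Finset.sum_mul, hv]
    · intro hv
      simpa using hv _ one_mem_constants
  rw [h, ← finrank_perp_add (Cfsg.permConstants K G α), finrank_constants hne]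

/-- An invariant subspace of small dimension forces affine maps. -/
theorem le_normalizer_of_invariant {σ : Equiv.Perm α} {G : Subgroup (Equiv.Perm α)} (hσG : σ ∈ G)
    (e : ZMod p ≃ α) (he : ∀ j, σ (e j) = e (j + 1))
    (W : Subrepresentation (Cfsg.permRep K G α))
    (h2 : 2 ≤ Module.finrank K W.toSubmodule) (hhalf : 2 * Module.finrank K W.toSubmodule ≤ p) :
    G ≤ Subgroup.normalizer ((Subgroup.zpowers σ : Subgroup (Equiv.Perm α)) : Set (Equiv.Perm α)) := by
  have hshift : ∀ f ∈ pullback e W.toSubmodule, (fun j => f (j - 1)) ∈ pullback e W.toSubmodule := by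
    intro f hf
    rw [mem_pullback] at hf ⊢
    convert W.apply_mem_toSubmodule ⟨σ, hσG⟩ hf using 1
    funext x
    show f (e.symm x - 1) = f (e.symm (σ⁻¹ x))
    congr 1
    apply e.injective
    rw [e.apply_symm_apply, Equiv.Perm.eq_inv_iff_eq, he, sub_add_cancel, e.apply_symm_apply]
  obtain ⟨r, hr, hW⟩ := eq_polyFun (pullback e W.toSubmodule) hshift
  have hrk : r = Module.finrank K W.toSubmodule := by
    rw [← finrank_pullback e, hW, finrank_polyFun p K hr]
  intro g hg
  -- g in coordinates is a polynomial map of degree at most one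
  set q : ZMod p → ZMod p := fun j => e.symm (g (e j)) with hq
  obtain ⟨Q, hQ, hQeq⟩ : evalFun p K (Polynomial.X) ∘ q ∈ polyFun p K p := by
    rw [polyFun_top]; trivial
  have hQd : Q.degree < p := Polynomial.mem_degreeLT.mp hQ
  have hQval : ∀ j, Q.eval (ZMod.cast j : K) = (ZMod.cast (q j) : K) := fun j => by
    have := congrFun hQeq j
    simpa [evalFun_apply] using this
  have hpull : ∀ f ∈ polyFun p K r, f ∘ q ∈ polyFun p K r := by
    rw [← hW]
    intro f hf
    rw [mem_pullback] at hf ⊢
    convert W.apply_mem_toSubmodule ⟨g⁻¹, inv_mem hg⟩ hf using 1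
    funext x
    show f (e.symm (g (e (e.symm x)))) = f (e.symm ((g⁻¹)⁻¹ x))
    rw [inv_inv, e.apply_symm_apply]
  have hmem : ∀ k < r, ∀ n, Q.natDegree = n → k * n < p → k * n < r := by
    intro k hk n hn hkn
    obtain ⟨R, hR, hReq⟩ := hpull _ (Submodule.mem_map_of_mem (f := evalFun p K)
      (p := Polynomial.degreeLT K r) (r := Polynomial.X ^ k)
      (Polynomial.mem_degreeLT.mpr (by rw [Polynomial.degree_X_pow]; exact_mod_cast hk)))
    have hQk : evalFun p K (Q ^ k) = evalFun p K R := by
      rw [hReq]; funext j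
      simp [evalFun_apply, hQval]
    have hdk : (Q ^ k).natDegree = k * n := by rw [Polynomial.natDegree_pow, hn]
    have hlt : (Q ^ k).degree < p := lt_of_le_of_lt Polynomial.degree_le_natDegree
      (by rw [hdk]; exact_mod_cast hkn)
    have hRlt : R.degree < r := Polynomial.mem_degreeLT.mp hR
    have heq := eq_of_evalFun_eq p K hlt (lt_of_lt_of_le hRlt (by exact_mod_cast hr)) hQk
    rw [← hdk, heq]
    by_cases hR0 : R = 0
    · rw [hR0, Polynomial.natDegree_zero]; omega
    · exact (Polynomial.natDegree_lt_iff_degree_lt hR0).mpr hRlt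
  have hd1 : Q.natDegree ≤ 1 := by
    by_contra hd
    set d := Q.natDegree with hdd
    have hdp : d < p := by
      by_cases hQ0 : Q = 0
      · rw [hdd, hQ0, Polynomial.natDegree_zero]; exact hp.out.pos
      · exact (Polynomial.natDegree_lt_iff_degree_lt hQ0).mpr hQd
    have h1 : d < r := by
      have := hmem 1 (by omega) d rfl (by omega)
      omega
    have hk1 : 1 ≤ (r + d - 1) / d := by rw [Nat.one_le_div_iff (by omega)]; omega
    set k := (r + d - 1) / d with hk
    have hkd : r ≤ k * d ∧ k * d ≤ r + d - 1 := by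
      refine ⟨?_, Nat.div_mul_le_self _ _⟩
      have h3 := Nat.div_add_mod (r + d - 1) d
      have h4 := Nat.mod_lt (r + d - 1) (show d > 0 by omega)
      rw [← hk, mul_comm] at h3
      omega
    have hkr : k < r := by
      have : k * 2 ≤ k * d := Nat.mul_le_mul_left k (by omega)
      omega
    have := hmem k hkr d rfl (by omega)
    omega
  -- hence g normalises the cycle
  rw [Polynomial.eq_X_add_C_of_natDegree_le_one hd1] at hQval
  simp only [Polynomial.eval_add, Polynomial.eval_mul, Polynomial.eval_C, Polynomial.eval_X] at hQval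
  have haff : ∀ j, q (j + 1) - q j = q 1 - q 0 := by
    intro j
    apply cast_injective p K
    show (ZMod.cast (q (j + 1) - q j) : K) = ZMod.cast (q 1 - q 0)
    rw [ZMod.cast_sub (dvd_refl p), ZMod.cast_sub (dvd_refl p), ← hQval, ← hQval, ← hQval, ← hQval,
      ZMod.cast_add (dvd_refl p), ZMod.cast_one (dvd_refl p), ZMod.cast_zero]
    ring
  have hconj : g * σ * g⁻¹ = σ ^ (q 1 - q 0).val := by
    rw [mul_inv_eq_iff_eq_mul]
    ext x
    obtain ⟨j, rfl⟩ := e.surjective x
    have hgj : ∀ i, g (e i) = e (q i) := fun i => by simp [hq]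
    rw [Equiv.Perm.mul_apply, Equiv.Perm.mul_apply, he, hgj, hgj, coord_zpow he,
      ZMod.natCast_zmod_val, ← haff j]
    congr 1
    ring
  have hle : (Subgroup.zpowers σ).map (MulAut.conj g).toMonoidHom = Subgroup.zpowers σ := by
    apply Subgroup.eq_of_le_of_card_ge
    · rw [MonoidHom.map_zpowers, Subgroup.zpowers_le]
      show g * σ * g⁻¹ ∈ _
      rw [hconj]
      exact Subgroup.pow_mem _ (Subgroup.mem_zpowers σ) _
    · rw [Subgroup.card_map_of_injective (MulAut.conj g).injective]
  intro x
  constructor
  · intro hx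
    rw [← hle]
    exact ⟨x, hx, rfl⟩
  · intro hx
    rw [← hle] at hx
    obtain ⟨y, hy, hy'⟩ := hx
    have hyx : y = x := (MulAut.conj g).injective hy'
    exact hyx ▸ hy

/-- The heart of the permutation module of a non-solvable group of prime degree is irreducible. -/
theorem heart_irreducible (hα : Fintype.card α = p) (G : Subgroup (Equiv.Perm α))
    [MulAction.IsPretransitive G α] (hG : ¬ Group.IsSolvable G)
    (W : Subrepresentation (Cfsg.permRep K G α))
    (h₁ : (Cfsg.permConstants K G α).toSubmodule ≤ W.toSubmodule)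
    (h₂ : W.toSubmodule ≤ (Cfsg.permSumZero K G α).toSubmodule) :
    W = Cfsg.permConstants K G α ∨ W = Cfsg.permSumZero K G α := by
  have hne : Nonempty α := Fintype.card_pos_iff.mp (hα ▸ hp.out.pos)
  have hc1 := finrank_constants (K := K) hne (G := G)
  have hc2 := finrank_sumZero (K := K) hne (G := G)
  by_cases hw1 : Module.finrank K W.toSubmodule ≤ 1
  · exact Or.inl (Subrepresentation.toSubmodule_injective
      (Submodule.eq_of_le_of_finrank_le h₁ (by omega)).symm)
  by_cases hw2 : Fintype.card α ≤ Module.finrank K W.toSubmodule + 1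
  · exact Or.inr (Subrepresentation.toSubmodule_injective
      (Submodule.eq_of_le_of_finrank_le h₂ (by omega)))
  exfalso
  obtain ⟨σ, hσG, hσ⟩ := exists_orderOf_eq_of_isPretransitive hα G
  obtain ⟨e, -, he⟩ := exists_coord hα hσ hne.some
  refine hG (isSolvable_normalizer hα hσ ?_)
  by_cases hh : 2 * Module.finrank K W.toSubmodule ≤ p
  · exact le_normalizer_of_invariant hσG e he W (by omega) hh
  · have hperp := finrank_perp_add W
    exact le_normalizer_of_invariant hσG e he (perp W) (by omega) (by omega)

end CfsgLib.SmallGroups
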