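import Cfsg.Agent.Lib.SmallGroups.SharplyThreeTransitive
import Cfsg.Agent.Lib.Classical.SL2Line
import Cfsg.Agent.Lib.Classical.Dickson.PGLPoints
import Mathlib

/-!
A sharply triply transitive group whose two-point stabilisers are abelian and inverted by the
inversion is a projective linear group of dimension two.
-/

set_option autoImplicit false

namespace CfsgLib.SmallGroups.SharpThreeField

open MulAction CfsgLib.SmallGroups.SharplyThreeTransitive CfsgLib.Transfer CfsgLib.Classical.Dickson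
open scoped LinearAlgebra.Projectivization

theorem exists_coordinates {G α : Type*} [Group G] [MulAction G α] [Finite α] [Finite G]
    (hS : IsSharpThree G α) (h4 : 4 ≤ Nat.card α) {a b c : α} (hab : a ≠ b) (hac : a ≠ c)
    (hbc : b ≠ c) (hcomm : ∀ g h : G, g • a = a → g • b = b → h • a = a → h • b = b → g * h = h * g) :
    ∃ (p j : ℕ) (F : Type) (_ : Field F) (_ : Fintype F) (P : F → α), p.Prime ∧ 1 ≤ j ∧
      Nat.card α = p ^ j + 1 ∧ Fintype.card F = p ^ j ∧ Function.Injective P ∧ (∀ t, P t ≠ a) ∧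
      (∀ x, x ≠ a → ∃ t, P t = x) ∧ P 0 = b ∧ P 1 = c ∧
      (∀ t, ∃ k : G, k • a = a ∧ ∀ u, k • P u = P (u + t)) ∧
      ∀ t, t ≠ 0 → ∃ h : G, h • a = a ∧ h • b = b ∧ ∀ u, h • P u = P (t * u) := by
  classical
  obtain ⟨p, j, K, hp, hj, hα, hKa, hKc, hKp, hKn, hKtr, hKfree, -⟩ := exists_additive hS h4 a
  haveI : Fact p.Prime := ⟨hp⟩
  letI : CommGroup K :=
    { (inferInstance : Group K) with mul_comm := fun x y => Subtype.ext (hKc _ x.2 _ y.2) }
  let M := Additive K
  let pt : M → α := fun m => ((Additive.toMul m : K) : G) • b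
  have hpt_a : ∀ m, pt m ≠ a := fun m e =>
    hab (MulAction.injective ((Additive.toMul m : K) : G) (e.trans (hKa _ (Additive.toMul m).2).symm)).symm
  have hpt_inj : Function.Injective pt := by
    intro m n h
    have h1 : ((Additive.toMul m)⁻¹ * Additive.toMul n : K).1 • b = b := by
      show (((Additive.toMul m : K) : G)⁻¹ * ((Additive.toMul n : K) : G)) • b = b
      rw [mul_smul]
      show ((Additive.toMul m : K) : G)⁻¹ • pt n = b
      rw [← h, inv_smul_smul]
    have h2 : ((Additive.toMul m)⁻¹ * Additive.toMul n : K) = 1 :=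
      Subtype.ext (hKfree _ ((Additive.toMul m)⁻¹ * Additive.toMul n : K).2 b hab.symm h1)
    exact Additive.toMul.injective (inv_mul_eq_one.mp h2)
  have hpt_surj : ∀ x, x ≠ a → ∃ m, pt m = x := fun x hx => by
    obtain ⟨k, hk, hkx⟩ := hKtr b x hab.symm hx
    exact ⟨Additive.ofMul ⟨k, hk⟩, hkx⟩
  have hpt0 : pt 0 = b := one_smul G b
  let H : Subgroup G := stabilizer G a ⊓ stabilizer G b
  let conj : H → AddMonoid.End M := fun h =>
    { toFun := fun m => Additive.ofMul (⟨(h : G) * ((Additive.toMul m : K) : G) * (h : G)⁻¹,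
        hKn (h : G) h.2.1 _ (Additive.toMul m).2⟩ : K)
      map_zero' := by
        apply Additive.toMul.injective
        refine Subtype.ext ?_
        show (h : G) * ((1 : K) : G) * (h : G)⁻¹ = ((1 : K) : G)
        rw [Subgroup.coe_one, mul_one, mul_inv_cancel]
      map_add' := fun m n => by
        apply Additive.toMul.injective
        refine Subtype.ext ?_
        show (h : G) * ((Additive.toMul m * Additive.toMul n : K) : G) * (h : G)⁻¹ =
          ((h : G) * ((Additive.toMul m : K) : G) * (h : G)⁻¹) *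
            ((h : G) * ((Additive.toMul n : K) : G) * (h : G)⁻¹)
        rw [Subgroup.coe_mul]
        group }
  have hconj : ∀ (h : H) m, pt (conj h m) = (h : G) • pt m := fun h m => by
    show ((h : G) * ((Additive.toMul m : K) : G) * (h : G)⁻¹) • b = (h : G) • _
    rw [mul_smul, mul_smul, inv_smul_eq_iff.mpr h.2.2.symm]
  have hHcomm : ∀ x ∈ Set.range conj, ∀ y ∈ Set.range conj, x * y = y * x := by
    rintro _ ⟨g, rfl⟩ _ ⟨h, rfl⟩
    refine AddMonoidHom.ext fun m => hpt_inj ?_
    show pt (conj g (conj h m)) = pt (conj h (conj g m))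
    rw [hconj, hconj, hconj, hconj]
    exact ((mul_smul (g : G) (h : G) (pt m)).symm.trans
      (congrArg (· • pt m) (hcomm _ _ g.2.1 g.2.2 h.2.1 h.2.2))).trans (mul_smul _ _ _)
  set R := Subring.closure (Set.range conj) with hR
  letI : CommRing R := Subring.closureCommRingOfComm hHcomm
  obtain ⟨one', hone⟩ := hpt_surj c hac.symm
  have htrH : ∀ m : M, m ≠ 0 → ∃ h : H, conj h one' = m := by
    intro m hm
    have hmb : pt m ≠ b := fun e => hm (hpt_inj (e.trans hpt0.symm))
    obtain ⟨g, hga, hgb, hgc⟩ := hS.1 a b c a b (pt m) hab hac hbc hab (hpt_a m).symm hmb.symm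
    refine ⟨⟨g, hga, hgb⟩, hpt_inj ?_⟩
    rw [hconj, hone, hgc]
  have hcommR : ∀ (r : R) (h : H) (m : M), (r : AddMonoid.End M) (conj h m) = conj h ((r : AddMonoid.End M) m) := by
    intro r h m
    have h1 := congrArg Subtype.val (mul_comm r (⟨conj h, Subring.subset_closure ⟨h, rfl⟩⟩ : R))
    exact DFunLike.congr_fun h1 m
  let ev : R → M := fun r => (r : AddMonoid.End M) one'
  have hevinj : Function.Injective ev := by
    intro r r' h
    refine Subtype.ext (AddMonoidHom.ext fun m => ?_)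
    by_cases hm : m = 0
    · subst hm
      exact ((r : AddMonoid.End M).map_zero).trans ((r' : AddMonoid.End M).map_zero).symm
    obtain ⟨g, rfl⟩ := htrH m hm
    exact (hcommR r g one').trans ((congrArg (conj g) h).trans (hcommR r' g one').symm)
  have hevsurj : Function.Surjective ev := by
    intro m
    by_cases hm : m = 0
    · exact ⟨0, hm.symm⟩
    obtain ⟨g, hg⟩ := htrH m hm
    exact ⟨⟨conj g, Subring.subset_closure ⟨g, rfl⟩⟩, hg⟩
  haveI : Finite R := Finite.of_injective ev hevinj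
  have hone0 : one' ≠ 0 := fun e => hbc ((hpt0.symm.trans (congrArg pt e.symm)).trans hone)
  have hfield : IsField R := by
    refine ⟨⟨0, 1, fun e => hone0 ?_⟩, fun x y => mul_comm x y, ?_⟩
    · exact (congrArg ev e).symm
    · intro r hr
      obtain ⟨g, hg⟩ := htrH (ev r) (fun h => hr (hevinj (h.trans rfl)))
      have hrg : r = ⟨conj g, Subring.subset_closure ⟨g, rfl⟩⟩ := hevinj hg.symm
      refine ⟨⟨conj g⁻¹, Subring.subset_closure ⟨g⁻¹, rfl⟩⟩, hevinj (hpt_inj ?_)⟩
      rw [hrg]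
      show pt (conj g (conj g⁻¹ one')) = pt one'
      rw [hconj, hconj, Subgroup.coe_inv, smul_inv_smul]
  have hcardR : Nat.card R = p ^ j := by
    cases nonempty_fintype α
    have e : R ≃ {x : α // x ≠ a} := Equiv.ofBijective (fun r => ⟨pt (ev r), hpt_a _⟩)
      ⟨fun r r' h => hevinj (hpt_inj (congrArg Subtype.val h)), fun x => by
        obtain ⟨m, hm⟩ := hpt_surj x.1 x.2
        obtain ⟨r, hr⟩ := hevsurj m
        exact ⟨r, Subtype.ext (by rw [← hm, ← hr])⟩⟩
    rw [Nat.card_congr e, Nat.card_eq_fintype_card, Fintype.card_subtype_compl, Fintype.card_subtype_eq,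
      ← Nat.card_eq_fintype_card, hα]
    omega
  letI : Field R := hfield.toField
  letI : Fintype (GaloisField p j) := Fintype.ofFinite _
  letI : Fintype R := Fintype.ofFinite _
  have hcF : Fintype.card (GaloisField p j) = Fintype.card R := by
    rw [← Nat.card_eq_fintype_card, ← Nat.card_eq_fintype_card, GaloisField.card p j (by omega), hcardR]
  let θ : GaloisField p j ≃+* R := FiniteField.ringEquivOfCardEq hcF
  let P : GaloisField p j → α := fun t => pt (ev (θ t))
  have hP1 : P 1 = c := by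
    show pt (ev (θ 1)) = c
    rw [map_one]
    exact hone
  have hP0 : P 0 = b := by
    show pt (ev (θ 0)) = b
    rw [map_zero]
    exact hpt0
  refine ⟨p, j, GaloisField p j, inferInstance, inferInstance, P, hp, hj, hα, ?_,
    fun t u h => θ.injective (hevinj (hpt_inj h)), fun t => hpt_a _, fun x hx => ?_, hP0, hP1,
    fun t => ?_, fun t ht => ?_⟩
  · rw [← Nat.card_eq_fintype_card, GaloisField.card p j (by omega)]
  · obtain ⟨m, hm⟩ := hpt_surj x hx
    obtain ⟨r, hr⟩ := hevsurj m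
    exact ⟨θ.symm r, by show pt (ev (θ (θ.symm r))) = x; rw [RingEquiv.apply_symm_apply, hr, hm]⟩
  · refine ⟨((Additive.toMul (ev (θ t)) : K) : G), hKa _ (Additive.toMul (ev (θ t))).2, fun u => ?_⟩
    show _ • pt (ev (θ u)) = pt (ev (θ (u + t)))
    rw [map_add, add_comm (θ u)]
    show _ = pt (ev (θ t) + ev (θ u))
    show _ • _ • b = (((Additive.toMul (ev (θ t)) * Additive.toMul (ev (θ u)) : K)) : G) • b
    rw [Subgroup.coe_mul, mul_smul]
  · obtain ⟨g, hg⟩ := htrH (ev (θ t)) (fun h => ht (θ.injective ((hevinj (h.trans rfl)).trans (map_zero θ).symm)))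
    have hrg : θ t = ⟨conj g, Subring.subset_closure ⟨g, rfl⟩⟩ := hevinj hg.symm
    refine ⟨(g : G), g.2.1, g.2.2, fun u => ?_⟩
    show _ • pt (ev (θ u)) = pt (ev (θ (t * u)))
    rw [← hconj, map_mul, hrg]
    rfl

/-- The main theorem. -/
theorem nonempty_pgl {G α : Type*} [Group G] [MulAction G α] [Finite α] [Finite G] [FaithfulSMul G α]
    (hS : IsSharpThree G α) (h4 : 4 ≤ Nat.card α) {a b c : α} (hab : a ≠ b) (hac : a ≠ c)
    (hbc : b ≠ c) (hcomm : ∀ g h : G, g • a = a → g • b = b → h • a = a → h • b = b → g * h = h * g)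
    {s : G} (hsa : s • a = b) (hsb : s • b = a) (hsc : s • c = c)
    (hinv : ∀ h : G, h • a = a → h • b = b → s * h * s⁻¹ = h⁻¹) :
    ∃ (F : Type) (_ : Field F) (_ : Fintype F), Nat.card α = Fintype.card F + 1 ∧
      Nonempty (G ≃* Matrix.ProjGenLinGroup (Fin 2) F) := by
  classical
  obtain ⟨p, j, F, _, _, P, -, -, hα, hF, hPinj, hPa, hPsurj, hP0, hP1, htrans, hmult⟩ :=
    exists_coordinates hS h4 hab hac hbc hcomm
  refine ⟨F, inferInstance, inferInstance, by rw [hF, hα], ?_⟩
  let ι : ℙ F (Fin 2 → F) → α := fun x =>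
    if h : ∃ t, x = linePt t then P h.choose else a
  have hιi : ι lineInf = a := dif_neg fun ⟨t, ht⟩ => lineInf_ne_linePt t ht
  have hιp : ∀ t, ι (linePt t) = P t := fun t => by
    have h : ∃ u, (linePt t : ℙ F (Fin 2 → F)) = linePt u := ⟨t, rfl⟩
    show dite _ _ _ = _
    rw [dif_pos h, ← linePt_inj h.choose_spec]
  have hιsurj : ∀ y, ∃ x, ι x = y := fun y => by
    by_cases hy : y = a
    · exact ⟨lineInf, hιi.trans hy.symm⟩
    · obtain ⟨t, ht⟩ := hPsurj y hy
      exact ⟨linePt t, (hιp t).trans ht⟩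
  have hιinj : Function.Injective ι := by
    intro x y h
    rcases line_cases x with rfl | ⟨t, rfl⟩ <;> rcases line_cases y with rfl | ⟨u, rfl⟩
    · rfl
    · rw [hιi, hιp] at h; exact absurd h.symm (hPa u)
    · rw [hιi, hιp] at h; exact absurd h (hPa t)
    · rw [hιp, hιp] at h; rw [hPinj h]
  let Comp : G → Matrix.ProjGenLinGroup (Fin 2) F → Prop := fun g u => ∀ x, g • ι x = ι (u • x)
  have hCmul : ∀ g h u v, Comp g u → Comp h v → Comp (g * h) (u * v) := fun g h u v hg hh x => by
    rw [mul_smul, mul_smul, hh, hg]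
  let S : Subgroup G :=
    { carrier := {g | ∃ u, Comp g u}
      one_mem' := ⟨1, fun x => by rw [one_smul, one_smul]⟩
      mul_mem' := fun {g h} ⟨u, hu⟩ ⟨v, hv⟩ => ⟨u * v, hCmul g h u v hu hv⟩
      inv_mem' := fun {g} ⟨u, hu⟩ => ⟨u⁻¹, fun x => by rw [inv_smul_eq_iff, hu, smul_inv_smul]⟩ }
  have hext : ∀ {g : G} {u : Matrix.ProjGenLinGroup (Fin 2) F}, g • a = ι (u • lineInf) →
      (∀ t, g • P t = ι (u • linePt t)) → g ∈ S := by
    intro g u h1 h2
    refine ⟨u, fun x => ?_⟩
    rcases line_cases x with rfl | ⟨t, rfl⟩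
    · rw [hιi]; exact h1
    · rw [hιp]; exact h2 t
  have hH : ∀ h : G, h • a = a → h • b = b → h ∈ S ∧
      ∀ t, h • c = P t → ∀ u, h • P u = P (t * u) := by
    intro h ha hb
    obtain ⟨t, ht⟩ := hPsurj (h • c) (fun e => hac.symm (MulAction.injective h (e.trans ha.symm)))
    have ht0 : t ≠ 0 := by
      rintro rfl
      rw [hP0] at ht
      exact hbc.symm (MulAction.injective h (ht.symm.trans hb.symm))
    obtain ⟨g, hga, hgb, hg⟩ := hmult t ht0
    have hgh : h = g := by
      have h1 := hS.2 (g⁻¹ * h) a b c hab hac hbc (by rw [mul_smul, ha, inv_smul_eq_iff, hga])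
        (by rw [mul_smul, hb, inv_smul_eq_iff, hgb])
        (by rw [mul_smul, ← ht, inv_smul_eq_iff, ← hP1, hg, mul_one])
      exact (inv_mul_eq_one.mp h1).symm
    refine ⟨hext (u := aff (Units.mk0 t ht0) 0) ?_ fun u => ?_, fun t' ht' u => ?_⟩
    · rw [aff_smul_inf, hιi, ha]
    · rw [aff_smul_pt, hιp, hgh, hg, Units.val_mk0, add_zero]
    · rw [hPinj (ht'.symm.trans ht.symm), hgh, hg]
  have hK : ∀ t, ∃ k ∈ S, k • a = a ∧ k • b = P t := by
    intro t
    obtain ⟨k, hka, hk⟩ := htrans t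
    refine ⟨k, hext (u := aff 1 t) ?_ fun u => ?_, hka, by rw [← hP0, hk, zero_add]⟩
    · rw [aff_smul_inf, hιi, hka]
    · rw [aff_smul_pt, hιp, hk, Units.val_one, one_mul]
  have hs : s ∈ S := by
    have hdet : (!![(0 : F), 1; 1, 0]).det ≠ 0 := by simp [Matrix.det_fin_two]
    refine hext (u := Matrix.ProjGenLinGroup.mk
      (Matrix.GeneralLinearGroup.mkOfDetNeZero !![(0 : F), 1; 1, 0] hdet)) ?_ fun t => ?_
    · rw [show Matrix.ProjGenLinGroup.mk (Matrix.GeneralLinearGroup.mkOfDetNeZero !![(0 : F), 1; 1, 0] hdet) •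
          (lineInf : ℙ F (Fin 2 → F)) = linePt 0 by
        rw [lineInf, linePt, Projectivization.PGL.mk_smul_mk, Projectivization.mk_eq_mk_iff']
        refine ⟨1, ?_⟩
        ext i
        fin_cases i <;> simp [Units.smul_def, Matrix.GeneralLinearGroup.mkOfDetNeZero,
          Matrix.smul_eq_mulVec, Matrix.mulVec, dotProduct, Fin.sum_univ_two], hιp, hP0, hsa]
    · by_cases ht : t = 0
      · subst ht
        rw [show Matrix.ProjGenLinGroup.mk (Matrix.GeneralLinearGroup.mkOfDetNeZero !![(0 : F), 1; 1, 0] hdet) •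
            (linePt 0 : ℙ F (Fin 2 → F)) = lineInf by
          rw [lineInf, linePt, Projectivization.PGL.mk_smul_mk, Projectivization.mk_eq_mk_iff']
          refine ⟨1, ?_⟩
          ext i
          fin_cases i <;> simp [Units.smul_def, Matrix.GeneralLinearGroup.mkOfDetNeZero,
            Matrix.smul_eq_mulVec, Matrix.mulVec, dotProduct, Fin.sum_univ_two], hιi, hP0, hsb]
      · rw [show Matrix.ProjGenLinGroup.mk (Matrix.GeneralLinearGroup.mkOfDetNeZero !![(0 : F), 1; 1, 0] hdet) •
            (linePt t : ℙ F (Fin 2 → F)) = linePt t⁻¹ by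
          rw [linePt, linePt, Projectivization.PGL.mk_smul_mk, Projectivization.mk_eq_mk_iff']
          refine ⟨t, ?_⟩
          ext i
          fin_cases i <;> simp [Units.smul_def, Matrix.GeneralLinearGroup.mkOfDetNeZero,
            Matrix.smul_eq_mulVec, Matrix.mulVec, dotProduct, Fin.sum_univ_two, ht], hιp]
        obtain ⟨h, hha, hhb, hh⟩ := hmult t ht
        obtain ⟨h', hha', hhb', hh'⟩ := hmult t⁻¹ (inv_ne_zero ht)
        have hhi : h⁻¹ = h' := by
          have h1 := hS.2 (h * h') a b c hab hac hbc (by rw [mul_smul, hha', hha])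
            (by rw [mul_smul, hhb', hhb])
            (by rw [mul_smul, ← hP1, hh', hh, mul_one, mul_inv_cancel₀ ht])
          exact inv_eq_of_mul_eq_one_right h1
        have e1 : P t = h • c := by rw [← hP1, hh, mul_one]
        have e2 : P t⁻¹ = h' • c := by rw [← hP1, hh', mul_one]
        rw [e1, e2, ← hhi, ← hinv h hha hhb, mul_smul, mul_smul, inv_smul_eq_iff.mpr hsc.symm]
  have hStop : ∀ g : G, g ∈ S := by
    have hfixa : ∀ g : G, g • a = a → g ∈ S := by
      intro g hg
      obtain ⟨t, ht⟩ := hPsurj (g • b) (fun e => hab.symm (MulAction.injective g (e.trans hg.symm)))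
      obtain ⟨k, hk, hka, hkb⟩ := hK t
      have h1 : k⁻¹ * g ∈ S := (hH _ (by rw [mul_smul, hg, inv_smul_eq_iff, hka])
        (by rw [mul_smul, ← ht, inv_smul_eq_iff, hkb])).1
      simpa using S.mul_mem hk h1
    intro g
    by_cases hg : g • a = a
    · exact hfixa g hg
    obtain ⟨t, ht⟩ := hPsurj (g • a) hg
    obtain ⟨k, hk, hka, hkb⟩ := hK t
    have h1 : (k * s)⁻¹ * g ∈ S := hfixa _ (by
      rw [mul_smul, inv_smul_eq_iff, mul_smul, hsa, hkb, ht])
    simpa [mul_assoc] using S.mul_mem (S.mul_mem hk hs) h1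
  obtain ⟨-, hpgl⟩ := CfsgLib.Classical.pgl_two_sharply_three_transitive (F := F)
  have h01 : (linePt 0 : ℙ F (Fin 2 → F)) ≠ linePt 1 := fun e => zero_ne_one (linePt_inj e)
  have huniq : ∀ g u v, Comp g u → Comp g v → u = v := by
    intro g u v hu hv
    have key : ∀ x : ℙ F (Fin 2 → F), (v⁻¹ * u) • x = x := fun x => by
      rw [mul_smul, inv_smul_eq_iff]; exact hιinj ((hu x).symm.trans (hv x))
    exact (inv_mul_eq_one.mp (hpgl _ lineInf (linePt 0) (linePt 1) (lineInf_ne_linePt 0)
      (lineInf_ne_linePt 1) h01 (key _) (key _) (key _))).symm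
  choose Φ hΦ using hStop
  have hΦmul : ∀ g h, Φ (g * h) = Φ g * Φ h := fun g h =>
    huniq _ _ _ (hΦ _) (hCmul g h _ _ (hΦ g) (hΦ h))
  refine ⟨MulEquiv.ofBijective (MonoidHom.mk' Φ hΦmul) ⟨fun g h (e : Φ g = Φ h) => ?_, fun u => ?_⟩⟩
  · refine eq_of_smul_eq_smul (α := α) fun y => ?_
    obtain ⟨x, rfl⟩ := hιsurj y
    rw [hΦ g x, hΦ h x, e]
  · obtain ⟨g, g1, g2, g3⟩ := hS.1 a b c (ι (u • lineInf)) (ι (u • linePt 0)) (ι (u • linePt 1)) hab hac hbc
      (fun e => lineInf_ne_linePt 0 (MulAction.injective u (hιinj e)))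
      (fun e => lineInf_ne_linePt 1 (MulAction.injective u (hιinj e)))
      (fun e => h01 (MulAction.injective u (hιinj e)))
    refine ⟨g, ?_⟩
    show Φ g = u
    have key : ∀ x, g • ι x = ι (u • x) → (u⁻¹ * Φ g) • x = x := fun x hx => by
      rw [mul_smul, inv_smul_eq_iff]; exact hιinj ((hΦ g x).symm.trans hx)
    exact (inv_mul_eq_one.mp (hpgl _ lineInf (linePt 0) (linePt 1) (lineInf_ne_linePt 0)
      (lineInf_ne_linePt 1) h01 (key _ (by rw [hιi, g1])) (key _ (by rw [hιp, hP0, g2]))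
      (key _ (by rw [hιp, hP1, g3])))).symm

end CfsgLib.SmallGroups.SharpThreeField
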