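import Mathlib

/-!
Abelian normal subgroups of linear groups regular on non-zero vectors.
-/

set_option autoImplicit false

namespace CfsgLib.SmallGroups.LinearRegular

variable {p : ℕ} [Fact p.Prime] {V : Type*} [AddCommGroup V] [Module (ZMod p) V] [Finite V]
  {H : Subgroup (V ≃ₗ[ZMod p] V)}

/-- Invariant subspaces of a subgroup. -/
def Inv (A : Subgroup H) (W : Submodule (ZMod p) V) : Prop :=
  ∀ a ∈ A, ∀ v ∈ W, ((a : H) : V ≃ₗ[ZMod p] V) v ∈ W

theorem eq_one_of_fix (hreg : ∀ v w : V, v ≠ 0 → w ≠ 0 → ∃! h : H, (h : V ≃ₗ[ZMod p] V) v = w)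
    {x : H} {v : V} (hv : v ≠ 0) (hx : (x : V ≃ₗ[ZMod p] V) v = v) : x = 1 :=
  (hreg v v hv hv).unique hx rfl

variable (hreg : ∀ v w : V, v ≠ 0 → w ≠ 0 → ∃! h : H, (h : V ≃ₗ[ZMod p] V) v = w)

include hreg

theorem card_add_one : Nat.card H + 1 = Nat.card V ∨ Subsingleton V := by
  classical
  rcases subsingleton_or_nontrivial V with h | h
  · exact Or.inr h
  · left
    obtain ⟨v, hv⟩ := exists_ne (0 : V)
    have e : H ≃ {w : V // w ≠ 0} := Equiv.ofBijective
      (fun x => ⟨(x : V ≃ₗ[ZMod p] V) v, fun h0 => hv ((x : V ≃ₗ[ZMod p] V).map_eq_zero_iff.mp h0)⟩)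
      ⟨fun x y hxy => (hreg v _ hv (fun h0 => hv ((y : V ≃ₗ[ZMod p] V).map_eq_zero_iff.mp h0))).unique
        (congrArg Subtype.val hxy) rfl, fun w => by
        obtain ⟨x, hx, -⟩ := hreg v w.1 hv w.2
        exact ⟨x, Subtype.ext hx⟩⟩
    cases nonempty_fintype V
    rw [Nat.card_congr e, Nat.card_eq_fintype_card, Nat.card_eq_fintype_card,
      Fintype.card_subtype_compl, Fintype.card_subtype_eq]
    have := Fintype.card_pos (α := V)
    omega

/-- A semiregular subgroup has order dividing the number of non-zero vectors of an invariant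
subspace. -/
theorem card_dvd (A : Subgroup H) (W : Submodule (ZMod p) V) (hW : Inv A W) :
    Nat.card A ∣ p ^ Module.finrank (ZMod p) W - 1 := by
  classical
  letI : MulAction A {w : W // w ≠ 0} :=
    { smul := fun a w => ⟨⟨((a : H) : V ≃ₗ[ZMod p] V) w.1.1, hW a a.2 _ w.1.2⟩,
        fun h => w.2 (Subtype.ext (((a : H) : V ≃ₗ[ZMod p] V).map_eq_zero_iff.mp
          (congrArg Subtype.val h)))⟩
      one_smul := fun w => Subtype.ext (Subtype.ext rfl)
      mul_smul := fun a b w => Subtype.ext (Subtype.ext rfl) }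
  have hfree : ∀ w : {w : W // w ≠ 0}, MulAction.stabilizer A w = ⊥ := fun w => by
    rw [eq_bot_iff]
    intro a ha
    refine Subgroup.mem_bot.mpr (Subtype.ext (eq_one_of_fix hreg (v := w.1.1) ?_ ?_))
    · exact fun h => w.2 (Subtype.ext h)
    · exact congrArg (fun z : {w : W // w ≠ 0} => (z.1 : V)) ha
  have h := Nat.card_congr (MulAction.selfEquivOrbitsQuotientProd hfree)
  rw [Nat.card_prod] at h
  cases nonempty_fintype W
  have h2 : Nat.card {w : W // w ≠ 0} = p ^ Module.finrank (ZMod p) W - 1 := by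
    rw [Nat.card_eq_fintype_card, Fintype.card_subtype_compl, Fintype.card_subtype_eq,
      ← Nat.card_eq_fintype_card, Module.natCard_eq_pow_finrank (K := ZMod p) (V := W), Nat.card_zmod]
  exact ⟨_, h2.symm.trans (h.trans (mul_comm _ _))⟩

/-- An abelian group acting freely with a minimal invariant subspace is cyclic. -/
theorem isCyclic_of_minimal (A : Subgroup H) (hAc : IsMulCommutative A) (W : Submodule (ZMod p) V)
    (hW0 : W ≠ ⊥) (hW : Inv A W)
    (hmin : ∀ W' : Submodule (ZMod p) V, W' ≤ W → Inv A W' → W' = ⊥ ∨ W' = W) : IsCyclic A := by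
  classical
  let ρ : A →* Module.End (ZMod p) W :=
    { toFun := fun a => ((((a : H) : V ≃ₗ[ZMod p] V)).toLinearMap).restrict (p := W) (q := W) (hW a a.2)
      map_one' := LinearMap.ext fun w => Subtype.ext rfl
      map_mul' := fun a b => LinearMap.ext fun w => Subtype.ext rfl }
  have hcomm : ∀ x ∈ Set.range ρ, ∀ y ∈ Set.range ρ, x * y = y * x := by
    rintro _ ⟨a, rfl⟩ _ ⟨b, rfl⟩
    rw [← map_mul, ← map_mul]
    exact congrArg ρ (hAc.is_comm.comm a b)
  set R := Algebra.adjoin (ZMod p) (Set.range ρ) with hR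
  haveI : IsMulCommutative R := Algebra.isMulCommutative_adjoin (ZMod p) hcomm
  letI : CommRing R := { (inferInstance : Ring R) with mul_comm := fun x y => (this.is_comm.comm x y) }
  haveI : Nontrivial W := Submodule.nontrivial_iff_ne_bot.mpr hW0
  haveI : Nontrivial R := ⟨⟨0, 1, fun h => zero_ne_one (α := Module.End (ZMod p) W) (congrArg Subtype.val h)⟩⟩
  haveI : NoZeroDivisors R := ⟨fun {r s} hrs => by
    by_contra hne
    push Not at hne
    apply hne.1
    set U : Submodule (ZMod p) V :=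
      (LinearMap.range (s : Module.End (ZMod p) W)).map W.subtype with hU
    have hUW : U ≤ W := Submodule.map_subtype_le W _
    have hUA : Inv A U := by
      rintro a ha _ ⟨_, ⟨w, rfl⟩, rfl⟩
      refine ⟨ρ ⟨a, ha⟩ ((s : Module.End (ZMod p) W) w), ⟨ρ ⟨a, ha⟩ w, ?_⟩, rfl⟩
      have h := Algebra.commute_of_mem_adjoin_of_forall_mem_commute s.2
        (a := ρ ⟨a, ha⟩) (fun y hy => hcomm _ ⟨_, rfl⟩ y hy)
      exact (LinearMap.congr_fun h.eq w).symm
    rcases hmin U hUW hUA with h | h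
    · refine absurd (Subtype.ext (LinearMap.ext fun w => Subtype.ext ?_)) hne.2
      have hm : ((s : Module.End (ZMod p) W) w : V) ∈ U := ⟨_, ⟨w, rfl⟩, rfl⟩
      rw [h, Submodule.mem_bot] at hm
      rw [hm]; rfl
    · refine Subtype.ext (LinearMap.ext fun w => ?_)
      have hw : (w : V) ∈ U := h.symm ▸ w.2
      obtain ⟨_, ⟨x, rfl⟩, hx⟩ := hw
      rw [show w = (s : Module.End (ZMod p) W) x from Subtype.ext hx.symm]
      have := LinearMap.congr_fun (congrArg Subtype.val hrs) x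
      simpa using this⟩
  haveI : IsDomain R := NoZeroDivisors.to_isDomain R
  haveI : Finite (V ≃ₗ[ZMod p] V) := Finite.of_injective _ DFunLike.coe_injective
  refine isCyclic_of_injective_ringHom (R := R)
    (ρ.codRestrict R.toSubmonoid fun a => Algebra.subset_adjoin ⟨a, rfl⟩) fun a b hab => ?_
  obtain ⟨w, hw, hw0⟩ := Submodule.exists_mem_ne_zero_of_ne_bot hW0
  have hab' : ρ a = ρ b := congrArg Subtype.val hab
  have h1 : ((a : H) : V ≃ₗ[ZMod p] V) w = ((b : H) : V ≃ₗ[ZMod p] V) w :=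
    congrArg Subtype.val (LinearMap.congr_fun hab' ⟨w, hw⟩)
  exact Subtype.ext ((hreg w _ hw0 (fun h0 => hw0 (((b : H) : V ≃ₗ[ZMod p] V).map_eq_zero_iff.mp
    h0))).unique h1 rfl)

omit hreg in
/-- A proper invariant subspace with minimality. -/
theorem exists_minimal (A : Subgroup H)
    (h : ∃ W : Submodule (ZMod p) V, W ≠ ⊥ ∧ W ≠ ⊤ ∧ Inv A W) :
    ∃ W : Submodule (ZMod p) V, W ≠ ⊥ ∧ W ≠ ⊤ ∧ Inv A W ∧
      ∀ W' : Submodule (ZMod p) V, W' ≤ W → Inv A W' → W' = ⊥ ∨ W' = W := by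
  obtain ⟨W₀, hW₀, hW₀t, hW₀A⟩ := h
  obtain ⟨W, hW, hmin⟩ := wellFounded_lt.has_min
    {W : Submodule (ZMod p) V | W ≤ W₀ ∧ W ≠ ⊥ ∧ Inv A W} ⟨W₀, le_rfl, hW₀, hW₀A⟩
  refine ⟨W, hW.2.1, fun e => hW₀t (top_le_iff.mp (e ▸ hW.1)), hW.2.2, fun W' hle hA => ?_⟩
  by_cases h0 : W' = ⊥
  · exact Or.inl h0
  · exact Or.inr ((eq_or_lt_of_le hle).resolve_right fun hlt =>
      hmin W' ⟨hle.trans hW.1, h0, hA⟩ hlt)

/-- A minimal invariant proper subspace of a normal subgroup has at most half the dimension. -/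
theorem two_mul_finrank_le (A : Subgroup H) (hAn : A.Normal) (W : Submodule (ZMod p) V)
    (hW0 : W ≠ ⊥) (hWt : W ≠ ⊤) (hWA : Inv A W)
    (hmin : ∀ W' : Submodule (ZMod p) V, W' ≤ W → Inv A W' → W' = ⊥ ∨ W' = W) :
    2 * Module.finrank (ZMod p) W ≤ Module.finrank (ZMod p) V := by
  obtain ⟨w, hw, hw0⟩ := Submodule.exists_mem_ne_zero_of_ne_bot hW0
  obtain ⟨v, hv⟩ : ∃ v, v ∉ W := by
    by_contra h
    push Not at h
    exact hWt (eq_top_iff.mpr fun v _ => h v)
  obtain ⟨g, hg, -⟩ := hreg w v hw0 (fun h => hv (h ▸ W.zero_mem))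
  set W' := W.map ((g : V ≃ₗ[ZMod p] V) : V →ₗ[ZMod p] V) with hW'
  have hW'A : Inv A W' := by
    rintro a ha _ ⟨x, hx, rfl⟩
    have hmem : g⁻¹ * a * g ∈ A := by simpa using hAn.conj_mem a ha g⁻¹
    refine ⟨_, hWA _ hmem x hx, ?_⟩
    show (g : V ≃ₗ[ZMod p] V) (((g⁻¹ * a * g : H) : V ≃ₗ[ZMod p] V) x) =
      ((a : H) : V ≃ₗ[ZMod p] V) ((g : V ≃ₗ[ZMod p] V) x)
    rw [← LinearEquiv.mul_apply, ← LinearEquiv.mul_apply, ← Subgroup.coe_mul, ← Subgroup.coe_mul,
      show g * (g⁻¹ * a * g) = a * g by group]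
  have hfr : Module.finrank (ZMod p) W' = Module.finrank (ZMod p) W :=
    LinearEquiv.finrank_map_eq (g : V ≃ₗ[ZMod p] V) W
  have hinf : W ⊓ W' = ⊥ := by
    rcases hmin (W ⊓ W') inf_le_left (fun a ha x hx => ⟨hWA a ha x hx.1, hW'A a ha x hx.2⟩) with
      h | h
    · exact h
    · exact absurd ((Submodule.eq_of_le_of_finrank_le (inf_eq_left.mp h) hfr.le).symm ▸
        (⟨w, hw, hg⟩ : v ∈ W')) hv
  have h2k := Submodule.finrank_sup_add_finrank_inf_eq W W'
  rw [hinf, finrank_bot, hfr, add_zero] at h2k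
  have hlek := Submodule.finrank_le (W ⊔ W')
  omega

/-- The orders of reducible normal subgroups divide `p ^ k - 1` for some `2 k ≤ dim V`. -/
theorem exists_small_dvd (A : Subgroup H) (hAn : A.Normal)
    (h : ∃ W : Submodule (ZMod p) V, W ≠ ⊥ ∧ W ≠ ⊤ ∧ Inv A W) :
    ∃ k, 1 ≤ k ∧ 2 * k ≤ Module.finrank (ZMod p) V ∧ Nat.card A ∣ p ^ k - 1 := by
  obtain ⟨W, hW0, hWt, hWA, hmin⟩ := exists_minimal A h
  refine ⟨Module.finrank (ZMod p) W, ?_, two_mul_finrank_le hreg A hAn W hW0 hWt hWA hmin,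
    card_dvd hreg A W hWA⟩
  by_contra hk
  exact hW0 (Submodule.finrank_eq_zero.mp (by omega))

/-- An involution of a regular linear group is negation. -/
theorem involution_eq_neg {z : H} (hz : z * z = 1) (hz1 : z ≠ 1) (v : V) :
    (z : V ≃ₗ[ZMod p] V) v = -v := by
  have hfix : (z : V ≃ₗ[ZMod p] V) (v + (z : V ≃ₗ[ZMod p] V) v) = v + (z : V ≃ₗ[ZMod p] V) v := by
    rw [map_add, ← LinearEquiv.mul_apply, ← Subgroup.coe_mul, hz, Subgroup.coe_one,
      LinearEquiv.one_eq_refl, LinearEquiv.refl_apply, add_comm]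
  have h0 : v + (z : V ≃ₗ[ZMod p] V) v = 0 := by
    by_contra h
    exact hz1 (eq_one_of_fix hreg h hfix)
  exact eq_neg_of_add_eq_zero_right h0

end CfsgLib.SmallGroups.LinearRegular
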