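import Cfsg.Agent.Lib.SmallGroups.LinearRegular
import Cfsg.Agent.S0688
import Cfsg.Agent.S0689
import Mathlib

/-!
A linear group regular on non-zero vectors, of even order and with at most one subgroup of order
three, has a subgroup of index two.
-/

set_option autoImplicit false

namespace CfsgLib.SmallGroups.SharpThreeIndexTwo

/-- A normal subgroup whose index is a proper power of two lies in a subgroup of index two. -/
theorem exists_index_two_of_two_power {H : Type*} [Group H] [Finite H] (N : Subgroup H) [N.Normal]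
    {k : ℕ} (hk : 1 ≤ k) (hN : N.index = 2 ^ k) : ∃ M : Subgroup H, M.index = 2 := by
  haveI := Fact.mk Nat.prime_two
  have hQ : Nat.card (H ⧸ N) = 2 ^ k := hN
  obtain ⟨U, hU⟩ := Sylow.exists_subgroup_card_pow_prime (G := H ⧸ N) 2 (n := k - 1)
    (by rw [hQ]; exact pow_dvd_pow 2 (Nat.sub_le k 1))
  refine ⟨U.comap (QuotientGroup.mk' N), ?_⟩
  rw [Subgroup.index_comap_of_surjective U (QuotientGroup.mk'_surjective N)]
  have h := Subgroup.card_mul_index U
  rw [hU, hQ, show 2 ^ k = 2 ^ (k - 1) * 2 by rw [← pow_succ, Nat.sub_add_cancel hk]] at h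
  exact Nat.eq_of_mul_eq_mul_left (pow_pos two_pos _) h

/-- An abelian quotient of even order gives a subgroup of index two. -/
theorem exists_index_two_of_comm {H : Type*} [Group H] [Finite H] (N : Subgroup H) [N.Normal]
    (hc : ∀ x y : H ⧸ N, x * y = y * x) (heven : 2 ∣ N.index) : ∃ M : Subgroup H, M.index = 2 := by
  haveI := Fact.mk Nat.prime_two
  letI : CommGroup (H ⧸ N) := { (inferInstance : Group (H ⧸ N)) with mul_comm := hc }
  let f : (H ⧸ N) →* (H ⧸ N) := powMonoidHom 2
  have hR2 : IsPGroup 2 ((H ⧸ N) ⧸ f.range) := fun q => ⟨1, by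
    induction q using QuotientGroup.induction_on with | H x =>
    rw [pow_one, ← QuotientGroup.mk_pow, QuotientGroup.eq_one_iff]
    exact ⟨x, rfl⟩⟩
  obtain ⟨k, hk⟩ := hR2.exists_card_eq
  have hk1 : 1 ≤ k := by
    rcases Nat.eq_zero_or_pos k with h | h
    · exfalso
      subst h
      have htop : f.range = ⊤ := Subgroup.index_eq_one.mp (by rw [Subgroup.index, hk, pow_zero])
      obtain ⟨x, hx⟩ := exists_prime_orderOf_dvd_card' (G := H ⧸ N) 2 heven
      have hsurj : Function.Surjective f := MonoidHom.range_eq_top.mp htop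
      have h1 : f x = f 1 := by
        show x ^ 2 = 1 ^ 2
        rw [one_pow, ← hx, pow_orderOf_eq_one]
      rw [Finite.injective_iff_surjective.mpr hsurj h1, orderOf_one] at hx
      omega
    · exact h
  refine exists_index_two_of_two_power (f.range.comap (QuotientGroup.mk' N)) hk1 ?_
  rw [Subgroup.index_comap_of_surjective _ (QuotientGroup.mk'_surjective N), Subgroup.index, hk]

/-- Cyclic Sylow `2`-subgroups give a subgroup of index two. -/
theorem exists_index_two_of_cyclic_sylow {H : Type*} [Group H] [Finite H] (h2 : 2 ∣ Nat.card H)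
    (P : Sylow 2 H) (hP : IsCyclic P) : ∃ M : Subgroup H, M.index = 2 := by
  haveI := Fact.mk Nat.prime_two
  have hmin : (Nat.card H).minFac = 2 := (Nat.minFac_eq_two_iff _).mpr h2
  obtain ⟨N, hN, hc⟩ : ∃ N : Subgroup H, N.Normal ∧ Subgroup.IsComplement' N (P : Subgroup H) := by
    obtain hc := IsCyclic.isComplement' hmin hP
    exact ⟨_, MonoidHom.normal_ker _, hc⟩
  haveI := hN
  refine exists_index_two_of_two_power N (k := (Nat.card H).factorization 2)
    (Nat.prime_two.factorization_pos_of_dvd Nat.card_pos.ne' h2) ?_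
  rw [hc.symm.index_eq_card, P.card_eq_multiplicity]

/-- A group of order `2 ^ i * r`, with a normal subgroup `A` of order three and `r` prime. -/
theorem exists_index_two_of_small {H : Type*} [Group H] [Finite H] (A : Subgroup H) [A.Normal]
    (hA : Nat.card A = 3)
    (h : Nat.card H = 24 ∨ Nat.card H = 48 ∨ Nat.card H = 120 ∨ Nat.card H = 528) :
    ∃ M : Subgroup H, M.index = 2 := by
  have hi : 3 * A.index = Nat.card H := hA ▸ A.card_mul_index
  have key : ∀ (r : ℕ), r.Prime → r ≠ 2 → ∀ j, A.index = 2 ^ j * r → 1 ≤ j →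
      (∀ n, n ∣ 2 ^ j * r → n % r = 1 → n = 1) → ∃ M : Subgroup H, M.index = 2 := by
    intro r hr hr2 j hj hj1 hn
    haveI := Fact.mk hr
    let R : Sylow r (H ⧸ A) := default
    have hRn : (R : Subgroup (H ⧸ A)).Normal := by
      haveI : Subsingleton (Sylow r (H ⧸ A)) := by
        refine (Nat.card_eq_one_iff_unique.mp (hn _ ?_ ?_)).1
        · rw [← hj]
          exact R.card_dvd_index.trans (Subgroup.index_dvd_card _)
        · have := card_sylow_modEq_one r (H ⧸ A)
          rw [Nat.ModEq, Nat.one_mod_eq_one.mpr hr.ne_one] at this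
          exact this
      exact Sylow.normal_of_subsingleton R
    haveI := hRn
    refine exists_index_two_of_two_power ((R : Subgroup (H ⧸ A)).comap (QuotientGroup.mk' A)) hj1 ?_
    rw [Subgroup.index_comap_of_surjective _ (QuotientGroup.mk'_surjective A)]
    have h1 := (R : Subgroup (H ⧸ A)).card_mul_index
    have hcard : Nat.card (R : Subgroup (H ⧸ A)) = r := by
      rw [R.card_eq_multiplicity, show Nat.card (H ⧸ A) = 2 ^ j * r from hj,
        Nat.factorization_mul (by positivity) hr.ne_zero, Finsupp.add_apply,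
        Nat.prime_two.factorization_pow, hr.factorization_self, Finsupp.single_eq_of_ne hr2,
        zero_add, pow_one]
    rw [hcard, show Nat.card (H ⧸ A) = 2 ^ j * r from hj, mul_comm r] at h1
    exact Nat.eq_of_mul_eq_mul_right hr.pos h1
  rcases h with h | h | h | h <;> rw [h] at hi
  · exact exists_index_two_of_two_power A (k := 3) (by norm_num) (by omega)
  · exact exists_index_two_of_two_power A (k := 4) (by norm_num) (by omega)
  · refine key 5 Nat.prime_five (by norm_num) 3 (by omega) (by norm_num) fun n hn hn1 => ?_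
    have := Nat.le_of_dvd (by norm_num) hn
    norm_num at hn this
    interval_cases n <;> first | rfl | omega
  · refine key 11 (by norm_num) (by norm_num) 4 (by omega) (by norm_num) fun n hn hn1 => ?_
    have := Nat.le_of_dvd (by norm_num) hn
    norm_num at hn this
    interval_cases n <;> first | rfl | omega

set_option maxRecDepth 4000 in
/-- `SL(2,5)` has two subgroups of order three. -/
theorem sl25_two_subgroups :
    ∃ u w : Matrix.SpecialLinearGroup (Fin 2) (ZMod 5), orderOf u = 3 ∧ orderOf w = 3 ∧
      w ≠ 1 ∧ w ≠ u ∧ w ≠ u ^ 2 := by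
  haveI := Fact.mk Nat.prime_three
  refine ⟨⟨!![0, -1; 1, -1], by decide⟩, ⟨!![0, 1; -1, -1], by decide⟩,
    orderOf_eq_prime (Subtype.ext (by decide)) fun h => absurd (congrArg Subtype.val h) (by decide),
    orderOf_eq_prime (Subtype.ext (by decide)) fun h => absurd (congrArg Subtype.val h) (by decide),
    fun h => absurd (congrArg Subtype.val h) (by decide),
    fun h => absurd (congrArg Subtype.val h) (by decide),
    fun h => absurd (congrArg Subtype.val h) (by decide)⟩

variable {p : ℕ} [Fact p.Prime] {V : Type*} [AddCommGroup V] [Module (ZMod p) V] [Finite V]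

/-- The main statement. -/
theorem exists_index_two (H : Subgroup (V ≃ₗ[ZMod p] V))
    (hreg : ∀ v w : V, v ≠ 0 → w ≠ 0 → ∃! h : H, (h : V ≃ₗ[ZMod p] V) v = w)
    (heven : 2 ∣ Nat.card H)
    (h3 : ∀ A B : Subgroup H, Nat.card A = 3 → Nat.card B = 3 → A = B) :
    ∃ M : Subgroup H, M.index = 2 := by
  classical
  haveI : Finite (V ≃ₗ[ZMod p] V) := Finite.of_injective _ DFunLike.coe_injective
  haveI := Fact.mk Nat.prime_two
  haveI := Fact.mk Nat.prime_three
  by_cases hI : ∀ A : Subgroup H, A.Normal → IsCyclic A → ∃ W : Submodule (ZMod p) V,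
      W ≠ ⊥ ∧ W ≠ ⊤ ∧ ∀ a ∈ A, ∀ v ∈ W, ((a : H) : V ≃ₗ[ZMod p] V) v ∈ W
  · by_cases hsolv : Group.IsSolvable H
    · have hV := Cfsg.Agent.S0688.result H hreg hI hsolv
      have hcard : Nat.card H + 1 = Nat.card V := by
        rcases LinearRegular.card_add_one hreg with h | h
        · exact h
        · have h1 : Nat.card V = 1 := Nat.card_eq_one_iff_unique.mpr ⟨h, inferInstance⟩
          omega
      have h3H : 3 ∣ Nat.card H := by
        rcases hV with h | h | h | h <;> rw [h] at hcard <;> omega
      obtain ⟨x, hx⟩ := exists_prime_orderOf_dvd_card' (G := H) 3 h3H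
      have hA : Nat.card (Subgroup.zpowers x) = 3 := by rw [Nat.card_zpowers, hx]
      haveI : (Subgroup.zpowers x).Normal := ⟨fun n hn g => by
        have h := h3 ((Subgroup.zpowers x).map (MulAut.conj g).toMonoidHom) (Subgroup.zpowers x)
          (by rw [Subgroup.card_map_of_injective (fun u v h => (MulAut.conj g).injective h), hA]) hA
        exact h.le (Subgroup.mem_map_of_mem _ hn)⟩
      exact exists_index_two_of_small (Subgroup.zpowers x) hA (by omega)
    · exfalso
      obtain ⟨u, w, hu, hw, hw1, hwu, hwu2⟩ := sl25_two_subgroups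
      have key : ∀ f : Matrix.SpecialLinearGroup (Fin 2) (ZMod 5) →* H, Function.Injective f →
          False := by
        intro f hf
        have h := h3 (Subgroup.zpowers (f u)) (Subgroup.zpowers (f w))
          (by rw [Nat.card_zpowers, orderOf_injective f hf, hu])
          (by rw [Nat.card_zpowers, orderOf_injective f hf, hw])
        obtain ⟨i, hi⟩ : ∃ i : ℕ, f u ^ i = f w :=
          mem_powers_iff_mem_zpowers.mpr (h.ge (Subgroup.mem_zpowers _))
        rw [← map_pow] at hi
        have hi' := hf hi
        rw [← pow_mod_orderOf, hu] at hi'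
        have hlt := Nat.mod_lt i (by norm_num : 3 > 0)
        interval_cases hm : i % 3
        · exact hw1 (by rw [← hi', pow_zero])
        · exact hwu (by rw [← hi', pow_one])
        · exact hwu2 hi'.symm
      rcases Cfsg.Agent.S0689.result H hreg hsolv with ⟨-, ⟨e⟩⟩ | ⟨-, ⟨e⟩⟩ | ⟨-, ⟨e⟩⟩
      · exact key e.symm.toMonoidHom e.symm.injective
      · exact key (e.symm.toMonoidHom.comp (MonoidHom.inl _ _))
          (e.symm.injective.comp fun a b h => congrArg Prod.fst h)
      · exact key (e.symm.toMonoidHom.comp (MonoidHom.inl _ _))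
          (e.symm.injective.comp fun a b h => congrArg Prod.fst h)
  · push Not at hI
    obtain ⟨A, hAn, hAc, hAirr⟩ := hI
    haveI := hAn
    set C := Subgroup.centralizer (A : Set H) with hC
    haveI hCn : C.Normal := Subgroup.normal_centralizer
    rcases subsingleton_or_nontrivial V with hV | hV
    · exfalso
      have h1 : Nat.card H = 1 := Nat.card_eq_one_iff_unique.mpr
        ⟨⟨fun x y => Subtype.ext (LinearEquiv.ext fun v => Subsingleton.elim _ _)⟩, inferInstance⟩
      omega
    letI := hAc.commGroup
    have hAmin : ∀ W' : Submodule (ZMod p) V, W' ≤ ⊤ → LinearRegular.Inv A W' → W' = ⊥ ∨ W' = ⊤ := by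
      intro W' _ hW'
      by_contra hne
      push Not at hne
      obtain ⟨a, ha, v, hv, hav⟩ := hAirr W' hne.1 hne.2
      exact hav (hW' a ha v hv)
    have hCcomm : ∀ x ∈ C, ∀ y ∈ C, x * y = y * x := by
      have hAE : IsMulCommutative A := ⟨⟨mul_comm⟩⟩
      let ρ : H →* Module.End (ZMod p) V :=
        { toFun := fun x => ((x : V ≃ₗ[ZMod p] V)).toLinearMap
          map_one' := LinearMap.ext fun v => rfl
          map_mul' := fun x y => LinearMap.ext fun v => rfl }
      have hinj : Function.Injective ρ := fun x y h =>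
        Subtype.ext (LinearEquiv.toLinearMap_injective h)
      let S : Subalgebra (ZMod p) (Module.End (ZMod p) V) :=
        Subalgebra.centralizer (ZMod p) (ρ '' (A : Set H))
      haveI : Nontrivial S := ⟨⟨0, 1, fun h => zero_ne_one (α := Module.End (ZMod p) V)
        (congrArg Subtype.val h)⟩⟩
      haveI : Finite (Module.End (ZMod p) V) := Finite.of_injective _ DFunLike.coe_injective
      haveI : NoZeroDivisors S := ⟨fun {r r'} h => by
        by_contra hne
        push Not at hne
        have hker : LinearMap.ker (r : Module.End (ZMod p) V) = ⊥ := by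
          refine (hAmin _ le_top ?_).resolve_right fun ht => hne.1 (Subtype.ext ?_)
          · intro a ha v hv
            show (r : Module.End (ZMod p) V) ((ρ a) v) = 0
            have hc := LinearMap.congr_fun (r.2 (ρ a) ⟨a, ha, rfl⟩) v
            simp only [Module.End.mul_apply] at hc
            rw [← hc, show (r : Module.End (ZMod p) V) v = 0 from hv, map_zero]
          · exact LinearMap.ker_eq_top.mp ht
        refine hne.2 (Subtype.ext (LinearMap.ext fun v => ?_))
        have h1 : (r' : Module.End (ZMod p) V) v ∈ LinearMap.ker (r : Module.End (ZMod p) V) :=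
          LinearMap.congr_fun (congrArg Subtype.val h) v
        rw [hker, Submodule.mem_bot] at h1
        exact h1⟩
      haveI : IsDomain S := NoZeroDivisors.to_isDomain S
      have hmemS : ∀ x ∈ C, ρ x ∈ S := fun x hx => by
        rintro _ ⟨a, ha, rfl⟩
        rw [← map_mul, ← map_mul, Subgroup.mem_centralizer_iff.mp hx a ha]
      intro x hx y hy
      refine hinj ?_
      rw [map_mul, map_mul]
      exact congrArg Subtype.val ((Finite.isDomain_to_isField S).mul_comm ⟨ρ x, hmemS x hx⟩ ⟨ρ y, hmemS y hy⟩)
    have hCcyc : IsCyclic C := by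
      have hle : A ≤ C := fun a ha => Subgroup.mem_centralizer_iff.mpr fun b hb =>
        congrArg Subtype.val (mul_comm (⟨b, hb⟩ : A) ⟨a, ha⟩)
      exact LinearRegular.isCyclic_of_minimal hreg C ⟨⟨fun x y => Subtype.ext (hCcomm x x.2 y y.2)⟩⟩
        ⊤ top_ne_bot (fun _ _ _ _ => Submodule.mem_top)
        fun W' hW' hinv => hAmin W' hW' fun a ha => hinv a (hle ha)
    have hquot : ∀ x y : H ⧸ C, x * y = y * x := by
      intro q r
      induction q using QuotientGroup.induction_on with | H x =>
      induction r using QuotientGroup.induction_on with | H y =>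
      rw [← QuotientGroup.mk_mul, ← QuotientGroup.mk_mul, QuotientGroup.eq,
        Subgroup.mem_centralizer_iff]
      intro a ha
      obtain ⟨m, hm⟩ := (MulAut.conjNormal (H := A) x).toMonoidHom.map_cyclic
      obtain ⟨n, hn⟩ := (MulAut.conjNormal (H := A) y).toMonoidHom.map_cyclic
      have h1 : MulAut.conjNormal (H := A) (x * y) ⟨a, ha⟩ =
          MulAut.conjNormal (H := A) (y * x) ⟨a, ha⟩ := by
        have hm' : ∀ g : A, MulAut.conjNormal x g = g ^ m := hm
        have hn' : ∀ g : A, MulAut.conjNormal y g = g ^ n := hn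
        rw [map_mul, map_mul, MulAut.mul_apply, MulAut.mul_apply, hn', hm', hm', hn', ← zpow_mul,
          ← zpow_mul, mul_comm m n]
      have h2 := congrArg Subtype.val h1
      rw [MulAut.conjNormal_apply, MulAut.conjNormal_apply] at h2
      replace h2 : x * y * a * (x * y)⁻¹ = y * x * a * (y * x)⁻¹ := h2
      calc a * ((x * y)⁻¹ * (y * x))
          = (x * y)⁻¹ * (x * y * a * (x * y)⁻¹) * (y * x) := by group
        _ = (x * y)⁻¹ * (y * x * a * (y * x)⁻¹) * (y * x) := by rw [h2]
        _ = (x * y)⁻¹ * (y * x) * a := by group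
    by_cases h2C : 2 ∣ C.index
    · exact exists_index_two_of_comm C hquot h2C
    · let P : Sylow 2 H := default
      have hPC : (P : Subgroup H) ≤ C := by
        intro x hx
        have h1 : orderOf (x : H ⧸ C) ∣ C.index := orderOf_dvd_natCard _
        obtain ⟨k, hk⟩ := P.2 ⟨x, hx⟩
        have h2 : orderOf (x : H ⧸ C) ∣ 2 ^ k := orderOf_dvd_of_pow_eq_one (by
          rw [← QuotientGroup.mk_pow, show x ^ 2 ^ k = 1 from congrArg Subtype.val hk]; rfl)
        obtain ⟨i, -, hi⟩ := (Nat.dvd_prime_pow Nat.prime_two).mp h2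
        rw [← QuotientGroup.eq_one_iff, ← orderOf_eq_one_iff, hi]
        rcases Nat.eq_zero_or_pos i with h0 | h0
        · rw [h0, pow_zero]
        · exact absurd ((dvd_pow_self 2 h0.ne').trans (hi ▸ h1)) h2C
      exact exists_index_two_of_cyclic_sylow heven P
        (isCyclic_of_injective (Subgroup.inclusion hPC) (Subgroup.inclusion_injective hPC))

end CfsgLib.SmallGroups.SharpThreeIndexTwo
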