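import Mathlib

/-!
Finite sharply doubly transitive groups: the fixed-point-free elements together with the identity
form a normal, regular, elementary abelian subgroup (no use of Frobenius' theorem).
-/

set_option autoImplicit false

namespace CfsgLib.SmallGroups.SharplyTwoTransitive

open MulAction Function

variable {G α : Type*} [Group G] [MulAction G α] [Finite α] [Finite G]

/-- The hypothesis: doubly transitive and only the identity fixes two points. -/
def IsSharp (G α : Type*) [Group G] [MulAction G α] : Prop :=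
  IsMultiplyPretransitive G α 2 ∧ ∀ (g : G) (a b : α), a ≠ b → g • a = a → g • b = b → g = 1

theorem isSharp_of_stabilizer [IsMultiplyPretransitive G α 2]
    (h : ∀ x : Fin 2 ↪ α, stabilizer G x = ⊥) : IsSharp G α := by
  refine ⟨inferInstance, fun g a b hab ha hb => ?_⟩
  have hinj : Injective ![a, b] := by
    intro i j e
    fin_cases i <;> fin_cases j <;> simp at e ⊢ <;> first | exact hab e | exact hab e.symm
  have hg : g ∈ stabilizer G (⟨_, hinj⟩ : Fin 2 ↪ α) := by
    rw [mem_stabilizer_iff]
    ext i
    fin_cases i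
    · exact ha
    · exact hb
  rwa [h, Subgroup.mem_bot] at hg

theorem card_group (hS : IsSharp G α) (h2 : 2 ≤ Nat.card α) :
    Nat.card G = Nat.card α * (Nat.card α - 1) := by
  obtain ⟨ht, hsh⟩ := hS
  cases nonempty_fintype α
  obtain ⟨x⟩ := Embedding.nonempty_of_card_le (α := Fin 2) (β := α) (by
    rw [Fintype.card_fin, ← Nat.card_eq_fintype_card]; exact h2)
  have hbij : Bijective fun g : G => g • x := by
    refine ⟨fun g g' h => ?_, fun y => exists_smul_eq G x y⟩
    have h0 : ∀ i, g • x i = g' • x i := fun i => DFunLike.congr_fun h i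
    have : g'⁻¹ * g = 1 := hsh _ (x 0) (x 1) (fun e => absurd (x.injective e) (by decide))
      (by rw [mul_smul, h0, inv_smul_smul]) (by rw [mul_smul, h0, inv_smul_smul])
    exact (inv_mul_eq_one.mp this).symm
  classical
  rw [Nat.card_eq_of_bijective _ hbij, Nat.card_eq_fintype_card, Fintype.card_embedding_eq,
    Fintype.card_fin, ← Nat.card_eq_fintype_card, Nat.descFactorial_succ,
    Nat.descFactorial_one, mul_comm]

theorem card_stabilizer (hS : IsSharp G α) (h2 : 2 ≤ Nat.card α) (a : α) :
    Nat.card (stabilizer G a) = Nat.card α - 1 := by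
  haveI := hS.1
  haveI : IsPretransitive G α := isPretransitive_of_is_two_pretransitive
  have h := Subgroup.card_mul_index (stabilizer G a)
  rw [index_stabilizer_of_transitive, card_group hS h2, mul_comm] at h
  exact Nat.eq_of_mul_eq_mul_left (by omega) h

theorem card_fixedPointFree (hS : IsSharp G α) (h2 : 2 ≤ Nat.card α) :
    Nat.card {g : G // ∀ a : α, g • a ≠ a} = Nat.card α - 1 := by
  classical
  cases nonempty_fintype α
  cases nonempty_fintype G
  set U : α → Finset G := fun a => Finset.univ.filter fun g => g • a = a ∧ g ≠ 1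
  have hU : ∀ a, (U a).card = Nat.card α - 2 := by
    intro a
    have h1 := card_stabilizer hS h2 a
    have h2' : U a = (Finset.univ.filter fun g : G => g • a = a).erase 1 := by
      ext g; simp [U, and_comm]
    have h4 : Nat.card (stabilizer G a) = (Finset.univ.filter fun g : G => g • a = a).card := by
      rw [Nat.card_eq_fintype_card]
      exact Fintype.card_of_subtype _ (fun g => by simp [mem_stabilizer_iff])
    rw [h2', Finset.card_erase_of_mem (by simp), ← h4, h1]
    omega
  have hdis : Set.PairwiseDisjoint ((Finset.univ : Finset α) : Set α) U := by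
    intro a _ b _ hab
    rw [Function.onFun, Finset.disjoint_left]
    intro g ha hb
    simp only [U, Finset.mem_filter] at ha hb
    exact ha.2.2 (hS.2 g a b hab ha.2.1 hb.2.1)
  have hcard : (Finset.univ.biUnion U).card = Nat.card α * (Nat.card α - 2) := by
    rw [Finset.card_biUnion hdis, Finset.sum_congr rfl fun a _ => hU a, Finset.sum_const,
      Finset.card_univ, ← Nat.card_eq_fintype_card, smul_eq_mul]
  have hcompl : (Finset.univ.filter fun g : G => ∀ a : α, g • a ≠ a) =
      (Finset.univ.biUnion U ∪ {1})ᶜ := by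
    haveI : Nonempty α := Fintype.card_pos_iff.mp (by rw [← Nat.card_eq_fintype_card]; omega)
    ext g
    simp only [U, Finset.mem_filter, Finset.mem_univ, true_and, Finset.mem_compl, Finset.mem_union,
      Finset.mem_biUnion, Finset.mem_singleton, not_or, not_exists, not_and]
    constructor
    · exact fun h => ⟨fun a ha => absurd ha (h a), fun e => h (Classical.arbitrary α)
        (by rw [e, one_smul])⟩
    · exact fun h a ha => h.1 a ha h.2
  rw [Nat.card_eq_fintype_card, Fintype.card_subtype, hcompl, Finset.card_compl,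
    Finset.card_union_of_disjoint (by simp [U, Finset.disjoint_singleton_right]), hcard,
    Finset.card_singleton, ← Nat.card_eq_fintype_card, card_group hS h2]
  obtain ⟨m, hm⟩ : ∃ m, Nat.card α = m + 2 := ⟨Nat.card α - 2, by omega⟩
  rw [hm, show m + 2 - 1 = m + 1 by omega, show m + 2 - 2 = m by omega, Nat.mul_add_one]
  omega

/-- The structure theorem. -/
theorem exists_kernel (hS : IsSharp G α) (h2 : 2 ≤ Nat.card α) :
    ∃ (p j : ℕ) (K : Subgroup G), p.Prime ∧ 1 ≤ j ∧ Nat.card α = p ^ j ∧ Nat.card K = p ^ j ∧
      K.Normal ∧ (∀ x ∈ K, ∀ y ∈ K, x * y = y * x) ∧ (∀ x ∈ K, x ^ p = 1) ∧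
      IsPretransitive K α ∧ (∀ a : α, stabilizer K a = ⊥) ∧
      ∀ g : G, g ∈ K ↔ g = 1 ∨ ∀ a : α, g • a ≠ a := by
  classical
  cases nonempty_fintype G
  set n := Nat.card α with hn
  haveI : Nonempty α := (Nat.card_pos_iff.mp (show 0 < Nat.card α by omega)).1
  obtain ⟨p, hp, hpn⟩ := Nat.exists_prime_and_dvd (show n ≠ 1 by omega)
  haveI := Fact.mk hp
  obtain ⟨u, hu⟩ := exists_prime_orderOf_dvd_card' (G := G) p
    (by rw [card_group hS h2]; exact dvd_mul_of_dvd_left hpn _)
  have hu1 : u ≠ 1 := fun e => hp.ne_one (by rw [← hu, e, orderOf_one])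
  have hufree : ∀ a : α, u • a ≠ a := by
    intro a ha
    have h1 : p ∣ n - 1 := by
      rw [← card_stabilizer hS h2 a, ← hu,
        ← Subgroup.orderOf_mk u (H := stabilizer G a) ha]
      exact orderOf_dvd_natCard _
    have h3 := Nat.dvd_sub hpn h1
    rw [show n - (n - 1) = 1 by omega] at h3
    exact hp.ne_one (Nat.dvd_one.mp h3)
  set K : Subgroup G := Subgroup.centralizer ({u} : Set G) with hK
  let good : G → Prop := fun g => g = 1 ∨ ∀ a : α, g • a ≠ a
  have hgood : ∀ (v g : G), (∀ a : α, v • a ≠ a) → g * v = v * g → good g := by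
    intro v g hv hgv
    by_contra hcon
    simp only [good, not_or, not_forall, ne_eq, not_not] at hcon
    obtain ⟨hg1, a, ha⟩ := hcon
    refine hg1 (hS.2 g a (v • a) (Ne.symm (hv a)) ha ?_)
    rw [← mul_smul, hgv, mul_smul, ha]
  have hgc : Nat.card {g : G // good g} = n := by
    have h0 := card_fixedPointFree hS h2
    have : Nat.card {g : G // good g} = Nat.card {g : G // g = 1} +
        Nat.card {g : G // ∀ a : α, g • a ≠ a} := by
      rw [Nat.card_eq_fintype_card, Nat.card_eq_fintype_card, Nat.card_eq_fintype_card,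
        Fintype.card_subtype_or_disjoint]
      rw [Pi.disjoint_iff]
      intro g
      simp only [Prop.disjoint_iff, not_and]
      intro e h
      exact h (Classical.arbitrary α) (by rw [e, one_smul])
    rw [this, Nat.card_unique, h0]
    omega
  have hKle : ∀ g ∈ K, good g := fun g hg =>
    hgood u g hufree (Subgroup.mem_centralizer_singleton_iff.mp hg)
  -- every fixed-point-free element is conjugate to `u`
  set F := {g : G // ∀ a : α, g • a ≠ a}
  let cls : G ⧸ K → F := fun q => Quotient.liftOn' q
    (fun g => (⟨g * u * g⁻¹, fun a ha => hufree (g⁻¹ • a) (by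
      rw [← inv_inv g, inv_inv g, eq_inv_smul_iff, ← mul_smul, ← mul_smul]; exact ha)⟩ : F))
    (fun g g' h => by
      rw [QuotientGroup.leftRel_apply] at h
      apply Subtype.ext
      have h1 := Subgroup.mem_centralizer_singleton_iff.mp h
      calc g * u * g⁻¹ = g * (u * (g⁻¹ * g')) * g'⁻¹ := by group
        _ = g * ((g⁻¹ * g') * u) * g'⁻¹ := by rw [h1]
        _ = g' * u * g'⁻¹ := by group)
  have hinj : Injective cls := by
    intro q q' h
    induction q using QuotientGroup.induction_on with | H g =>
    induction q' using QuotientGroup.induction_on with | H g' =>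
    rw [QuotientGroup.eq, Subgroup.mem_centralizer_singleton_iff]
    have h1 : g * u * g⁻¹ = g' * u * g'⁻¹ := congrArg Subtype.val h
    calc g⁻¹ * g' * u = g⁻¹ * (g' * u * g'⁻¹) * g' := by group
      _ = g⁻¹ * (g * u * g⁻¹) * g' := by rw [h1]
      _ = u * (g⁻¹ * g') := by group
  have hidx : K.index ≤ n - 1 := by
    rw [Subgroup.index_eq_card, ← card_fixedPointFree hS h2]
    exact Nat.card_le_card_of_injective cls hinj
  have hKn : Nat.card K ≤ n := by
    rw [← hgc]
    exact Nat.card_le_card_of_injective (fun g : K => (⟨g, hKle g g.2⟩ : {g : G // good g}))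
      (fun g g' h => Subtype.ext (congrArg (fun z : {g : G // good g} => (z : G)) h))
  have hprod : Nat.card K * K.index = n * (n - 1) := by
    rw [Subgroup.card_mul_index, card_group hS h2]
  have hKc : Nat.card K = n := by
    refine le_antisymm hKn (Nat.le_of_mul_le_mul_right ?_ (show 0 < n - 1 by omega))
    rw [← hprod]
    exact Nat.mul_le_mul_left _ hidx
  have hsurj : Surjective cls := by
    refine (hinj.bijective_of_nat_card_le (le_of_eq ?_)).2
    rw [card_fixedPointFree hS h2, ← Subgroup.index_eq_card]
    rw [hKc] at hprod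
    exact (Nat.eq_of_mul_eq_mul_left (by omega) hprod).symm
  have hmem : ∀ g : G, g ∈ K ↔ good g := by
    have hb := Injective.bijective_of_nat_card_le
      (f := fun g : K => (⟨g, hKle g g.2⟩ : {g : G // good g}))
      (fun g g' h => Subtype.ext (congrArg (fun z : {g : G // good g} => (z : G)) h))
      (by rw [hgc, hKc])
    intro g
    refine ⟨hKle g, fun h => ?_⟩
    obtain ⟨k, hk⟩ := hb.2 ⟨g, h⟩
    have : (k : G) = g := congrArg Subtype.val hk
    exact this ▸ k.2
  have hconj : ∀ v : G, (∀ a : α, v • a ≠ a) → ∃ g : G, g * u * g⁻¹ = v := by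
    intro v hv
    obtain ⟨q, hq⟩ := hsurj ⟨v, hv⟩
    induction q using QuotientGroup.induction_on with | H g =>
    exact ⟨g, congrArg Subtype.val hq⟩
  have hpow : ∀ x ∈ K, x ^ p = 1 := by
    intro x hx
    rcases (hmem x).mp hx with h | h
    · rw [h, one_pow]
    · obtain ⟨g, hg⟩ := hconj x h
      rw [← hg, conj_pow, ← hu, pow_orderOf_eq_one]; simp
  have hnormal : K.Normal := by
    refine ⟨fun x hx g => (hmem _).mpr ?_⟩
    rcases (hmem x).mp hx with h | h
    · left; rw [h]; simp
    · right
      intro a ha
      exact h (g⁻¹ • a) (by rw [eq_inv_smul_iff, ← mul_smul, ← mul_smul]; exact ha)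
  have hcomm : ∀ x ∈ K, ∀ y ∈ K, x * y = y * x := by
    intro x hx y hy
    rcases (hmem x).mp hx with h | h
    · rw [h, one_mul, mul_one]
    obtain ⟨g, hg⟩ := hconj x h
    -- `K` centralises every conjugate of `u`, being normal
    have h1 := Subgroup.mem_centralizer_singleton_iff.mp (hnormal.conj_mem y hy g⁻¹)
    rw [inv_inv] at h1
    rw [← hg]
    calc g * u * g⁻¹ * y = g * (u * (g⁻¹ * y * g)) * g⁻¹ := by group
      _ = g * ((g⁻¹ * y * g) * u) * g⁻¹ := by rw [h1]
      _ = y * (g * u * g⁻¹) := by group
  have hstab : ∀ a : α, stabilizer K a = ⊥ := by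
    intro a
    rw [Subgroup.eq_bot_iff_forall]
    intro k hk
    rcases (hmem k).mp k.2 with h | h
    · exact Subtype.ext h
    · exact absurd (mem_stabilizer_iff.mp hk) (h a)
  obtain ⟨j, hj⟩ := IsPGroup.exists_card_eq (p := p) (G := K)
    (fun x => ⟨1, Subtype.ext (by rw [pow_one]; exact hpow x x.2)⟩)
  have hj1 : 1 ≤ j := by
    by_contra h0
    rw [show j = 0 by omega, pow_zero] at hj
    omega
  refine ⟨p, j, K, hp, hj1, by rw [← hj, hKc], hj, hnormal, hcomm, hpow, ⟨fun a b => ?_⟩, hstab,
    hmem⟩
  have hi : Injective fun k : K => k • a := by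
    intro k k' h
    have : k'⁻¹ * k ∈ stabilizer K a := mem_stabilizer_iff.mpr (by
      rw [mul_smul, show k • a = k' • a from h, inv_smul_smul])
    rw [hstab, Subgroup.mem_bot] at this
    exact (inv_mul_eq_one.mp this).symm
  exact (hi.bijective_of_nat_card_le (by rw [hKc])).2 b

end CfsgLib.SmallGroups.SharplyTwoTransitive
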