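import Mathlib
import Cfsg.Agent.Lib.SmallGroups.SharplyTwoTransitive

/-!
Sharply triply transitive groups of even degree: the additive group of the nearfield, the negation,
the inversion, and uniqueness of the subgroup of order three of a two-point stabiliser.
-/

set_option autoImplicit false

namespace CfsgLib.SmallGroups.SharplyThreeTransitive

open MulAction SubMulAction Function

variable {G α : Type*} [Group G] [MulAction G α]

/-- Only the identity fixes three points and three points can be moved anywhere. -/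
def IsSharpThree (G α : Type*) [Group G] [MulAction G α] : Prop :=
  (∀ a b c a' b' c' : α, a ≠ b → a ≠ c → b ≠ c → a' ≠ b' → a' ≠ c' → b' ≠ c' →
    ∃ g : G, g • a = a' ∧ g • b = b' ∧ g • c = c') ∧
  ∀ (g : G) (a b c : α), a ≠ b → a ≠ c → b ≠ c → g • a = a → g • b = b → g • c = c → g = 1

theorem isSharpThree_of_stabilizer [IsMultiplyPretransitive G α 3]
    (h : ∀ x : Fin 3 ↪ α, stabilizer G x = ⊥) : IsSharpThree G α := by
  have hinj : ∀ a b c : α, a ≠ b → a ≠ c → b ≠ c → Injective ![a, b, c] := by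
    intro a b c hab hac hbc i j e
    fin_cases i <;> fin_cases j <;> simp at e ⊢ <;>
      first | exact hab e | exact hab e.symm | exact hac e | exact hac e.symm
            | exact hbc e | exact hbc e.symm
  refine ⟨fun a b c a' b' c' hab hac hbc hab' hac' hbc' => ?_,
    fun g a b c hab hac hbc ha hb hc => ?_⟩
  · obtain ⟨g, hg⟩ := exists_smul_eq G (⟨_, hinj a b c hab hac hbc⟩ : Fin 3 ↪ α)
      ⟨_, hinj a' b' c' hab' hac' hbc'⟩
    exact ⟨g, DFunLike.congr_fun hg 0, DFunLike.congr_fun hg 1, DFunLike.congr_fun hg 2⟩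
  · have hg : g ∈ stabilizer G (⟨_, hinj a b c hab hac hbc⟩ : Fin 3 ↪ α) := by
      rw [mem_stabilizer_iff]
      ext i
      fin_cases i
      · exact ha
      · exact hb
      · exact hc
    rwa [h, Subgroup.mem_bot] at hg

theorem exists_additive [Finite α] [Finite G] (hS : IsSharpThree G α) (h4 : 4 ≤ Nat.card α) (a : α) :
    ∃ (p j : ℕ) (K : Subgroup G), p.Prime ∧ 1 ≤ j ∧ Nat.card α = p ^ j + 1 ∧
      (∀ k ∈ K, k • a = a) ∧ (∀ x ∈ K, ∀ y ∈ K, x * y = y * x) ∧ (∀ x ∈ K, x ^ p = 1) ∧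
      (∀ g : G, g • a = a → ∀ k ∈ K, g * k * g⁻¹ ∈ K) ∧
      (∀ b c : α, b ≠ a → c ≠ a → ∃ k ∈ K, k • b = c) ∧
      (∀ k ∈ K, ∀ b : α, b ≠ a → k • b = b → k = 1) ∧
      ∀ b : α, b ≠ a → Nat.card ↥(stabilizer G a ⊓ stabilizer G b) = p ^ j - 1 := by
  haveI : IsPretransitive G α := by
    refine ⟨fun x y => ?_⟩
    cases nonempty_fintype α
    classical
    obtain ⟨x', hx'⟩ := Fintype.exists_ne_of_one_lt_card
      (by rw [← Nat.card_eq_fintype_card]; omega) x
    obtain ⟨x'', hx''⟩ : (({x, x'} : Finset α)ᶜ).Nonempty := Finset.card_pos.mp (by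
      rw [Finset.card_compl, Finset.card_pair (Ne.symm hx'), ← Nat.card_eq_fintype_card]; omega)
    obtain ⟨y', hy'⟩ := Fintype.exists_ne_of_one_lt_card
      (by rw [← Nat.card_eq_fintype_card]; omega) y
    obtain ⟨y'', hy''⟩ : (({y, y'} : Finset α)ᶜ).Nonempty := Finset.card_pos.mp (by
      rw [Finset.card_compl, Finset.card_pair (Ne.symm hy'), ← Nat.card_eq_fintype_card]; omega)
    simp only [Finset.mem_compl, Finset.mem_insert, Finset.mem_singleton, not_or] at hx'' hy''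
    obtain ⟨g, hg, -⟩ := hS.1 x x' x'' y y' y'' (Ne.symm hx') (Ne.symm hx''.1) (Ne.symm hx''.2)
      (Ne.symm hy') (Ne.symm hy''.1) (Ne.symm hy''.2)
    exact ⟨g, hg⟩
  have hn := nat_card_ofStabilizer_add_one_eq (G := G) a
  have hcard : 2 ≤ Nat.card (ofStabilizer G a) := by omega
  have hsh : SharplyTwoTransitive.IsSharp (stabilizer G a) (ofStabilizer G a) := by
    refine ⟨?_, fun g x y hxy hx hy => ?_⟩
    · rw [is_two_pretransitive_iff]
      intro x y x' y' hxy hxy'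
      obtain ⟨g, h1, h2, h3⟩ := hS.1 a x y a x' y' (Ne.symm x.2) (Ne.symm y.2)
        (fun e => hxy (Subtype.ext e)) (Ne.symm x'.2) (Ne.symm y'.2) (fun e => hxy' (Subtype.ext e))
      exact ⟨⟨g, h1⟩, Subtype.ext h2, Subtype.ext h3⟩
    · exact Subtype.ext (hS.2 g a x y (Ne.symm x.2) (Ne.symm y.2)
        (fun e => hxy (Subtype.ext e)) g.2 (congrArg Subtype.val hx) (congrArg Subtype.val hy))
  obtain ⟨p, j, K, hp, hj, hXc, -, hKn, hKcomm, hKp, hKtr, hKst, -⟩ :=
    SharplyTwoTransitive.exists_kernel hsh hcard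
  refine ⟨p, j, K.map (stabilizer G a).subtype, hp, hj, by omega, ?_, ?_, ?_, ?_, ?_, ?_, ?_⟩
  · rintro _ ⟨k, -, rfl⟩; exact k.2
  · rintro _ ⟨x, hx, rfl⟩ _ ⟨y, hy, rfl⟩
    exact congrArg Subtype.val (hKcomm x hx y hy)
  · rintro _ ⟨x, hx, rfl⟩
    exact congrArg Subtype.val (hKp x hx)
  · rintro g hg _ ⟨k, hk, rfl⟩
    exact ⟨⟨g, hg⟩ * k * ⟨g, hg⟩⁻¹, hKn.conj_mem k hk _, rfl⟩
  · intro b c hb hc
    obtain ⟨k, hk⟩ := hKtr.exists_smul_eq ⟨b, hb⟩ ⟨c, hc⟩
    exact ⟨_, ⟨k.1, k.2, rfl⟩, congrArg Subtype.val hk⟩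
  · rintro _ ⟨k, hk, rfl⟩ b hb hfix
    have hmem : (⟨k, hk⟩ : K) ∈ stabilizer K (⟨b, hb⟩ : ofStabilizer G a) := Subtype.ext hfix
    rw [hKst, Subgroup.mem_bot] at hmem
    exact congrArg (fun z : K => ((z : stabilizer G a) : G)) hmem
  · intro b hb
    rw [← hXc, ← SharplyTwoTransitive.card_stabilizer hsh hcard ⟨b, hb⟩]
    exact Nat.card_congr
      { toFun := fun g => ⟨⟨g.1, g.2.1⟩, Subtype.ext g.2.2⟩
        invFun := fun g => ⟨g.1.1, g.1.2, congrArg Subtype.val g.2⟩
        left_inv := fun g => rfl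
        right_inv := fun g => rfl }

/-- Twelve products in a commutative group. -/
theorem prod_eight {M : Type*} [CommGroup M] (o a a' b b' c c' d d' : M) (h1 : o * a * a' = 1)
    (h2 : o * b * b' = 1) (h3 : o * c * c' = 1) (h4 : o * d * d' = 1)
    (hall : (o * b * b') * (a * c * d) * (a' * d' * c') = 1) : o ^ 3 = 1 := by
  have h : (o * a * a') * (o * b * b') * (o * c * c') * (o * d * d') =
      o ^ 3 * ((o * b * b') * (a * c * d) * (a' * d' * c')) := by
    simp only [pow_succ, pow_zero, one_mul]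
    ac_rfl
  rw [hall, h1, h2, h3, h4, one_mul, one_mul, one_mul, mul_one] at h
  exact h.symm

/-- The inversion inverts every element of order three, so there is only one subgroup of that
order. -/
theorem unique_order_three [Finite α] [Finite G] [FaithfulSMul G α] (hS : IsSharpThree G α)
    (h4 : 4 ≤ Nat.card α) (heven : Even (Nat.card α)) {a b : α} (hab : a ≠ b) {u w : G}
    (hua : u • a = a) (hub : u • b = b) (hu3 : orderOf u = 3)
    (hwa : w • a = a) (hwb : w • b = b) (hw3 : orderOf w = 3) :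
    Subgroup.zpowers u = Subgroup.zpowers w := by
  classical
  obtain ⟨p, j, K, hp, hj, hα, hKa, hKc, hKp, hKn, hKtr, hKfree, hHc⟩ := exists_additive hS h4 a
  have hp2 : p ≠ 2 := by
    intro e
    subst e
    rw [hα, Nat.even_add_one] at heven
    exact heven (Nat.even_pow.mpr ⟨even_two, by omega⟩)
  have hpodd : Odd (p ^ j) := (hp.odd_of_ne_two hp2).pow
  have hH := hHc b (Ne.symm hab)
  haveI := Fact.mk Nat.prime_two
  obtain ⟨⟨z, hza, hzb⟩, hz⟩ := exists_prime_orderOf_dvd_card'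
    (G := ↥(stabilizer G a ⊓ stabilizer G b)) 2 (by
      rw [hH]; obtain ⟨r, hr⟩ := hpodd; omega)
  rw [← Subgroup.orderOf_coe] at hz
  change orderOf z = 2 at hz
  change z • a = a at hza
  change z • b = b at hzb
  have hzz : z * z = 1 := by rw [← pow_two, ← hz, pow_orderOf_eq_one]
  have hz1 : z ≠ 1 := fun e => by rw [e, orderOf_one] at hz; omega
  have hp3 : p ≠ 3 := by
    intro e
    have h3 : 3 ∣ Nat.card ↥(stabilizer G a ⊓ stabilizer G b) :=
      hu3 ▸ Subgroup.orderOf_dvd_natCard _ (show u ∈ stabilizer G a ⊓ stabilizer G b from ⟨hua, hub⟩)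
    rw [hH, e] at h3
    have h3' : 3 ∣ 3 ^ j := dvd_pow_self 3 (by omega)
    have := Nat.one_le_pow j 3 (by norm_num)
    omega
  -- the only element of the two-point stabiliser commuting with a non-trivial translation
  have hcent : ∀ h : G, h • a = a → h • b = b → ∀ k ∈ K, k ≠ 1 → h * k = k * h → h = 1 := by
    intro h ha hb k hk hk1 hc
    refine hS.2 h a b (k • b) hab ?_ ?_ ha hb ?_
    · intro e
      exact hab (MulAction.injective k ((hKa k hk).trans e))
    · exact fun e => hk1 (hKfree k hk b (Ne.symm hab) e.symm)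
    · rw [← mul_smul, hc, mul_smul, hb]
  -- negation
  have hneg : ∀ k ∈ K, z * k * z⁻¹ = k⁻¹ := by
    intro k hk
    have hmem := hKn z hza k hk
    have hzi : z⁻¹ = z := inv_eq_of_mul_eq_one_right hzz
    have hfix : z * (k * (z * k * z⁻¹)) = (k * (z * k * z⁻¹)) * z := by
      calc z * (k * (z * k * z⁻¹)) = (z * k * z⁻¹) * (z * z) * k * z⁻¹ := by group
        _ = (z * k * z⁻¹) * k * z⁻¹ := by rw [hzz, mul_one]
        _ = (k * (z * k * z⁻¹)) * z := by rw [hKc _ hmem k hk, hzi]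
    refine eq_inv_of_mul_eq_one_right ?_
    by_contra hne
    exact hz1 (hcent z hza hzb _ (K.mul_mem hk hmem) hne hfix)
  have hzu : ∀ h : G, h • a = a → h • b = b → (∀ k ∈ K, h * k * h⁻¹ = k⁻¹) → h = z := by
    intro h ha hb hinv
    cases nonempty_fintype α
    obtain ⟨c₀, hc₀⟩ : (({a, b} : Finset α)ᶜ).Nonempty := Finset.card_pos.mp (by
      rw [Finset.card_compl, Finset.card_pair hab, ← Nat.card_eq_fintype_card]; omega)
    simp only [Finset.mem_compl, Finset.mem_insert, Finset.mem_singleton, not_or] at hc₀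
    obtain ⟨k, hk, hkb⟩ := hKtr b c₀ (Ne.symm hab) hc₀.1
    have hk1 : k ≠ 1 := fun e => hc₀.2 (by rw [← hkb, e, one_smul])
    have h1 : (z⁻¹ * h) * k = k * (z⁻¹ * h) := by
      calc (z⁻¹ * h) * k = z⁻¹ * (h * k * h⁻¹) * h := by group
        _ = z⁻¹ * (z * k * z⁻¹) * h := by rw [hinv k hk, hneg k hk]
        _ = k * (z⁻¹ * h) := by group
    exact (inv_mul_eq_one.mp (hcent (z⁻¹ * h) (by rw [mul_smul, ha, inv_smul_eq_iff, hza])
      (by rw [mul_smul, hb, inv_smul_eq_iff, hzb]) k hk hk1 h1)).symm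
  cases nonempty_fintype α
  obtain ⟨c, hc⟩ : (({a, b} : Finset α)ᶜ).Nonempty := Finset.card_pos.mp (by
    rw [Finset.card_compl, Finset.card_pair hab, ← Nat.card_eq_fintype_card]; omega)
  simp only [Finset.mem_compl, Finset.mem_insert, Finset.mem_singleton, not_or] at hc
  obtain ⟨hca, hcb⟩ := hc
  obtain ⟨t, ht, htb⟩ := hKtr b c (Ne.symm hab) hca
  have ht1 : t ≠ 1 := fun e => hcb (by rw [← htb, e, one_smul])
  -- the inversion
  obtain ⟨s, hsa, hsb, hsc⟩ := hS.1 a b c b a c hab (Ne.symm hca) (Ne.symm hcb)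
    (Ne.symm hab) (Ne.symm hcb) (Ne.symm hca)
  have hss : s * s = 1 := hS.2 _ a b c hab (Ne.symm hca) (Ne.symm hcb)
    (by rw [mul_smul, hsa, hsb]) (by rw [mul_smul, hsb, hsa]) (by rw [mul_smul, hsc, hsc])
  have hsinv : s⁻¹ = s := inv_eq_of_mul_eq_one_right hss
  have hconjH : ∀ h : G, h • a = a → h • b = b → (s * h * s) • a = a ∧ (s * h * s) • b = b := by
    intro h ha hb
    exact ⟨by rw [mul_smul, mul_smul, hsa, hb, hsb], by rw [mul_smul, mul_smul, hsb, ha, hsa]⟩
  have hsz : s * z * s = z := by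
    obtain ⟨h1, h2⟩ := hconjH z hza hzb
    refine hzu _ h1 h2 fun k hk => ?_
    have hord : (s * z * s) * (s * z * s) = 1 := by
      calc (s * z * s) * (s * z * s) = s * z * (s * s) * z * s := by group
        _ = s * (z * z) * s := by rw [hss, mul_one]; group
        _ = 1 := by rw [hzz, mul_one, hss]
    have hne : s * z * s ≠ 1 := fun e => hz1 (by
      calc z = (s * s) * z * (s * s) := by rw [hss, one_mul, mul_one]
        _ = s * (s * z * s) * s := by group
        _ = 1 := by rw [e, mul_one, hss])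
    have hmem := hKn _ h1 k hk
    have hzi : (s * z * s)⁻¹ = s * z * s := inv_eq_of_mul_eq_one_right hord
    have hfix : (s * z * s) * (k * ((s * z * s) * k * (s * z * s)⁻¹)) =
        (k * ((s * z * s) * k * (s * z * s)⁻¹)) * (s * z * s) := by
      generalize hy : s * z * s = y at hord hne hmem hzi ⊢
      calc y * (k * (y * k * y⁻¹)) = (y * k * y⁻¹) * (y * y) * k * y⁻¹ := by group
        _ = (y * k * y⁻¹) * k * y⁻¹ := by rw [hord, mul_one]
        _ = (k * (y * k * y⁻¹)) * y := by rw [hKc _ hmem k hk, hzi]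
    refine eq_inv_of_mul_eq_one_right ?_
    by_contra hk2
    exact hne (hcent _ h1 h2 _ (K.mul_mem hk hmem) hk2 hfix)
  have hzcomm : ∀ h : G, h • a = a → h • b = b → h * z = z * h := by
    intro h ha hb
    have := hzu (h * z * h⁻¹) (by rw [mul_smul, mul_smul, inv_smul_eq_iff.mpr ha.symm, hza, ha])
      (by rw [mul_smul, mul_smul, inv_smul_eq_iff.mpr hb.symm, hzb, hb]) (fun k hk => by
        have hk' := hKn h⁻¹ (inv_smul_eq_iff.mpr ha.symm) k hk
        calc h * z * h⁻¹ * k * (h * z * h⁻¹)⁻¹ = h * (z * (h⁻¹ * k * h⁻¹⁻¹) * z⁻¹) * h⁻¹ := by group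
          _ = h * (h⁻¹ * k * h⁻¹⁻¹)⁻¹ * h⁻¹ := by rw [hneg _ hk']
          _ = k⁻¹ := by group)
    calc h * z = h * z * h⁻¹ * h := by group
      _ = z * h := by rw [this]
  -- a cube root of unity satisfies `1 + x + x² = 0`
  have hsum : ∀ x : G, x • a = a → x • b = b → x ^ 3 = 1 → x ≠ 1 →
      t * (x * t * x⁻¹) * (x ^ 2 * t * (x ^ 2)⁻¹) = 1 := by
    intro x ha hb h3 hx1
    have h2a : (x ^ 2) • a = a := by rw [pow_two, mul_smul, ha, ha]
    have m1 := hKn x ha t ht
    have m2 := hKn _ h2a t ht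
    by_contra hne
    refine hx1 (hcent x ha hb _ (K.mul_mem (K.mul_mem ht m1) m2) hne ?_)
    have e3 : x * (x ^ 2 * t * (x ^ 2)⁻¹) * x⁻¹ = t := by
      calc x * (x ^ 2 * t * (x ^ 2)⁻¹) * x⁻¹ = x ^ 3 * t * (x ^ 3)⁻¹ := by group
        _ = t := by rw [h3, one_mul, inv_one, mul_one]
    have e2 : x * (x * t * x⁻¹) * x⁻¹ = x ^ 2 * t * (x ^ 2)⁻¹ := by rw [pow_two]; group
    calc x * (t * (x * t * x⁻¹) * (x ^ 2 * t * (x ^ 2)⁻¹))
        = (x * t * x⁻¹) * (x * (x * t * x⁻¹) * x⁻¹) *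
            (x * (x ^ 2 * t * (x ^ 2)⁻¹) * x⁻¹) * x := by group
      _ = (x * t * x⁻¹) * (x ^ 2 * t * (x ^ 2)⁻¹) * t * x := by rw [e2, e3]
      _ = (t * (x * t * x⁻¹) * (x ^ 2 * t * (x ^ 2)⁻¹)) * x := by
        rw [← hKc t ht _ (K.mul_mem m1 m2)]; group
  -- the three-cycle
  set f := s * (t * z) with hf
  have hfa : f • a = b := by rw [hf, mul_smul, mul_smul, hza, hKa t ht, hsa]
  have hfb : f • b = c := by rw [hf, mul_smul, mul_smul, hzb, htb, hsc]
  have hfc : f • c = a := by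
    have h : t • z • c = b := by
      rw [← htb, ← mul_smul, ← mul_smul, show t * z * t = t * (z * t * z⁻¹) * z by group,
        hneg t ht, mul_inv_cancel, one_mul, hzb]
    rw [hf, mul_smul, mul_smul, h, hsb]
  have hf3 : ∀ x : α, f • f • f • x = x := by
    have h : f * f * f = 1 := hS.2 _ a b c hab (Ne.symm hca) (Ne.symm hcb)
      (by rw [mul_smul, mul_smul, hfa, hfb, hfc]) (by rw [mul_smul, mul_smul, hfb, hfc, hfa])
      (by rw [mul_smul, mul_smul, hfc, hfa, hfb])
    intro x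
    rw [← mul_smul, ← mul_smul, h, one_smul]
  have hreg : ∀ h h' : G, h • a = a → h • b = b → h' • a = a → h' • b = b → h • c = h' • c →
      h = h' := by
    intro h h' ha hb ha' hb' e
    refine (inv_mul_eq_one.mp (hS.2 (h'⁻¹ * h) a b c hab (Ne.symm hca) (Ne.symm hcb)
      ?_ ?_ ?_)).symm
    · rw [mul_smul, ha, inv_smul_eq_iff, ha']
    · rw [mul_smul, hb, inv_smul_eq_iff, hb']
    · rw [mul_smul, e, inv_smul_smul]
  -- the inversion inverts the elements of order three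
  have hinv3 : ∀ x : G, x • a = a → x • b = b → x ^ 3 = 1 → x ≠ 1 → s * x * s = x⁻¹ := by
    intro x ha hb h3 hx1
    set v := s * x * s with hv
    obtain ⟨hva, hvb⟩ := hconjH x ha hb
    rw [← hv] at hva hvb
    have hstep : ∀ y : G, y • a = a → y • b = b → y ^ 3 = 1 → y ≠ 1 →
        f • (z * y) • c = (z * (s * y ^ 2 * s)) • c := by
      intro y hya hyb hy3 hy1
      have h2a : (y ^ 2) • a = a := by rw [pow_two, mul_smul, hya, hya]
      have h2b : (y ^ 2) • b = b := by rw [pow_two, mul_smul, hyb, hyb]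
      have e : t * (y * t * y⁻¹) = (y ^ 2 * t * (y ^ 2)⁻¹)⁻¹ :=
        eq_inv_of_mul_eq_one_left (hsum y hya hyb hy3 hy1)
      have e1 : t • y • c = z • (y ^ 2) • c := by
        rw [← htb, ← mul_smul, ← mul_smul, ← mul_smul, ← mul_smul,
          show t * y * t = t * (y * t * y⁻¹) * y by group, mul_smul, hyb, e,
          ← hneg _ (hKn _ h2a t ht),
          show z * y ^ 2 * t = z * (y ^ 2 * t * (y ^ 2)⁻¹) * z⁻¹ * (z * y ^ 2) by group,
          mul_smul (_ * z⁻¹), mul_smul z (y ^ 2) b, h2b, hzb]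
      have hzzc : z • z • y • c = y • c := by rw [← mul_smul z z, hzz, one_smul]
      rw [hf, mul_smul s, mul_smul t, mul_smul z y, hzzc, e1, ← mul_smul, ← mul_smul,
        mul_smul z (s * y ^ 2 * s)]
      calc (s * z * y ^ 2) • c = ((s * z * s) * (s * y ^ 2 * s) * s⁻¹) • c := by
            congr 1
            rw [hsinv]
            calc s * z * y ^ 2 = s * z * (s * s) * y ^ 2 * (s * s) := by rw [hss, mul_one, mul_one]
              _ = _ := by group
        _ = z • (s * y ^ 2 * s) • c := by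
            rw [hsz, hsinv, mul_smul, mul_smul, hsc]
    have hv3 : v ^ 3 = 1 := by
      calc v ^ 3 = s * x * (s * s) * x * (s * s) * x * s := by
            simp only [hv, pow_succ, pow_zero, one_mul]; group
        _ = s * x ^ 3 * s := by rw [hss]; simp only [pow_succ, pow_zero, one_mul]; group
        _ = 1 := by rw [h3, mul_one, hss]
    have hv1 : v ≠ 1 := fun e => hx1 (by
      calc x = (s * s) * x * (s * s) := by rw [hss, one_mul, mul_one]
        _ = s * v * s := by rw [hv]; group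
        _ = 1 := by rw [e, mul_one, hss])
    have hv2 : s * x ^ 2 * s = v ^ 2 := by
      rw [hv, pow_two, pow_two]
      calc s * (x * x) * s = s * x * 1 * x * s := by group
        _ = _ := by rw [← hss]; group
    have h1 : f • (z * x) • c = (z * v ^ 2) • c := by rw [hstep x ha hb h3 hx1, hv2]
    have hv2a : (v ^ 2) • a = a := by rw [pow_two, mul_smul, hva, hva]
    have hv2b : (v ^ 2) • b = b := by rw [pow_two, mul_smul, hvb, hvb]
    have hv23 : (v ^ 2) ^ 3 = 1 := by rw [← pow_mul, mul_comm, pow_mul, hv3, one_pow]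
    have hv21 : v ^ 2 ≠ 1 := fun e => hv1 (by
      calc v = v ^ 3 * (v ^ 2)⁻¹ := by group
        _ = 1 := by rw [hv3, e, inv_one, mul_one])
    have h2 : f • (z * v ^ 2) • c = (z * x) • c := by
      rw [hstep _ hv2a hv2b hv23 hv21]
      congr 2
      calc s * (v ^ 2) ^ 2 * s = s * (v ^ 3 * v) * s := by group
        _ = s * v * s := by rw [hv3, one_mul]
        _ = (s * s) * x * (s * s) := by rw [hv]; group
        _ = x := by rw [hss, one_mul, mul_one]
    have h3' := hf3 ((z * x) • c)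
    rw [h1, h2, h1] at h3'
    have he : v ^ 2 = x := hreg _ _ hv2a hv2b ha hb (by
      rw [mul_smul, mul_smul] at h3'
      exact MulAction.injective z h3')
    calc v = v ^ 3 * (v ^ 2)⁻¹ := by group
      _ = x⁻¹ := by rw [hv3, one_mul, he]
  have hu' : u ^ 3 = 1 := by rw [← hu3, pow_orderOf_eq_one]
  have hw' : w ^ 3 = 1 := by rw [← hw3, pow_orderOf_eq_one]
  have hu1 : u ≠ 1 := fun e => by rw [e, orderOf_one] at hu3; omega
  have hw1 : w ≠ 1 := fun e => by rw [e, orderOf_one] at hw3; omega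
  -- hence they commute
  have hcomm : Commute u w := by
    have hca' : (w * u * w⁻¹) • a = a := by
      rw [mul_smul, mul_smul, inv_smul_eq_iff.mpr hwa.symm, hua, hwa]
    have hcb' : (w * u * w⁻¹) • b = b := by
      rw [mul_smul, mul_smul, inv_smul_eq_iff.mpr hwb.symm, hub, hwb]
    have h3 : (w * u * w⁻¹) ^ 3 = 1 := by rw [conj_pow, hu', mul_one, mul_inv_cancel]
    have h1 : w * u * w⁻¹ ≠ 1 := fun e => hu1 (conj_eq_one_iff.mp e)
    have e1 := hinv3 _ hca' hcb' h3 h1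
    have e2 : s * (w * u * w⁻¹) * s = w⁻¹ * u⁻¹ * w := by
      calc s * (w * u * w⁻¹) * s = (s * w * s) * (s * u * s) * (s * w * s)⁻¹ := by
            rw [mul_inv_rev (s * w), mul_inv_rev s w, hsinv]
            calc s * (w * u * w⁻¹) * s = s * w * 1 * u * 1 * w⁻¹ * s := by group
              _ = _ := by rw [← hss]; group
        _ = _ := by rw [hinv3 w hwa hwb hw' hw1, hinv3 u hua hub hu' hu1, inv_inv]
    have e3 : w⁻¹ * u⁻¹ * w = w * u⁻¹ * w⁻¹ := by rw [← e2, e1]; group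
    have e4 : Commute (w ^ 2) u⁻¹ := by
      show w ^ 2 * u⁻¹ = u⁻¹ * w ^ 2
      calc w ^ 2 * u⁻¹ = w * (w * u⁻¹ * w⁻¹) * w := by rw [pow_two]; group
        _ = w * (w⁻¹ * u⁻¹ * w) * w := by rw [e3]
        _ = u⁻¹ * w ^ 2 := by rw [pow_two]; group
    have e5 : Commute w u := by
      have := e4.inv_right.pow_left 2
      rwa [inv_inv, ← pow_mul, show 2 * 2 = 3 + 1 by norm_num, pow_succ, hw', one_mul] at this
    exact e5.symm
  by_contra hne
  have hsub : ∀ x : G, x ∈ Subgroup.zpowers w → orderOf x = 3 →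
      Subgroup.zpowers x = Subgroup.zpowers w := fun x hx h3 =>
    Subgroup.eq_of_le_of_card_ge (Subgroup.zpowers_le.mpr hx)
      (by rw [Nat.card_zpowers, Nat.card_zpowers, h3, hw3])
  have hwu : w * u ≠ 1 := fun e => hne (hsub u (by
    rw [eq_inv_of_mul_eq_one_right e]; exact inv_mem (Subgroup.mem_zpowers w)) hu3)
  have hwuu : w * u ^ 2 ≠ 1 := fun e => hne (hsub u (by
    rw [show u = u ^ 3 * (u ^ 2)⁻¹ by group, hu', one_mul, ← eq_inv_of_mul_eq_one_left e]
    exact Subgroup.mem_zpowers w) hu3)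
  have hu2a : (u ^ 2) • a = a := by rw [pow_two, mul_smul, hua, hua]
  have hu2b : (u ^ 2) • b = b := by rw [pow_two, mul_smul, hub, hub]
  have hw2a : (w ^ 2) • a = a := by rw [pow_two, mul_smul, hwa, hwa]
  have hwua : (w * u) • a = a := by rw [mul_smul, hua, hwa]
  have hwub : (w * u) • b = b := by rw [mul_smul, hub, hwb]
  have hwu2a : (w * u ^ 2) • a = a := by rw [mul_smul, hu2a, hwa]
  have hwu2b : (w * u ^ 2) • b = b := by rw [mul_smul, hu2b, hwb]
  have hc' : Commute w u := hcomm.symm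
  have e3a : (w * u) ^ 3 = 1 := by rw [hc'.mul_pow, hw', hu', one_mul]
  have e3b : (w * u ^ 2) ^ 3 = 1 := by
    rw [(hc'.pow_right 2).mul_pow, hw', ← pow_mul, mul_comm 2, pow_mul, hu', one_pow, one_mul]
  have r1 : (w * u) ^ 2 = w ^ 2 * u ^ 2 := hc'.mul_pow 2
  have r2 : (w * u ^ 2) ^ 2 = w ^ 2 * u := by
    rw [(hc'.pow_right 2).mul_pow, ← pow_mul, show 2 * 2 = 3 + 1 by norm_num, pow_succ u, hu',
      one_mul]
  have s1 := hsum w hwa hwb hw' hw1
  have s2 := hsum u hua hub hu' hu1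
  have s3 := hsum _ hwua hwub e3a hwu
  have s4 := hsum _ hwu2a hwu2b e3b hwuu
  rw [r1] at s3
  rw [r2] at s4
  have hall : (t * (u * t * u⁻¹) * (u ^ 2 * t * (u ^ 2)⁻¹)) *
      ((w * t * w⁻¹) * (w * u * t * (w * u)⁻¹) * (w * u ^ 2 * t * (w * u ^ 2)⁻¹)) *
      ((w ^ 2 * t * (w ^ 2)⁻¹) * (w ^ 2 * u * t * (w ^ 2 * u)⁻¹) *
        (w ^ 2 * u ^ 2 * t * (w ^ 2 * u ^ 2)⁻¹)) = 1 := by
    rw [show (w * t * w⁻¹) * (w * u * t * (w * u)⁻¹) * (w * u ^ 2 * t * (w * u ^ 2)⁻¹) =
        w * (t * (u * t * u⁻¹) * (u ^ 2 * t * (u ^ 2)⁻¹)) * w⁻¹ by group,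
      show (w ^ 2 * t * (w ^ 2)⁻¹) * (w ^ 2 * u * t * (w ^ 2 * u)⁻¹) *
        (w ^ 2 * u ^ 2 * t * (w ^ 2 * u ^ 2)⁻¹) =
        w ^ 2 * (t * (u * t * u⁻¹) * (u ^ 2 * t * (u ^ 2)⁻¹)) * (w ^ 2)⁻¹ by group, s2]
    group
  letI : CommGroup K := { (inferInstance : Group K) with
    mul_comm := fun x y => Subtype.ext (hKc x x.2 y y.2) }
  let mk : ∀ g : G, g • a = a → K := fun g hg => ⟨g * t * g⁻¹, hKn g hg t ht⟩
  have hcube := prod_eight (⟨t, ht⟩ : K) (mk w hwa) (mk (w ^ 2) hw2a) (mk u hua) (mk (u ^ 2) hu2a)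
    (mk (w * u) hwua) (mk (w ^ 2 * u ^ 2) (by rw [mul_smul, hu2a, hw2a]))
    (mk (w * u ^ 2) hwu2a) (mk (w ^ 2 * u) (by rw [mul_smul, hua, hw2a]))
    (Subtype.ext s1) (Subtype.ext s2) (Subtype.ext s3) (Subtype.ext s4) (Subtype.ext hall)
  have ht3 : t ^ 3 = 1 := congrArg Subtype.val hcube
  have hd : orderOf t ∣ Nat.gcd 3 p :=
    Nat.dvd_gcd (orderOf_dvd_of_pow_eq_one ht3) (orderOf_dvd_of_pow_eq_one (hKp t ht))
  rw [(Nat.coprime_primes Nat.prime_three hp).mpr (Ne.symm hp3), Nat.dvd_one,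
    orderOf_eq_one_iff] at hd
  exact ht1 hd

end CfsgLib.SmallGroups.SharplyThreeTransitive
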