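import Cfsg.Agent.S0732
import Cfsg.Agent.Lib.SmallGroups.Basic
import Cfsg.Agent.Lib.Classical.Dickson.PSLMap
import Mathlib

/-!
Recognition of `PSL(2, p)` among simple groups with `p + 1` Sylow `p`-subgroups.
-/

set_option autoImplicit false

namespace CfsgLib.SmallGroups.RecogPSL

open MulAction

/-- A simple group of order `(p + 1) * p * d` with `2 * d + 1 = p` and no normal Sylow `p`-subgroup
is `PSL(2, p)`, provided `p + 1` is no power of two and the only admissible Sylow number is `p + 1`. -/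
theorem nonempty_psl {G : Type*} [Group G] [Finite G] [IsSimpleGroup G] {p d : ℕ} [Fact p.Prime]
    (hG : Nat.card G = (p + 1) * p * d) (hd : 2 * d + 1 = p) (hpow : ∀ q, q ≤ p → p + 1 ≠ 2 ^ q)
    (hn : ∀ n, n ∈ (Finset.range ((p + 1) * d + 1)).filter (fun n => (p + 1) * d % n = 0 ∧ n % p = 1) →
      n = 1 ∨ n = p + 1)
    {F : Type*} [Field F] [Fintype F] (hF : Fintype.card F = p) :
    Nonempty (G ≃* Matrix.ProjectiveSpecialLinearGroup (Fin 2) F) := by
  classical
  have hp : p.Prime := Fact.out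
  have hd0 : 0 < d := by have := hp.two_le; omega
  have hG' : Nat.card G = p ^ 1 * ((p + 1) * d) := by rw [hG, pow_one]; ring
  have hndvd : ¬ p ∣ (p + 1) * d := by
    intro h
    rcases hp.dvd_mul.mp h with h1 | h1
    · exact hp.not_dvd_one ((Nat.dvd_add_right dvd_rfl).mp h1)
    · exact absurd (Nat.le_of_dvd hd0 h1) (by omega)
  obtain ⟨P⟩ : Nonempty (Sylow p G) := inferInstance
  have hcount : Nat.card (Sylow p G) = p + 1 := by
    refine (hn _ (CfsgLib.SmallGroups.card_sylow_mem_filter hG' hndvd)).resolve_left fun h1 => ?_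
    have hPn : (P : Subgroup G).Normal := by
      haveI : Subsingleton (Sylow p G) := (Nat.card_eq_one_iff_unique.mp h1).1
      exact P.normal_of_subsingleton
    have hPc := CfsgLib.SmallGroups.card_sylow_eq hG' hndvd P
    rcases hPn.eq_bot_or_eq_top with h2 | h2
    · rw [h2, Subgroup.card_bot, pow_one] at hPc
      exact hp.ne_one hPc.symm
    · rw [h2, Subgroup.card_top, hG, pow_one] at hPc
      have : 2 * p ≤ (p + 1) * p * d := by
        calc 2 * p ≤ (p + 1) * p * 1 := by rw [mul_one]; exact Nat.mul_le_mul_right p (by omega)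
          _ ≤ _ := Nat.mul_le_mul_left _ hd0
      have := hp.pos
      omega
  cases nonempty_fintype (Sylow p G)
  have hmove : ∃ (g : G) (x : Sylow p G), g • x ≠ x := by
    haveI : Nontrivial (Sylow p G) := by
      rw [← Finite.one_lt_card_iff_nontrivial, hcount]; have := hp.two_le; omega
    obtain ⟨P', hP'⟩ := exists_ne P
    obtain ⟨g, hg⟩ := exists_smul_eq G P P'
    exact ⟨g, P, fun h => hP' (hg ▸ h)⟩
  set φ := toPermHom G (Sylow p G) with hφ
  have hinj : Function.Injective φ := CfsgLib.SmallGroups.toPermHom_injective_of_not_trivial hmove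
  haveI : IsPretransitive φ.range (Sylow p G) := ⟨fun x y => by
    obtain ⟨g, hg⟩ := exists_smul_eq G x y
    exact ⟨⟨φ g, g, rfl⟩, hg⟩⟩
  have e : G ≃* φ.range := MonoidHom.ofInjective hinj
  rcases Cfsg.Agent.S0732.result hp (by rw [← Nat.card_eq_fintype_card, hcount]) φ.range
      (by rw [← Nat.card_congr e.toEquiv, hG]) (by omega) with
    ⟨h, -⟩ | ⟨-, ⟨f⟩⟩ | ⟨q, -, hq, -⟩
  · omega
  · exact ⟨(e.trans f).trans
      (CfsgLib.Classical.Dickson.pslCongr (ZMod.ringEquivOfPrime F hp hF))⟩
  · refine absurd hq (hpow q ?_)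
    have := Nat.lt_two_pow_self (n := q)
    omega

end CfsgLib.SmallGroups.RecogPSL
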