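import Cfsg.Agent.Lib.SmallGroups.PrimeTransitive

/-!
Sylow normalizers in transitive permutation groups of prime degree: affine coordinates, the
negation map, and the solvable case.
-/

set_option autoImplicit false

namespace CfsgLib.SmallGroups

variable {α : Type*} [Fintype α] [DecidableEq α] {p : ℕ} [hp : Fact p.Prime]

theorem not_sq_dvd_factorial : ¬ p * p ∣ p.factorial := by
  rw [← Nat.mul_factorial_pred hp.out.ne_zero, Nat.mul_dvd_mul_iff_left hp.out.pos,
    hp.out.dvd_factorial]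
  have := hp.out.two_le
  omega

theorem not_sq_dvd_card (hα : Fintype.card α = p) (G : Subgroup (Equiv.Perm α)) :
    ¬ p * p ∣ Nat.card G := fun h =>
  not_sq_dvd_factorial (p := p) <| h.trans <| by
    have := G.card_subgroup_dvd_card
    rwa [Nat.card_perm, Nat.card_eq_fintype_card (α := α), hα] at this

theorem prime_dvd_card (hα : Fintype.card α = p) (G : Subgroup (Equiv.Perm α))
    [MulAction.IsPretransitive G α] : p ∣ Nat.card G := by
  obtain ⟨σ, hσG, hσ⟩ := exists_orderOf_eq_of_isPretransitive hα G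
  rw [← hσ, ← Subgroup.orderOf_mk σ hσG]
  exact orderOf_dvd_natCard _

theorem card_sylow_prime_degree (hα : Fintype.card α = p) (G : Subgroup (Equiv.Perm α))
    [MulAction.IsPretransitive G α] (P : Sylow p G) : Nat.card (P : Subgroup G) = p := by
  rw [P.card_eq_multiplicity]
  have h1 : 1 ≤ (Nat.card G).factorization p :=
    (hp.out.dvd_iff_one_le_factorization Nat.card_pos.ne').mp (prime_dvd_card hα G)
  have h2 : ¬ 2 ≤ (Nat.card G).factorization p := fun h => not_sq_dvd_card hα G (by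
    rw [← pow_two, hp.out.pow_dvd_iff_le_factorization Nat.card_pos.ne']; exact h)
  rw [show (Nat.card G).factorization p = 1 by omega, pow_one]

/-- A generator of a Sylow subgroup, seen as a permutation. -/
theorem exists_sylow_generator (hα : Fintype.card α = p) (G : Subgroup (Equiv.Perm α))
    [MulAction.IsPretransitive G α] (P : Sylow p G) :
    ∃ σ : G, orderOf (σ : Equiv.Perm α) = p ∧ (P : Subgroup G) = Subgroup.zpowers σ := by
  obtain ⟨σ, hσ, h⟩ := exists_zpowers_of_card_prime (card_sylow_prime_degree hα G P)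
  exact ⟨σ, by rw [Subgroup.orderOf_coe, hσ], h⟩

theorem coord_of_conj {σ g : Equiv.Perm α} (hσ : orderOf σ = p) {e : ZMod p ≃ α}
    (he : ∀ j, σ (e j) = e (j + 1)) (hg : g * σ * g⁻¹ ∈ Subgroup.zpowers σ) :
    ∃ a c : ZMod p, a ≠ 0 ∧ ∀ j, g (e j) = e (a * j + c) := by
  obtain ⟨n, hn⟩ : ∃ n : ℕ, σ ^ n = g * σ * g⁻¹ := by
    rw [← mem_powers_iff_mem_zpowers] at hg
    obtain ⟨n, hn⟩ := (Submonoid.mem_powers_iff _ _).mp hg
    exact ⟨n, hn⟩
  refine ⟨(n : ZMod p), e.symm (g (e 0)), ?_, fun j => ?_⟩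
  · intro h0
    rw [ZMod.natCast_eq_zero_iff] at h0
    have h1 : σ ^ n = 1 := orderOf_dvd_iff_pow_eq_one.mp (hσ ▸ h0)
    rw [h1, eq_comm, conj_eq_one_iff] at hn
    rw [hn, orderOf_one] at hσ
    exact hp.out.ne_one hσ.symm
  · have h1 : e j = (σ ^ j.val) (e 0) := by rw [coord_zpow he, zero_add, ZMod.natCast_zmod_val]
    have h2 : g * σ ^ j.val = σ ^ (n * j.val) * g := by
      rw [pow_mul, hn, conj_pow, inv_mul_cancel_right]
    rw [h1, ← Equiv.Perm.mul_apply, h2, Equiv.Perm.mul_apply]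
    conv_lhs => rw [← e.apply_symm_apply (g (e 0))]
    rw [coord_zpow he, Nat.cast_mul, ZMod.natCast_zmod_val, add_comm]

theorem mem_zpowers_of_coord {σ g : Equiv.Perm α} {e : ZMod p ≃ α}
    (he : ∀ j, σ (e j) = e (j + 1)) {c : ZMod p} (hg : ∀ j, g (e j) = e (j + c)) :
    g ∈ Subgroup.zpowers σ := by
  have : g = σ ^ c.val := by
    ext x
    obtain ⟨j, rfl⟩ := e.surjective x
    rw [hg, coord_zpow he, ZMod.natCast_zmod_val]
  rw [this]
  exact Subgroup.pow_mem _ (Subgroup.mem_zpowers σ) _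

theorem conj_mem_of_mem_normalizer {G : Subgroup (Equiv.Perm α)} {P : Subgroup G} {σ : G}
    (hP : P = Subgroup.zpowers σ) {g : G} (hg : g ∈ Subgroup.normalizer (P : Set G)) :
    (g : Equiv.Perm α) * σ * (g : Equiv.Perm α)⁻¹ ∈ Subgroup.zpowers (σ : Equiv.Perm α) := by
  have h1 : g * σ * g⁻¹ ∈ P := (hg σ).mp (hP ▸ Subgroup.mem_zpowers σ)
  rw [hP, Subgroup.mem_zpowers_iff] at h1
  obtain ⟨n, hn⟩ := h1
  exact Subgroup.mem_zpowers_iff.mpr ⟨n, by
    rw [← Subgroup.coe_zpow, hn]; simp⟩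

/-- If the Sylow normalizer has even order, some element of the group is negation in
suitable coordinates. -/
theorem exists_negation (hα : Fintype.card α = p) (hp2 : p ≠ 2) (G : Subgroup (Equiv.Perm α))
    [MulAction.IsPretransitive G α] (P : Sylow p G)
    (heven : Even (Nat.card (Subgroup.normalizer ((P : Subgroup G) : Set G)))) :
    ∃ (σ : Equiv.Perm α) (e : ZMod p ≃ α) (u : Equiv.Perm α), σ ∈ G ∧ orderOf σ = p ∧
      (∀ j, σ (e j) = e (j + 1)) ∧ u ∈ G ∧ ∀ j, u (e j) = e (-j) := by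
  obtain ⟨σ, hσ, hP⟩ := exists_sylow_generator hα G P
  obtain ⟨a₀⟩ : Nonempty α := Fintype.card_pos_iff.mp (hα ▸ hp.out.pos)
  obtain ⟨e, -, he⟩ := exists_coord hα hσ a₀
  obtain ⟨t, ht⟩ := exists_prime_orderOf_dvd_card' 2 (even_iff_two_dvd.mp heven)
  obtain ⟨a, c, -, htc⟩ := coord_of_conj hσ he (conj_mem_of_mem_normalizer hP t.2)
  have ht2 : ∀ x, ((t : G) : Equiv.Perm α) (((t : G) : Equiv.Perm α) x) = x := fun x => by
    have : t ^ 2 = 1 := ht ▸ pow_orderOf_eq_one t
    have h2 := congrArg (fun z : Subgroup.normalizer ((P : Subgroup G) : Set G) =>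
      ((z : G) : Equiv.Perm α) x) this
    simpa [pow_two] using h2
  have h0 : a * c + c = 0 := by
    have := ht2 (e 0)
    rw [htc, htc, e.apply_eq_iff_eq, mul_zero, zero_add] at this
    exact this
  have h1 : a * a = 1 := by
    have := ht2 (e 1)
    rw [htc, htc, e.apply_eq_iff_eq, mul_one, mul_add, add_assoc, h0, add_zero] at this
    exact this
  have ha : a = -1 := by
    refine (mul_self_eq_one_iff.mp h1).resolve_left fun ha1 => ?_
    rw [ha1, one_mul] at h0
    have h2 : (2 : ZMod p) ≠ 0 := by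
      intro h
      have h3 := (ZMod.natCast_eq_zero_iff 2 p).mp (by exact_mod_cast h)
      exact hp2 ((Nat.prime_dvd_prime_iff_eq hp.out Nat.prime_two).mp h3)
    have hc : c = 0 := by
      rw [← two_mul] at h0
      exact (mul_eq_zero.mp h0).resolve_left h2
    have ht1 : t = 1 := Subtype.ext (Subtype.ext (Equiv.ext fun x => by
      obtain ⟨j, rfl⟩ := e.surjective x
      rw [htc, ha1, hc, one_mul, add_zero]; rfl))
    rw [ht1, orderOf_one] at ht
    omega
  refine ⟨σ, e, (σ : Equiv.Perm α) ^ (-c).val * ((t : G) : Equiv.Perm α), σ.2, hσ, he,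
    mul_mem (pow_mem σ.2 _) (t : G).2, fun j => ?_⟩
  rw [Equiv.Perm.mul_apply, htc, coord_zpow he, ha, ZMod.natCast_zmod_val]
  congr 1
  ring

/-- A solvable transitive group of prime degree normalises its cycle. -/
theorem le_normalizer_of_isSolvable (hα : Fintype.card α = p) (G : Subgroup (Equiv.Perm α))
    [MulAction.IsPretransitive G α] (hG : Group.IsSolvable G) :
    ∃ σ ∈ G, orderOf σ = p ∧
      G ≤ Subgroup.normalizer ((Subgroup.zpowers σ : Subgroup (Equiv.Perm α)) : Set (Equiv.Perm α)) := by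
  classical
  have hn : Fintype.card α < 2 * p := by have := hp.out.two_le; omega
  haveI : Nontrivial G := Finite.one_lt_card_iff_nontrivial.mp <|
    lt_of_lt_of_le hp.out.one_lt (Nat.le_of_dvd Nat.card_pos (prime_dvd_card hα G))
  obtain ⟨n, hn0⟩ := (Group.isSolvable_def G).mp hG
  have hex : ∃ n, derivedSeries G n = ⊥ := ⟨n, hn0⟩
  obtain ⟨k, hk⟩ : ∃ k, Nat.find hex = k + 1 := Nat.exists_eq_succ_of_ne_zero (by
    intro h
    have := Nat.find_spec hex
    rw [h, derivedSeries_zero] at this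
    exact top_ne_bot this)
  set D := derivedSeries G k with hD
  have hDne : D ≠ ⊥ := Nat.find_min hex (by omega)
  have hDab : ⁅D, D⁆ = ⊥ := by
    have := Nat.find_spec hex
    rwa [hk, derivedSeries_succ] at this
  haveI : D.Normal := derivedSeries_normal G k
  haveI : MulAction.IsPreprimitive G α :=
    MulAction.IsPreprimitive.of_prime_card (by rw [Nat.card_eq_fintype_card, hα]; exact hp.out)
  have hfix : MulAction.fixedPoints D α ≠ Set.univ := by
    intro h
    apply hDne
    rw [eq_bot_iff]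
    intro d hd
    refine Subgroup.mem_bot.mpr (Subtype.ext (Equiv.ext fun x => ?_))
    have hx : x ∈ MulAction.fixedPoints D α := h ▸ Set.mem_univ x
    exact hx ⟨d, hd⟩
  haveI : MulAction.IsPretransitive D α :=
    MulAction.IsQuasiPreprimitive.isPretransitive_of_normal hfix
  obtain ⟨a⟩ : Nonempty α := Fintype.card_pos_iff.mp (hα ▸ hp.out.pos)
  have hpD : p ∣ Nat.card D := by
    rw [← hα, ← Nat.card_eq_fintype_card (α := α),
      ← MulAction.index_stabilizer_of_transitive (G := D) a]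
    exact Subgroup.index_dvd_card _
  obtain ⟨d, hd⟩ := exists_prime_orderOf_dvd_card' p hpD
  set σ : Equiv.Perm α := ((d : G) : Equiv.Perm α) with hσdef
  have hσ : orderOf σ = p := by rw [hσdef, Subgroup.orderOf_coe, Subgroup.orderOf_coe, hd]
  refine ⟨σ, (d : G).2, hσ, fun g hg => ?_⟩
  have hDC : ∀ x ∈ D, (x : Equiv.Perm α) ∈ Subgroup.zpowers σ := by
    intro x hx
    have hc : (x : Equiv.Perm α) ∈ Subgroup.centralizer {σ} := by
      rw [Subgroup.mem_centralizer_iff]
      intro h hh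
      rw [Set.mem_singleton_iff] at hh
      subst hh
      have h1 := Subgroup.commutator_eq_bot_iff_le_centralizer.mp hDab hx
      rw [Subgroup.mem_centralizer_iff] at h1
      exact congrArg Subtype.val (h1 d d.2)
    have hle : Subgroup.zpowers σ ≤ Subgroup.centralizer {σ} := by
      rw [Subgroup.zpowers_le, Subgroup.mem_centralizer_iff]
      simp
    rwa [Subgroup.eq_of_le_of_card_ge hle (by
      rw [card_centralizer_of_orderOf_eq hn hσ, hα, Nat.card_zpowers, hσ]; simp)]
  have hmem : ∀ g ∈ G, g * σ * g⁻¹ ∈ Subgroup.zpowers σ := fun g hg =>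
    hDC (⟨g, hg⟩ * (d : G) * ⟨g, hg⟩⁻¹) ((derivedSeries_normal G k).conj_mem _ d.2 _)
  have hconj : ∀ g ∈ G, ∀ x ∈ Subgroup.zpowers σ, g * x * g⁻¹ ∈ Subgroup.zpowers σ := by
    intro g hg x hx
    obtain ⟨m, rfl⟩ := Subgroup.mem_zpowers_iff.mp hx
    rw [← conj_zpow]
    exact Subgroup.zpow_mem _ (hmem g hg) m
  intro x
  refine ⟨hconj g hg x, fun hx => ?_⟩
  have := hconj g⁻¹ (inv_mem hg) _ hx
  simpa [mul_assoc] using this

end CfsgLib.SmallGroups
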