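import Mathlib.GroupTheory.GroupAction.Jordan
import Mathlib.GroupTheory.Perm.Cycle.Type
import Mathlib.Tactic

/-!
Basic facts about multiply transitive permutation groups: prescribing images of a finite set,
three-cycles, and the passage from small support to the alternating group.
-/

set_option autoImplicit false

namespace CfsgLib.SmallGroups

open MulAction Equiv

/-- A `k`-transitive group realises any injective map on any set of at most `k` points. -/
theorem exists_smul_eq_on_finset {G α : Type*} [Group G] [MulAction G α] [Finite α] {k : ℕ}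
    (hG : IsMultiplyPretransitive G α k) (hk : k ≤ Nat.card α)
    (A : Finset α) (hA : A.card ≤ k) (f : α → α) (hf : Set.InjOn f (A : Set α)) :
    ∃ g : G, ∀ a ∈ A, g • a = f a := by
  haveI := isMultiplyPretransitive_of_le (G := G) (α := α) (m := A.card) (n := k) hA
    hk
  let x : Fin A.card ↪ α := A.equivFin.symm.toEmbedding.trans (Function.Embedding.subtype _)
  let y : Fin A.card ↪ α := ⟨fun i => f (x i), fun i j h => x.injective
    (hf (A.equivFin.symm i).2 (A.equivFin.symm j).2 h)⟩
  obtain ⟨g, hg⟩ := MulAction.exists_smul_eq G x y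
  refine ⟨g, fun a ha => ?_⟩
  have := congrArg (fun e : Fin A.card ↪ α => e (A.equivFin ⟨a, ha⟩)) hg
  simpa [x, y, Function.Embedding.smul_apply] using this

variable {α : Type*} [Fintype α] [DecidableEq α]

theorem exists_mem_eq_on_finset {G : Subgroup (Perm α)} {k : ℕ}
    (hG : IsMultiplyPretransitive G α k) (hk : k ≤ Fintype.card α)
    (A : Finset α) (hA : A.card ≤ k) (f : α → α) (hf : Set.InjOn f (A : Set α)) :
    ∃ g ∈ G, ∀ a ∈ A, g a = f a := by
  obtain ⟨g, hg⟩ := exists_smul_eq_on_finset hG (by rwa [Nat.card_eq_fintype_card]) A hA f hf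
  exact ⟨g.1, g.2, hg⟩

/-- A permutation with support of size two or three gives the alternating group in a primitive
group. -/
theorem alternatingGroup_le_of_small_support {G : Subgroup (Perm α)}
    (hG : IsPreprimitive G α) {h : Perm α} (hh : h ∈ G) (h1 : h ≠ 1) (hs : h.support.card ≤ 3) :
    alternatingGroup α ≤ G := by
  rcases Nat.lt_or_ge h.support.card 3 with h2 | h3
  · have : h.support.card = 2 := by
      have := Perm.one_lt_card_support_of_ne_one h1; omega
    rw [Perm.subgroup_eq_top_of_isPreprimitive_of_isSwap_mem hG h
      (Perm.card_support_eq_two.mp this) hh]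
    exact le_top
  · exact Perm.alternatingGroup_le_of_isPreprimitive_of_isThreeCycle_mem hG
      (card_support_eq_three_iff.mp (le_antisymm hs h3)) hh

theorem isPreprimitive_of_isMultiplyPretransitive {G : Subgroup (Perm α)} {k : ℕ}
    (hG : IsMultiplyPretransitive G α k) (h2 : 2 ≤ k) (hk : k ≤ Fintype.card α) :
    IsPreprimitive G α := by
  haveI := isMultiplyPretransitive_of_le (G := G) (α := α) (m := 2) (n := k) h2
    (by rwa [Nat.card_eq_fintype_card])
  exact isPreprimitive_of_is_two_pretransitive inferInstance

end CfsgLib.SmallGroups
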