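import Cfsg.Agent.Lib.SmallGroups.PrimeOrderChar
import Cfsg.Agent.Lib.InvolChar.Basic
import Cfsg.Agent.Lib.Invol.Counting
import Mathlib

/-!
Characters at an element of prime order conjugate to all its non-trivial powers, and the parity of
character values at involutions of a perfect group.
-/

set_option autoImplicit false
set_option linter.style.haveILetI false

namespace CfsgLib.SmallGroups.PrimeRational

open scoped ComplexConjugate

variable {G : Type*} [Group G]

/-- With a self-centralising `⟨x⟩` of order `p` and normalizer of order `p (p - 1)`, the non-trivial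
powers of `x` are conjugate to `x`. -/
theorem isConj_of_mem [Finite G] {p : ℕ} [Fact p.Prime] {x : G} (hx : orderOf x = p)
    (hC : Subgroup.centralizer ({x} : Set G) = Subgroup.zpowers x)
    (hN : Nat.card (Subgroup.normalizer ((Subgroup.zpowers x : Subgroup G) : Set G)) = p * (p - 1))
    {u : G} (hu : u ∈ Subgroup.zpowers x) (hu1 : u ≠ 1) : IsConj x u := by
  classical
  set P := Subgroup.zpowers x with hP
  set N := Subgroup.normalizer ((P : Subgroup G) : Set G) with hNdef
  have hx1 : x ≠ 1 := fun h => by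
    rw [h, orderOf_one] at hx; exact (Fact.out : p.Prime).one_lt.ne hx
  have hPN : P ≤ N := Subgroup.le_normalizer
  have hPc : Nat.card P = p := by rw [hP, Nat.card_zpowers, hx]
  let f : N ⧸ P.subgroupOf N → {w : P // w ≠ 1} := fun q =>
    ⟨⟨(q.out : G) * x * (q.out : G)⁻¹, (q.out.2 x).mp (Subgroup.mem_zpowers x)⟩,
      fun h => hx1 (conj_eq_one_iff.mp (congrArg Subtype.val h))⟩
  have hf : Function.Injective f := by
    intro a b h
    have h' : (a.out : G) * x * (a.out : G)⁻¹ = (b.out : G) * x * (b.out : G)⁻¹ :=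
      congrArg (fun w : {w : P // w ≠ 1} => ((w : P) : G)) h
    rw [← a.out_eq', ← b.out_eq', QuotientGroup.eq, Subgroup.mem_subgroupOf]
    apply hC.le
    rw [Subgroup.mem_centralizer_singleton_iff]
    simp only [Subgroup.coe_mul, Subgroup.coe_inv]
    calc (a.out : G)⁻¹ * (b.out : G) * x
        = (a.out : G)⁻¹ * ((b.out : G) * x * (b.out : G)⁻¹) * (b.out : G) := by group
      _ = x * ((a.out : G)⁻¹ * (b.out : G)) := by rw [← h']; group
  have hcard : Nat.card (N ⧸ P.subgroupOf N) = Nat.card {w : P // w ≠ 1} := by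
    have h1 := (P.subgroupOf N).card_mul_index
    rw [Nat.card_congr (Subgroup.subgroupOfEquivOfLe hPN).toEquiv, hPc, hN, Subgroup.index] at h1
    haveI := Fintype.ofFinite P
    rw [Nat.card_eq_fintype_card (α := {w : P // w ≠ 1}), Fintype.card_subtype_compl,
      Fintype.card_subtype_eq, ← Nat.card_eq_fintype_card, hPc]
    exact Nat.eq_of_mul_eq_mul_left (Fact.out : p.Prime).pos h1
  obtain ⟨q, hq⟩ := ((Nat.bijective_iff_injective_and_card f).mpr ⟨hf, hcard⟩).2
    ⟨⟨u, hu⟩, fun h => hu1 (congrArg Subtype.val h)⟩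
  exact isConj_iff.mpr ⟨q.out, congrArg (fun w : {w : P // w ≠ 1} => ((w : P) : G)) hq⟩

variable [Fintype G]

/-- Such an element takes integral values, congruent to the degree modulo `p`. -/
theorem exists_int_value {p : ℕ} [Fact p.Prime] {x : G} (hx : orderOf x = p)
    (hconj : ∀ u ∈ Subgroup.zpowers x, u ≠ 1 → IsConj x u) (χ : Cfsg.IrrCharacter G) :
    ∃ e : ℤ, (χ : G → ℂ) x = (e : ℂ) ∧ (p : ℤ) ∣ (CfsgLib.InvolChar.deg χ : ℤ) - e := by
  classical
  set P := Subgroup.zpowers x with hP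
  obtain ⟨z, hz⟩ := CfsgLib.Char.classInner_gen_int
    (CfsgLib.Char.isGen_res P (CfsgLib.Char.isGen_of_irr χ.2))
    (CfsgLib.Char.isGen_of_irr (CfsgLib.Char.isIrrCharacter_one (G := P)))
  have hPc : Nat.card P = p := by rw [hP, Nat.card_zpowers, hx]
  have hp0 : (p : ℂ) ≠ 0 := by exact_mod_cast (Fact.out : p.Prime).ne_zero
  rw [CfsgLib.Char.classInner_def, hPc] at hz
  simp only [map_one, mul_one] at hz
  rw [inv_mul_eq_iff_eq_mul₀ hp0, ← Finset.add_sum_erase _ _ (Finset.mem_univ (1 : P))] at hz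
  have h1 : ∀ w ∈ (Finset.univ : Finset P).erase 1, (χ : G → ℂ) w = (χ : G → ℂ) x := fun w hw =>
    (CfsgLib.Char.isClassFunction_iff.1 (CfsgLib.Char.isClassFunction_of_isIrr χ.2) x w
      (hconj w w.2 fun h => Finset.ne_of_mem_erase hw (Subtype.ext h))).symm
  rw [Finset.sum_congr rfl h1, Finset.sum_const, Finset.card_erase_of_mem (Finset.mem_univ _),
    Finset.card_univ, ← Nat.card_eq_fintype_card, hPc, nsmul_eq_mul, OneMemClass.coe_one,
    CfsgLib.InvolChar.deg_spec, Nat.cast_sub (Fact.out : p.Prime).one_le, Nat.cast_one] at hz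
  have hp1 : ((p : ℂ) - 1) ≠ 0 := by
    rw [sub_ne_zero]
    exact_mod_cast (Fact.out : p.Prime).one_lt.ne'
  -- a rational algebraic integer
  have hrat : ∃ r : ℚ, (χ : G → ℂ) x = (r : ℂ) := by
    refine ⟨((p : ℚ) * z - CfsgLib.InvolChar.deg χ) / ((p : ℚ) - 1), ?_⟩
    push_cast
    rw [eq_div_iff hp1]
    linear_combination hz
  obtain ⟨r, hr⟩ := hrat
  have hint : IsIntegral ℤ r := by
    refine (isIntegral_algHom_iff (Algebra.ofId ℚ ℂ |>.restrictScalars ℤ)
      (RingHom.injective _)).mp ?_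
    show IsIntegral ℤ ((r : ℚ) : ℂ)
    rw [← hr]
    exact CfsgLib.Char.char_isIntegral (CfsgLib.Char.isCharacter_of_isIrr χ.2) x
  obtain ⟨e, he⟩ := IsIntegrallyClosed.isIntegral_iff.mp hint
  have hre : (χ : G → ℂ) x = (e : ℂ) := by rw [hr, ← he]; simp
  refine ⟨e, hre, ⟨(z : ℤ) - e, ?_⟩⟩
  rw [hre] at hz
  have h2 : ((CfsgLib.InvolChar.deg χ : ℤ) + ((p : ℤ) - 1) * e : ℂ) = ((p : ℤ) * z : ℂ) := by
    push_cast; exact hz
  have h3 : (CfsgLib.InvolChar.deg χ : ℤ) + ((p : ℤ) - 1) * e = (p : ℤ) * z := by exact_mod_cast h2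
  linear_combination h3

/-- In a group without non-trivial linear characters the value at an involution is congruent to the
degree modulo `4`. -/
theorem four_dvd_deg_sub (hlin : ∀ f : G →* ℂˣ, f = 1) (χ : Cfsg.IrrCharacter G) {t : G}
    (ht : t * t = 1) : (4 : ℤ) ∣ (CfsgLib.InvolChar.deg χ : ℤ) - CfsgLib.InvolChar.intVal χ ht := by
  classical
  obtain ⟨n, ρ, hirr, hρ⟩ := χ.2
  obtain ⟨b, z, hz⟩ := CfsgLib.Char.exists_eigenbasis ρ t
  have hzz : ∀ i, z i = 1 ∨ z i = -1 := fun i => by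
    have h1 : orderOf t ∣ 2 := orderOf_dvd_of_pow_eq_one (by rw [sq]; exact ht)
    obtain ⟨k, hk⟩ := h1
    exact sq_eq_one_iff.1 (by rw [hk, pow_mul, (hz i).1, one_pow])
  have hdeg : (CfsgLib.InvolChar.deg χ : ℂ) = (Fintype.card (Fin (Module.finrank ℂ (Fin n → ℂ))) : ℂ) := by
    rw [← CfsgLib.InvolChar.deg_spec χ, ← hρ, Representation.char_one, Fintype.card_fin]
  have htr : (CfsgLib.InvolChar.intVal χ ht : ℂ) = ∑ i, z i := by
    rw [← CfsgLib.InvolChar.intVal_spec χ ht, ← hρ]
    exact CfsgLib.Char.trace_eq_sum_eigen b _ _ fun i => (hz i).2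
  have hdet : ∏ i, z i = 1 := by
    let φ : G →* ℂ := LinearMap.det.comp ρ
    have h1 : φ t = 1 := by
      have h2 := DFunLike.congr_fun (hlin φ.toHomUnits) t
      simpa using congrArg Units.val h2
    have hmat : LinearMap.toMatrix b b (ρ t) = Matrix.diagonal z := by
      ext i j
      rw [LinearMap.toMatrix_apply, (hz j).2, map_smul, b.repr_self, Matrix.diagonal_apply]
      by_cases h : i = j
      · subst h; simp
      · simp [h, Finsupp.single_eq_of_ne h]
    rw [← Matrix.det_diagonal (d := z), ← hmat, LinearMap.det_toMatrix]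
    exact h1
  set S := Finset.univ.filter (fun i => z i = -1) with hS
  have hsgn : ∀ i, z i = if i ∈ S then -1 else 1 := fun i => by
    rcases hzz i with h | h <;> simp [hS, h, show (1 : ℂ) ≠ -1 by norm_num]
  have heven : Even S.card := by
    have h1 : ∏ i, z i = (-1 : ℂ) ^ S.card := by
      rw [Finset.prod_congr rfl fun i _ => hsgn i, Finset.prod_ite_mem, Finset.univ_inter,
        Finset.prod_const]
    rw [hdet] at h1
    exact (neg_one_pow_eq_one_iff_even (by norm_num : (-1 : ℂ) ≠ 1)).mp h1.symm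
  obtain ⟨k, hk⟩ := heven
  refine ⟨(k : ℤ), ?_⟩
  have h1 : ∀ i, 1 - z i = if i ∈ S then (2 : ℂ) else 0 := fun i => by
    rw [hsgn i]; split_ifs <;> norm_num
  have h2 : (CfsgLib.InvolChar.deg χ : ℂ) - (CfsgLib.InvolChar.intVal χ ht : ℂ) = 2 * (S.card : ℂ) := by
    rw [hdeg, htr, ← Finset.card_univ, ← mul_one (Finset.card _ : ℂ), ← nsmul_eq_mul, ← Finset.sum_const,
      ← Finset.sum_sub_distrib, Finset.sum_congr rfl fun i _ => h1 i, Finset.sum_ite_mem,
      Finset.univ_inter, Finset.sum_const, nsmul_eq_mul]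
    ring
  have h3 : (CfsgLib.InvolChar.deg χ : ℤ) - CfsgLib.InvolChar.intVal χ ht = 2 * (S.card : ℤ) := by
    exact_mod_cast h2
  rw [h3, hk]
  push_cast
  ring

end CfsgLib.SmallGroups.PrimeRational
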