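import Cfsg.Agent.Lib.SmallGroups.SylowFixed
import Cfsg.Agent.Lib.SmallGroups.PrimeDegree
import Mathlib

/-!
Sylow subgroups of a local subgroup, elements forced into a centraliser, and involutions acting on
the cosets of a subgroup of a simple group.
-/

set_option autoImplicit false
set_option linter.style.haveILetI false

namespace CfsgLib.SmallGroups.SylowLocal

open MulAction

variable {G : Type*} [Group G] [Finite G]

/-- An element of `N(K)` of order prime to a multiple of `|N(K) : C(K)|` centralises `K`. -/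
theorem mem_centralizer_of_coprime (K : Subgroup G) {k : ℕ}
    (hk : Nat.card (Subgroup.normalizer (K : Set G)) ∣ k * Nat.card (Subgroup.centralizer (K : Set G)))
    {g : G} (hg : g ∈ Subgroup.normalizer (K : Set G)) (hcop : Nat.Coprime (orderOf g) k) :
    g ∈ Subgroup.centralizer (K : Set G) := by
  set f := K.normalizerMonoidHom
  have h1 : orderOf (f ⟨g, hg⟩) ∣ orderOf g := by
    have := orderOf_map_dvd f (⟨g, hg⟩ : Subgroup.normalizer (K : Set G))
    rwa [Subgroup.orderOf_mk] at this
  have h2 : orderOf (f ⟨g, hg⟩) ∣ k := by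
    refine (Subgroup.orderOf_dvd_natCard f.range ⟨_, rfl⟩).trans ?_
    rw [card_normalizer_eq_index_mul K, Subgroup.index_ker] at hk
    exact Nat.dvd_of_mul_dvd_mul_right Nat.card_pos hk
  have h3 : (⟨g, hg⟩ : Subgroup.normalizer (K : Set G)) ∈ f.ker :=
    MonoidHom.mem_ker.mpr (orderOf_eq_one_iff.mp (Nat.eq_one_of_dvd_coprimes hcop h1 h2))
  rw [Subgroup.normalizerMonoidHom_ker] at h3
  exact Subgroup.mem_subgroupOf.mp h3

variable {p : ℕ} [Fact p.Prime]

/-- All Sylow subgroups have centralisers of the same order. -/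
theorem card_centralizer_sylow (P Q : Sylow p G) :
    Nat.card (Subgroup.centralizer ((Q : Subgroup G) : Set G)) =
      Nat.card (Subgroup.centralizer ((P : Subgroup G) : Set G)) := by
  obtain ⟨g, rfl⟩ := exists_smul_eq G P Q
  refine Nat.card_congr (Equiv.subtypeEquiv (MulAut.conj g).toEquiv fun a => ?_).symm
  rw [Subgroup.mem_centralizer_iff, Subgroup.mem_centralizer_iff]
  constructor
  · rintro h _ ⟨y, hy, rfl⟩
    show g * y * g⁻¹ * (g * a * g⁻¹) = g * a * g⁻¹ * (g * y * g⁻¹)
    rw [show g * y * g⁻¹ * (g * a * g⁻¹) = g * (y * a) * g⁻¹ by group, h y hy]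
    group
  · intro h y hy
    have h' : g * y * g⁻¹ * (g * a * g⁻¹) = g * a * g⁻¹ * (g * y * g⁻¹) :=
      h _ ⟨y, hy, rfl⟩
    apply mul_left_cancel (a := g)
    apply mul_right_cancel (b := g⁻¹)
    calc g * (y * a) * g⁻¹ = g * y * g⁻¹ * (g * a * g⁻¹) := by group
      _ = g * a * g⁻¹ * (g * y * g⁻¹) := h'
      _ = g * (a * y) * g⁻¹ := by group

/-- The Sylow subgroups of `H` are those of `G` inside `H`, if `H` contains one of them. -/
theorem card_sylow_eq_card_le (P : Sylow p G) {H : Subgroup G} (hPH : (P : Subgroup G) ≤ H) :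
    Nat.card (Sylow p H) = Nat.card {Q : Sylow p G // (Q : Subgroup G) ≤ H} := by
  refine (Nat.card_congr (Equiv.ofBijective
    (fun Q : {Q : Sylow p G // (Q : Subgroup G) ≤ H} => Q.1.subtype Q.2) ⟨fun A B h => ?_, fun R => ?_⟩)).symm
  · exact Subtype.ext (Sylow.subtype_injective h)
  · obtain ⟨Q, hQ⟩ := R.exists_comap_subtype_eq
    have hcR : Nat.card (R : Subgroup H) = Nat.card (Q : Subgroup G) := by
      rw [Nat.card_congr (R.equiv (P.subtype hPH)).toEquiv, Sylow.coe_subtype,
        Nat.card_congr (Subgroup.subgroupOfEquivOfLe hPH).toEquiv, Nat.card_congr (P.equiv Q).toEquiv]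
    have hle : (Q : Subgroup G) ≤ H := by
      have h1 : ((R : Subgroup H).map H.subtype) ≤ (Q : Subgroup G) := by
        rw [Subgroup.map_le_iff_le_comap, hQ]
      have h2 := Subgroup.eq_of_le_of_card_ge h1
        (by rw [Subgroup.card_map_of_injective H.subtype_injective, hcR])
      rw [← h2]
      exact Subgroup.map_subtype_le _
    exact ⟨⟨Q, hle⟩, Sylow.ext hQ⟩

/-- The order of `H` is the Sylow number times the order of `N(P) ∩ H`. -/
theorem card_eq_mul_inf (P : Sylow p G) {H : Subgroup G} (hPH : (P : Subgroup G) ≤ H) :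
    Nat.card H =
      Nat.card (Sylow p H) * Nat.card (Subgroup.normalizer ((P : Subgroup G) : Set G) ⊓ H : Subgroup G) := by
  rw [← card_sylow_mul_card_normalizer (P.subtype hPH), Sylow.coe_subtype,
    ← Subgroup.subgroupOf_normalizer_eq hPH, ← Subgroup.inf_subgroupOf_right,
    Nat.card_congr (Subgroup.subgroupOfEquivOfLe inf_le_right).toEquiv]

omit p in
/-- An involution of a simple group moves a multiple of four points. -/
theorem four_dvd_moved_action [IsSimpleGroup G] (hG : ¬ IsMulCommutative G) {X : Type*} [MulAction G X]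
    [Finite X] {g : G} (hg : g * g = 1) : 4 ∣ Nat.card X - Nat.card {x : X // g • x = x} := by
  classical
  haveI := Fintype.ofFinite X
  set σ := MulAction.toPermHom G X g with hσ
  have h2 : σ ^ 2 = 1 := by rw [hσ, ← map_pow, pow_two, hg, map_one]
  have hfix : Nat.card X - Nat.card {x : X // g • x = x} = σ.support.card := by
    rw [Nat.card_eq_fintype_card, Nat.card_eq_fintype_card, Fintype.card_subtype,
      show σ.support = Finset.univ.filter (fun x => ¬ g • x = x) from by ext x; simp [hσ]]
    have := Finset.card_filter_add_card_filter_not (s := (Finset.univ : Finset X)) (fun x => g • x = x)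
    rw [Finset.card_univ] at this
    omega
  rw [hfix]
  have hs : Equiv.Perm.sign σ = 1 := sign_eq_one_of_simple hG _ g
  have htwo : ∀ x ∈ σ.cycleType, x = 2 := fun x hx => by
    have hd : x ∣ 2 := dvd_trans (Equiv.Perm.dvd_of_mem_cycleType hx) (orderOf_dvd_of_pow_eq_one h2)
    exact le_antisymm (Nat.le_of_dvd two_pos hd) (Equiv.Perm.two_le_of_mem_cycleType hx)
  rw [Equiv.Perm.sign_of_cycleType, Multiset.eq_replicate_card.mpr htwo, Multiset.sum_replicate,
    Multiset.card_replicate, smul_eq_mul] at hs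
  rw [← Equiv.Perm.sum_cycleType, Multiset.eq_replicate_card.mpr htwo, Multiset.sum_replicate, smul_eq_mul]
  obtain ⟨k, hk⟩ | ⟨k, hk⟩ := Nat.even_or_odd (Multiset.card σ.cycleType)
  · exact ⟨k, by omega⟩
  · exfalso
    have hodd : Odd (Multiset.card σ.cycleType * 2 + Multiset.card σ.cycleType) := ⟨3 * k + 1, by omega⟩
    rw [hodd.neg_one_pow] at hs
    exact absurd hs (by decide)

end CfsgLib.SmallGroups.SylowLocal
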