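import Cfsg.Agent.Lib.SmallGroups.InvertingInvolution
import Cfsg.Agent.Lib.SmallGroups.SylowFixed
import Mathlib

/-!
Small tools for identifying a simple group from the orders of its centralisers: a self-centralising
Sylow subgroup of prime order, a single class of involutions, and covering the group by counting.
-/

set_option autoImplicit false
set_option linter.style.haveILetI false

namespace CfsgLib.SmallGroups.SmallPiece

open MulAction

/-- Three disjoint sets which are large enough cover everything but one point. -/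
theorem cover_of_card {α : Type*} [Finite α] (a : α) (A B C : α → Prop)
    (hA : ¬ A a) (hB : ¬ B a) (hC : ¬ C a) (hAB : ∀ y, A y → ¬ B y) (hAC : ∀ y, A y → ¬ C y)
    (hBC : ∀ y, B y → ¬ C y)
    (h : Nat.card α ≤ 1 + Nat.card {y // A y} + Nat.card {y // B y} + Nat.card {y // C y}) (y : α) :
    y = a ∨ A y ∨ B y ∨ C y := by
  let f : Option ({y // A y} ⊕ {y // B y} ⊕ {y // C y}) → α := fun z => match z with
    | none => a
    | some (Sum.inl u) => u.1
    | some (Sum.inr (Sum.inl u)) => u.1
    | some (Sum.inr (Sum.inr u)) => u.1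
  have hf : Function.Injective f := by
    rintro (_ | u | u | u) (_ | v | v | v) e <;> simp only [f] at e
    all_goals first
      | rfl
      | exact congrArg (some ∘ Sum.inl) (Subtype.ext e)
      | exact congrArg (some ∘ Sum.inr ∘ Sum.inl) (Subtype.ext e)
      | exact congrArg (some ∘ Sum.inr ∘ Sum.inr) (Subtype.ext e)
      | (exfalso; first
          | exact hA (e ▸ v.2) | exact hB (e ▸ v.2) | exact hC (e ▸ v.2)
          | exact hA (e ▸ u.2) | exact hB (e ▸ u.2) | exact hC (e ▸ u.2)
          | exact hAB _ u.2 (e ▸ v.2) | exact hAC _ u.2 (e ▸ v.2) | exact hBC _ u.2 (e ▸ v.2)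
          | exact hAB _ v.2 (e ▸ u.2) | exact hAC _ v.2 (e ▸ u.2) | exact hBC _ v.2 (e ▸ u.2))
  have hb : Function.Bijective f := (Nat.bijective_iff_injective_and_card _).mpr ⟨hf, by
    refine le_antisymm (Nat.card_le_card_of_injective f hf) (h.trans (le_of_eq ?_))
    rw [Finite.card_option, Nat.card_sum, Nat.card_sum]
    ring⟩
  obtain ⟨z, rfl⟩ := hb.2 y
  rcases z with _ | u | u | u
  · exact Or.inl rfl
  · exact Or.inr (Or.inl u.2)
  · exact Or.inr (Or.inr (Or.inl u.2))
  · exact Or.inr (Or.inr (Or.inr u.2))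

variable {G : Type*} [Group G] [Finite G]

/-- If all involutions are conjugate then there are `|G| / |C(s)|` of them. -/
theorem card_involutions_mul {s : G} (hs : orderOf s = 2)
    (hone : ∀ v : G, orderOf v = 2 → IsConj s v) :
    Nat.card {t : G // orderOf t = 2} * Nat.card (Subgroup.centralizer ({s} : Set G)) = Nat.card G := by
  rw [Nat.card_congr (Equiv.subtypeEquivRight (q := fun y => IsConj s y) fun y => ⟨hone y, fun h =>
    (CfsgLib.Invol.orderOf_eq_of_isConj h).symm.trans hs⟩)]
  exact CfsgLib.Invol.card_conjugates_mul s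

/-- With all involutions conjugate, the centraliser of one of them contains a Sylow subgroup. -/
theorem two_part_dvd_centralizer {s : G} (hone : ∀ v : G, orderOf v = 2 → IsConj s v) {a m : ℕ}
    (ha : 1 ≤ a) (hG : Nat.card G = 2 ^ a * m) (hm : ¬ 2 ∣ m) :
    2 ^ a ∣ Nat.card (Subgroup.centralizer ({s} : Set G)) := by
  haveI : Fact (Nat.Prime 2) := ⟨Nat.prime_two⟩
  obtain ⟨T⟩ : Nonempty (Sylow 2 G) := inferInstance
  have hT : Nat.card (T : Subgroup G) = 2 ^ a := card_sylow_eq hG hm T
  haveI : Nontrivial (T : Subgroup G) := by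
    rw [← Finite.one_lt_card_iff_nontrivial, hT]
    exact Nat.one_lt_two_pow (by omega)
  haveI := T.2.center_nontrivial
  obtain ⟨k, hk0, hk⟩ := (T.2.to_subgroup (Subgroup.center (T : Subgroup G))).nontrivial_iff_card.mp
    inferInstance
  obtain ⟨⟨⟨z, hzT⟩, hzc⟩, hz⟩ := exists_prime_orderOf_dvd_card' (G := Subgroup.center (T : Subgroup G)) 2
    (by rw [hk]; exact dvd_pow_self 2 (by omega))
  rw [Subgroup.orderOf_mk, Subgroup.orderOf_mk] at hz
  rw [← CfsgLib.Invol.card_centralizer_of_isConj (hone z hz), ← hT]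
  refine Subgroup.card_dvd_of_le fun y hy => ?_
  rw [Subgroup.mem_centralizer_singleton_iff]
  exact congrArg Subtype.val (Subgroup.mem_center_iff.mp hzc ⟨y, hy⟩)

section Prime

variable {p : ℕ} [Fact p.Prime]

/-- All elements of order `p` have centraliser of order `p`. -/
theorem card_centralizer_eq (P : Sylow p G) (hP : Nat.card (P : Subgroup G) = p) {x : G}
    (hx : orderOf x = p) (hC : Subgroup.centralizer ({x} : Set G) = Subgroup.zpowers x) {y : G}
    (hy : orderOf y = p) : Nat.card (Subgroup.centralizer ({y} : Set G)) = p := by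
  have hpp : p.Prime := Fact.out
  have mk : ∀ u : G, orderOf u = p → ∃ Q : Sylow p G, (Q : Subgroup G) = Subgroup.zpowers u := by
    intro u hu
    obtain ⟨Q, hQ⟩ := (IsPGroup.of_card (G := Subgroup.zpowers u) (n := 1)
      (by rw [Nat.card_zpowers, hu, pow_one])).exists_le_sylow
    refine ⟨Q, (Subgroup.eq_of_le_of_card_ge hQ ?_).symm⟩
    rw [Nat.card_zpowers, hu]
    exact le_of_eq ((Sylow.card_eq_multiplicity Q).trans ((Sylow.card_eq_multiplicity P).symm.trans hP))
  obtain ⟨Q, hQ⟩ := mk x hx
  obtain ⟨R, hR⟩ := mk y hy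
  obtain ⟨g, hg⟩ := exists_smul_eq G R Q
  have hy' : g * y * g⁻¹ ∈ Subgroup.zpowers x := by
    rw [← hQ, ← hg, Sylow.coe_subgroup_smul, Subgroup.mem_pointwise_smul_iff_inv_smul_mem, hR]
    simp [MulAut.smul_def, mul_assoc]
  have hord : orderOf (g * y * g⁻¹) = p := by
    rw [CfsgLib.Invol.orderOf_conj_eq, hy]
  have hgen : Subgroup.zpowers (g * y * g⁻¹) = Subgroup.zpowers x :=
    Subgroup.eq_of_le_of_card_ge (Subgroup.zpowers_le.mpr hy')
      (by rw [Nat.card_zpowers, Nat.card_zpowers, hord, hx])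
  rw [← CfsgLib.Invol.card_centralizer_of_isConj (isConj_iff.mpr ⟨g, rfl⟩ : IsConj y (g * y * g⁻¹))]
  refine (congrArg (fun H : Subgroup G => Nat.card H) ?_).trans (Nat.card_zpowers x ▸ hx)
  rw [← hC]
  ext u
  simp only [Subgroup.mem_centralizer_singleton_iff]
  constructor
  · intro hu
    obtain ⟨k, hk⟩ := Subgroup.mem_zpowers_iff.mp (hgen ▸ Subgroup.mem_zpowers x : x ∈ Subgroup.zpowers (g * y * g⁻¹))
    rw [← hk]
    exact ((show Commute u (g * y * g⁻¹) from hu).zpow_right k).eq
  · intro hu
    obtain ⟨k, hk⟩ := Subgroup.mem_zpowers_iff.mp hy'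
    rw [← hk]
    exact ((show Commute u x from hu).zpow_right k).eq

/-- An element commuting with one of order `p` has order `1` or `p`. -/
theorem orderOf_dvd_of_prime_dvd_centralizer (P : Sylow p G) (hP : Nat.card (P : Subgroup G) = p) {x : G}
    (hx : orderOf x = p) (hC : Subgroup.centralizer ({x} : Set G) = Subgroup.zpowers x) {v : G}
    (h : p ∣ Nat.card (Subgroup.centralizer ({v} : Set G))) : orderOf v ∣ p := by
  obtain ⟨⟨y, hy⟩, hyo⟩ := exists_prime_orderOf_dvd_card' p h
  rw [Subgroup.orderOf_mk] at hyo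
  rw [← card_centralizer_eq P hP hx hC hyo]
  refine Subgroup.orderOf_dvd_natCard _ ?_
  rw [Subgroup.mem_centralizer_singleton_iff] at hy ⊢
  exact hy.symm

end Prime

end CfsgLib.SmallGroups.SmallPiece
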