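import Cfsg.Agent.Lib.SmallGroups.PrimeOrderChar
import Cfsg.Agent.Lib.SmallGroups.PrimeDegree
import Cfsg.Agent.Lib.Char.ClassAlgebra
import Cfsg.Agent.Lib.InvolChar.Basic
import Cfsg.Agent.Lib.Invol.Counting
import Mathlib

/-!
The second relation of Brauer and Suzuki: `⟨x⟩` self-centralising of prime order `p > 5` with
normalizer of order `2 p`, `c` the order of the centraliser of an inverting involution, `a` the
signed degree of the non-exceptional character: `p c² a (a + 1) = |G| (a - A)²`.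
-/

set_option autoImplicit false
set_option linter.style.haveILetI false

namespace CfsgLib.SmallGroups.PrimeOrderChar

open scoped ComplexConjugate

variable {G : Type*} [Group G] [Fintype G]

/-- An element of order `2` of the normalizer inverts `x`. -/
theorem inverts {p : ℕ} [Fact p.Prime] {x s : G} (hx : orderOf x = p) (hp2 : p ≠ 2)
    (hC : Subgroup.centralizer ({x} : Set G) = Subgroup.zpowers x)
    (hs : s ∈ Subgroup.normalizer ((Subgroup.zpowers x : Subgroup G) : Set G)) (hs2 : orderOf s = 2) :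
    s * x * s⁻¹ = x⁻¹ := by
  have hpp : p.Prime := Fact.out
  have hss : s⁻¹ = s := inv_eq_of_mul_eq_one_right (by rw [← pow_two, ← hs2, pow_orderOf_eq_one])
  set y := x * (s * x * s⁻¹) with hy
  have hmem : s * x * s⁻¹ ∈ Subgroup.zpowers x := (hs x).mp (Subgroup.mem_zpowers x)
  obtain ⟨k, hk⟩ := Subgroup.mem_zpowers_iff.mp hmem
  have hcomm : x * (s * x * s⁻¹) = (s * x * s⁻¹) * x := by
    rw [← hk]; exact (Commute.self_zpow x k).eq
  have hsy : s * y * s⁻¹ = y := by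
    calc s * y * s⁻¹ = (s * x * s⁻¹) * ((s * s) * x * (s⁻¹ * s⁻¹)) := by rw [hy]; group
      _ = (s * x * s⁻¹) * x := by rw [hss, ← pow_two, ← hs2, pow_orderOf_eq_one, one_mul, mul_one]
      _ = y := by rw [hy, hcomm]
  by_contra hne
  have hy1 : y ≠ 1 := fun h => hne (eq_inv_of_mul_eq_one_right h)
  have hyP : y ∈ Subgroup.zpowers x := mul_mem (Subgroup.mem_zpowers x) hmem
  have hyord : orderOf y = p := by
    have hd : orderOf y ∣ p :=
      (Subgroup.orderOf_dvd_natCard _ hyP).trans (dvd_of_eq (by rw [Nat.card_zpowers, hx]))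
    exact ((Nat.dvd_prime hpp).mp hd).resolve_left fun h => hy1 (orderOf_eq_one_iff.mp h)
  have hxy : x ∈ Subgroup.zpowers y := by
    rw [Subgroup.eq_of_le_of_card_ge (Subgroup.zpowers_le.mpr hyP)
      (by rw [Nat.card_zpowers, Nat.card_zpowers, hx, hyord])]
    exact Subgroup.mem_zpowers x
  obtain ⟨m, hm⟩ := Subgroup.mem_zpowers_iff.mp hxy
  have hsx : s * x = x * s := by
    rw [← hm]; exact (show Commute s y from mul_inv_eq_iff_eq_mul.mp hsy).zpow_right m
  have : s ∈ Subgroup.zpowers x := by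
    rw [← hC, Subgroup.mem_centralizer_singleton_iff]; exact hsx
  have hd : orderOf s ∣ p :=
    (Subgroup.orderOf_dvd_natCard _ this).trans (dvd_of_eq (by rw [Nat.card_zpowers, hx]))
  rw [hs2] at hd
  exact hp2 ((Nat.prime_dvd_prime_iff_eq Nat.prime_two hpp).mp hd).symm

omit [Fintype G] in
/-- An involution inverting `x` is conjugate to `s`. -/
theorem isConj_of_inverts {p : ℕ} [Fact p.Prime] {x s u : G} (hx : orderOf x = p) (hp2 : p ≠ 2)
    (hC : Subgroup.centralizer ({x} : Set G) = Subgroup.zpowers x) (hinv : s * x * s⁻¹ = x⁻¹)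
    (hss : s * s = 1) (hux : u * x * u⁻¹ = x⁻¹) : IsConj s u := by
  have hsP : ∀ v ∈ Subgroup.zpowers x, s * v = v⁻¹ * s := by
    intro v hv
    obtain ⟨k, rfl⟩ := Subgroup.mem_zpowers_iff.mp hv
    rw [← mul_inv_eq_iff_eq_mul, ← conj_zpow, hinv, inv_zpow]
  have hus : u * s ∈ Subgroup.zpowers x := by
    rw [← hC, Subgroup.mem_centralizer_singleton_iff]
    calc u * s * x = u * (s * x * s⁻¹) * s := by group
      _ = u * x⁻¹ * s := by rw [hinv]
      _ = (u * x * u⁻¹)⁻¹ * u * s := by group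
      _ = x * (u * s) := by rw [hux, inv_inv, mul_assoc]
  obtain ⟨k, hk⟩ : ∃ k, p = 2 * k + 1 := (Fact.out : p.Prime).odd_of_ne_two hp2
  set w := (u * s) ^ (k + 1) with hw
  have hwP : w ∈ Subgroup.zpowers x := Subgroup.pow_mem _ hus _
  have hww : w * w = u * s := by
    have hqp : (u * s) ^ p = 1 := by
      obtain ⟨i, hi⟩ := Subgroup.mem_zpowers_iff.mp hus
      rw [← hi, ← zpow_natCast, zpow_comm, zpow_natCast, ← hx, pow_orderOf_eq_one, one_zpow]
    rw [hw, ← pow_add, show k + 1 + (k + 1) = p + 1 by omega, pow_succ, hqp, one_mul]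
  refine isConj_iff.mpr ⟨w, ?_⟩
  rw [mul_assoc, hsP _ (inv_mem hwP), inv_inv, ← mul_assoc, hww, mul_assoc, hss, mul_one]

omit [Fintype G] in
/-- An involution not conjugate to `s` gives no pair with product `x`. -/
theorem isConj_of_pair {p : ℕ} [Fact p.Prime] {x s v : G} (hx : orderOf x = p) (hp2 : p ≠ 2)
    (hC : Subgroup.centralizer ({x} : Set G) = Subgroup.zpowers x) (hinv : s * x * s⁻¹ = x⁻¹)
    (hss : s * s = 1) (hvv : v * v = 1) {q : G × G}
    (hq : IsConj v q.1 ∧ IsConj v q.2 ∧ q.1 * q.2 = x) : IsConj s v := by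
  obtain ⟨h1, h2, h3⟩ := hq
  obtain ⟨g, hg⟩ := isConj_iff.mp h1
  obtain ⟨g', hg'⟩ := isConj_iff.mp h2
  have e1 : q.1 * q.1 = 1 := by
    rw [← hg, show g * v * g⁻¹ * (g * v * g⁻¹) = g * (v * v) * g⁻¹ by group, hvv]; group
  have e2 : q.2 * q.2 = 1 := by
    rw [← hg', show g' * v * g'⁻¹ * (g' * v * g'⁻¹) = g' * (v * v) * g'⁻¹ by group, hvv]; group
  have hux : q.1 * x * q.1⁻¹ = x⁻¹ := by
    rw [← h3, mul_inv_rev, inv_eq_of_mul_eq_one_right e2, inv_eq_of_mul_eq_one_right e1, ← mul_assoc,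
      e1, one_mul]
  exact (isConj_of_inverts hx hp2 hC hinv hss hux).trans h1.symm

set_option maxHeartbeats 400000 in
/-- The pairs with product `x`. -/
theorem card_pairs {p : ℕ} [Fact p.Prime] {x s : G} (hx : orderOf x = p) (hp : p ≠ 2)
    (hC : Subgroup.centralizer ({x} : Set G) = Subgroup.zpowers x)
    (hs : s ∈ Subgroup.normalizer ((Subgroup.zpowers x : Subgroup G) : Set G)) (hs2 : orderOf s = 2) :
    Nat.card {q : G × G // IsConj s q.1 ∧ IsConj s q.2 ∧ q.1 * q.2 = x} = p := by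
  classical
  have hpp : p.Prime := Fact.out
  set P := Subgroup.zpowers x with hP
  have hinv := inverts hx (by omega) hC hs hs2
  have hss : s * s = 1 := by rw [← pow_two, ← hs2, pow_orderOf_eq_one]
  have hsinv : s⁻¹ = s := inv_eq_of_mul_eq_one_right hss
  have hxp : x ^ p = 1 := by rw [← hx, pow_orderOf_eq_one]
  have hPc : Nat.card P = p := by rw [hP, Nat.card_zpowers, hx]
  -- `s` inverts every element of P
  have hsP : ∀ u ∈ P, s * u = u⁻¹ * s := by
    intro u hu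
    obtain ⟨k, rfl⟩ := Subgroup.mem_zpowers_iff.mp hu
    rw [← mul_inv_eq_iff_eq_mul, ← conj_zpow, hinv, inv_zpow]
  have hsq : ∀ q ∈ P, ∃ w ∈ P, q = w * w := by
    intro q hq
    obtain ⟨k, hk⟩ : ∃ k, p = 2 * k + 1 := hpp.odd_of_ne_two (by omega)
    refine ⟨q ^ (k + 1), Subgroup.pow_mem _ hq _, ?_⟩
    have hqp : q ^ p = 1 := by
      obtain ⟨i, rfl⟩ := Subgroup.mem_zpowers_iff.mp hq
      rw [← zpow_natCast, zpow_comm, zpow_natCast, hxp, one_zpow]
    rw [← pow_add, show k + 1 + (k + 1) = p + 1 by omega, pow_succ, hqp, one_mul]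
  -- the pairs with product x
  let Φ : P → {q : G × G // IsConj s q.1 ∧ IsConj s q.2 ∧ q.1 * q.2 = x} := fun w =>
    ⟨((w : G) * s * (w : G)⁻¹, (w : G) * s * (w : G)⁻¹ * x), isConj_iff.mpr ⟨w, rfl⟩, by
      obtain ⟨v, hv, hv'⟩ := hsq ((w : G) * w * x⁻¹) (mul_mem (mul_mem w.2 w.2) (inv_mem (Subgroup.mem_zpowers x)))
      refine isConj_iff.mpr ⟨v, ?_⟩
      have hxP : x ∈ P := Subgroup.mem_zpowers x
      calc v * s * v⁻¹ = v * v * s := by rw [mul_assoc, hsP _ (inv_mem hv), inv_inv, ← mul_assoc]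
        _ = (w : G) * w * (x⁻¹ * s) := by rw [← hv', mul_assoc]
        _ = (w : G) * w * (s * x) := by rw [hsP x hxP]
        _ = (w : G) * (w * s) * x := by group
        _ = (w : G) * s * (w : G)⁻¹ * x := by rw [mul_assoc (w : G) s, hsP _ (inv_mem w.2), inv_inv],
      by
      have h1 : (w : G) * s * (w : G)⁻¹ * ((w : G) * s * (w : G)⁻¹ * x) = (w : G) * (s * s) * (w : G)⁻¹ * x := by group
      show (w : G) * s * (w : G)⁻¹ * ((w : G) * s * (w : G)⁻¹ * x) = x
      rw [h1, hss]; group⟩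
  have hΦ : Function.Bijective Φ := by
    constructor
    · intro w w' h
      have h1 : (w : G) * s * (w : G)⁻¹ = (w' : G) * s * (w' : G)⁻¹ :=
        congrArg (fun q : {q : G × G // IsConj s q.1 ∧ IsConj s q.2 ∧ q.1 * q.2 = x} => q.1.1) h
      rw [mul_assoc, hsP _ (inv_mem w.2), inv_inv, mul_assoc, hsP _ (inv_mem w'.2), inv_inv,
        ← mul_assoc, ← mul_assoc, mul_left_inj] at h1
      have h2 : (w : G) * w = (w' : G) * w' := h1
      have h3 : orderOf ((w : G) * (w' : G)⁻¹) ∣ 2 := by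
        apply orderOf_dvd_of_pow_eq_one
        have hcm : Commute (w : G) (w' : G)⁻¹ := by
          obtain ⟨i, hi⟩ := Subgroup.mem_zpowers_iff.mp w.2
          obtain ⟨j, hj⟩ := Subgroup.mem_zpowers_iff.mp w'.2
          rw [← hi, ← hj]
          exact (Commute.zpow_zpow (Commute.refl x) i j).inv_right
        rw [hcm.mul_pow, pow_two, pow_two, ← mul_inv_rev, h2, mul_inv_cancel]
      have h4 : orderOf ((w : G) * (w' : G)⁻¹) ∣ p := by
        rw [← hPc]; exact Subgroup.orderOf_dvd_natCard _ (mul_mem w.2 (inv_mem w'.2))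
      exact Subtype.ext (mul_inv_eq_one.mp (orderOf_eq_one_iff.mp (Nat.eq_one_of_dvd_coprimes
        ((Nat.coprime_primes Nat.prime_two hpp).mpr (by omega)) h3 h4)))
    · rintro ⟨⟨u, v⟩, hu, hv, huv⟩
      obtain ⟨g, hg⟩ := isConj_iff.mp hu
      obtain ⟨g', hg'⟩ := isConj_iff.mp hv
      have hg₁ : g * s * g⁻¹ = u := hg
      have hg₂ : g' * s * g'⁻¹ = v := hg'
      have hu2 : u * u = 1 := by
        rw [← hg₁, show g * s * g⁻¹ * (g * s * g⁻¹) = g * (s * s) * g⁻¹ by group, hss]; group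
      have hv2 : v * v = 1 := by
        rw [← hg₂, show g' * s * g'⁻¹ * (g' * s * g'⁻¹) = g' * (s * s) * g'⁻¹ by group, hss]; group
      have huv' : v = u * x := by rw [← (show u * v = x from huv), ← mul_assoc, hu2, one_mul]
      have hux : u * x * u⁻¹ = x⁻¹ := by
        apply eq_inv_of_mul_eq_one_left
        rw [inv_eq_of_mul_eq_one_right hu2]
        rw [huv'] at hv2
        rw [mul_assoc (u * x)]
        exact hv2
      have hus : u * s ∈ P := by
        rw [← hC, Subgroup.mem_centralizer_singleton_iff]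
        calc u * s * x = u * (s * x * s⁻¹) * s := by group
          _ = u * x⁻¹ * s := by rw [hinv]
          _ = (u * x * u⁻¹)⁻¹ * u * s := by group
          _ = x * (u * s) := by rw [hux, inv_inv, mul_assoc]
      obtain ⟨w, hw, hw'⟩ := hsq _ hus
      refine ⟨⟨w, hw⟩, Subtype.ext (Prod.ext ?_ ?_)⟩
      all_goals
        have h1 : w * s * w⁻¹ = u := by
          rw [mul_assoc, hsP _ (inv_mem hw), inv_inv, ← mul_assoc, ← hw', mul_assoc, hss, mul_one]
      · exact h1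
      · show w * s * w⁻¹ * x = v
        rw [h1, huv']
  have hpairs : Nat.card {q : G × G // IsConj s q.1 ∧ IsConj s q.2 ∧ q.1 * q.2 = x} = p := by
    rw [← Nat.card_congr (Equiv.ofBijective Φ hΦ), hPc]
  exact hpairs

set_option maxHeartbeats 800000 in
/-- The relation between the degree and the centraliser of an involution. -/
theorem involution_formula_gen (hlin : ∀ f : G →* ℂˣ, f = 1) (p : ℕ) [Fact p.Prime] (hp : 5 < p) (x : G)
    (hx : orderOf x = p) (hC : Subgroup.centralizer ({x} : Set G) = Subgroup.zpowers x)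
    (hN : Nat.card (Subgroup.normalizer ((Subgroup.zpowers x : Subgroup G) : Set G)) = p * 2)
    (s : G) (hs2 : orderOf s = 2) :
    ∃ a A : ℤ, (p : ℤ) ∣ a - 1 ∧ a.natAbs ∣ Nat.card G ∧ a.natAbs ≠ 1 ∧
      (a + 1).natAbs ∣ Nat.card G ∧ (a + 1).natAbs ≠ 1 ∧ A.natAbs ≤ a.natAbs ∧ Even (a - A) ∧
      (Nat.card {q : G × G // IsConj s q.1 ∧ IsConj s q.2 ∧ q.1 * q.2 = x} : ℤ) *
          (Nat.card (Subgroup.centralizer ({s} : Set G)) : ℤ) ^ 2 * (a * (a + 1)) =
        (Nat.card G : ℤ) * (a - A) ^ 2 ∧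
      1 + A ^ 2 ≤ (Nat.card (Subgroup.centralizer ({s} : Set G)) : ℤ) := by
  classical
  have hpp : p.Prime := Fact.out
  set c := Nat.card (Subgroup.centralizer ({s} : Set G)) with hc
  set n := Nat.card {q : G × G // IsConj s q.1 ∧ IsConj s q.2 ∧ q.1 * q.2 = x} with hn
  obtain ⟨D⟩ := exists_data hlin p 2 x hx hC hN (by norm_num) (Or.inr ⟨rfl, hp⟩)
  set P := Subgroup.zpowers x with hP
  have hss : s * s = 1 := by rw [← pow_two, ← hs2, pow_orderOf_eq_one]
  have hPc : Nat.card P = p := by rw [hP, Nat.card_zpowers, hx]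
  -- character values at s
  choose hv hhv using fun u : Cfsg.IrrCharacter G => CfsgLib.InvolChar.exists_int_value u hss
  have hval : ∀ u : Cfsg.IrrCharacter G, (u : G → ℂ) s = (hv u : ℂ) := fun u => by
    exact (hhv u).1
  have hnot : ∀ h : G, h⁻¹ * s * h ∈ P → h⁻¹ * s * h = 1 := by
    intro h hh
    have h1 : orderOf (h⁻¹ * s * h) ∣ 2 := by
      apply orderOf_dvd_of_pow_eq_one
      rw [pow_two, show h⁻¹ * s * h * (h⁻¹ * s * h) = h⁻¹ * (s * s) * h by group, hss]; group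
    have h2 : orderOf (h⁻¹ * s * h) ∣ p := by rw [← hPc]; exact Subgroup.orderOf_dvd_natCard _ hh
    exact orderOf_eq_one_iff.mp (Nat.eq_one_of_dvd_coprimes ((Nat.coprime_primes Nat.prime_two hpp).mpr (by omega)) h1 h2)
  obtain ⟨u₀, hK⟩ := Finset.card_eq_one.mp D.card_K
  have hu₀K : u₀ ∈ D.K := hK ▸ Finset.mem_singleton_self u₀
  set a := D.c 1 u₀ * (D.d u₀ : ℤ) with ha
  set A := D.c 1 u₀ * hv u₀ with hA
  have hsupp : ∀ j, j ≠ 0 → ∀ f : Cfsg.IrrCharacter G → ℂ,
      ∑ u, (D.c j u : ℂ) * f u = f CfsgLib.Char.irrOne + (D.c 1 u₀ : ℂ) * f u₀ + (D.c j (D.w j) : ℂ) * f (D.w j) := by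
    intro j hj f
    obtain ⟨hwK, hw1⟩ := D.w_notMem j hj
    rw [← Finset.sum_subset (Finset.subset_univ ({CfsgLib.Char.irrOne, u₀, D.w j} : Finset _))]
    · have hu1 : CfsgLib.Char.irrOne ≠ u₀ := fun h => D.one_notMem (h ▸ hu₀K)
      have huw : u₀ ≠ D.w j := fun h => hwK (h ▸ hu₀K)
      rw [Finset.sum_insert (by simp [hu1, Ne.symm hw1]), Finset.sum_pair huw, D.c_one j hj,
        D.c_K j hj u₀ hu₀K]
      push_cast; ring
    · intro u _ hu
      by_contra hne
      apply hu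
      rcases D.support j hj u (by exact_mod_cast left_ne_zero_of_mul hne) with h | h | h
      · simp [h]
      · rw [hK, Finset.mem_singleton] at h; simp [h]
      · simp [h]
  have hone1 : (CfsgLib.Char.irrOne : Cfsg.IrrCharacter G).1 s = 1 := rfl
  have hd1 : (D.d CfsgLib.Char.irrOne : ℂ) = 1 := by
    rw [← D.hd]; rfl
  have hwsum : ∀ j, j ≠ 0 → D.c j (D.w j) * hv (D.w j) = -1 - A := by
    intro j hj
    have h := D.vanish j s hnot
    rw [hsupp j hj (fun u => (u : G → ℂ) s), hone1, hval, hval] at h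
    have h' : 1 + D.c 1 u₀ * hv u₀ + D.c j (D.w j) * hv (D.w j) = 0 := by exact_mod_cast h
    linarith
  have hwdeg : ∀ j, j ≠ 0 → D.c j (D.w j) * (D.d (D.w j) : ℤ) = -1 - a := by
    intro j hj
    have h := D.degree_eq hj
    rw [hK, Finset.sum_singleton, D.c_K j hj u₀ hu₀K] at h
    linarith
  have hsq1 : ∀ j, j ≠ 0 → ∀ u, u ∈ D.K ∨ u = D.w j → (D.c j u : ℂ) * D.c j u = 1 := fun j hj u hu => by
    rcases D.pm j hj u hu with h | h <;> rw [h] <;> norm_num
  have hdne : ∀ u, (D.d u : ℂ) ≠ 0 := fun u => by rw [← D.hd]; exact CfsgLib.Char.irr_one_ne_zero u.2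
  have hane : (a : ℂ) ≠ 0 := by
    rw [ha]; push_cast
    refine mul_ne_zero ?_ (hdne u₀)
    rcases D.pm 1 one_ne_zero u₀ (Or.inl hu₀K) with h | h <;> rw [h] <;> norm_num
  have hbne : ((-1 - a : ℤ) : ℂ) ≠ 0 := by
    rw [← hwdeg 1 one_ne_zero]; push_cast
    refine mul_ne_zero ?_ (hdne _)
    rcases D.pm 1 one_ne_zero _ (Or.inr rfl) with h | h <;> rw [h] <;> norm_num
  set F : ℂ := 1 + (A : ℂ) ^ 2 / (a : ℂ) + ((-1 - A : ℤ) : ℂ) ^ 2 / ((-1 - a : ℤ) : ℂ) with hF
  have hFj : ∀ j, j ≠ 0 → ∑ u, (D.c j u : ℂ) * ((u : G → ℂ) s * (u : G → ℂ) s / (u : G → ℂ) 1) = F := by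
    intro j hj
    rw [hsupp j hj (fun u => (u : G → ℂ) s * (u : G → ℂ) s / (u : G → ℂ) 1), hone1,
      show (CfsgLib.Char.irrOne : Cfsg.IrrCharacter G).1 1 = 1 from rfl, hval, hval, D.hd, D.hd, hF,
      ← hwsum j hj, ← hwdeg j hj, hA, ha]
    have e1 := hsq1 1 one_ne_zero u₀ (Or.inl hu₀K)
    have e2 := hsq1 j hj _ (Or.inr rfl)
    have n1 : (D.c 1 u₀ : ℂ) ≠ 0 := left_ne_zero_of_mul (e1 ▸ one_ne_zero)
    have n2 : (D.c j (D.w j) : ℂ) ≠ 0 := left_ne_zero_of_mul (e2 ▸ one_ne_zero)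
    have d1 := hdne u₀
    have d2 := hdne (D.w j)
    push_cast
    field_simp
  have hkey := CfsgLib.Char.card_classProduct_eq s s x
  rw [← hn] at hkey
  have hS : ∑ u : Cfsg.IrrCharacter G, (u : G → ℂ) s * (u : G → ℂ) s * conj ((u : G → ℂ) x) / (u : G → ℂ) 1 = F := by
    simp only [D.value, map_neg, map_sum, map_mul, map_intCast, mul_neg, neg_div,
      Finset.mul_sum, Finset.sum_div, ← Finset.sum_neg_distrib]
    rw [Finset.sum_comm, ← Finset.add_sum_erase _ _ (Finset.mem_univ (0 : ZMod p))]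
    simp only [D.c_zero, Int.cast_zero, zero_mul, mul_zero, zero_div, neg_zero, Finset.sum_const_zero, zero_add]
    have hrew : ∀ j ∈ Finset.univ.erase (0 : ZMod p),
        ∑ u : Cfsg.IrrCharacter G, -((u : G → ℂ) s * (u : G → ℂ) s * ((D.c j u : ℂ) * conj (ZMod.stdAddChar j)) / (u : G → ℂ) 1)
          = - (F * conj (ZMod.stdAddChar j)) := by
      intro j hj
      rw [← hFj j (Finset.ne_of_mem_erase hj), Finset.sum_mul, ← Finset.sum_neg_distrib]
      exact Finset.sum_congr rfl fun u _ => by ring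
    rw [Finset.sum_congr rfl hrew, Finset.sum_neg_distrib, ← Finset.mul_sum]
    have h0 : ∑ j : ZMod p, conj ((ZMod.stdAddChar : AddChar (ZMod p) ℂ) j) = 0 := by
      rw [← map_sum]
      have := AddChar.sum_mulShift (1 : ZMod p) (ZMod.isPrimitive_stdAddChar p)
      simp only [mul_one, one_ne_zero, if_false] at this
      simp [this]
    rw [← Finset.add_sum_erase _ _ (Finset.mem_univ (0 : ZMod p)), AddChar.map_zero_eq_one, map_one] at h0
    linear_combination -F * h0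
  rw [hS] at hkey
  have hcc : (Nat.card {y : G // IsConj s y} : ℂ) * (c : ℂ) = (Nat.card G : ℂ) := by
    exact_mod_cast CfsgLib.Invol.card_conjugates_mul s
  have hG0 : (Nat.card G : ℂ) ≠ 0 := by exact_mod_cast Nat.card_pos.ne'
  have hkey2 : (n : ℂ) * (c : ℂ) ^ 2 = (Nat.card G : ℂ) * F := by
    rw [hkey, ← hcc]
    field_simp
  have hdeg : (D.d u₀ : ℤ) = (CfsgLib.InvolChar.deg u₀ : ℤ) := by
    have h1 := CfsgLib.InvolChar.deg_spec u₀
    rw [D.hd] at h1
    exact_mod_cast h1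
  obtain ⟨-, hev, hab⟩ := hhv u₀
  rw [← hdeg] at hev hab
  have hbound : 1 + A ^ 2 ≤ (c : ℤ) := by
    have h2 : (∑ u : Cfsg.IrrCharacter G, (hv u) ^ 2) = (c : ℤ) := by
      have h := CfsgLib.Char.second_orthogonality s s
      rw [if_pos (IsConj.refl s), ← hc] at h
      simp only [hval, map_intCast] at h
      simp only [sq]
      exact_mod_cast h
    have hu1 : CfsgLib.Char.irrOne ≠ u₀ := fun h => D.one_notMem (h ▸ hu₀K)
    rw [← h2]
    refine le_trans ?_ (Finset.sum_le_sum_of_subset_of_nonneg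
      (Finset.subset_univ ({CfsgLib.Char.irrOne, u₀} : Finset _)) fun u _ _ => sq_nonneg _)
    rw [Finset.sum_pair hu1]
    have h1 : hv CfsgLib.Char.irrOne = 1 := by
      have h := hval CfsgLib.Char.irrOne
      rw [hone1] at h
      exact_mod_cast h.symm
    rcases D.pm 1 one_ne_zero u₀ (Or.inl hu₀K) with h | h <;> rw [h1, hA, h] <;> simp
  refine ⟨a, A, ?_, ?_, ?_, ?_, ?_, ?_, ?_, ?_, hbound⟩
  · obtain ⟨m, hm⟩ := D.degree u₀
    refine ⟨D.c 1 u₀ * m - D.c 1 u₀ * D.c 1 u₀, ?_⟩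
    have hs1 : D.c 1 u₀ * D.c 1 u₀ = 1 := by
      rcases D.pm 1 one_ne_zero u₀ (Or.inl hu₀K) with h | h <;> rw [h] <;> norm_num
    rw [ha, hm, ← Finset.add_sum_erase _ _ (Finset.mem_univ (0 : ZMod p)), D.c_zero, zero_add,
      Finset.sum_congr rfl (fun j hj => D.c_K j (Finset.ne_of_mem_erase hj) u₀ hu₀K), Finset.sum_const,
      Finset.card_erase_of_mem (Finset.mem_univ _), Finset.card_univ, ZMod.card, nsmul_eq_mul,
      Nat.cast_sub hpp.one_le]
    push_cast
    linear_combination hs1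
  · have := D.proper u₀ (fun h => D.one_notMem (h ▸ hu₀K))
    rcases D.pm 1 one_ne_zero u₀ (Or.inl hu₀K) with h | h <;> rw [ha, h] <;> simpa using this.1
  · have := D.proper u₀ (fun h => D.one_notMem (h ▸ hu₀K))
    rcases D.pm 1 one_ne_zero u₀ (Or.inl hu₀K) with h | h <;> rw [ha, h] <;> simpa using this.2
  · have := D.proper _ (D.w_notMem 1 one_ne_zero).2
    have h1 := hwdeg 1 one_ne_zero
    rw [show a + 1 = -(D.c 1 (D.w 1) * (D.d (D.w 1) : ℤ)) by linarith, Int.natAbs_neg]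
    rcases D.pm 1 one_ne_zero _ (Or.inr rfl) with h | h <;> rw [h] <;> simpa using this.1
  · have := D.proper _ (D.w_notMem 1 one_ne_zero).2
    have h1 := hwdeg 1 one_ne_zero
    rw [show a + 1 = -(D.c 1 (D.w 1) * (D.d (D.w 1) : ℤ)) by linarith, Int.natAbs_neg]
    rcases D.pm 1 one_ne_zero _ (Or.inr rfl) with h | h <;> rw [h] <;> simpa using this.2
  · rw [abs_le] at hab
    rcases D.pm 1 one_ne_zero u₀ (Or.inl hu₀K) with h | h <;> rw [ha, hA, h] <;> omega
  · rcases D.pm 1 one_ne_zero u₀ (Or.inl hu₀K) with h | h <;> rw [ha, hA, h]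
    · simpa using hev
    · rw [show -1 * (D.d u₀ : ℤ) - -1 * hv u₀ = -((D.d u₀ : ℤ) - hv u₀) by ring]
      exact hev.neg
  · have hfin : ((n : ℤ) * (c : ℤ) ^ 2 * (a * (a + 1)) : ℂ) = ((Nat.card G : ℤ) * (a - A) ^ 2 : ℂ) := by
      push_cast
      rw [hkey2, hF]
      push_cast
      have hb : (-1 - (a : ℂ)) ≠ 0 := by simpa using hbne
      field_simp
      ring
    exact_mod_cast hfin


/-- The relation between the degree and the centraliser of an inverting involution. -/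
theorem involution_formula_bound (hlin : ∀ f : G →* ℂˣ, f = 1) (p : ℕ) [Fact p.Prime] (hp : 5 < p) (x : G)
    (hx : orderOf x = p) (hC : Subgroup.centralizer ({x} : Set G) = Subgroup.zpowers x)
    (hN : Nat.card (Subgroup.normalizer ((Subgroup.zpowers x : Subgroup G) : Set G)) = p * 2)
    (s : G) (hs : s ∈ Subgroup.normalizer ((Subgroup.zpowers x : Subgroup G) : Set G))
    (hs2 : orderOf s = 2) :
    ∃ a A : ℤ, (p : ℤ) ∣ a - 1 ∧ a.natAbs ∣ Nat.card G ∧ a.natAbs ≠ 1 ∧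
      (a + 1).natAbs ∣ Nat.card G ∧ (a + 1).natAbs ≠ 1 ∧ A.natAbs ≤ a.natAbs ∧ Even (a - A) ∧
      (p : ℤ) * (Nat.card (Subgroup.centralizer ({s} : Set G)) : ℤ) ^ 2 * (a * (a + 1)) =
        (Nat.card G : ℤ) * (a - A) ^ 2 ∧
      1 + A ^ 2 ≤ (Nat.card (Subgroup.centralizer ({s} : Set G)) : ℤ) := by
  have h := involution_formula_gen hlin p hp x hx hC hN s hs2
  rwa [card_pairs hx (by omega) hC hs hs2] at h

/-- The second relation of Brauer and Suzuki. -/
theorem involution_formula (hlin : ∀ f : G →* ℂˣ, f = 1) (p : ℕ) [Fact p.Prime] (hp : 5 < p) (x : G)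
    (hx : orderOf x = p) (hC : Subgroup.centralizer ({x} : Set G) = Subgroup.zpowers x)
    (hN : Nat.card (Subgroup.normalizer ((Subgroup.zpowers x : Subgroup G) : Set G)) = p * 2)
    (s : G) (hs : s ∈ Subgroup.normalizer ((Subgroup.zpowers x : Subgroup G) : Set G))
    (hs2 : orderOf s = 2) :
    ∃ a A : ℤ, (p : ℤ) ∣ a - 1 ∧ a.natAbs ∣ Nat.card G ∧ a.natAbs ≠ 1 ∧
      (a + 1).natAbs ∣ Nat.card G ∧ (a + 1).natAbs ≠ 1 ∧ A.natAbs ≤ a.natAbs ∧ Even (a - A) ∧
      (p : ℤ) * (Nat.card (Subgroup.centralizer ({s} : Set G)) : ℤ) ^ 2 * (a * (a + 1)) =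
        (Nat.card G : ℤ) * (a - A) ^ 2 := by
  obtain ⟨a, A, h1, h2, h3, h4, h5, h6, h7, h8, -⟩ :=
    involution_formula_bound hlin p hp x hx hC hN s hs hs2
  exact ⟨a, A, h1, h2, h3, h4, h5, h6, h7, h8⟩

end CfsgLib.SmallGroups.PrimeOrderChar

namespace CfsgLib.SmallGroups.PrimeOrderChar

/-- `m² d² = c² a (a+1)` only for `a = 0, -1`. -/
theorem eq_of_sq_mul_succ {c m d a : ℤ} (hc : c ≠ 0) (h : c ^ 2 * (a * (a + 1)) = m ^ 2 * d ^ 2) :
    a = 0 ∨ a = -1 := by
  obtain ⟨e, he⟩ : c ∣ m * d := (Int.pow_dvd_pow_iff (by norm_num : (2 : ℕ) ≠ 0)).mp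
    ⟨a * (a + 1), by rw [mul_pow, h]⟩
  have h1 : a * (a + 1) = e ^ 2 := by
    apply mul_left_cancel₀ (pow_ne_zero 2 hc)
    rw [h, ← mul_pow, he, mul_pow]
  have h2 : (2 * a + 1 - 2 * e) * (2 * a + 1 + 2 * e) = 1 := by linear_combination 4 * h1
  rcases Int.eq_one_or_neg_one_of_mul_eq_one' h2 with ⟨h3, h4⟩ | ⟨h3, h4⟩ <;> omega

/-- The formula for a simple group with a Sylow subgroup of order `p` and normalizer of order `2 p`. -/
theorem involution_formula_bound_of_simple {G : Type*} [Group G] [Finite G] [IsSimpleGroup G]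
    (hG : ¬ IsMulCommutative G) (p : ℕ) [Fact p.Prime] (hp : 5 < p) (P : Sylow p G)
    (hP : Nat.card (P : Subgroup G) = p) (hpG : p ∣ Nat.card G)
    (hN : Nat.card (Subgroup.normalizer ((P : Subgroup G) : Set G)) = p * 2) :
    ∃ (s : G) (a A : ℤ), orderOf s = 2 ∧ (p : ℤ) ∣ a - 1 ∧ a.natAbs ∣ Nat.card G ∧ a.natAbs ≠ 1 ∧
      (a + 1).natAbs ∣ Nat.card G ∧ (a + 1).natAbs ≠ 1 ∧ A.natAbs ≤ a.natAbs ∧ Even (a - A) ∧
      (p : ℤ) * (Nat.card (Subgroup.centralizer ({s} : Set G)) : ℤ) ^ 2 * (a * (a + 1)) =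
        (Nat.card G : ℤ) * (a - A) ^ 2 ∧
      1 + A ^ 2 ≤ (Nat.card (Subgroup.centralizer ({s} : Set G)) : ℤ) ∧
      ∃ x, orderOf x = p ∧ Subgroup.centralizer ({x} : Set G) = Subgroup.zpowers x ∧ s * x * s⁻¹ = x⁻¹ ∧
        Nat.card (Subgroup.normalizer ((Subgroup.zpowers x : Subgroup G) : Set G)) = p * 2 := by
  classical
  haveI := Fintype.ofFinite G
  obtain ⟨x, hxord, hPx⟩ := exists_zpowers_of_card_prime hP
  set N := Subgroup.normalizer ((P : Subgroup G) : Set G) with hNdef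
  have hxP : x ∈ (P : Subgroup G) := hPx ▸ Subgroup.mem_zpowers x
  have hcent : Subgroup.centralizer ({x} : Set G) = Subgroup.centralizer ((P : Subgroup G) : Set G) := by
    ext g
    rw [Subgroup.mem_centralizer_singleton_iff, Subgroup.mem_centralizer_iff, hPx]
    constructor
    · intro h y hy
      obtain ⟨k, rfl⟩ := Subgroup.mem_zpowers_iff.mp hy
      exact (((show Commute g x from h).zpow_right k).eq).symm
    · exact fun h => (h x (Subgroup.mem_zpowers x)).symm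
  have hC : Subgroup.centralizer ({x} : Set G) = Subgroup.zpowers x := by
    haveI : IsMulCommutative (P : Subgroup G) :=
      haveI := isCyclic_of_prime_card (p := p) hP
      inferInstance
    rw [hcent, ← hPx]
    have hPC : (P : Subgroup G) ≤ Subgroup.centralizer ((P : Subgroup G) : Set G) := Subgroup.le_centralizer _
    have hCN := Subgroup.centralizer_le_normalizer ((P : Subgroup G) : Set G)
    obtain ⟨k, hk⟩ : p ∣ Nat.card (Subgroup.centralizer ((P : Subgroup G) : Set G)) :=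
      (by have h0 := Subgroup.card_dvd_of_le hPC; rwa [hP] at h0)
    have hk2 : k ∣ 2 := by
      have h1 := Subgroup.card_dvd_of_le hCN
      rw [hk, hN] at h1
      exact Nat.dvd_of_mul_dvd_mul_left (Fact.out : p.Prime).pos h1
    rcases (Nat.dvd_prime Nat.prime_two).mp hk2 with rfl | rfl
    · exact (Subgroup.eq_of_le_of_card_ge hPC (by rw [hk, hP, mul_one])).symm
    · exact absurd (Subgroup.eq_of_le_of_card_ge hCN (by rw [hN, hk])).ge (not_normalizer_le_centralizer hG hpG P)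
  haveI : Fact (Nat.Prime 2) := ⟨Nat.prime_two⟩
  obtain ⟨⟨s, hsN⟩, hs⟩ := exists_prime_orderOf_dvd_card' (G := N) 2 (by rw [hN]; exact dvd_mul_left _ _)
  rw [Subgroup.orderOf_mk] at hs
  obtain ⟨a, A, h⟩ := involution_formula_bound (linear_trivial hG) p hp x hxord hC (by rw [← hPx]; exact hN) s
    (by rw [← hPx]; exact hsN) hs
  obtain ⟨h1, h2, h3, h4, h5, h6, h7, h8, h9⟩ := h
  exact ⟨s, a, A, hs, h1, h2, h3, h4, h5, h6, h7, h8, h9, x, hxord, hC,
    inverts hxord (by omega) hC (by rw [← hPx]; exact hsN) hs, by rw [← hPx]; exact hN⟩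

/-- The formula for a simple group with a Sylow subgroup of order `p` and normalizer of order `2 p`. -/
theorem involution_formula_of_simple {G : Type*} [Group G] [Finite G] [IsSimpleGroup G]
    (hG : ¬ IsMulCommutative G) (p : ℕ) [Fact p.Prime] (hp : 5 < p) (P : Sylow p G)
    (hP : Nat.card (P : Subgroup G) = p) (hpG : p ∣ Nat.card G)
    (hN : Nat.card (Subgroup.normalizer ((P : Subgroup G) : Set G)) = p * 2) :
    ∃ (s : G) (a A : ℤ), orderOf s = 2 ∧ (p : ℤ) ∣ a - 1 ∧ a.natAbs ∣ Nat.card G ∧ a.natAbs ≠ 1 ∧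
      (a + 1).natAbs ∣ Nat.card G ∧ (a + 1).natAbs ≠ 1 ∧ A.natAbs ≤ a.natAbs ∧ Even (a - A) ∧
      (p : ℤ) * (Nat.card (Subgroup.centralizer ({s} : Set G)) : ℤ) ^ 2 * (a * (a + 1)) =
        (Nat.card G : ℤ) * (a - A) ^ 2 := by
  obtain ⟨s, a, A, h0, h1, h2, h3, h4, h5, h6, h7, h8, -, -⟩ :=
    involution_formula_bound_of_simple hG p hp P hP hpG hN
  exact ⟨s, a, A, h0, h1, h2, h3, h4, h5, h6, h7, h8⟩

/-- An involution with a small centraliser is conjugate to the inverting involution. -/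
theorem isConj_of_small_centralizer {G : Type*} [Group G] [Finite G] [IsSimpleGroup G]
    (hG : ¬ IsMulCommutative G) {p : ℕ} [Fact p.Prime] (hp : 5 < p) {x s : G} (hx : orderOf x = p)
    (hC : Subgroup.centralizer ({x} : Set G) = Subgroup.zpowers x) (hinv : s * x * s⁻¹ = x⁻¹)
    (hs2 : orderOf s = 2)
    (hN : Nat.card (Subgroup.normalizer ((Subgroup.zpowers x : Subgroup G) : Set G)) = p * 2)
    {v : G} (hv : orderOf v = 2)
    (hsmall : ∀ a : ℤ, (p : ℤ) ∣ a - 1 → a.natAbs ∣ Nat.card G → a.natAbs ≠ 1 →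
      (a + 1).natAbs ∣ Nat.card G → (a + 1).natAbs ≠ 1 →
      (Nat.card (Subgroup.centralizer ({v} : Set G)) : ℤ) < 1 + a ^ 2) :
    IsConj s v := by
  classical
  haveI := Fintype.ofFinite G
  by_contra hne
  obtain ⟨a, A, h1, h2, h3, h4, h5, -, -, h8, h9⟩ :=
    involution_formula_gen (linear_trivial hG) p hp x hx hC hN v hv
  have hsq : ∀ {u : G}, orderOf u = 2 → u * u = 1 := fun hu => by
    rw [← pow_two, ← hu, pow_orderOf_eq_one]
  haveI : IsEmpty {q : G × G // IsConj v q.1 ∧ IsConj v q.2 ∧ q.1 * q.2 = x} :=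
    ⟨fun q => hne (isConj_of_pair hx (by omega) hC hinv (hsq hs2) (hsq hv) q.2)⟩
  rw [Nat.card_of_isEmpty, Nat.cast_zero, zero_mul, zero_mul, eq_comm, mul_eq_zero] at h8
  have hA : A = a := by
    rcases h8 with h | h
    · exact absurd h (by exact_mod_cast Nat.card_pos.ne')
    · exact (sub_eq_zero.mp (pow_eq_zero_iff two_ne_zero |>.mp h)).symm
  subst hA
  exact absurd (hsmall A h1 h2 h3 h4 h5) (not_lt.mpr h9)

end CfsgLib.SmallGroups.PrimeOrderChar
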