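import Mathlib

/-!
A finite search: degrees with integral values at an element of prime order, values at an involution,
orthogonality and the class multiplication relation, for a group of given order.
-/

set_option autoImplicit false

namespace CfsgLib.SmallGroups.SignedSearch

/-- Completions of a partial choice to degrees with `∑ d e = -1`, `∑ e² = 6` and `∑ d² < 5040`. -/
def stage (n : ℕ) (S T : ℤ) : List (ℕ × ℤ) → ℤ → ℕ → ℤ → List (List (ℕ × ℤ))
  | [], se, q, sd => if se = S ∧ sd = T ∧ q < n then [[]] else []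
  | t :: ts, se, q, sd => (List.range (S.toNat + 1)).flatMap fun k : ℕ =>
      if se + (k : ℤ) * t.2 ^ 2 ≤ S ∧ q + k * (t.1 * t.1) < n then
        (stage n S T ts (se + (k : ℤ) * t.2 ^ 2) (q + k * (t.1 * t.1)) (sd + (k : ℤ) * (t.2 * t.1))).map
          (List.replicate k t ++ ·)
      else []

/-- Every admissible family is listed, in some order. -/
theorem stage_spec (n : ℕ) (S T : ℤ) {α : Type*} (f : α → ℕ × ℤ) : ∀ (ts : List (ℕ × ℤ)) (M : Multiset α) (se : ℤ) (q : ℕ) (sd : ℤ),
    (∀ a ∈ M, f a ∈ ts) → 0 ≤ se → se + (M.map fun a => (f a).2 ^ 2).sum = S →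
    sd + (M.map fun a => (f a).2 * ((f a).1 : ℤ)).sum = T →
    q + (M.map fun a => (f a).1 * (f a).1).sum < n → (∀ a ∈ M, 1 ≤ (f a).2 ^ 2) →
    ∃ l : List α, (l : Multiset α) = M ∧ l.map f ∈ stage n S T ts se q sd := by
  classical
  intro ts
  induction ts with
  | nil =>
    intro M se q sd hM _ h1 h2 h3 _
    have hM0 : M = 0 := Multiset.eq_zero_of_forall_notMem fun a ha => by simpa using hM a ha
    subst hM0
    simp only [Multiset.map_zero, Multiset.sum_zero, add_zero] at h1 h2 h3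
    refine ⟨[], rfl, ?_⟩
    simp [stage, h1, h2, h3]
  | cons t ts ih =>
    intro M se q sd hM hse h1 h2 h3 hpos
    set A := M.filter (fun a => f a = t) with hA
    set B := M.filter (fun a => ¬ f a = t) with hB
    have hAB : A + B = M := Multiset.filter_add_not _ M
    have hAt : ∀ a ∈ A, f a = t := fun a ha => (Multiset.mem_filter.mp ha).2
    have hmap : ∀ {β : Type} (g : ℕ × ℤ → β), A.map (fun a => g (f a)) = Multiset.replicate A.card (g t) :=
      fun g => Multiset.eq_replicate.mpr ⟨Multiset.card_map _ _, fun y hy => by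
        obtain ⟨a, ha, rfl⟩ := Multiset.mem_map.mp hy; rw [hAt a ha]⟩
    rw [← hAB, Multiset.map_add, Multiset.sum_add] at h1 h2 h3
    rw [hmap (fun u => u.2 ^ 2), Multiset.sum_replicate, nsmul_eq_mul] at h1
    rw [hmap (fun u => u.2 * (u.1 : ℤ)), Multiset.sum_replicate, nsmul_eq_mul] at h2
    rw [hmap (fun u => u.1 * u.1), Multiset.sum_replicate, smul_eq_mul] at h3
    have hB0 : 0 ≤ (B.map fun a => (f a).2 ^ 2).sum :=
      Multiset.sum_nonneg fun y hy => by
        obtain ⟨a, -, rfl⟩ := Multiset.mem_map.mp hy; positivity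
    obtain ⟨l, hl, hl'⟩ := ih B (se + A.card * t.2 ^ 2) (q + A.card * (t.1 * t.1))
      (sd + A.card * (t.2 * t.1)) (fun a ha => by
        obtain ⟨h, h'⟩ := Multiset.mem_filter.mp ha
        exact (List.mem_cons.mp (hM a h)).resolve_left h')
      (by positivity) (by linarith) (by linarith) (by omega) (fun a ha => hpos a (Multiset.mem_filter.mp ha).1)
    have hk : A.card < S.toNat + 1 := by
      by_contra hk
      obtain ⟨a, ha⟩ := Multiset.card_pos_iff_exists_mem.mp (show 0 < A.card by omega)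
      have ht := hpos a (Multiset.mem_filter.mp ha).1
      rw [hAt a ha] at ht
      have : S < (A.card : ℤ) := by omega
      nlinarith
    refine ⟨A.toList ++ l, by rw [← Multiset.coe_add, Multiset.coe_toList, hl, hAB], ?_⟩
    simp only [stage, List.mem_flatMap, List.mem_range]
    refine ⟨A.card, hk, ?_⟩
    rw [if_pos ⟨by linarith, by omega⟩, List.mem_map]
    refine ⟨l.map f, hl', ?_⟩
    rw [List.map_append]
    congr 1
    symm
    rw [List.eq_replicate_iff, List.length_map, Multiset.length_toList]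
    exact ⟨rfl, fun y hy => by
      obtain ⟨a, ha, rfl⟩ := List.mem_map.mp hy; exact hAt a (Multiset.mem_toList.mp ha)⟩

/-- The weight of a type in the class multiplication relation, scaled by the group order. -/
def weight (n : ℕ) (t : ℕ × ℤ) : ℤ := t.2 * ((n / t.1 : ℕ) : ℤ)

/-- The largest weight, or zero. -/
def hi (n : ℕ) : List (ℕ × ℤ) → ℤ
  | [] => 0
  | t :: ts => max (weight n t) (hi n ts)

/-- The least weight, or zero. -/
def lo (n : ℕ) : List (ℕ × ℤ) → ℤ
  | [] => 0
  | t :: ts => min (weight n t) (lo n ts)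

/-- Possible values at an involution. -/
def vals (d : ℕ) : List ℤ := (List.range 19).map fun j : ℕ => ((d % 4 : ℕ) : ℤ) + 4 * (j : ℤ) - 36

theorem mem_vals {d : ℕ} {v : ℤ} (h4 : (4 : ℤ) ∣ (d : ℤ) - v) (hv : v * v ≤ 1152) : v ∈ vals d := by
  obtain ⟨k, hk⟩ := h4
  have h1 : -34 < v ∧ v < 34 := ⟨by nlinarith, by nlinarith⟩
  simp only [vals, List.mem_map, List.mem_range]
  refine ⟨((v + 36 - ((d % 4 : ℕ) : ℤ)) / 4).toNat, ?_, ?_⟩ <;> omega

/-- Is there a choice of values completing the state? -/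
def search (n : ℕ) (K c qd : ℤ) : List (ℕ × ℤ) → ℤ → ℤ → ℤ → ℤ → Bool
  | [], L, F, q, dv => decide (L = 0 ∧ F = K * (c * c) ∧ dv * dv ≤ ((n : ℤ) - qd) * (c - q))
  | t :: ts, L, F, q, dv =>
      if F + (c - q) * hi n (t :: ts) < K * (c * c) ∨ K * (c * c) < F + (c - q) * lo n (t :: ts) then false
      else (vals t.1).any fun v => decide (q + v * v ≤ c ∧ v * v < (t.1 : ℤ) * t.1) &&
        search n K c qd ts (L + t.2 * v) (F + weight n t * (v * v)) (q + v * v) (dv + (t.1 : ℤ) * v)

theorem weighted_le (n : ℕ) : ∀ l : List ((ℕ × ℤ) × ℤ),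
    lo n (l.map Prod.fst) * (l.map fun a => a.2 * a.2).sum ≤ (l.map fun a => weight n a.1 * (a.2 * a.2)).sum ∧
      (l.map fun a => weight n a.1 * (a.2 * a.2)).sum ≤ hi n (l.map Prod.fst) * (l.map fun a => a.2 * a.2).sum ∧
      0 ≤ (l.map fun a => a.2 * a.2).sum ∧ lo n (l.map Prod.fst) ≤ 0 ∧ 0 ≤ hi n (l.map Prod.fst) := by
  intro l
  induction l with
  | nil => simp [lo, hi]
  | cons a l ih =>
    obtain ⟨h1, h2, h3, h4, h5⟩ := ih
    simp only [List.map_cons, List.sum_cons, lo, hi]
    have hv : 0 ≤ a.2 * a.2 := mul_self_nonneg _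
    refine ⟨?_, ?_, by linarith, (min_le_right _ _).trans h4, h5.trans (le_max_right _ _)⟩
    · nlinarith [min_le_left (weight n a.1) (lo n (l.map Prod.fst)),
        min_le_right (weight n a.1) (lo n (l.map Prod.fst))]
    · nlinarith [le_max_left (weight n a.1) (hi n (l.map Prod.fst)),
        le_max_right (weight n a.1) (hi n (l.map Prod.fst))]

/-- The search finds every solution. -/
theorem search_spec (n : ℕ) (K c qd : ℤ) (hc : c ≤ 1152) : ∀ (l : List ((ℕ × ℤ) × ℤ)) (L F q dv : ℤ),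
    (∀ a ∈ l, (4 : ℤ) ∣ (a.1.1 : ℤ) - a.2 ∧ a.2 * a.2 < (a.1.1 : ℤ) * a.1.1) → 0 ≤ q →
    q + (l.map fun a => a.2 * a.2).sum ≤ c →
    L + (l.map fun a => a.1.2 * a.2).sum = 0 →
    F + (l.map fun a => weight n a.1 * (a.2 * a.2)).sum = K * (c * c) →
    (dv + (l.map fun a => (a.1.1 : ℤ) * a.2).sum) ^ 2 ≤
      ((n : ℤ) - qd) * (c - (q + (l.map fun a => a.2 * a.2).sum)) →
    search n K c qd (l.map Prod.fst) L F q dv = true := by
  intro l
  induction l with
  | nil =>
    intro L F q dv _ _ _ h1 h2 h3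
    simp only [List.map_nil, List.sum_nil, add_zero] at h1 h2 h3
    simp only [List.map_nil, search, decide_eq_true_eq]
    exact ⟨h1, h2, by nlinarith⟩
  | cons a l ih =>
    intro L F q dv hl hq hqc h1 h2 h3
    obtain ⟨b1, b2, b3, b4, b5⟩ := weighted_le n (a :: l)
    obtain ⟨-, -, hrest, -, -⟩ := weighted_le n l
    simp only [List.map_cons, List.sum_cons] at hqc h1 h2 h3 b1 b2 b3 b4 b5 ⊢
    obtain ⟨h4, h5⟩ := hl a List.mem_cons_self
    have hv : a.2 * a.2 ≤ 1152 := by linarith
    rw [search, if_neg, List.any_eq_true]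
    · refine ⟨a.2, mem_vals h4 hv, ?_⟩
      rw [Bool.and_eq_true, decide_eq_true_eq]
      refine ⟨⟨by linarith, h5⟩, ih _ _ _ _ (fun b hb => hl b (List.mem_cons_of_mem _ hb))
        (by nlinarith) (by linarith) (by linarith) (by linarith) ?_⟩
      calc _ = (dv + ((a.1.1 : ℤ) * a.2 + (l.map fun a => (a.1.1 : ℤ) * a.2).sum)) ^ 2 := by ring
        _ ≤ _ := h3
        _ = _ := by ring
    · rintro (h | h) <;> nlinarith

/-- The square sum of the degrees. -/
def degSq (m : List (ℕ × ℤ)) : ℤ := 1 + (m.map fun t => (t.1 : ℤ) * t.1).sum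

end CfsgLib.SmallGroups.SignedSearch
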