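import Cfsg.Agent.Lib.SmallGroups.PrimeRational
import Cfsg.Agent.Lib.SmallGroups.SignedSearch
import Mathlib

/-!
From the relations between the values at an element of prime order and at an involution of a simple
group to a failed search.
-/

set_option autoImplicit false
set_option linter.style.haveILetI false

namespace CfsgLib.SmallGroups.SignedData

open CfsgLib.InvolChar

variable {G : Type*} [Group G] [Fintype G] [IsSimpleGroup G]

/-- A non-trivial irreducible character of a non-abelian simple group is smaller in absolute value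
at an involution than at the identity. -/
theorem intVal_sq_lt (hG : ¬ IsMulCommutative G) (χ : Cfsg.IrrCharacter G)
    (hne : χ ≠ CfsgLib.Char.irrOne) {t : G} (ht : t * t = 1) (ht1 : t ≠ 1) :
    intVal χ ht * intVal χ ht < (deg χ : ℤ) * deg χ := by
  classical
  obtain ⟨w, hw1, -, hw3⟩ := exists_int_value χ ht
  have hw : w = intVal χ ht := by
    have h1 := intVal_spec χ ht
    rw [hw1] at h1
    exact_mod_cast h1
  rw [← hw]
  refine lt_of_le_of_ne (by nlinarith [abs_le.mp hw3]) fun heq => ht1 ?_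
  have habs : |(w : ℝ)| = (deg χ : ℝ) := by
    rw [← abs_of_nonneg (Nat.cast_nonneg (deg χ) : (0 : ℝ) ≤ (deg χ : ℝ)), ← sq_eq_sq_iff_abs_eq_abs,
      sq, sq]
    exact_mod_cast heq
  obtain ⟨n, ρ, hirr, hρ⟩ := χ.2
  have hn : (Module.finrank ℂ (Fin n → ℂ) : ℂ) = (deg χ : ℂ) := by
    rw [← deg_spec χ, ← hρ, Representation.char_one]
  obtain ⟨ω, hω⟩ := (CfsgLib.Char.norm_character_eq_iff ρ t).mp (by
    have h2 : ((Module.finrank ℂ (Fin n → ℂ) : ℕ) : ℝ) = (deg χ : ℝ) := by exact_mod_cast hn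
    rw [hρ, hw1, h2, Complex.norm_intCast]
    exact habs)
  rcases IsSimpleGroup.eq_bot_or_eq_top_of_normal ρ.ker inferInstance with hk | hk
  · refine (Subgroup.mem_bot.mp (?_ : t ∈ (⊥ : Subgroup G)))
    rw [← CfsgLib.SmallGroups.eq_bot_or_comm_of_centre hG, Subgroup.mem_center_iff]
    intro g
    refine (MonoidHom.ker_eq_bot_iff ρ).mp hk ?_
    rw [map_mul, map_mul, hω]
    refine LinearMap.ext fun v => ?_
    simp [Module.End.mul_apply, map_smul]
  · exfalso
    apply hne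
    by_contra hne'
    have h0 := CfsgLib.Char.classInner_irr_ne χ.2 (CfsgLib.Char.irrOne : Cfsg.IrrCharacter G).2
      (fun h => hne' (Subtype.ext h))
    have hconst : ∀ g : G, (χ : G → ℂ) g = (deg χ : ℂ) := fun g => by
      rw [← deg_spec χ, ← hρ]
      show LinearMap.trace ℂ _ (ρ g) = LinearMap.trace ℂ _ (ρ 1)
      rw [MonoidHom.mem_ker.mp (hk ▸ Subgroup.mem_top g : g ∈ ρ.ker), map_one ρ]
    rw [CfsgLib.Char.classInner_def] at h0
    simp only [hconst, CfsgLib.Char.irrOne_apply, map_one, mul_one, Finset.sum_const, Finset.card_univ,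
      nsmul_eq_mul, mul_eq_zero, inv_eq_zero, Nat.cast_eq_zero] at h0
    have h1 := deg_pos χ
    have h2 : 0 < Nat.card G := Nat.card_pos
    have h3 : 0 < Fintype.card G := Fintype.card_pos
    omega

set_option maxHeartbeats 800000 in
/-- No group has the relations of a failed search. -/
theorem false_of_no_solution (hG : ¬ IsMulCommutative G) {s : G} (hss : s * s = 1) (hs1 : s ≠ 1)
    (hcent : Nat.card (Subgroup.centralizer ({s} : Set G)) ≤ 1152)
    (u : Cfsg.IrrCharacter G → ℤ) (t₀ S K : ℤ) (types : List (ℕ × ℤ))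
    (hone : u CfsgLib.Char.irrOne = t₀)
    (hsq : ∑ χ, u χ ^ 2 = t₀ ^ 2 + S) (hdeg : ∑ χ, u χ * (deg χ : ℤ) = 0)
    (hval : ∑ χ, u χ * intVal χ hss = 0)
    (hrel : (Nat.card G : ℚ) * ∑ χ, ((intVal χ hss * intVal χ hss * u χ : ℤ) : ℚ) / (deg χ : ℚ) =
      (K : ℚ) * ((Nat.card (Subgroup.centralizer ({s} : Set G)) : ℚ) ^ 2))
    (htypes : ∀ χ, u χ ≠ 0 → u χ ^ 2 ≤ S → 2 ≤ deg χ → deg χ ∣ Nat.card G →
      deg χ * deg χ < Nat.card G → (deg χ, u χ) ∈ types)
    (hno : ∀ m ∈ SignedSearch.stage (Nat.card G) S (-t₀) types 0 0 0,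
      m.length = Nat.card {χ : Cfsg.IrrCharacter G // χ ≠ CfsgLib.Char.irrOne ∧ u χ ≠ 0} →
      SignedSearch.search (Nat.card G) K (Nat.card (Subgroup.centralizer ({s} : Set G)) : ℤ)
        (SignedSearch.degSq m) m t₀ ((Nat.card G : ℤ) * t₀) 1 1 = false) : False := by
  classical
  set c := Nat.card (Subgroup.centralizer ({s} : Set G)) with hc
  set N := Nat.card G with hN
  set one : Cfsg.IrrCharacter G := CfsgLib.Char.irrOne with hone'
  let v : Cfsg.IrrCharacter G → ℤ := fun χ => intVal χ hss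
  let d : Cfsg.IrrCharacter G → ℕ := fun χ => deg χ
  set T := (Finset.univ.erase one).filter (fun χ => u χ ≠ 0) with hT
  set U := (Finset.univ.erase one).filter (fun χ => ¬ u χ ≠ 0) with hU
  have split : ∀ f : Cfsg.IrrCharacter G → ℤ, ∑ χ, f χ = f one + (∑ χ ∈ T, f χ + ∑ χ ∈ U, f χ) := by
    intro f
    rw [Finset.sum_filter_add_sum_filter_not, Finset.add_sum_erase _ _ (Finset.mem_univ one)]
  have hU0 : ∀ χ ∈ U, u χ = 0 := fun χ hχ => not_not.mp (Finset.mem_filter.mp hχ).2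
  have r4 : ∑ χ, v χ ^ 2 = (c : ℤ) := sum_intVal_sq hss
  have r5 : ∑ χ, (d χ : ℤ) * v χ = 0 := sum_deg_mul_intVal hss hs1
  have r6 : ∑ χ, (d χ : ℤ) ^ 2 = (N : ℤ) := by
    have h := CfsgLib.Char.sum_degree_sq (G := G)
    simp only [fun χ : Cfsg.IrrCharacter G => deg_spec χ] at h
    exact_mod_cast h
  have hd1 : d one = 1 := deg_irrOne
  have hv1 : v one = 1 := intVal_irrOne hss
  have hlin := CfsgLib.SmallGroups.PrimeOrderChar.linear_trivial (G := G) hG
  have hfacts : ∀ χ ∈ T, d χ ∣ N ∧ 2 ≤ d χ ∧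
      (4 : ℤ) ∣ (d χ : ℤ) - v χ ∧ v χ * v χ < (d χ : ℤ) * d χ := by
    intro χ hχ
    have hne : χ ≠ one := Finset.ne_of_mem_erase (Finset.mem_filter.mp hχ).1
    refine ⟨CfsgLib.Char.degree_dvd_card χ.2 (deg_spec χ), ?_,
      PrimeRational.four_dvd_deg_sub hlin χ hss, intVal_sq_lt hG χ hne hss hs1⟩
    by_contra hlt
    have h1 : d χ = 1 := by have : 0 < d χ := deg_pos χ; omega
    apply hne
    apply Subtype.ext
    funext g
    have hd1' : (χ : G → ℂ) 1 = 1 := by rw [deg_spec χ, show deg χ = 1 from h1, Nat.cast_one]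
    rw [hone', CfsgLib.Char.irrOne_apply,
      ← CfsgLib.Char.linearHom_apply (CfsgLib.Char.isCharacter_of_isIrr χ.2) hd1' g,
      hlin (CfsgLib.Char.linearHom (CfsgLib.Char.isCharacter_of_isIrr χ.2) hd1')]
    rfl
  rw [split, hone, Finset.sum_eq_zero (s := U) fun χ hχ => by simp [hU0 χ hχ]] at hsq hdeg hval
  rw [show deg one = 1 from hd1] at hdeg
  rw [show intVal one hss = 1 from hv1] at hval
  push_cast at hdeg
  rw [split, hv1] at r4
  rw [split, hv1, hd1] at r5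
  rw [split, hd1] at r6
  push_cast at r5 r6
  have hU2 : 0 ≤ ∑ χ ∈ U, (d χ : ℤ) ^ 2 := Finset.sum_nonneg fun χ _ => sq_nonneg _
  have hU4 : 0 ≤ ∑ χ ∈ U, v χ ^ 2 := Finset.sum_nonneg fun χ _ => sq_nonneg _
  have hsmall : ∀ χ ∈ T, (d χ : ℤ) * d χ < N := fun χ hχ => by
    have := Finset.single_le_sum (f := fun χ => (d χ : ℤ) ^ 2) (fun χ _ => sq_nonneg _) hχ
    rw [← sq]
    linarith
  obtain ⟨l, hl, hlst⟩ := SignedSearch.stage_spec N S (-t₀) (fun χ => (d χ, u χ)) types T.val 0 0 0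
    (fun χ hχ => by
      obtain ⟨h1, h2, -, -⟩ := hfacts χ hχ
      refine htypes χ (Finset.mem_filter.mp hχ).2 ?_ h2 h1 (by exact_mod_cast hsmall χ hχ)
      have := Finset.single_le_sum (f := fun χ => u χ ^ 2) (fun χ _ => sq_nonneg _) hχ
      linarith)
    le_rfl (by rw [zero_add]; show ∑ χ ∈ T, u χ ^ 2 = S; linarith)
    (by rw [zero_add]; show ∑ χ ∈ T, u χ * (d χ : ℤ) = -t₀; linarith)
    (by
      rw [zero_add]
      have : ((∑ χ ∈ T, d χ * d χ : ℕ) : ℤ) < N := by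
        push_cast
        simp only [← sq]
        linarith
      exact_mod_cast this)
    (fun χ hχ => by
      have h0 : u χ ≠ 0 := (Finset.mem_filter.mp hχ).2
      have : 0 < u χ ^ 2 := by positivity
      show 1 ≤ u χ ^ 2
      omega)
  have hlsum : ∀ f : Cfsg.IrrCharacter G → ℤ, (l.map f).sum = ∑ χ ∈ T, f χ := fun f => by
    rw [Finset.sum, ← hl]
    rfl
  have hmem : ∀ χ ∈ l, χ ∈ T := fun χ hχ => by
    rw [← Finset.mem_val, ← hl]; exact hχ
  have hlen : (l.map fun χ => (d χ, u χ)).length =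
      Nat.card {χ : Cfsg.IrrCharacter G // χ ≠ CfsgLib.Char.irrOne ∧ u χ ≠ 0} := by
    rw [List.length_map, Nat.card_eq_fintype_card, Fintype.card_subtype]
    have : (T.val : Multiset (Cfsg.IrrCharacter G)).card = l.length := by rw [← hl]; rfl
    rw [← this, Finset.card_def]
    congr 2
    rw [hT]
    ext χ
    simp [hone']
  have r7 : (N : ℤ) * t₀ + ∑ χ ∈ T, SignedSearch.weight N (d χ, u χ) * (v χ * v χ) = K * ((c : ℤ) * c) := by
    have hterm : ∀ χ ∈ T, ((SignedSearch.weight N (d χ, u χ) * (v χ * v χ) : ℤ) : ℚ) =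
        (N : ℚ) * (((v χ * v χ * u χ : ℤ) : ℚ) / (d χ : ℚ)) := by
      intro χ hχ
      obtain ⟨k, hk⟩ := (hfacts χ hχ).1
      have hd0 : 0 < d χ := deg_pos χ
      have hdiv : N / d χ = k := by rw [hk, Nat.mul_div_cancel_left _ hd0]
      simp only [SignedSearch.weight, hdiv]
      rw [show (N : ℚ) = (d χ : ℚ) * (k : ℚ) by exact_mod_cast hk]
      have : (d χ : ℚ) ≠ 0 := by exact_mod_cast hd0.ne'
      push_cast
      field_simp
    have hrest : ∑ χ, ((v χ * v χ * u χ : ℤ) : ℚ) / (d χ : ℚ) =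
        (t₀ : ℚ) + ∑ χ ∈ T, ((v χ * v χ * u χ : ℤ) : ℚ) / (d χ : ℚ) := by
      rw [← Finset.add_sum_erase _ _ (Finset.mem_univ one),
        ← Finset.sum_filter_add_sum_filter_not (Finset.univ.erase one) (fun χ => u χ ≠ 0),
        Finset.sum_eq_zero (s := (Finset.univ.erase one).filter fun χ => ¬ u χ ≠ 0)
          (fun χ hχ => by simp [hU0 χ hχ]), hone, hv1, hd1, hT]
      simp
    have hrel' : (N : ℚ) * ∑ χ, ((v χ * v χ * u χ : ℤ) : ℚ) / (d χ : ℚ) = (K : ℚ) * (c : ℚ) ^ 2 := hrel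
    rw [hrest] at hrel'
    have h2 : (((N : ℤ) * t₀ + ∑ χ ∈ T, SignedSearch.weight N (d χ, u χ) * (v χ * v χ) : ℤ) : ℚ) =
        ((K * ((c : ℤ) * c) : ℤ) : ℚ) := by
      rw [Int.cast_add, Int.cast_sum, Finset.sum_congr rfl hterm, ← Finset.mul_sum]
      push_cast at hrel' ⊢
      linarith
    exact_mod_cast h2
  have hsearch := SignedSearch.search_spec N K (c : ℤ) (SignedSearch.degSq (l.map fun χ => (d χ, u χ)))
    (by exact_mod_cast hcent) (l.map fun χ => ((d χ, u χ), v χ)) t₀ ((N : ℤ) * t₀) 1 1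
    ?_ zero_le_one ?_ ?_ ?_ ?_
  · rw [List.map_map] at hsearch
    have := hno _ hlst hlen
    rw [show (Prod.fst ∘ fun χ => ((d χ, u χ), v χ)) = fun χ => (d χ, u χ) from rfl] at hsearch
    rw [hsearch] at this
    exact Bool.noConfusion this
  · intro a ha
    obtain ⟨χ, hχ, rfl⟩ := List.mem_map.mp ha
    obtain ⟨-, -, h4, h5⟩ := hfacts χ (hmem χ hχ)
    exact ⟨h4, h5⟩
  · rw [List.map_map, hlsum]
    simp only [Function.comp_apply, ← sq]
    linarith
  · rw [List.map_map, hlsum]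
    simp only [Function.comp_apply]
    linarith
  · rw [List.map_map, hlsum]
    exact r7
  · rw [List.map_map, List.map_map, hlsum, hlsum, SignedSearch.degSq, List.map_map, hlsum]
    simp only [Function.comp_apply, ← sq]
    have hcs := Finset.sum_mul_sq_le_sq_mul_sq U (fun χ => (d χ : ℤ)) v
    have e1 : (1 : ℤ) + ∑ χ ∈ T, (d χ : ℤ) * v χ = -∑ χ ∈ U, (d χ : ℤ) * v χ := by linarith
    have e2 : (N : ℤ) - (1 + ∑ χ ∈ T, (d χ : ℤ) ^ 2) = ∑ χ ∈ U, (d χ : ℤ) ^ 2 := by linarith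
    have e3 : (c : ℤ) - (1 + ∑ χ ∈ T, v χ ^ 2) = ∑ χ ∈ U, v χ ^ 2 := by linarith
    rw [e1, e2, e3, neg_sq]
    exact hcs

end CfsgLib.SmallGroups.SignedData
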