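import Cfsg.Agent.Lib.SmallGroups.Perm
import Cfsg.Agent.S4219
import Cfsg.Agent.S0713
import Mathlib

/-!
Permutation groups of degree `kp + r` that are `(r + 1)`-fold transitive (`k < p` prime, `k < r`).
-/

set_option autoImplicit false

namespace CfsgLib.SmallGroups.KpAddR

open MulAction Equiv Finset

variable {α : Type*} [Fintype α] [DecidableEq α]

/-- A product of two disjoint transpositions in a four-transitive group. -/
theorem alternating_le_of_double {G : Subgroup (Perm α)} (hG : IsMultiplyPretransitive G α 4)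
    (hn : 5 ≤ Fintype.card α) {a b c d : α} (hac : a ≠ c) (had : a ≠ d)
    (hbc : b ≠ c) (hbd : b ≠ d) (hab : a ≠ b) (hcd : c ≠ d)
    (h : Equiv.swap a b * Equiv.swap c d ∈ G) : alternatingGroup α ≤ G := by
  obtain ⟨e, he⟩ : ∃ e, e ∉ ({a, b, c, d} : Finset α) :=
    not_forall.1 fun hall => by
      have := Finset.card_le_four (a := a) (b := b) (c := c) (d := d)
      rw [Finset.eq_univ_iff_forall.2 hall, Finset.card_univ] at this
      omega
  simp only [Finset.mem_insert, Finset.mem_singleton, not_or] at he
  obtain ⟨hea, heb, hec, hed⟩ := he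
  obtain ⟨g, hg, hgv⟩ := exists_mem_eq_on_finset hG (by omega) {a, b, c, d} Finset.card_le_four
    (fun z => if z = d then e else z) (by
      intro x hx y hy hxy
      simp only [Finset.coe_insert, Finset.coe_singleton, Set.mem_insert_iff, Set.mem_singleton_iff] at hx hy
      dsimp at hxy
      split_ifs at hxy with h1 h2 h2
      · rw [h1, h2]
      · rcases hy with rfl | rfl | rfl | rfl <;> simp_all
      · rcases hx with rfl | rfl | rfl | rfl <;> simp_all
      · exact hxy)
  have ga : g a = a := by simpa [had] using hgv a (by simp)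
  have gb : g b = b := by simpa [hbd] using hgv b (by simp)
  have gc : g c = c := by simpa [hcd] using hgv c (by simp)
  have gd : g d = e := by simpa using hgv d (by simp)
  have hconj : g * (Equiv.swap a b * Equiv.swap c d) * g⁻¹ = Equiv.swap a b * Equiv.swap c e := by
    have e1 : g * Equiv.swap a b = Equiv.swap a b * g := by rw [Equiv.mul_swap_eq_swap_mul, ga, gb]
    have e2 : g * Equiv.swap c d = Equiv.swap c e * g := by rw [Equiv.mul_swap_eq_swap_mul, gc, gd]
    rw [← mul_assoc, e1, mul_assoc (Equiv.swap a b), e2, mul_assoc, mul_assoc, mul_inv_cancel, mul_one]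
  have hmem : Equiv.swap a b * Equiv.swap c e ∈ G := hconj ▸ mul_mem (mul_mem hg h) (inv_mem hg)
  have hdisj : Equiv.swap c d * Equiv.swap a b = Equiv.swap a b * Equiv.swap c d := by
    rw [Equiv.mul_swap_eq_swap_mul, Equiv.swap_apply_of_ne_of_ne hac had,
      Equiv.swap_apply_of_ne_of_ne hbc hbd]
  have h3 : Equiv.swap c d * Equiv.swap c e ∈ G := by
    have := mul_mem h hmem
    rwa [show Equiv.swap a b * Equiv.swap c d * (Equiv.swap a b * Equiv.swap c e) =
      Equiv.swap c d * Equiv.swap c e by
        rw [← hdisj, mul_assoc, ← mul_assoc (Equiv.swap a b) (Equiv.swap a b), Equiv.swap_mul_self,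
          one_mul]] at this
  exact Perm.alternatingGroup_le_of_isPreprimitive_of_isThreeCycle_mem
    (isPreprimitive_of_isMultiplyPretransitive hG (by norm_num) (by omega))
    (Perm.isThreeCycle_swap_mul_swap_same hcd (Ne.symm hec) (Ne.symm hed)) h3

/-- An element moving at most five points of a four-transitive group of degree at least eight. -/
theorem alternating_le_of_five {G : Subgroup (Perm α)} (hG : IsMultiplyPretransitive G α 4)
    (hn : 8 ≤ Fintype.card α) {h : Perm α} (hh : h ∈ G) (h1 : h ≠ 1) (hs : h.support.card ≤ 5) :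
    alternatingGroup α ≤ G := by
  have hprim := isPreprimitive_of_isMultiplyPretransitive hG (by norm_num) (by omega)
  obtain ⟨q, hq, hqd⟩ := Nat.exists_prime_and_dvd (n := orderOf h) (by rwa [Ne, orderOf_eq_one_iff])
  haveI : Fact q.Prime := ⟨hq⟩
  obtain ⟨w, hwG, hwo, hws⟩ : ∃ w ∈ G, orderOf w = q ∧ w.support.card ≤ 5 := by
    refine ⟨h ^ (orderOf h / q), pow_mem hh _, orderOf_pow_orderOf_div (orderOf_pos h).ne' hqd, ?_⟩
    exact le_trans (Finset.card_le_card (Perm.support_pow_le h _)) hs
  obtain ⟨j, hj⟩ := Perm.cycleType_prime_order (σ := w) (by rw [hwo]; exact hq)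
  rw [hwo] at hj
  have hsum := w.sum_cycleType
  rw [hj, Multiset.sum_replicate, smul_eq_mul] at hsum
  rcases Nat.eq_zero_or_pos j with rfl | hjpos
  · have hc : w.IsCycle := by
      rw [← Perm.card_cycleType_eq_one, hj, Multiset.card_replicate]
    exact Cfsg.Agent.S0713.result G hprim hq (by omega) (by omega) hc (by omega) hwG
  · have hq2 : q = 2 := by
      have := hq.two_le
      have : 2 * q ≤ (j + 1) * q := Nat.mul_le_mul_right q (by omega)
      have h' : q = 2 := by
        rcases Nat.lt_or_ge q 3 with h3 | h3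
        · omega
        · omega
      exact h'
    subst hq2
    have hj1 : j = 1 := by omega
    subst hj1
    -- `w` is a double transposition
    have h4 : w.support.card = 4 := by omega
    obtain ⟨a, ha⟩ : ∃ a, a ∈ w.support := Finset.card_pos.1 (by omega)
    have hww : ∀ z, w (w z) = z := fun z => by
      have := congrArg (fun u : Perm α => u z) (pow_orderOf_eq_one w)
      rw [hwo] at this
      simpa [pow_two] using this
    obtain ⟨c, hc⟩ : ∃ c, c ∈ w.support \ {a, w a} := by
      refine Finset.card_pos.1 ?_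
      have := Finset.le_card_sdiff ({a, w a} : Finset α) w.support
      have := Finset.card_le_two (a := a) (b := w a)
      omega
    simp only [Finset.mem_sdiff, Finset.mem_insert, Finset.mem_singleton, not_or] at hc
    obtain ⟨hcs, hca, hcb⟩ := hc
    have hab : a ≠ w a := fun e => Perm.mem_support.1 ha e.symm
    have hcd : c ≠ w c := fun e => Perm.mem_support.1 hcs e.symm
    have had : a ≠ w c := fun e => hcb (by rw [e, hww])
    have hbd : w a ≠ w c := fun e => hca (w.injective e).symm
    have hsupp : ({a, w a, c, w c} : Finset α) = w.support := by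
      refine Finset.eq_of_subset_of_card_le ?_ ?_
      · intro z hz
        simp only [Finset.mem_insert, Finset.mem_singleton] at hz
        rcases hz with rfl | rfl | rfl | rfl
        · exact ha
        · exact Perm.apply_mem_support.2 ha
        · exact hcs
        · exact Perm.apply_mem_support.2 hcs
      · rw [h4, Finset.card_insert_of_notMem, Finset.card_insert_of_notMem, Finset.card_insert_of_notMem,
          Finset.card_singleton] <;> simp [hab, Ne.symm hca, had, Ne.symm hcb, hbd, hcd]
    have hw : w = Equiv.swap a (w a) * Equiv.swap c (w c) := by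
      refine Equiv.ext fun z => ?_
      by_cases hz : z ∈ w.support
      · rw [← hsupp] at hz
        simp only [Finset.mem_insert, Finset.mem_singleton] at hz
        rcases hz with rfl | rfl | rfl | rfl
        · simp [Equiv.swap_apply_of_ne_of_ne (Ne.symm hca) had]
        · simp [Equiv.swap_apply_of_ne_of_ne (Ne.symm hcb) hbd, hww]
        · simp [Equiv.swap_apply_of_ne_of_ne (Ne.symm had) (Ne.symm hbd)]
        · simp [Equiv.swap_apply_of_ne_of_ne hca hcb, hww]
      · have hz' := hz
        rw [← hsupp] at hz'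
        simp only [Finset.mem_insert, Finset.mem_singleton, not_or] at hz'
        obtain ⟨z1, z2, z3, z4⟩ := hz'
        rw [Perm.notMem_support.1 hz, Perm.mul_apply, Equiv.swap_apply_of_ne_of_ne z3 z4,
          Equiv.swap_apply_of_ne_of_ne z1 z2]
    exact alternating_le_of_double hG (by omega) (Ne.symm hca) had (Ne.symm hcb) hbd hab hcd (hw ▸ hwG)

theorem index_stabilizer_of_multiplyPretransitive {G : Subgroup (Perm α)} {m : ℕ}
    (hG : IsMultiplyPretransitive G α m) (x : Fin m ↪ α) :
    (stabilizer G x).index = Nat.card (Fin m ↪ α) := by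
  rw [index_stabilizer]
  exact (congrArg Set.ncard (Set.eq_univ_of_forall fun y => hG.exists_smul_eq x y)).trans
    (Set.ncard_univ _)

/-- No four-transitive group of degree nine other than those containing the alternating group. -/
theorem degree_nine {G : Subgroup (Perm α)} (hG : IsMultiplyPretransitive G α 4)
    (hn : Fintype.card α = 9) : alternatingGroup α ≤ G := by
  classical
  have hαc : Nat.card α = 9 := by rw [Nat.card_eq_fintype_card, hn]
  by_cases h5 : ∃ h ∈ G, h ≠ 1 ∧ h.support.card ≤ 5
  · obtain ⟨h, hh, h1, hs⟩ := h5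
    exact alternating_le_of_five hG (by omega) hh h1 hs
  exfalso
  push Not at h5
  haveI := hG
  have htriv : ∀ x : Fin 4 ↪ α, stabilizer G x = ⊥ := by
    intro x
    refine (Subgroup.eq_bot_iff_forall _).2 fun g hg => ?_
    by_contra h1
    have h1' : (g : Perm α) ≠ 1 := fun e => h1 (Subtype.ext e)
    have hsub : (g : Perm α).support ⊆ (Finset.univ.map x)ᶜ := by
      intro z hz
      rw [Finset.mem_compl, Finset.mem_map]
      rintro ⟨i, -, rfl⟩
      exact Perm.mem_support.1 hz (congrArg (fun e : Fin 4 ↪ α => e i) hg)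
    have := Finset.card_le_card hsub
    rw [Finset.card_compl, Finset.card_map, Finset.card_univ, Fintype.card_fin, hn] at this
    have := h5 _ g.2 h1'
    omega
  obtain ⟨x⟩ : Nonempty (Fin 4 ↪ α) := Function.Embedding.nonempty_of_card_le (by simp [hn])
  have hcard : Nat.card G = 3024 := by
    have hidx := Subgroup.index_mul_card (stabilizer G x)
    rw [htriv x, Subgroup.card_bot, mul_one] at hidx
    rw [← hidx, ← htriv x, index_stabilizer_of_multiplyPretransitive hG x, Nat.card_eq_fintype_card,
      Fintype.card_embedding_eq, Fintype.card_fin, hn]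
    decide
  haveI h2t : IsMultiplyPretransitive G α 2 :=
    isMultiplyPretransitive_of_le (n := 4) (by norm_num) (by omega)
  obtain ⟨y⟩ : Nonempty (Fin 2 ↪ α) := Function.Embedding.nonempty_of_card_le (by simp [hn])
  have hH : Nat.card (stabilizer G y) = 42 := by
    have hidx := Subgroup.index_mul_card (stabilizer G y)
    rw [index_stabilizer_of_multiplyPretransitive h2t y, Nat.card_eq_fintype_card (α := Fin 2 ↪ α),
      Fintype.card_embedding_eq, Fintype.card_fin, hn, hcard] at hidx
    rw [show Nat.descFactorial 9 2 = 72 from rfl] at hidx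
    omega
  haveI : Fact (Nat.Prime 7) := ⟨by norm_num⟩
  obtain ⟨P⟩ : Nonempty (Sylow 7 (stabilizer G y)) := inferInstance
  have hP : Nat.card (P : Subgroup (stabilizer G y)) = 7 := by
    rw [P.card_eq_multiplicity, hH]
    have : (42 : ℕ).factorization 7 = 1 := by
      rw [show (42 : ℕ) = 7 * 6 from rfl, Nat.factorization_mul (by norm_num) (by norm_num),
        Finsupp.add_apply, Nat.Prime.factorization_self (by norm_num),
        Nat.factorization_eq_zero_of_not_dvd (by norm_num)]
    rw [this, pow_one]
  have hn7 : Nat.card (Sylow 7 (stabilizer G y)) = 1 := by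
    have h1 := card_sylow_modEq_one 7 (stabilizer G y)
    have h2 : Nat.card (Sylow 7 (stabilizer G y)) ∣ 6 := by
      have := P.card_dvd_index
      have hi := Subgroup.card_mul_index (P : Subgroup (stabilizer G y))
      rw [hP, hH] at hi
      rwa [show (P : Subgroup (stabilizer G y)).index = 6 by omega] at this
    have := Nat.le_of_dvd (by norm_num) h2
    unfold Nat.ModEq at h1
    omega
  haveI : Subsingleton (Sylow 7 (stabilizer G y)) := (Nat.card_eq_one_iff_unique.1 hn7).1
  haveI : (P : Subgroup (stabilizer G y)).Normal := Sylow.normal_of_subsingleton P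
  set R := (P : Subgroup (stabilizer G y)).map (stabilizer G y).subtype with hR
  have hR7 : Nat.card R = 7 := by
    rw [hR, Subgroup.card_map_of_injective (stabilizer G y).subtype_injective, hP]
  set N := Subgroup.normalizer (R : Set G) with hN
  have hHN : stabilizer G y ≤ N := by
    intro g hg
    rw [hN, Subgroup.mem_normalizer_iff]
    intro u
    constructor
    · rintro ⟨v, hv, rfl⟩
      exact ⟨⟨g, hg⟩ * v * ⟨g, hg⟩⁻¹, Subgroup.Normal.conj_mem inferInstance v hv _, rfl⟩
    · rintro ⟨v, hv, hvu⟩
      refine ⟨⟨g, hg⟩⁻¹ * v * ⟨g, hg⟩, Subgroup.Normal.conj_mem' inferInstance v hv _, ?_⟩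
      show g⁻¹ * (v : G) * g = u
      rw [show (v : G) = g * u * g⁻¹ from hvu]
      group
  obtain ⟨s, hsN, hs⟩ := Cfsg.Agent.S4219.result h2t y P y ((Equiv.swap 0 1).toEmbedding.trans y)
    (fun i u => by
      obtain ⟨v, -, hv⟩ := u.2
      exact congrArg (fun e : Fin 2 ↪ α => e i) (show (u : G) • y = y from hv ▸ v.2))
    (fun i u => by
      obtain ⟨v, -, hv⟩ := u.2
      exact congrArg (fun e : Fin 2 ↪ α => e (Equiv.swap 0 1 i)) (show (u : G) • y = y from hv ▸ v.2))
  have hsH : s ∉ stabilizer G y := by
    intro h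
    have := congrArg (fun e : Fin 2 ↪ α => e 0) ((h : s • y = y).symm.trans hs)
    simp only [Function.Embedding.trans_apply, Equiv.coe_toEmbedding, Equiv.swap_apply_left] at this
    exact absurd (y.injective this) (by decide)
  have hN84 : 84 ≤ Nat.card N := by
    obtain ⟨m, hm⟩ := Subgroup.card_dvd_of_le hHN
    have hne : Nat.card N ≠ Nat.card (stabilizer G y) := fun e =>
      hsH ((Subgroup.eq_of_le_of_card_ge hHN e.le).symm ▸ hsN)
    rw [hH] at hm hne
    have hm1 : m ≠ 1 := fun e => hne (by rw [hm, e, mul_one])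
    have hm0 : m ≠ 0 := fun e => by
      rw [e, mul_zero] at hm
      exact (Nat.card_pos (α := N)).ne' hm
    omega
  -- the centralizer of `R` in `N` is `R`
  haveI : IsCyclic R := isCyclic_of_prime_card hR7
  obtain ⟨⟨z, hz⟩, hzgen⟩ := IsCyclic.exists_generator (α := R)
  have hzo : orderOf (z : Perm α) = 7 := by
    have h1 : orderOf (⟨z, hz⟩ : R) = 7 := by
      rw [orderOf_eq_card_of_forall_mem_zpowers hzgen, hR7]
    rwa [← Subgroup.orderOf_coe, ← Subgroup.orderOf_coe] at h1
  obtain ⟨j, hj⟩ := Perm.cycleType_prime_order (σ := (z : Perm α)) (by rw [hzo]; norm_num)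
  rw [hzo] at hj
  have hsum := (z : Perm α).sum_cycleType
  rw [hj, Multiset.sum_replicate, smul_eq_mul] at hsum
  have hzs := Finset.card_le_univ (z : Perm α).support
  rw [hn] at hzs
  have hj0 : j = 0 := by omega
  subst hj0
  have hzc : (z : Perm α).IsCycle := by
    rw [← Perm.card_cycleType_eq_one, hj, Multiset.card_replicate]
  have hcent : ∀ g : G, g * z = z * g → g ∈ R := by
    intro g hg
    have hg' : (g : Perm α) * z = z * g := congrArg Subtype.val hg
    obtain ⟨z₀, hz₀⟩ : ∃ z₀, z₀ ∈ (z : Perm α).support := Finset.card_pos.1 (by omega)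
    have hgz₀ : (g : Perm α) z₀ ∈ (z : Perm α).support := by
      rw [Perm.mem_support] at hz₀ ⊢
      intro e
      have := congrArg (fun u : Perm α => u z₀) hg'
      simp only [Perm.mul_apply] at this
      exact hz₀ ((g : Perm α).injective (this.trans e))
    obtain ⟨i, hi⟩ := hzc.exists_zpow_eq (Perm.mem_support.1 hz₀) (Perm.mem_support.1 hgz₀)
    have hsupp : ∀ u ∈ (z : Perm α).support, (g : Perm α) u = ((z : Perm α) ^ i) u := by
      intro u hu
      obtain ⟨m, rfl⟩ := hzc.exists_zpow_eq (Perm.mem_support.1 hz₀) (Perm.mem_support.1 hu)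
      have e1 : (g : Perm α) * (z : Perm α) ^ m = (z : Perm α) ^ m * g := (Commute.zpow_right hg' m).eq
      calc (g : Perm α) (((z : Perm α) ^ m) z₀) = ((g : Perm α) * (z : Perm α) ^ m) z₀ := rfl
        _ = ((z : Perm α) ^ m) (((z : Perm α) ^ i) z₀) := by rw [e1, hi]; rfl
        _ = _ := by rw [← Perm.mul_apply, ← Perm.mul_apply, ← zpow_add, ← zpow_add, add_comm]
    have h1 : g = z ^ i := by
      by_contra hne
      have h1' : ((z ^ i)⁻¹ * g : G) ≠ 1 := fun e => hne (inv_mul_eq_one.1 e).symm
      have hle : ((((z ^ i)⁻¹ * g : G) : Perm α)).support ⊆ (z : Perm α).supportᶜ := by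
        intro u hu
        rw [Finset.mem_compl]
        intro hu'
        apply Perm.mem_support.1 hu
        show ((((z ^ i : G) : Perm α))⁻¹) ((g : Perm α) u) = u
        rw [hsupp u hu', Subgroup.coe_zpow]
        exact ((z : Perm α) ^ i).symm_apply_apply u
      have hc := Finset.card_le_card hle
      rw [Finset.card_compl, ← hsum, hn] at hc
      have := h5 _ ((z ^ i)⁻¹ * g : G).2 (fun e => h1' (Subtype.ext e))
      omega
    exact h1 ▸ zpow_mem hz i
  let f : N →* MulAut R := Subgroup.normalizerMonoidHom R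
  have hker : f.ker ≤ R.subgroupOf N := by
    intro g hg
    rw [MonoidHom.mem_ker] at hg
    have h := congrArg Subtype.val (congrArg (fun β : MulAut R => β ⟨z, hz⟩) hg)
    have h' : (g : G) * z * (g : G)⁻¹ = z := h
    exact hcent g (mul_inv_eq_iff_eq_mul.1 h')
  have hkc : Nat.card f.ker ≤ 7 := by
    calc Nat.card f.ker ≤ Nat.card (R.subgroupOf N) := Subgroup.card_le_of_le hker
      _ ≤ Nat.card R := Nat.card_le_card_of_injective (fun u => (⟨((u : N) : G), u.2⟩ : R))
          (fun u v e => by
            have e' : ((u : N) : G) = ((v : N) : G) := congrArg (fun w : R => (w : G)) e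
            exact Subtype.ext (Subtype.ext e'))
      _ = 7 := hR7
  have hrange : Nat.card f.range ≤ 6 := by
    calc Nat.card f.range ≤ Nat.card (MulAut R) := Nat.card_le_card_of_injective _ Subtype.val_injective
      _ = 6 := by
          rw [IsCyclic.card_mulAut, hR7]
          decide
  have h1 := Subgroup.index_mul_card f.ker
  rw [Subgroup.index_ker] at h1
  have : Nat.card f.range * Nat.card f.ker ≤ 6 * 7 := Nat.mul_le_mul hrange hkc
  omega

/-- The data of the argument: `R` is a Sylow `p`-subgroup of the stabilizer of the points `x i`. -/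
structure Data (G : Subgroup (Perm α)) (p r : ℕ) (x : Fin r ↪ α) (R : Subgroup (Perm α)) : Prop where
  le : R ≤ G
  fix : ∀ u ∈ R, ∀ i, u (x i) = x i
  orbit : ∀ y ∉ Set.range x, ({z | ∃ u ∈ R, u y = z}).ncard = p
  trans : ∀ σ : Perm (Fin r), ∃ g ∈ G, (∀ u, u ∈ R ↔ g * u * g⁻¹ ∈ R) ∧ ∀ i, g (x i) = x (σ i)

theorem exists_data {G : Subgroup (Perm α)} {k p r : ℕ} [Fact p.Prime]
    (hn : Fintype.card α = k * p + r) (hk : 1 ≤ k) (hpk : k < p)
    (hG : IsMultiplyPretransitive G α (r + 1)) :
    ∃ (x : Fin r ↪ α) (R : Subgroup (Perm α)), IsPGroup p R ∧ Data G p r x R := by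
  classical
  have hp := (Fact.out : p.Prime)
  have hαc : Nat.card α = k * p + r := by rw [Nat.card_eq_fintype_card, hn]
  have hkp : 1 ≤ k * p := Nat.mul_pos hk hp.pos
  haveI := hG
  haveI hGr : IsMultiplyPretransitive G α r :=
    isMultiplyPretransitive_of_le (n := r + 1) (Nat.le_succ r) (by omega)
  obtain ⟨x⟩ : Nonempty (Fin r ↪ α) := Function.Embedding.nonempty_of_card_le (by simp; omega)
  obtain ⟨P⟩ : Nonempty (Sylow p (stabilizer G x)) := inferInstance
  set R₀ := (P : Subgroup (stabilizer G x)).map (stabilizer G x).subtype with hR₀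
  refine ⟨x, R₀.map G.subtype, (P.2.map _).map _, ⟨?_, ?_, ?_, ?_⟩⟩
  · exact Subgroup.map_subtype_le R₀
  · rintro _ ⟨u, ⟨v, -, rfl⟩, rfl⟩ i
    exact congrArg (fun e : Fin r ↪ α => e i) v.2
  · intro y hy
    set S : Set α := {z | ∃ u ∈ R₀.map G.subtype, u y = z} with hS
    have hSorb : S = orbit (R₀.map G.subtype) y := by
      ext z
      exact ⟨fun ⟨u, hu, e⟩ => ⟨⟨u, hu⟩, e⟩, fun ⟨u, e⟩ => ⟨u, u.2, e⟩⟩
    have hpR : IsPGroup p (R₀.map G.subtype) := (P.2.map _).map _
    obtain ⟨j, hj⟩ := hpR.card_orbit y
    have hSj : S.ncard = p ^ j := by rw [hSorb, ← Nat.card_coe_set_eq, hj]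
    have hsub : S ⊆ (Set.range x)ᶜ := by
      rintro _ ⟨_, ⟨u, ⟨v, -, rfl⟩, rfl⟩, rfl⟩ ⟨i, hi⟩
      refine hy ⟨i, ?_⟩
      exact ((v : G) : Perm α).injective ((congrArg (fun e : Fin r ↪ α => e i) v.2).trans hi)
    have hle : S.ncard ≤ k * p := by
      refine le_trans (Set.ncard_le_ncard hsub (Set.toFinite _)) ?_
      rw [Set.ncard_compl, Set.ncard_range_of_injective x.injective, Nat.card_fin, hαc]
      omega
    have hj1 : j ≤ 1 := by
      by_contra hlt
      have h2 : p ^ 2 ≤ p ^ j := Nat.pow_le_pow_right hp.pos (by omega)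
      have : k * p < p * p := Nat.mul_lt_mul_of_pos_right hpk hp.pos
      rw [pow_two] at h2
      omega
    have hj0 : j ≠ 0 := by
      intro hj0
      subst hj0
      have hfix : ∀ u ∈ R₀.map G.subtype, u y = y := by
        intro u hu
        have hmem : u y ∈ S := ⟨u, hu, rfl⟩
        obtain ⟨a, ha⟩ := Set.ncard_eq_one.1 (hSj.trans (pow_zero p))
        have hy' : y ∈ S := ⟨1, one_mem _, rfl⟩
        rw [ha, Set.mem_singleton_iff] at hmem hy'
        rw [hmem, ← hy']
      -- the index of the stabilizer of `y` in the stabilizer of `x` is divisible by `p`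
      have horb : orbit (stabilizer G x) y = (Set.range x)ᶜ := by
        ext z
        constructor
        · rintro ⟨g, rfl⟩ ⟨i, hi⟩
          refine hy ⟨i, ?_⟩
          exact ((g : G) : Perm α).injective ((congrArg (fun e : Fin r ↪ α => e i) g.2).trans hi)
        · intro hz
          obtain ⟨g, hg⟩ := exists_smul_eq G
            (⟨Fin.cons y x, Fin.cons_injective_iff.2 ⟨hy, x.injective⟩⟩ : Fin (r + 1) ↪ α)
            (⟨Fin.cons z x, Fin.cons_injective_iff.2 ⟨hz, x.injective⟩⟩ : Fin (r + 1) ↪ α)
          have h0 := congrArg (fun e : Fin (r + 1) ↪ α => e 0) hg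
          refine ⟨⟨g, ?_⟩, h0⟩
          rw [mem_stabilizer_iff]
          ext i
          have := congrArg (fun e : Fin (r + 1) ↪ α => e i.succ) hg
          exact this
      have hidx : (stabilizer (stabilizer G x) y).index = k * p := by
        rw [index_stabilizer, horb, Set.ncard_compl, Set.ncard_range_of_injective x.injective,
          Nat.card_fin, hαc]
        omega
      have hPle : (P : Subgroup (stabilizer G x)) ≤ stabilizer (stabilizer G x) y := fun v hv =>
        hfix _ ⟨(v : G), ⟨v, hv, rfl⟩, rfl⟩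
      have hdvd := Subgroup.index_dvd_of_le hPle
      rw [hidx] at hdvd
      exact P.not_dvd_index ((dvd_mul_left p k).trans hdvd)
    rw [hSj, show j = 1 by omega, pow_one]
  · intro σ
    obtain ⟨g, hgN, hg⟩ := Cfsg.Agent.S4219.result hGr x P x (σ.toEmbedding.trans x)
      (fun i u => by
        obtain ⟨v, -, hv⟩ := u.2
        exact congrArg (fun e : Fin r ↪ α => e i) (show (u : G) • x = x from hv ▸ v.2))
      (fun i u => by
        obtain ⟨v, -, hv⟩ := u.2
        exact congrArg (fun e : Fin r ↪ α => e (σ i)) (show (u : G) • x = x from hv ▸ v.2))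
    refine ⟨g, g.2, fun u => ?_, fun i => congrArg (fun e : Fin r ↪ α => e i) hg⟩
    constructor
    · rintro ⟨v, hv, rfl⟩
      exact ⟨g * v * g⁻¹, (Subgroup.mem_normalizer_iff.1 hgN v).1 hv, rfl⟩
    · rintro ⟨v, hv, hvu⟩
      refine ⟨g⁻¹ * v * g, ?_, ?_⟩
      · refine (Subgroup.mem_normalizer_iff.1 hgN _).2 ?_
        rwa [show g * (g⁻¹ * v * g) * g⁻¹ = v by group]
      · show ((g : Perm α))⁻¹ * (v : Perm α) * g = u
        rw [show (v : Perm α) = g * u * (g : Perm α)⁻¹ from hvu]
        group

end CfsgLib.SmallGroups.KpAddR
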