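import Cfsg.Agent.Lib.Char.Ortho
import Cfsg.Agent.Lib.Char.Induced
import Cfsg.Agent.Lib.Char.Generalized
import Cfsg.Agent.Lib.Char.Integral
import Cfsg.Agent.Lib.SmallGroups.Basic
import Mathlib

/-!
Exceptional characters for a self-centralising subgroup `⟨x⟩` of prime order `p`, by restriction to
`⟨x⟩` and Frobenius reciprocity only: if `|N(⟨x⟩)| = p e` with `e ≤ 3` and `e (e + 2) < p`, there
are `e` non-principal irreducible characters whose signed degrees sum to `-1`, `e - 1` of them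
congruent to `1` and one congruent to `-e` modulo `p`.
-/

set_option autoImplicit false

namespace CfsgLib.SmallGroups.PrimeOrderChar

open scoped ComplexConjugate

/-- A family of `k`-sets meeting pairwise in `k - 1` points and having more than `k + 1` members
has a common core of `k - 1` points. -/
theorem exists_core {α : Type*} [DecidableEq α] (k : ℕ) (hk : 1 ≤ k) (F : Finset (Finset α))
    (hsz : ∀ S ∈ F, S.card = k)
    (hint : ∀ S ∈ F, ∀ T ∈ F, S ≠ T → (S ∩ T).card = k - 1) (hF : k + 2 ≤ F.card) :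
    ∃ K : Finset α, K.card = k - 1 ∧ ∀ S ∈ F, K ⊆ S := by
  obtain ⟨S₀, h0⟩ := Finset.card_pos.mp (show 0 < F.card by omega)
  obtain ⟨S₁, h1⟩ := Finset.card_pos.mp (show 0 < (F.erase S₀).card by
    rw [Finset.card_erase_of_mem h0]; omega)
  obtain ⟨h10, h1⟩ := Finset.mem_erase.mp h1
  refine ⟨S₀ ∩ S₁, hint _ h0 _ h1 (Ne.symm h10), fun S hS => ?_⟩
  by_contra hbad
  have hU : (S₀ ∪ S₁).card = k + 1 := by
    have := Finset.card_union_add_card_inter S₀ S₁
    rw [hsz _ h0, hsz _ h1, hint _ h0 _ h1 (Ne.symm h10)] at this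
    omega
  -- a member not containing the core lies in the union
  have key : ∀ T ∈ F, ¬ S₀ ∩ S₁ ⊆ T → T ⊆ S₀ ∪ S₁ := by
    intro T hT hT'
    have hne0 : T ≠ S₀ := fun e => hT' (e ▸ Finset.inter_subset_left)
    have hne1 : T ≠ S₁ := fun e => hT' (e ▸ Finset.inter_subset_right)
    have a0 := hint _ hT _ h0 hne0
    have a1 := hint _ hT _ h1 hne1
    have hlt : (T ∩ (S₀ ∩ S₁)).card < k - 1 := by
      rw [← hint _ h0 _ h1 (Ne.symm h10)]
      exact Finset.card_lt_card ⟨Finset.inter_subset_right, fun h => hT' fun a ha =>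
        (Finset.mem_inter.mp (h ha)).1⟩
    have hsum := Finset.card_union_add_card_inter (T ∩ S₀) (T ∩ S₁)
    rw [a0, a1, ← Finset.inter_union_distrib_left,
      show T ∩ S₀ ∩ (T ∩ S₁) = T ∩ (S₀ ∩ S₁) by ext a; simp only [Finset.mem_inter]; tauto] at hsum
    have hle : (T ∩ (S₀ ∪ S₁)).card ≤ T.card := Finset.card_le_card Finset.inter_subset_left
    rw [hsz _ hT] at hle
    exact Finset.inter_eq_left.mp (Finset.eq_of_subset_of_card_le Finset.inter_subset_left
      (by rw [hsz _ hT]; omega))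
  have hSU := key S hS hbad
  have hall : ∀ T ∈ F, T ⊆ S₀ ∪ S₁ := by
    intro T hT
    by_cases hT' : S₀ ∩ S₁ ⊆ T
    · by_contra hout
      obtain ⟨a, ha, haU⟩ := Finset.not_subset.mp hout
      have hTS : T ≠ S := fun e => haU (hSU (e ▸ ha))
      have hc := hint _ hT _ hS hTS
      -- T is the core and one further point outside
      have hTeq : T = insert a (S₀ ∩ S₁) := by
        refine (Finset.eq_of_subset_of_card_le (Finset.insert_subset ha hT') ?_).symm
        rw [Finset.card_insert_of_notMem (fun h => haU (Finset.mem_union_left _ (Finset.mem_inter.mp h).1)),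
          hsz _ hT, hint _ h0 _ h1 (Ne.symm h10)]
        omega
      have hsub : T ∩ S ⊂ S₀ ∩ S₁ := by
        refine ⟨fun b hb => ?_, fun h => hbad fun b hb => (Finset.mem_inter.mp (h hb)).2⟩
        obtain ⟨hbT, hbS⟩ := Finset.mem_inter.mp hb
        rw [hTeq, Finset.mem_insert] at hbT
        rcases hbT with rfl | hbT
        · exact absurd (hSU hbS) haU
        · exact hbT
      have := Finset.card_lt_card hsub
      rw [hc, hint _ h0 _ h1 (Ne.symm h10)] at this
      omega
    · exact key T hT hT'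
  have hsubF : F ⊆ (S₀ ∪ S₁).powersetCard k := fun T hT =>
    Finset.mem_powersetCard.mpr ⟨hall T hT, hsz T hT⟩
  have := Finset.card_le_card hsubF
  rw [Finset.card_powersetCard, hU, Nat.choose_succ_self_right] at this
  omega

/-- Four triples meeting pairwise in two points, all of one integral weight `-1`, have a common core. -/
theorem exists_core_four {α : Type*} [DecidableEq α] (σ : α → ℤ) (F : Finset (Finset α))
    (hsz : ∀ S ∈ F, S.card = 3) (hint : ∀ S ∈ F, ∀ T ∈ F, S ≠ T → (S ∩ T).card = 2) (hF : F.card = 4)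
    (hσ : ∀ S ∈ F, ∑ u ∈ S, σ u = -1) : ∃ K : Finset α, K.card = 2 ∧ ∀ S ∈ F, K ⊆ S := by
  by_contra hno
  obtain ⟨A, hA⟩ := Finset.card_pos.mp (show 0 < F.card by omega)
  obtain ⟨B, hB⟩ := Finset.card_pos.mp (show 0 < (F.erase A).card by
    rw [Finset.card_erase_of_mem hA]; omega)
  obtain ⟨hBA, hB⟩ := Finset.mem_erase.mp hB
  have hAB := hint A hA B hB (Ne.symm hBA)
  obtain ⟨C, hC, hCk⟩ : ∃ C ∈ F, ¬ A ∩ B ⊆ C := by
    by_contra h
    exact hno ⟨A ∩ B, hAB, fun S hS => not_not.mp fun hS' => h ⟨S, hS, hS'⟩⟩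
  have hCA : C ≠ A := fun h => hCk (h ▸ Finset.inter_subset_left)
  have hCB : C ≠ B := fun h => hCk (h ▸ Finset.inter_subset_right)
  obtain ⟨k₁, k₂, hk, hkk⟩ := Finset.card_eq_two.mp hAB
  obtain ⟨a, ha⟩ := Finset.card_eq_one.mp (show (A \ B).card = 1 by
    have := Finset.card_sdiff_add_card_inter A B
    rw [hsz A hA, hAB] at this; omega)
  obtain ⟨b, hb⟩ := Finset.card_eq_one.mp (show (B \ A).card = 1 by
    have := Finset.card_sdiff_add_card_inter B A
    rw [hsz B hB, Finset.inter_comm, hAB] at this; omega)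
  have hea : ∀ u, u ∈ A ↔ u = k₁ ∨ u = k₂ ∨ u = a := fun u => by
    have h1 := congrArg (fun W => u ∈ W) hkk
    have h2 := congrArg (fun W => u ∈ W) ha
    simp only [Finset.mem_inter, Finset.mem_sdiff, Finset.mem_insert, Finset.mem_singleton, eq_iff_iff] at h1 h2
    tauto
  have heb : ∀ u, u ∈ B ↔ u = k₁ ∨ u = k₂ ∨ u = b := fun u => by
    have h1 := congrArg (fun W => u ∈ W) hkk
    have h2 := congrArg (fun W => u ∈ W) hb
    simp only [Finset.mem_inter, Finset.mem_sdiff, Finset.mem_insert, Finset.mem_singleton, eq_iff_iff] at h1 h2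
    tauto
  have haB : a ∉ B := (Finset.mem_sdiff.mp (ha.symm ▸ Finset.mem_singleton_self a : a ∈ A \ B)).2
  have hbA : b ∉ A := (Finset.mem_sdiff.mp (hb.symm ▸ Finset.mem_singleton_self b : b ∈ B \ A)).2
  have hA3 : A = {k₁, k₂, a} := by ext u; simpa using hea u
  have hB3 : B = {k₁, k₂, b} := by ext u; simpa using heb u
  have n1a : k₁ ≠ a := fun h => haB ((heb a).mpr (Or.inl h.symm))
  have n2a : k₂ ≠ a := fun h => haB ((heb a).mpr (Or.inr (Or.inl h.symm)))
  have n1b : k₁ ≠ b := fun h => hbA ((hea b).mpr (Or.inl h.symm))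
  have n2b : k₂ ≠ b := fun h => hbA ((hea b).mpr (Or.inr (Or.inl h.symm)))
  have nab : a ≠ b := fun h => hbA ((hea b).mpr (Or.inr (Or.inr h.symm)))
  have meet : ∀ S ∈ F, ∀ x y z : α, x ≠ y → x ≠ z → y ≠ z → ({x, y, z} : Finset α) ∈ F →
      S ≠ {x, y, z} →
      (if x ∈ S then 1 else 0) + (if y ∈ S then 1 else 0) + (if z ∈ S then 1 else (0 : ℕ)) = 2 := by
    intro S hS x y z hxy hxz hyz hT hne
    rw [← hint S hS _ hT hne, Finset.inter_comm, ← Finset.filter_mem_eq_inter, Finset.card_filter,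
      Finset.sum_insert (by simp [hxy, hxz]), Finset.sum_insert (by simp [hyz]), Finset.sum_singleton,
      add_assoc]
  have hCA' := meet C hC k₁ k₂ a hk n1a n2a (hA3 ▸ hA) (hA3 ▸ hCA)
  have hCB' := meet C hC k₁ k₂ b hk n1b n2b (hB3 ▸ hB) (hB3 ▸ hCB)
  have hnot : k₁ ∉ C ∨ k₂ ∉ C := by
    by_contra h
    rw [not_or, not_not, not_not] at h
    exact hCk (hkk ▸ Finset.insert_subset h.1 (Finset.singleton_subset_iff.mpr h.2))
  obtain ⟨k, k', hkk', hk'C, hkC, haC, hbC, hA4, hB4⟩ : ∃ k k' : α, k ≠ k' ∧ k' ∉ C ∧ k ∈ C ∧ a ∈ C ∧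
      b ∈ C ∧ A = {k, k', a} ∧ B = {k, k', b} := by
    rcases hnot with h | h
    · rw [if_neg h] at hCA' hCB'
      refine ⟨k₂, k₁, Ne.symm hk, h, ?_, ?_, ?_, hA3.trans (Finset.insert_comm _ _ _),
        hB3.trans (Finset.insert_comm _ _ _)⟩ <;>
      · by_contra h'
        split_ifs at hCA' hCB' <;> simp_all
    · rw [if_neg h] at hCA' hCB'
      refine ⟨k₁, k₂, hk, h, ?_, ?_, ?_, hA3, hB3⟩ <;>
      · by_contra h'
        split_ifs at hCA' hCB' <;> simp_all
  have nka : k ≠ a := fun h => haB (hB4 ▸ h ▸ by simp)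
  have nk'a : k' ≠ a := fun h => hk'C (h ▸ haC)
  have nkb : k ≠ b := fun h => hbA (hA4 ▸ h ▸ by simp)
  have nk'b : k' ≠ b := fun h => hk'C (h ▸ hbC)
  have hC3 : ({k, a, b} : Finset α) = C := Finset.eq_of_subset_of_card_le
    (by simp [Finset.insert_subset_iff, hkC, haC, hbC]) (by
      rw [hsz C hC, Finset.card_insert_of_notMem (by simp [nka, nkb]), Finset.card_pair nab])
  obtain ⟨D, hD⟩ := Finset.card_pos.mp (show 0 < (((F.erase A).erase B).erase C).card by
    rw [Finset.card_erase_of_mem (by simp [hCA, hCB, hC]), Finset.card_erase_of_mem (by simp [hBA, hB]),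
      Finset.card_erase_of_mem hA]
    omega)
  obtain ⟨hDC, hD⟩ := Finset.mem_erase.mp hD
  obtain ⟨hDB, hD⟩ := Finset.mem_erase.mp hD
  obtain ⟨hDA, hD⟩ := Finset.mem_erase.mp hD
  have d1 := meet D hD k k' a hkk' nka nk'a (hA4 ▸ hA) (hA4 ▸ hDA)
  have d2 := meet D hD k k' b hkk' nkb nk'b (hB4 ▸ hB) (hB4 ▸ hDB)
  have d3 := meet D hD k a b nka nkb nab (hC3.symm ▸ hC) (hC3.symm ▸ hDC)
  have hmem : k' ∈ D ∧ a ∈ D ∧ b ∈ D := by
    split_ifs at d1 d2 d3 <;> simp_all
  have hD3 : ({k', a, b} : Finset α) = D := Finset.eq_of_subset_of_card_le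
    (by simp [Finset.insert_subset_iff, hmem.1, hmem.2.1, hmem.2.2]) (by
      rw [hsz D hD, Finset.card_insert_of_notMem (by simp [nk'a, nk'b]), Finset.card_pair nab])
  have s0 := hσ A hA
  have s1 := hσ B hB
  have s2 := hσ C hC
  have s3 := hσ D hD
  rw [hA4, Finset.sum_insert (by simp [hkk', nka]), Finset.sum_pair nk'a] at s0
  rw [hB4, Finset.sum_insert (by simp [hkk', nkb]), Finset.sum_pair nk'b] at s1
  rw [← hC3, Finset.sum_insert (by simp [nka, nkb]), Finset.sum_pair nab] at s2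
  rw [← hD3, Finset.sum_insert (by simp [nk'a, nk'b]), Finset.sum_pair nab] at s3
  omega

/-- Signs `±1` on a common support whose products sum to the size of the support agree. -/
theorem agree_of_sum {α : Type*} (I : Finset α) (a b : α → ℤ) (ha : ∀ u ∈ I, a u = 1 ∨ a u = -1)
    (hb : ∀ u ∈ I, b u = 1 ∨ b u = -1) (h : ∑ u ∈ I, a u * b u = I.card) : ∀ u ∈ I, a u = b u := by
  have hle : ∀ u ∈ I, a u * b u ≤ 1 := fun u hu => by
    rcases ha u hu with e | e <;> rcases hb u hu with f | f <;> rw [e, f] <;> norm_num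
  have heq := (Finset.sum_eq_sum_iff_of_le hle).mp (by simpa using h)
  intro u hu
  have := heq u hu
  rcases ha u hu with e | e <;> rcases hb u hu with f | f <;> rw [e, f] at this ⊢ <;> norm_num at *

variable {G : Type*} [Group G] [Fintype G]

/-- The signed constituents of the functions induced from `1 - λ_j`. -/
structure Data (G : Type*) [Group G] [Fintype G] (p e : ℕ) [Fact p.Prime] (x : G) where
  /-- multiplicity of `u` in the function induced from `1 - λ_j` -/
  c : ZMod p → Cfsg.IrrCharacter G → ℤ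
  /-- the common part -/
  K : Finset (Cfsg.IrrCharacter G)
  /-- the exceptional character belonging to `j` -/
  w : ZMod p → Cfsg.IrrCharacter G
  /-- the degree -/
  d : Cfsg.IrrCharacter G → ℕ
  hd : ∀ u : Cfsg.IrrCharacter G, (u : G → ℂ) 1 = d u
  c_zero : ∀ u, c 0 u = 0
  c_one : ∀ j, j ≠ 0 → c j CfsgLib.Char.irrOne = 1
  card_K : K.card = e - 1
  one_notMem : CfsgLib.Char.irrOne ∉ K
  w_notMem : ∀ j, j ≠ 0 → w j ∉ K ∧ w j ≠ CfsgLib.Char.irrOne
  support : ∀ j, j ≠ 0 → ∀ u, c j u ≠ 0 → u = CfsgLib.Char.irrOne ∨ u ∈ K ∨ u = w j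
  c_K : ∀ j, j ≠ 0 → ∀ u ∈ K, c j u = c 1 u
  pm : ∀ j, j ≠ 0 → ∀ u, u ∈ K ∨ u = w j → c j u = 1 ∨ c j u = -1
  sum_w : ∀ j, j ≠ 0 → ∑ i, c i (w j) = e * c j (w j)
  degree : ∀ u, ∃ m : ℤ, (d u : ℤ) = p * m - ∑ j, c j u
  value : ∀ u : Cfsg.IrrCharacter G, (u : G → ℂ) x = - ∑ j : ZMod p, (c j u : ℂ) * ZMod.stdAddChar j
  vanish : ∀ (j : ZMod p) (g : G), (∀ h : G, h⁻¹ * g * h ∈ Subgroup.zpowers x → h⁻¹ * g * h = 1) →
    ∑ u, (c j u : ℂ) * (u : G → ℂ) g = 0
  proper : ∀ u : Cfsg.IrrCharacter G, u ≠ CfsgLib.Char.irrOne → d u ∣ Nat.card G ∧ d u ≠ 1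

set_option maxHeartbeats 1600000 in
/-- The exceptional configuration, also for the pair `(e, p) = (3, 13)`. -/
theorem exists_data_of (hlin : ∀ f : G →* ℂˣ, f = 1) (p e : ℕ) [Fact p.Prime] (x : G)
    (hx : orderOf x = p) (hC : Subgroup.centralizer ({x} : Set G) = Subgroup.zpowers x)
    (hN : Nat.card (Subgroup.normalizer ((Subgroup.zpowers x : Subgroup G) : Set G)) = p * e)
    (he3 : e ≤ 3) (hp : e * (e + 2) < p ∨ (e = 2 ∧ 5 < p) ∨ (e = 3 ∧ p = 13)) :
    Nonempty (Data G p e x) := by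
  classical
  have hpp : p.Prime := Fact.out
  have hp0 : (p : ℂ) ≠ 0 := by exact_mod_cast hpp.ne_zero
  set P := Subgroup.zpowers x with hP
  set N := Subgroup.normalizer ((P : Subgroup G) : Set G) with hNdef
  have he1 : 1 ≤ e := by
    have : 0 < Nat.card N := Nat.card_pos
    rw [hN] at this
    exact Nat.pos_of_ne_zero fun h => by simp [h] at this
  -- coordinates on P
  set pw : ZMod p → G := fun k => x ^ k.val with hpw
  have hxp : x ^ p = 1 := by rw [← hx, pow_orderOf_eq_one]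
  have hpw_nat : ∀ n : ℕ, pw (n : ZMod p) = x ^ n := by
    intro n
    simp only [hpw, ZMod.val_natCast]
    conv_rhs => rw [← Nat.mod_add_div n p, pow_add, pow_mul, hxp, one_pow, mul_one]
  have hpw_add : ∀ a b, pw (a + b) = pw a * pw b := by
    intro a b
    conv_lhs => rw [← ZMod.natCast_zmod_val a, ← ZMod.natCast_zmod_val b, ← Nat.cast_add, hpw_nat, pow_add]
  have hpw_inj : Function.Injective pw := fun a b h => by
    apply ZMod.val_injective
    exact pow_injOn_Iio_orderOf (by simpa [hx] using a.val_lt) (by simpa [hx] using b.val_lt) h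
  have hpw_mem : ∀ a, pw a ∈ P := fun a => Subgroup.pow_mem _ (Subgroup.mem_zpowers x) _
  have hPc : Nat.card P = p := by rw [hP, Nat.card_zpowers, hx]
  have hbij : Function.Bijective (fun a : ZMod p => (⟨pw a, hpw_mem a⟩ : P)) :=
    (Fintype.bijective_iff_injective_and_card _).mpr ⟨fun a b h => hpw_inj (congrArg Subtype.val h),
      by rw [ZMod.card, ← Nat.card_eq_fintype_card, hPc]⟩
  set ee : ZMod p ≃ P := Equiv.ofBijective _ hbij with hee
  have hee_val : ∀ a, ((ee a : P) : G) = pw a := fun a => rfl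
  have hee_symm : ∀ u v : P, ee.symm (u * v) = ee.symm u + ee.symm v := by
    intro u v
    apply ee.injective
    rw [Equiv.apply_symm_apply]
    apply Subtype.ext
    rw [Subgroup.coe_mul, hee_val, hpw_add, ← hee_val, ← hee_val, Equiv.apply_symm_apply,
      Equiv.apply_symm_apply]
  -- characters of P
  set ψ : AddChar (ZMod p) ℂ := ZMod.stdAddChar with hψ
  have hψsum : ∀ b : ZMod p, ∑ j : ZMod p, ψ (j * b) = if b = 0 then (p : ℂ) else 0 := by
    intro b
    rw [AddChar.sum_mulShift b (ZMod.isPrimitive_stdAddChar p)]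
    split_ifs <;> simp
  have hψ0 : ψ 0 = 1 := AddChar.map_zero_eq_one ψ
  have hψconj : ∀ a, conj (ψ a) = ψ (-a) := fun a => (AddChar.map_neg_eq_conj ψ a).symm
  set lam : ZMod p → (P → ℂ) := fun j u => ψ (j * ee.symm u) with hlam
  have hlam_irr : ∀ j, Cfsg.IsIrrCharacter P (lam j) := by
    intro j
    refine CfsgLib.Char.isIrrCharacter_hom (G := P)
      { toFun := lam j
        map_one' := ?_
        map_mul' := fun u v => by simp only [hlam, hee_symm, mul_add, AddChar.map_add_eq_mul] }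
    have : ee.symm (1 : P) = 0 := by
      have := hee_symm 1 1
      rw [mul_one] at this
      exact left_eq_add.mp this
    simp [hlam, this, hψ0]
  have hlam_ee : ∀ j k, lam j (ee k) = ψ (j * k) := fun j k => by simp [hlam]
  set one : P → ℂ := fun _ => 1 with hone
  have hone_irr : Cfsg.IsIrrCharacter P one := CfsgLib.Char.isIrrCharacter_one
  -- restrictions
  have hinner : ∀ (f : P → ℂ) (g : P → ℂ),
      Cfsg.classInner f g = (p : ℂ)⁻¹ * ∑ k : ZMod p, f (ee k) * conj (g (ee k)) := by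
    intro f g
    rw [CfsgLib.Char.classInner_def, hPc]
    congr 1
    exact (Equiv.sum_comp ee (fun h => f h * conj (g h))).symm
  have hmult : ∀ (u : Cfsg.IrrCharacter G) (j : ZMod p), ∃ z : ℤ,
      Cfsg.classInner (fun h : P => (u : G → ℂ) h) (lam j) = z := fun u j =>
    CfsgLib.Char.classInner_gen_int
      (CfsgLib.Char.isGen_res P (CfsgLib.Char.isGen_of_irr u.2))
      (CfsgLib.Char.isGen_of_irr (hlam_irr j))
  choose m hm using hmult
  have hmsum : ∀ u : Cfsg.IrrCharacter G, ((∑ j, m u j : ℤ) : ℂ) = (u : G → ℂ) 1 := by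
    intro u
    push_cast
    simp only [← hm, hinner, hlam_ee, hψconj, ← Finset.mul_sum]
    rw [Finset.sum_comm]
    simp only [← Finset.mul_sum, show ∀ j k : ZMod p, -(j * k) = j * (-k) from fun j k => by ring, hψsum,
      neg_eq_zero, mul_ite, mul_zero, Finset.sum_ite_eq', Finset.mem_univ, if_true]
    rw [hee_val, show pw 0 = 1 by simp [hpw]]
    field_simp
  -- the induced functions
  set φ : ZMod p → (P → ℂ) := fun j => one - lam j with hφ
  set θ : ZMod p → (G → ℂ) := fun j => Cfsg.indFun P (φ j) with hθ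
  have hθgen : ∀ j, Cfsg.IsGeneralizedCharacter G (θ j) := fun j =>
    CfsgLib.Char.isGen_indFun P (CfsgLib.Char.isGen_sub (CfsgLib.Char.isGen_of_irr hone_irr)
      (CfsgLib.Char.isGen_of_irr (hlam_irr j)))
  have hlam0 : lam 0 = one := by funext u; simp [hlam, hone, hψ0]
  set c : ZMod p → Cfsg.IrrCharacter G → ℤ := fun j u => m u 0 - m u j with hc
  have hθu : ∀ j (u : Cfsg.IrrCharacter G), Cfsg.classInner (θ j) u = (c j u : ℂ) := by
    intro j u
    rw [hθ, CfsgLib.Char.frobenius_reciprocity P _ (CfsgLib.Char.isClassFunction_of_isIrr u.2),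
      ← CfsgLib.Char.classInner_conj_symm, hφ, CfsgLib.Char.classInner_sub_right, ← hlam0, hm, hm,
      hc]
    simp
  have hc_one : ∀ j, j ≠ 0 → c j CfsgLib.Char.irrOne = 1 := by
    intro j hj
    have h := hθu j CfsgLib.Char.irrOne
    rw [hθ, CfsgLib.Char.frobenius_reciprocity P _
      (CfsgLib.Char.isClassFunction_of_isIrr CfsgLib.Char.irrOne.2)] at h
    have : Cfsg.classInner (φ j) (fun h : P => (CfsgLib.Char.irrOne : Cfsg.IrrCharacter G).1 h) = 1 := by
      rw [show (fun h : P => (CfsgLib.Char.irrOne : Cfsg.IrrCharacter G).1 h) = one from rfl, hφ,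
        CfsgLib.Char.classInner_sub_left, CfsgLib.Char.classInner_irr_self hone_irr,
        CfsgLib.Char.classInner_irr_ne (hlam_irr j) hone_irr ?_, sub_zero]
      intro he
      rw [← hlam0] at he
      have h1 := congrFun he (ee 1)
      rw [hlam_ee, hlam_ee, mul_one, zero_mul] at h1
      exact hj ((ZMod.injective_stdAddChar) h1)
    rw [this] at h
    exact_mod_cast h.symm
  -- the action of the normalizer on exponents
  have hexp : ∀ n : N, ∃ a : ZMod p, (n : G)⁻¹ * x * n = pw a := by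
    intro n
    have h1 : (n : G)⁻¹ * x * n ∈ P := by
      have := ((N.inv_mem n.2) x).mp (Subgroup.mem_zpowers x)
      rwa [inv_inv] at this
    obtain ⟨a, ha⟩ := ee.surjective ⟨_, h1⟩
    exact ⟨a, (congrArg Subtype.val ha).symm⟩
  choose a ha using hexp
  have hconj_pw : ∀ (n : N) (k : ZMod p), (n : G)⁻¹ * pw k * n = pw (a n * k) := by
    intro n k
    have h1 : (n : G)⁻¹ * x ^ k.val * n = (pw (a n)) ^ k.val := by
      rw [← ha, show (n : G)⁻¹ * x * n = (n : G)⁻¹ * x * ((n : G)⁻¹)⁻¹ by rw [inv_inv], conj_pow, inv_inv]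
    show (n : G)⁻¹ * x ^ k.val * n = _
    rw [h1]
    show (x ^ (a n).val) ^ k.val = _
    rw [← pow_mul, ← hpw_nat, Nat.cast_mul, ZMod.natCast_zmod_val, ZMod.natCast_zmod_val]
  have ha0 : ∀ n : N, a n ≠ 0 := by
    intro n h
    have h1 := ha n
    rw [h, show pw 0 = 1 by simp [hpw]] at h1
    have : x = 1 := by
      calc x = (n : G) * ((n : G)⁻¹ * x * n) * (n : G)⁻¹ := by group
        _ = 1 := by rw [h1]; group
    rw [this, orderOf_one] at hx
    exact hpp.ne_one hx.symm
  have hPN : P ≤ N := Subgroup.le_normalizer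
  have hfib : ∀ n₀ : N, (Finset.univ.filter fun n : N => a n = a n₀).card = p := by
    intro n₀
    have e1 : {n : N // a n = a n₀} ≃ P :=
      { toFun := fun n => ⟨(n.1 : G) * (n₀ : G)⁻¹, by
          show (n.1 : G) * (n₀ : G)⁻¹ ∈ P
          rw [← hC, Subgroup.mem_centralizer_singleton_iff]
          have h1 : (n.1 : G)⁻¹ * x * n.1 = (n₀ : G)⁻¹ * x * n₀ := by rw [ha, ha, n.2]
          calc (n.1 : G) * (n₀ : G)⁻¹ * x = (n.1 : G) * ((n₀ : G)⁻¹ * x * n₀) * (n₀ : G)⁻¹ := by group
            _ = (n.1 : G) * ((n.1 : G)⁻¹ * x * n.1) * (n₀ : G)⁻¹ := by rw [h1]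
            _ = x * ((n.1 : G) * (n₀ : G)⁻¹) := by group⟩
        invFun := fun u => ⟨⟨(u : G) * n₀, N.mul_mem (hPN u.2) n₀.2⟩, by
          apply hpw_inj
          rw [← ha, ← ha]
          have h1 : (u : G) * x = x * u := by
            rw [← Subgroup.mem_centralizer_singleton_iff, hC]; exact u.2
          calc ((u : G) * n₀)⁻¹ * x * ((u : G) * n₀) = (n₀ : G)⁻¹ * (u : G)⁻¹ * (x * u) * n₀ := by group
            _ = (n₀ : G)⁻¹ * x * n₀ := by rw [← h1]; group⟩
        left_inv := fun n => by ext; simp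
        right_inv := fun u => by ext; simp }
    rw [← Fintype.card_subtype, Fintype.card_congr e1, ← Nat.card_eq_fintype_card, hPc]
  set E : Finset (ZMod p) := Finset.univ.image a with hE
  have hsumN : ∀ F : ZMod p → ℂ, ∑ n : N, F (a n) = p * ∑ b ∈ E, F b := by
    intro F
    rw [← Finset.sum_fiberwise_of_maps_to (t := E) (g := a) (fun n _ => Finset.mem_image_of_mem a (Finset.mem_univ n)),
      Finset.mul_sum]
    refine Finset.sum_congr rfl fun b hb => ?_
    obtain ⟨n₀, -, rfl⟩ := Finset.mem_image.mp hb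
    rw [Finset.sum_congr rfl (g := fun _ => F (a n₀)) (fun n hn => by rw [(Finset.mem_filter.mp hn).2]),
      Finset.sum_const, hfib, nsmul_eq_mul]
  have hEcard : E.card = e := by
    have h1 := hsumN (fun _ => 1)
    simp only [Finset.sum_const, Finset.card_univ, nsmul_eq_mul, mul_one, ← Nat.card_eq_fintype_card, hN] at h1
    have h2 : p * e = p * E.card := by exact_mod_cast h1
    exact (Nat.eq_of_mul_eq_mul_left hpp.pos h2).symm
  have hθval : ∀ j k, θ j (pw k) = ∑ b ∈ E, (1 - ψ (j * (b * k))) := by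
    intro j k
    rcases eq_or_ne k 0 with rfl | hk
    · rw [show pw 0 = 1 by simp [hpw]]
      simp only [hθ]
      rw [CfsgLib.Char.indFun_one]
      have h0 : ee.symm (1 : P) = 0 := by
        rw [Equiv.symm_apply_eq]
        exact Subtype.ext (by rw [hee_val]; simp [hpw])
      simp [hφ, hone, hlam, h0, hψ0]
    simp only [hθ]
    rw [CfsgLib.Char.indFun_apply, hPc]
    have hsupp : ∀ g : G, g ∉ N → Cfsg.extendByZero P (φ j) (g⁻¹ * pw k * g) = 0 := by
      intro g hg
      refine CfsgLib.Char.extendByZero_of_notMem _ fun hmem => hg ?_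
      have hgen : ∀ v : ZMod p, g⁻¹ * pw v * g ∈ P := by
        intro v
        have hv : pw v = pw k ^ ((v * k⁻¹).val) := by
          show _ = (x ^ k.val) ^ _
          rw [← pow_mul, ← hpw_nat, Nat.cast_mul, ZMod.natCast_zmod_val, ZMod.natCast_zmod_val,
            mul_comm k, mul_assoc, inv_mul_cancel₀ hk, mul_one]
        rw [hv, show g⁻¹ * pw k ^ (v * k⁻¹).val * g = g⁻¹ * pw k ^ (v * k⁻¹).val * (g⁻¹)⁻¹ by rw [inv_inv],
          ← conj_pow, inv_inv]
        exact Subgroup.pow_mem _ hmem _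
      rw [← inv_mem_iff (H := N)]
      refine Subgroup.mem_normalizer_fintype fun y hy => ?_
      obtain ⟨v, hv⟩ := ee.surjective ⟨y, hy⟩
      have hv' : pw v = y := congrArg Subtype.val hv
      rw [← hv', inv_inv]
      exact hgen v
    rw [← Finset.sum_subset (Finset.subset_univ ((Finset.univ : Finset N).map ⟨Subtype.val, Subtype.val_injective⟩))
      (fun g _ hg => hsupp g fun hgN => hg (Finset.mem_map.mpr ⟨⟨g, hgN⟩, Finset.mem_univ _, rfl⟩)),
      Finset.sum_map]
    have hv : ∀ n : N, Cfsg.extendByZero P (φ j) ((n : G)⁻¹ * pw k * n) = 1 - ψ (j * (a n * k)) := by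
      intro n
      rw [hconj_pw, ← hee_val, CfsgLib.Char.extendByZero_coe]
      simp [hφ, hone, hlam_ee]
    simp only [Function.Embedding.coeFn_mk, hv]
    rw [hsumN (fun b => 1 - ψ (j * (b * k))), inv_mul_cancel_left₀ hp0]
  have hgram : ∀ i j, i ≠ 0 → j ≠ 0 →
      Cfsg.classInner (θ i) (θ j) = e + ((E.filter fun b => j * b = i).card : ℂ) := by
    intro i j hi hj
    rw [hθ, CfsgLib.Char.frobenius_reciprocity P _ (CfsgLib.Char.isClassFunction_indFun P _), hinner]
    have hterm : ∀ k : ZMod p, φ i (ee k) * conj (θ j (pw k)) =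
        ∑ b ∈ E, (1 - ψ (k * i) - ψ (k * -(j * b)) + ψ (k * (i - j * b))) := by
      intro k
      rw [hθval, map_sum, Finset.mul_sum]
      refine Finset.sum_congr rfl fun b _ => ?_
      simp only [hφ, hone, Pi.sub_apply, hlam_ee, map_sub, map_one, hψconj]
      rw [show k * (i - j * b) = i * k + -(j * (b * k)) by ring, AddChar.map_add_eq_mul,
        show k * i = i * k by ring, show k * -(j * b) = -(j * (b * k)) by ring]
      ring
    rw [Finset.sum_congr rfl (fun k _ => show φ i (ee k) * conj (θ j ((ee k : P) : G)) = _ from hterm k)]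
    rw [Finset.sum_comm]
    have hin : ∀ b ∈ E, ∑ k : ZMod p, (1 - ψ (k * i) - ψ (k * -(j * b)) + ψ (k * (i - j * b))) =
        (p : ℂ) + if j * b = i then (p : ℂ) else 0 := by
      intro b hb
      obtain ⟨n₀, -, rfl⟩ := Finset.mem_image.mp hb
      rw [Finset.sum_add_distrib, Finset.sum_sub_distrib, Finset.sum_sub_distrib, hψsum, hψsum, hψsum,
        if_neg hi, if_neg (neg_ne_zero.mpr (mul_ne_zero hj (ha0 n₀)))]
      simp [sub_eq_zero, eq_comm]
    rw [Finset.sum_congr rfl hin, Finset.sum_add_distrib, ← Finset.sum_filter, Finset.sum_const,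
      Finset.sum_const, nsmul_eq_mul, nsmul_eq_mul, hEcard]
    field_simp
  -- supports
  set U : Finset (Cfsg.IrrCharacter G) := Finset.univ.erase CfsgLib.Char.irrOne with hU
  set T : ZMod p → Finset (Cfsg.IrrCharacter G) := fun j => U.filter fun u => c j u ≠ 0 with hT
  have hprod : ∀ i j, i ≠ 0 → j ≠ 0 →
      ∑ u ∈ U, c i u * c j u = (e : ℤ) - 1 + (E.filter fun b => j * b = i).card := by
    intro i j hi hj
    have h1 := hgram i j hi hj
    rw [CfsgLib.Char.classInner_eq_sum (CfsgLib.Char.isClassFunction_indFun P _)] at h1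
    have hθu' : ∀ k (u : Cfsg.IrrCharacter G), Cfsg.classInner (Cfsg.indFun P (φ k)) u = (c k u : ℂ) := hθu
    simp only [hθ, hθu', map_intCast] at h1
    have h2 : ∑ u, c i u * c j u = (e : ℤ) + (E.filter fun b => j * b = i).card := by
      exact_mod_cast h1
    rw [← Finset.add_sum_erase _ _ (Finset.mem_univ CfsgLib.Char.irrOne), hc_one i hi, hc_one j hj] at h2
    rw [hU]
    linarith
  have hself : ∀ j, j ≠ 0 → ∑ u ∈ U, c j u * c j u = e := by
    intro j hj
    rw [hprod j j hj hj]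
    have : (E.filter fun b => j * b = j) = {1} := by
      ext b
      rw [Finset.mem_filter, Finset.mem_singleton]
      refine ⟨fun h => (mul_right_eq_self₀.mp h.2).resolve_right hj, ?_⟩
      rintro rfl
      refine ⟨Finset.mem_image.mpr ⟨1, Finset.mem_univ _, hpw_inj ?_⟩, mul_one j⟩
      rw [← ha, OneMemClass.coe_one, inv_one, one_mul, mul_one, ← Nat.cast_one, hpw_nat, pow_one]
    rw [this, Finset.card_singleton]
    push_cast; ring
  have hpm : ∀ j, j ≠ 0 → ∀ u ∈ T j, c j u = 1 ∨ c j u = -1 := by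
    intro j hj u hu
    obtain ⟨huU, hne⟩ := Finset.mem_filter.mp hu
    have h1 : c j u * c j u ≤ e := by
      rw [← hself j hj]
      exact Finset.single_le_sum (fun v _ => mul_self_nonneg (c j v)) huU
    have he3' : (e : ℤ) ≤ 3 := by exact_mod_cast he3
    have h2 : -1 ≤ c j u ∧ c j u ≤ 1 := by constructor <;> nlinarith
    omega
  have hTcard : ∀ j, j ≠ 0 → (T j).card = e := by
    intro j hj
    have h1 := hself j hj
    rw [← Finset.sum_filter_of_ne (p := fun u => c j u ≠ 0) (fun u _ h => left_ne_zero_of_mul h)] at h1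
    rw [Finset.sum_congr rfl (g := fun _ => (1 : ℤ)) (fun u hu => by
      rcases hpm j hj u hu with h | h <;> rw [h] <;> norm_num)] at h1
    simpa using h1
  -- two members
  have hpair : ∀ i j, i ≠ 0 → j ≠ 0 →
      ((∃ b ∈ E, j * b = i) → T i = T j) ∧
      ((¬ ∃ b ∈ E, j * b = i) → (T i ∩ T j).card = e - 1) ∧
      ∀ u ∈ T i ∩ T j, c i u = c j u := by
    intro i j hi hj
    have h1 := hprod i j hi hj
    have hfilt : (E.filter fun b => j * b = i).card ≤ 1 := Finset.card_le_one.mpr fun b hb b' hb' =>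
      mul_left_cancel₀ hj ((Finset.mem_filter.mp hb).2.trans (Finset.mem_filter.mp hb').2.symm)
    have hres : ∑ u ∈ T i ∩ T j, c i u * c j u = ∑ u ∈ U, c i u * c j u := by
      refine Finset.sum_subset (fun u hu => (Finset.mem_filter.mp (Finset.mem_inter.mp hu).1).1) ?_
      intro u hu hu'
      simp only [hT, Finset.mem_inter, Finset.mem_filter, hu, true_and] at hu'
      rcases not_and_or.mp hu' with h | h <;> simp [not_not.mp h]
    have hle : (T i ∩ T j).card ≤ e :=
      (Finset.card_le_card Finset.inter_subset_left).trans_eq (hTcard i hi)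
    have hub : ∑ u ∈ T i ∩ T j, c i u * c j u ≤ (T i ∩ T j).card := by
      rw [Finset.card_eq_sum_ones, Nat.cast_sum, Nat.cast_one]
      refine Finset.sum_le_sum fun u hu => ?_
      rcases hpm i hi u (Finset.mem_inter.mp hu).1 with h | h <;>
        rcases hpm j hj u (Finset.mem_inter.mp hu).2 with h' | h' <;> rw [h, h'] <;> norm_num
    have hag : ∑ u ∈ T i ∩ T j, c i u * c j u = (T i ∩ T j).card → ∀ u ∈ T i ∩ T j, c i u = c j u :=
      fun h => agree_of_sum _ _ _ (fun u hu => hpm i hi u (Finset.mem_inter.mp hu).1)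
        (fun u hu => hpm j hj u (Finset.mem_inter.mp hu).2) h
    by_cases hrel : ∃ b ∈ E, j * b = i
    · obtain ⟨b, hb, hb'⟩ := hrel
      have hone' : (E.filter fun b => j * b = i).card = 1 := le_antisymm hfilt
        (Finset.card_pos.mpr ⟨b, Finset.mem_filter.mpr ⟨hb, hb'⟩⟩)
      have hcI : (T i ∩ T j).card = e := by
        rw [hone', ← hres] at h1
        push_cast at h1
        omega
      refine ⟨fun _ => ?_, fun h => absurd ⟨b, hb, hb'⟩ h, hag ?_⟩
      · exact (Finset.eq_of_subset_of_card_le (Finset.inter_subset_left (s₂ := T j)) (by rw [hTcard i hi, hcI])).symm.trans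
          (Finset.eq_of_subset_of_card_le (Finset.inter_subset_right (s₁ := T i)) (by rw [hTcard j hj, hcI]))
      · rw [hres, h1, hone', hcI]; push_cast; ring
    · have hzero : (E.filter fun b => j * b = i).card = 0 :=
        Finset.card_eq_zero.mpr (Finset.filter_eq_empty_iff.mpr fun b hb hb' => hrel ⟨b, hb, hb'⟩)
      rw [hzero] at h1
      -- parity
      have hpar : (2 : ℤ) ∣ ∑ u ∈ T i ∩ T j, c i u * c j u - (T i ∩ T j).card := by
        rw [Finset.card_eq_sum_ones, Nat.cast_sum, Nat.cast_one, ← Finset.sum_sub_distrib]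
        refine Finset.dvd_sum fun u hu => ?_
        rcases hpm i hi u (Finset.mem_inter.mp hu).1 with h | h <;>
          rcases hpm j hj u (Finset.mem_inter.mp hu).2 with h' | h' <;> rw [h, h'] <;> norm_num
      have hcI : (T i ∩ T j).card = e - 1 := by
        rw [← hres] at h1
        push_cast at h1
        omega
      refine ⟨fun h => absurd h hrel, fun _ => hcI, hag ?_⟩
      rw [hres, h1, hcI]; push_cast; omega
  set nz : Finset (ZMod p) := Finset.univ.erase 0 with hnz
  set F := nz.image T with hF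
  have hfibre : ∀ j, j ≠ 0 → nz.filter (fun i => T i = T j) = E.image (fun b => j * b) := by
    intro j hj
    ext i
    simp only [hnz, Finset.mem_filter, Finset.mem_erase, Finset.mem_univ, and_true, Finset.mem_image]
    constructor
    · rintro ⟨hi, hTT⟩
      by_contra hrel
      have h2 := (hpair i j hi hj).2.1 hrel
      rw [hTT, Finset.inter_self, hTcard j hj] at h2
      omega
    · rintro ⟨b, hb, rfl⟩
      obtain ⟨n₀, -, rfl⟩ := Finset.mem_image.mp hb
      exact ⟨mul_ne_zero hj (ha0 n₀), (hpair _ j (mul_ne_zero hj (ha0 n₀)) hj).1 ⟨_, hb, rfl⟩⟩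
  have hfibre_card : ∀ j, j ≠ 0 → (nz.filter (fun i => T i = T j)).card = e := by
    intro j hj
    rw [hfibre j hj, Finset.card_image_of_injective _ (mul_right_injective₀ hj), hEcard]
  have hFcard : e + 2 ≤ F.card ∨ (e = 2 ∧ F.card = 3) ∨ (e = 3 ∧ F.card = 4) := by
    have h1 : nz.card = F.card * e := by
      rw [Finset.card_eq_sum_card_fiberwise (f := T) (t := F) (fun i hi => Finset.mem_image_of_mem T hi),
        Finset.sum_congr rfl (g := fun _ => e) ?_, Finset.sum_const, smul_eq_mul]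
      intro S hS
      obtain ⟨j, hj, rfl⟩ := Finset.mem_image.mp hS
      exact hfibre_card j (Finset.ne_of_mem_erase hj)
    have h2 : nz.card = p - 1 := by
      rw [hnz, Finset.card_erase_of_mem (Finset.mem_univ _), Finset.card_univ, ZMod.card]
    rcases hp with hp | ⟨rfl, hp⟩ | ⟨rfl, rfl⟩
    · left
      by_contra hlt
      have h3 : F.card * e ≤ (e + 1) * e := Nat.mul_le_mul_right e (by omega)
      have h4 : p - 1 ≤ (e + 1) * e := by rw [← h2, h1]; exact h3
      have h5 : (e + 1) * e + e = e * (e + 2) := by ring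
      omega
    · omega
    · omega
  -- degrees
  choose d hdpos hd using fun u : Cfsg.IrrCharacter G => CfsgLib.Char.exists_degree_pos u.2
  have hdsum : ∀ u : Cfsg.IrrCharacter G, (d u : ℤ) = p * m u 0 - ∑ j ∈ nz, c j u := by
    intro u
    have h1 := hmsum u
    rw [hd] at h1
    have h2 : ∑ j, m u j = (d u : ℤ) := by exact_mod_cast h1
    rw [← h2, hnz, ← Finset.add_sum_erase _ _ (Finset.mem_univ (0 : ZMod p)), hc, Finset.sum_sub_distrib,
      Finset.sum_const, Finset.card_erase_of_mem (Finset.mem_univ _), Finset.card_univ, ZMod.card,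
      nsmul_eq_mul, Nat.cast_sub hpp.one_le]
    push_cast; ring
  have h0P : ee.symm (1 : P) = 0 := by
    rw [Equiv.symm_apply_eq]
    exact Subtype.ext (by rw [hee_val]; simp [hpw])
  have hdeq : ∀ j, j ≠ 0 → ∑ u ∈ T j, c j u * (d u : ℤ) = -1 := by
    intro j hj
    have h2 : θ j 1 = ∑ u : Cfsg.IrrCharacter G, (c j u : ℂ) * (d u : ℂ) := by
      conv_lhs => rw [CfsgLib.Char.classFun_eq_sum (CfsgLib.Char.isClassFunction_of_isGen (hθgen j))]
      simp [Finset.sum_apply, hθu, hd]
    have h3 : θ j 1 = 0 := by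
      simp only [hθ]
      rw [CfsgLib.Char.indFun_one]
      simp [hφ, hone, hlam, h0P, hψ0]
    rw [h3] at h2
    have h4 : ∑ u, c j u * (d u : ℤ) = 0 := by exact_mod_cast h2.symm
    rw [← Finset.add_sum_erase _ _ (Finset.mem_univ CfsgLib.Char.irrOne), hc_one j hj] at h4
    have hd1 : d CfsgLib.Char.irrOne = 1 := by
      have := hd CfsgLib.Char.irrOne
      rw [CfsgLib.Char.irrOne_apply] at this
      exact_mod_cast this.symm
    rw [hd1] at h4
    rw [hT, Finset.sum_filter_of_ne (fun u _ h => left_ne_zero_of_mul h), hU]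
    push_cast at h4
    linarith
  have hUmem : ∀ j, ∀ u ∈ T j, u ≠ CfsgLib.Char.irrOne := fun j u hu =>
    Finset.ne_of_mem_erase (Finset.mem_filter.mp hu).1
  have hsumT : ∀ j, j ≠ 0 → ∑ u ∈ T j, c j u * (d u : ℤ) = -1 := hdeq
  have hTne : ∀ S ∈ F, ∀ S' ∈ F, S ≠ S' → (S ∩ S').card = e - 1 := by
    intro S hS S' hS' hne
    obtain ⟨i, hi, rfl⟩ := Finset.mem_image.mp hS
    obtain ⟨j, hj, rfl⟩ := Finset.mem_image.mp hS'
    refine (hpair i j (Finset.ne_of_mem_erase hi) (Finset.ne_of_mem_erase hj)).2.1 fun hrel => hne ?_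
    exact (hpair i j (Finset.ne_of_mem_erase hi) (Finset.ne_of_mem_erase hj)).1 hrel
  obtain ⟨K, hKc, hK⟩ : ∃ K : Finset (Cfsg.IrrCharacter G), K.card = e - 1 ∧ ∀ S ∈ F, K ⊆ S := by
    rcases hFcard with hF4 | ⟨rfl, hF3⟩ | ⟨rfl, hF4⟩
    · exact exists_core e he1 F
        (fun S hS => by obtain ⟨j, hj, rfl⟩ := Finset.mem_image.mp hS; exact hTcard j (Finset.ne_of_mem_erase hj))
        hTne hF4
    rotate_left
    · classical
      let σ : Cfsg.IrrCharacter G → ℤ := fun u =>
        if h : ∃ j, j ≠ 0 ∧ u ∈ T j then c h.choose u * d u else 0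
      refine exists_core_four σ F
        (fun S hS => by obtain ⟨j, hj, rfl⟩ := Finset.mem_image.mp hS; exact hTcard j (Finset.ne_of_mem_erase hj))
        hTne hF4 fun S hS => ?_
      obtain ⟨j, hj, rfl⟩ := Finset.mem_image.mp hS
      have hj0 := Finset.ne_of_mem_erase hj
      rw [← hsumT j hj0]
      refine Finset.sum_congr rfl fun u hu => ?_
      have h : ∃ i, i ≠ 0 ∧ u ∈ T i := ⟨j, hj0, hu⟩
      simp only [σ, dif_pos h]
      rw [(hpair j h.choose hj0 h.choose_spec.1).2.2 u (Finset.mem_inter.mpr ⟨hu, h.choose_spec.2⟩)]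
    -- three pairs: a triangle is impossible by parity
    obtain ⟨S₀, S₁, S₂, h01, h02, h12, hFeq⟩ := Finset.card_eq_three.mp hF3
    have m0 : S₀ ∈ F := by rw [hFeq]; simp
    have m1 : S₁ ∈ F := by rw [hFeq]; simp
    have m2 : S₂ ∈ F := by rw [hFeq]; simp
    obtain ⟨a, ha'⟩ := Finset.card_eq_one.mp (hTne _ m0 _ m1 h01)
    by_cases haS : a ∈ S₂
    · refine ⟨{a}, rfl, fun S hS => Finset.singleton_subset_iff.mpr ?_⟩
      have haa := Finset.mem_inter.mp (ha'.symm ▸ Finset.mem_singleton_self a : a ∈ S₀ ∩ S₁)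
      rw [hFeq, Finset.mem_insert, Finset.mem_insert, Finset.mem_singleton] at hS
      rcases hS with rfl | rfl | rfl
      · exact haa.1
      · exact haa.2
      · exact haS
    exfalso
    obtain ⟨b, hb'⟩ := Finset.card_eq_one.mp (hTne _ m0 _ m2 h02)
    obtain ⟨v, hv'⟩ := Finset.card_eq_one.mp (hTne _ m1 _ m2 h12)
    have haa := Finset.mem_inter.mp (ha'.symm ▸ Finset.mem_singleton_self a : a ∈ S₀ ∩ S₁)
    have hbb := Finset.mem_inter.mp (hb'.symm ▸ Finset.mem_singleton_self b : b ∈ S₀ ∩ S₂)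
    have hvv := Finset.mem_inter.mp (hv'.symm ▸ Finset.mem_singleton_self v : v ∈ S₁ ∩ S₂)
    obtain ⟨j0, hj0, rfl⟩ := Finset.mem_image.mp m0
    obtain ⟨j1, hj1, rfl⟩ := Finset.mem_image.mp m1
    obtain ⟨j2, hj2, rfl⟩ := Finset.mem_image.mp m2
    have n0 := Finset.ne_of_mem_erase hj0
    have n1 := Finset.ne_of_mem_erase hj1
    have n2 := Finset.ne_of_mem_erase hj2
    have hab : a ≠ b := fun h => haS (h ▸ hbb.2)
    have hav : a ≠ v := fun h => haS (h ▸ hvv.2)
    have hbv : b ≠ v := fun h => hab (by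
      have : b ∈ T j0 ∩ T j1 := Finset.mem_inter.mpr ⟨hbb.1, h ▸ hvv.1⟩
      rw [ha', Finset.mem_singleton] at this
      exact this.symm)
    have e0 : T j0 = {a, b} := (Finset.eq_of_subset_of_card_le (by
      simp [Finset.insert_subset_iff, haa.1, hbb.1]) (by rw [hTcard j0 n0, Finset.card_pair hab])).symm
    have e1 : T j1 = {a, v} := (Finset.eq_of_subset_of_card_le (by
      simp [Finset.insert_subset_iff, haa.2, hvv.1]) (by rw [hTcard j1 n1, Finset.card_pair hav])).symm
    have e2 : T j2 = {b, v} := (Finset.eq_of_subset_of_card_le (by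
      simp [Finset.insert_subset_iff, hbb.2, hvv.2]) (by rw [hTcard j2 n2, Finset.card_pair hbv])).symm
    have s0 := hsumT j0 n0
    have s1 := hsumT j1 n1
    have s2 := hsumT j2 n2
    rw [e0, Finset.sum_pair hab] at s0
    rw [e1, Finset.sum_pair hav] at s1
    rw [e2, Finset.sum_pair hbv] at s2
    rw [(hpair j1 j0 n1 n0).2.2 a (Finset.mem_inter.mpr ⟨haa.2, haa.1⟩)] at s1
    rw [(hpair j2 j0 n2 n0).2.2 b (Finset.mem_inter.mpr ⟨hbb.2, hbb.1⟩),
      (hpair j2 j1 n2 n1).2.2 v (Finset.mem_inter.mpr ⟨hvv.2, hvv.1⟩)] at s2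
    omega
  have hK' : ∀ j, j ≠ 0 → K ⊆ T j := fun j hj =>
    hK _ (Finset.mem_image_of_mem T (Finset.mem_erase.mpr ⟨hj, Finset.mem_univ _⟩))
  have hwex : ∀ j, ∃ w, j ≠ 0 → T j \ K = {w} := by
    intro j
    by_cases hj : j = 0
    · exact ⟨CfsgLib.Char.irrOne, fun h => absurd hj h⟩
    obtain ⟨w, hw⟩ := Finset.card_eq_one.mp (show (T j \ K).card = 1 by
      rw [Finset.card_sdiff_of_subset (hK' j hj), hTcard j hj, hKc]; omega)
    exact ⟨w, fun _ => hw⟩
  choose w hw using hwex
  have hwT : ∀ j, j ≠ 0 → w j ∈ T j ∧ w j ∉ K := fun j hj =>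
    Finset.mem_sdiff.mp ((hw j hj).symm ▸ Finset.mem_singleton_self (w j))
  have hw_only : ∀ j k, j ≠ 0 → k ≠ 0 → T j ≠ T k → w k ∉ T j := by
    intro j k hj hk hne hwj
    have hrel : ¬ ∃ b ∈ E, k * b = j := fun h => hne ((hpair j k hj hk).1 h)
    have h2 := (hpair j k hj hk).2.1 hrel
    have hsub : insert (w k) K ⊆ T j ∩ T k := Finset.insert_subset (Finset.mem_inter.mpr ⟨hwj, (hwT k hk).1⟩)
      fun u hu => Finset.mem_inter.mpr ⟨hK' j hj hu, hK' k hk hu⟩
    have := Finset.card_le_card hsub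
    rw [Finset.card_insert_of_notMem (hwT k hk).2, hKc, h2] at this
    omega
  have hc0 : ∀ u, c 0 u = 0 := fun u => sub_self _
  have hsum_univ : ∀ u, ∑ j, c j u = ∑ j ∈ nz, c j u := fun u => by
    rw [hnz, ← Finset.add_sum_erase _ _ (Finset.mem_univ (0 : ZMod p)), hc0, zero_add]
  refine ⟨⟨c, K, w, d, hd, hc0, hc_one, hKc, fun h => hUmem 1 _ (hK' 1 one_ne_zero h) rfl,
    fun j hj => ⟨(hwT j hj).2, hUmem j _ (hwT j hj).1⟩, ?_, ?_, ?_, ?_, ?_, ?_, ?_, ?_⟩⟩
  · intro j hj u hu
    rcases eq_or_ne u CfsgLib.Char.irrOne with h | h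
    · exact Or.inl h
    refine Or.inr ?_
    by_cases hu' : u ∈ K
    · exact Or.inl hu'
    · refine Or.inr (Finset.mem_singleton.mp (hw j hj ▸ Finset.mem_sdiff.mpr ⟨?_, hu'⟩))
      exact Finset.mem_filter.mpr ⟨Finset.mem_erase.mpr ⟨h, Finset.mem_univ _⟩, hu⟩
  · intro j hj u hu
    exact (hpair j 1 hj one_ne_zero).2.2 u
      (Finset.mem_inter.mpr ⟨hK' j hj hu, hK' 1 one_ne_zero hu⟩)
  · intro j hj u hu
    rcases hu with hu | rfl
    · exact hpm j hj u (hK' j hj hu)
    · exact hpm j hj _ (hwT j hj).1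
  · intro j hj
    rw [hsum_univ, ← Finset.sum_filter_add_sum_filter_not nz (fun i => T i = T j),
      Finset.sum_congr rfl (g := fun _ => c j (w j)) ?_, Finset.sum_const, hfibre_card j hj, nsmul_eq_mul,
      Finset.sum_eq_zero ?_, add_zero]
    · intro i hi
      obtain ⟨hi, hne⟩ := Finset.mem_filter.mp hi
      have := hw_only i j (Finset.ne_of_mem_erase hi) hj hne
      simp only [hT, Finset.mem_filter, (Finset.mem_filter.mp (hwT j hj).1).1, true_and, not_not] at this
      exact this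
    · intro i hi
      obtain ⟨hi, heq⟩ := Finset.mem_filter.mp hi
      exact (hpair i j (Finset.ne_of_mem_erase hi) hj).2.2 _
        (Finset.mem_inter.mpr ⟨heq ▸ (hwT j hj).1, (hwT j hj).1⟩)
  · intro u
    exact ⟨m u 0, by rw [hsum_univ]; exact hdsum u⟩
  · intro u
    have hx1 : pw 1 = x := by rw [← Nat.cast_one, hpw_nat, pow_one]
    have hfour : (u : G → ℂ) (pw 1) = ∑ j : ZMod p, (m u j : ℂ) * ψ j := by
      simp only [← hm, hinner, hlam_ee, hψconj, Finset.sum_mul, Finset.mul_sum]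
      rw [Finset.sum_comm]
      have key : ∀ k : ZMod p, ∑ j : ZMod p, (p : ℂ)⁻¹ * ((u : G → ℂ) ((ee k : P) : G) * ψ (-(j * k))) * ψ j =
          (p : ℂ)⁻¹ * ((u : G → ℂ) (pw k) * if (1 : ZMod p) - k = 0 then (p : ℂ) else 0) := by
        intro k
        rw [← hψsum, Finset.mul_sum, Finset.mul_sum]
        refine Finset.sum_congr rfl fun j _ => ?_
        rw [show j * (1 - k) = -(j * k) + j by ring, AddChar.map_add_eq_mul, hee_val]
        ring
      rw [Finset.sum_congr rfl (fun k _ => key k)]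
      simp only [sub_eq_zero, mul_ite, mul_zero, Finset.sum_ite_eq, Finset.mem_univ, if_true]
      field_simp
    rw [hx1] at hfour
    rw [hfour]
    have hz : ∑ j : ZMod p, (m u 0 : ℂ) * ψ j = 0 := by
      rw [← Finset.mul_sum]
      have := hψsum 1
      simp only [mul_one, one_ne_zero, if_false] at this
      rw [this, mul_zero]
    rw [← zero_sub, ← hz, ← Finset.sum_sub_distrib]
    refine Finset.sum_congr rfl fun j _ => ?_
    simp only [hc, Int.cast_sub]
    ring
  · intro j g hg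
    have h1 : θ j g = ∑ u : Cfsg.IrrCharacter G, (c j u : ℂ) * (u : G → ℂ) g := by
      conv_lhs => rw [CfsgLib.Char.classFun_eq_sum (CfsgLib.Char.isClassFunction_of_isGen (hθgen j))]
      simp [Finset.sum_apply, hθu]
    rw [← h1]
    simp only [hθ]
    refine CfsgLib.Char.indFun_eq_zero_of_forall P fun h hh => ?_
    have h3 : (⟨h⁻¹ * g * h, hh⟩ : P) = 1 := Subtype.ext (hg h hh)
    rw [h3]
    simp [hφ, hone, hlam, h0P, hψ0]
  · intro u hu
    refine ⟨CfsgLib.Char.degree_dvd_card u.2 (hd u), fun h1 => hu ?_⟩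
    have hu1 : (u : G → ℂ) 1 = 1 := by rw [hd, h1, Nat.cast_one]
    apply Subtype.ext
    funext g
    rw [← CfsgLib.Char.linearHom_apply (CfsgLib.Char.isCharacter_of_isIrr u.2) hu1 g,
      hlin (CfsgLib.Char.linearHom (CfsgLib.Char.isCharacter_of_isIrr u.2) hu1), CfsgLib.Char.irrOne_apply]
    rfl

/-- The exceptional configuration. -/
theorem exists_data (hlin : ∀ f : G →* ℂˣ, f = 1) (p e : ℕ) [Fact p.Prime] (x : G)
    (hx : orderOf x = p) (hC : Subgroup.centralizer ({x} : Set G) = Subgroup.zpowers x)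
    (hN : Nat.card (Subgroup.normalizer ((Subgroup.zpowers x : Subgroup G) : Set G)) = p * e)
    (he3 : e ≤ 3) (hp : e * (e + 2) < p ∨ (e = 2 ∧ 5 < p)) :
    Nonempty (Data G p e x) :=
  exists_data_of hlin p e x hx hC hN he3 (hp.imp_right Or.inl)

variable {p e : ℕ} [Fact p.Prime] {x : G}

/-- The degree equation. -/
theorem Data.degree_eq (D : Data G p e x) {j : ZMod p} (hj : j ≠ 0) :
    1 + ∑ u ∈ D.K, D.c j u * (D.d u : ℤ) + D.c j (D.w j) * (D.d (D.w j) : ℤ) = 0 := by
  classical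
  have h := D.vanish j 1 (fun h _ => by simp)
  have h' : ∑ u, D.c j u * (D.d u : ℤ) = 0 := by
    simp only [D.hd] at h
    exact_mod_cast h
  rw [← Finset.sum_subset (Finset.subset_univ (insert CfsgLib.Char.irrOne (insert (D.w j) D.K))),
    Finset.sum_insert, Finset.sum_insert (D.w_notMem j hj).1, D.c_one j hj] at h'
  · have hd1 : D.d CfsgLib.Char.irrOne = 1 := by
      have := D.hd CfsgLib.Char.irrOne
      rw [CfsgLib.Char.irrOne_apply] at this
      exact_mod_cast this.symm
    rw [hd1] at h'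
    push_cast at h'
    linarith
  · rw [Finset.mem_insert, not_or]
    exact ⟨(D.w_notMem j hj).2.symm, D.one_notMem⟩
  · intro u _ hu
    by_contra hne
    apply hu
    rcases D.support j hj u (left_ne_zero_of_mul hne) with h | h | h <;> simp [h]

set_option maxHeartbeats 400000 in
/-- Signed degrees of the exceptional and non-exceptional characters. -/
theorem signed_degrees (hlin : ∀ f : G →* ℂˣ, f = 1) (p e : ℕ) [Fact p.Prime] (x : G)
    (hx : orderOf x = p) (hC : Subgroup.centralizer ({x} : Set G) = Subgroup.zpowers x)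
    (hN : Nat.card (Subgroup.normalizer ((Subgroup.zpowers x : Subgroup G) : Set G)) = p * e)
    (he3 : e ≤ 3) (hp : e * (e + 2) < p ∨ (e = 2 ∧ 5 < p)) :
    ∃ (L : List ℤ) (b : ℤ), L.length = e - 1 ∧ b + L.sum = -1 ∧
      (∀ a ∈ L, a.natAbs ∣ Nat.card G ∧ a.natAbs ≠ 1 ∧ (p : ℤ) ∣ a - 1) ∧
      b.natAbs ∣ Nat.card G ∧ b.natAbs ≠ 1 ∧ (p : ℤ) ∣ b + e := by
  classical
  have hpp : p.Prime := Fact.out
  obtain ⟨D⟩ := exists_data hlin p e x hx hC hN he3 hp
  have h10 : (1 : ZMod p) ≠ 0 := one_ne_zero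
  have habs : ∀ u, u ∈ D.K ∨ u = D.w 1 → (D.c 1 u * (D.d u : ℤ)).natAbs = D.d u := fun u hu => by
    rcases D.pm 1 h10 u hu with h | h <;> rw [h] <;> simp
  have hne : ∀ u, u ∈ D.K ∨ u = D.w 1 → u ≠ CfsgLib.Char.irrOne := fun u hu => by
    rcases hu with hu | rfl
    · exact fun h => D.one_notMem (h ▸ hu)
    · exact (D.w_notMem 1 h10).2
  refine ⟨D.K.toList.map fun u => D.c 1 u * (D.d u : ℤ), D.c 1 (D.w 1) * (D.d (D.w 1) : ℤ),
    by simp [D.card_K], ?_, ?_, ?_, ?_, ?_⟩
  · rw [Finset.sum_map_toList]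
    linarith [D.degree_eq h10]
  · intro z hz
    obtain ⟨u, hu, rfl⟩ := List.mem_map.mp hz
    rw [Finset.mem_toList] at hu
    obtain ⟨e2, e3⟩ := D.proper u (hne u (Or.inl hu))
    refine ⟨by rw [habs u (Or.inl hu)]; exact e2, by rw [habs u (Or.inl hu)]; exact e3, ?_⟩
    have hs : D.c 1 u * D.c 1 u = 1 := by
      rcases D.pm 1 h10 u (Or.inl hu) with h | h <;> rw [h] <;> norm_num
    obtain ⟨m, hm⟩ := D.degree u
    refine ⟨D.c 1 u * m - 1, ?_⟩
    rw [hm, ← Finset.add_sum_erase _ _ (Finset.mem_univ (0 : ZMod p)), D.c_zero, zero_add,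
      Finset.sum_congr rfl (fun j hj => D.c_K j (Finset.ne_of_mem_erase hj) u hu), Finset.sum_const,
      Finset.card_erase_of_mem (Finset.mem_univ _), Finset.card_univ, ZMod.card, nsmul_eq_mul,
      Nat.cast_sub hpp.one_le]
    push_cast
    linear_combination (1 - (p : ℤ)) * hs
  · rw [habs _ (Or.inr rfl)]; exact (D.proper _ (D.w_notMem 1 h10).2).1
  · rw [habs _ (Or.inr rfl)]; exact (D.proper _ (D.w_notMem 1 h10).2).2
  · have hs : D.c 1 (D.w 1) * D.c 1 (D.w 1) = 1 := by
      rcases D.pm 1 h10 _ (Or.inr rfl) with h | h <;> rw [h] <;> norm_num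
    obtain ⟨m, hm⟩ := D.degree (D.w 1)
    refine ⟨D.c 1 (D.w 1) * m, ?_⟩
    rw [hm, D.sum_w 1 h10]
    linear_combination -(e : ℤ) * hs

end CfsgLib.SmallGroups.PrimeOrderChar

namespace CfsgLib.SmallGroups.PrimeOrderChar

/-- In a non-abelian simple group every linear character is trivial. -/
theorem linear_trivial {G : Type*} [Group G] [IsSimpleGroup G] (hG : ¬ IsMulCommutative G)
    (f : G →* ℂˣ) : f = 1 := by
  rcases IsSimpleGroup.eq_bot_or_eq_top_of_normal f.ker inferInstance with h | h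
  · exact absurd ⟨⟨fun a b => (MonoidHom.ker_eq_bot_iff f).mp h (by simp [mul_comm])⟩⟩ hG
  · exact MonoidHom.ext fun g => MonoidHom.mem_ker.mp (h ▸ Subgroup.mem_top g)

/-- The arithmetical consequence for a simple group having a Sylow `p`-subgroup of order `p` with
normalizer of order `p q`, `q` prime. -/
theorem signed_degrees_of_simple {G : Type*} [Group G] [Finite G] [IsSimpleGroup G]
    (hG : ¬ IsMulCommutative G) (p q : ℕ) [Fact p.Prime] (P : Sylow p G)
    (hP : Nat.card (P : Subgroup G) = p) (hpG : p ∣ Nat.card G)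
    (hN : Nat.card (Subgroup.normalizer ((P : Subgroup G) : Set G)) = p * q) (hq : q.Prime)
    (hq3 : q ≤ 3) (hpq : q * (q + 2) < p) :
    ∃ (L : List ℤ) (b : ℤ), L.length = q - 1 ∧ b + L.sum = -1 ∧
      (∀ a ∈ L, a.natAbs ∣ Nat.card G ∧ a.natAbs ≠ 1 ∧ (p : ℤ) ∣ a - 1) ∧
      b.natAbs ∣ Nat.card G ∧ b.natAbs ≠ 1 ∧ (p : ℤ) ∣ b + q := by
  classical
  haveI := Fintype.ofFinite G
  haveI : IsCyclic (P : Subgroup G) := isCyclic_of_prime_card hP
  obtain ⟨⟨x, hxP⟩, hgen⟩ := IsCyclic.exists_generator (α := (P : Subgroup G))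
  have hPx : (P : Subgroup G) = Subgroup.zpowers x := by
    refine le_antisymm (fun y hy => ?_) (Subgroup.zpowers_le.mpr hxP)
    obtain ⟨k, hk⟩ := Subgroup.mem_zpowers_iff.mp (hgen ⟨y, hy⟩)
    exact ⟨k, congrArg Subtype.val hk⟩
  have hxord : orderOf x = p := by rw [← Nat.card_zpowers, ← hPx, hP]
  set N := Subgroup.normalizer ((P : Subgroup G) : Set G) with hNdef
  set C := Subgroup.centralizer ({x} : Set G) with hC
  have hcent : C = Subgroup.centralizer ((P : Subgroup G) : Set G) := by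
    ext g
    rw [hC, Subgroup.mem_centralizer_singleton_iff, Subgroup.mem_centralizer_iff, hPx]
    constructor
    · intro h y hy
      obtain ⟨k, rfl⟩ := Subgroup.mem_zpowers_iff.mp hy
      exact (((show Commute g x from h).zpow_right k).eq).symm
    · exact fun h => (h x (Subgroup.mem_zpowers x)).symm
  have hPC : (P : Subgroup G) ≤ C := by
    rw [hPx, hC, Subgroup.zpowers_le, Subgroup.mem_centralizer_singleton_iff]
  have hCN : C ≤ N := by
    rw [hcent]; exact Subgroup.centralizer_le_normalizer _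
  have hne : ¬ N ≤ C := hcent ▸ not_normalizer_le_centralizer hG hpG P
  obtain ⟨k, hk⟩ : p ∣ Nat.card C := hP ▸ Subgroup.card_dvd_of_le hPC
  have hkq : k ∣ q := by
    have h1 := Subgroup.card_dvd_of_le hCN
    rw [hk, hN] at h1
    exact Nat.dvd_of_mul_dvd_mul_left (Fact.out : p.Prime).pos h1
  rcases (Nat.dvd_prime hq).mp hkq with rfl | rfl
  · refine signed_degrees (linear_trivial hG) p q x hxord ?_ (by rw [← hPx]; exact hN) hq3 (Or.inl hpq)
    rw [← hPx]
    exact (Subgroup.eq_of_le_of_card_ge hPC (by rw [hk, hP, mul_one])).symm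
  · exact absurd (Subgroup.eq_of_le_of_card_ge hCN (by rw [hN, hk])).ge hne

end CfsgLib.SmallGroups.PrimeOrderChar
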