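import Cfsg.Agent.Lib.SmallGroups.PrimeRational
import Mathlib

/-!
Characters at a real element of order five: the sum of the values at `x` and `x²` and the
multiplicity difference giving their difference.
-/

set_option autoImplicit false
set_option linter.style.haveILetI false

namespace CfsgLib.SmallGroups.PrimeFive

open scoped ComplexConjugate

variable {G : Type*} [Group G] [Fintype G]

set_option maxHeartbeats 400000 in
/-- For a real element `x` of order five, `χ x + χ x² = u` and `(χ x - χ x²)² = 5 w²` with integers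
`u ≡ w (mod 2)` and `u ≡ 2 χ(1) (mod 5)`. -/
theorem exists_values {x : G} (hx : orderOf x = 5) (hreal : IsConj x x⁻¹)
    (χ : Cfsg.IrrCharacter G) :
    ∃ u w : ℤ, (χ : G → ℂ) x + (χ : G → ℂ) (x ^ 2) = (u : ℂ) ∧
      ((χ : G → ℂ) x - (χ : G → ℂ) (x ^ 2)) ^ 2 = 5 * (w : ℂ) ^ 2 ∧
      (5 : ℤ) ∣ 2 * (CfsgLib.InvolChar.deg χ : ℤ) - u ∧ (2 : ℤ) ∣ u - w := by
  classical
  set P := Subgroup.zpowers x with hP
  have hPc : Nat.card P = 5 := by rw [hP, Nat.card_zpowers, hx]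
  set ω : ℂ := Complex.exp (2 * Real.pi * Complex.I / 5) with hω
  have hprim : IsPrimitiveRoot ω 5 := by
    have := Complex.isPrimitiveRoot_exp 5 (by norm_num)
    simpa [hω] using this
  have hω5 : ω ^ 5 = 1 := hprim.pow_eq_one
  have hsum : 1 + ω + ω ^ 2 + ω ^ 3 + ω ^ 4 = 0 := by
    have := hprim.geom_sum_eq_zero (by norm_num)
    simpa [Finset.sum_range_succ] using this
  set g₀ : P := ⟨x, Subgroup.mem_zpowers x⟩ with hg₀
  have hgen : ∀ y : P, y ∈ Subgroup.zpowers g₀ := by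
    rintro ⟨y, hy⟩
    obtain ⟨k, rfl⟩ := Subgroup.mem_zpowers_iff.mp hy
    exact ⟨k, Subtype.ext (by simp [hg₀])⟩
  set ωu : ℂˣ := Units.mk0 ω (hprim.ne_zero (by norm_num)) with hωu
  have hord : ∀ j : ℕ, orderOf (ωu ^ j) ∣ orderOf g₀ := fun j => by
    rw [hg₀, Subgroup.orderOf_mk, hx]
    refine orderOf_dvd_of_pow_eq_one (Units.ext ?_)
    simp only [Units.val_pow_eq_pow_val, hωu, Units.val_mk0, Units.val_one]
    rw [← pow_mul, mul_comm, pow_mul, hω5, one_pow]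
  -- the multiplicity of a linear character of P
  have hmult : ∀ j : ℕ, ∃ z : ℤ, (5 : ℂ) * z = (χ : G → ℂ) 1 + (χ : G → ℂ) x * conj (ω ^ j) +
      (χ : G → ℂ) (x ^ 2) * conj ((ω ^ j) ^ 2) + (χ : G → ℂ) (x ^ 3) * conj ((ω ^ j) ^ 3) +
      (χ : G → ℂ) (x ^ 4) * conj ((ω ^ j) ^ 4) := by
    intro j
    let f : P →* ℂˣ := monoidHomOfForallMemZpowers hgen (hord j)
    obtain ⟨z, hz⟩ := CfsgLib.Char.classInner_gen_int
      (CfsgLib.Char.isGen_res P (CfsgLib.Char.isGen_of_irr χ.2))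
      (CfsgLib.Char.isGen_of_irr (CfsgLib.Char.isIrrCharacter_units_hom (G := P) f))
    refine ⟨z, ?_⟩
    rw [CfsgLib.Char.classInner_def, hPc] at hz
    rw [← hz, ← ((finCongr hx.symm).trans (finEquivZPowers (isOfFinOrder_of_finite x))).sum_comp,
      Fin.sum_univ_five]
    have hf : ∀ (k : ℕ) (h : x ^ k ∈ P), ((f ⟨x ^ k, h⟩ : ℂˣ) : ℂ) = (ω ^ j) ^ k := by
      intro k h
      rw [show (⟨x ^ k, h⟩ : P) = g₀ ^ k from Subtype.ext rfl, map_pow,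
        monoidHomOfForallMemZpowers_apply_gen]
      simp [hωu]
    have hf0 : ∀ h : (1 : G) ∈ P, ((f ⟨1, h⟩ : ℂˣ) : ℂ) = 1 := fun h => by
      rw [show (⟨1, h⟩ : P) = 1 from rfl, map_one, Units.val_one]
    have hf1 : ∀ h : x ∈ P, ((f ⟨x, h⟩ : ℂˣ) : ℂ) = ω ^ j := fun h => by
      simpa using hf 1 (by simpa using h)
    simp only [Equiv.trans_apply, finEquivZPowers_apply, finCongr_apply]
    simp [hf, hf0, hf1]
  obtain ⟨m1, h1⟩ := hmult 1
  obtain ⟨m2, h2⟩ := hmult 2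
  have e4 : (χ : G → ℂ) (x ^ 4) = (χ : G → ℂ) x := by
    have : x ^ 4 = x⁻¹ := by
      apply eq_inv_of_mul_eq_one_left
      rw [← pow_succ, show 4 + 1 = 5 from rfl, ← hx, pow_orderOf_eq_one]
    rw [this]
    exact (CfsgLib.Char.isClassFunction_iff.1 (CfsgLib.Char.isClassFunction_of_isIrr χ.2) x x⁻¹ hreal).symm
  have e3 : (χ : G → ℂ) (x ^ 3) = (χ : G → ℂ) (x ^ 2) := by
    obtain ⟨g, hg⟩ := isConj_iff.mp hreal
    have hc : IsConj (x ^ 2) (x ^ 3) := isConj_iff.mpr ⟨g, by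
      rw [← conj_pow, hg, inv_pow]
      apply inv_eq_of_mul_eq_one_right
      rw [← pow_add, show 2 + 3 = 5 from rfl, ← hx, pow_orderOf_eq_one]⟩
    exact (CfsgLib.Char.isClassFunction_iff.1 (CfsgLib.Char.isClassFunction_of_isIrr χ.2) _ _ hc).symm
  have hconj : conj ω = ω ^ 4 := by
    rw [← Complex.inv_eq_conj (hprim.norm'_eq_one (by norm_num))]
    exact inv_eq_of_mul_eq_one_right (by rw [← pow_succ', hω5])
  rw [e3, e4, CfsgLib.InvolChar.deg_spec] at h1 h2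
  simp only [map_pow, hconj, pow_one] at h1 h2
  set a := (χ : G → ℂ) x
  set b := (χ : G → ℂ) (x ^ 2)
  set d := (CfsgLib.InvolChar.deg χ : ℂ)
  have r1 : (5 : ℂ) * m1 = d + a * (ω + ω ^ 4) + b * (ω ^ 2 + ω ^ 3) := by
    rw [h1]
    linear_combination (a * (ω * (ω ^ 10 + ω ^ 5 + 1)) + b * (ω ^ 3 + ω ^ 2 * (ω ^ 5 + 1))) * hω5
  have r2 : (5 : ℂ) * m2 = d + a * (ω ^ 2 + ω ^ 3) + b * (ω + ω ^ 4) := by
    rw [h2]
    linear_combination (a * (ω ^ 3 + ω ^ 2 * (ω ^ 5 + 1) * (1 + ω ^ 10 + ω ^ 20)) +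
      b * (ω * (1 + ω ^ 5 + ω ^ 10) + ω ^ 4 * (1 + ω ^ 5) * (1 + ω ^ 10))) * hω5
  refine ⟨2 * (CfsgLib.InvolChar.deg χ : ℤ) - 5 * (m1 + m2), m1 - m2, ?_, ?_, ⟨m1 + m2, by ring⟩,
    ⟨(CfsgLib.InvolChar.deg χ : ℤ) - 3 * m1 - 2 * m2, by ring⟩⟩
  · push_cast
    linear_combination r1 + r2 + (a + b) * hsum
  · push_cast
    have hd : (5 : ℂ) * (m1 - m2) = (a - b) * (ω + ω ^ 4 - ω ^ 2 - ω ^ 3) := by
      linear_combination r1 - r2
    have hθ : (ω + ω ^ 4 - ω ^ 2 - ω ^ 3) ^ 2 = 5 := by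
      linear_combination (ω ^ 3 - 2 * ω ^ 2 - ω + 4) * hω5 + (-1) * hsum
    have h5 : (25 : ℂ) * (m1 - m2 : ℂ) ^ 2 = 5 * (a - b) ^ 2 := by
      linear_combination (5 * (m1 - m2 : ℂ) + (a - b) * (ω + ω ^ 4 - ω ^ 2 - ω ^ 3)) * hd + (a - b) ^ 2 * hθ
    linear_combination (-1 / 5 : ℂ) * h5

end CfsgLib.SmallGroups.PrimeFive
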