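import Cfsg.Agent.S0727
import Cfsg.Agent.Lib.SmallGroups.Basic
import Cfsg.Agent.Lib.Classical.Dickson.PSLMap
import Cfsg.Agent.Lib.Classical.Dickson.MinIndex
import Mathlib

/-!
Recognition of `PSL(2, q)`, `q` even, by the centralisers of involutions, and counting the elements
in the conjugates of a subgroup which is the centraliser of each of its non-trivial elements.
-/

set_option autoImplicit false
set_option linter.style.haveILetI false

namespace CfsgLib.SmallGroups.EvenCharRecog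

open MulAction

variable {G : Type*} [Group G] [Finite G]

/-- The conjugates of a subgroup which centralises exactly itself meet trivially. -/
theorem card_conjugates_le {C : Subgroup G}
    (hC : ∀ g ∈ C, g ≠ 1 → Subgroup.centralizer ({g} : Set G) = C)
    (Q : G → Prop) (hQ : ∀ g ∈ C, g ≠ 1 → ∀ k : G, Q (k * g * k⁻¹)) :
    (Subgroup.normalizer (C : Set G)).index * (Nat.card C - 1) ≤ Nat.card {y : G // Q y} := by
  classical
  have hsub : Nat.card {g : C // g ≠ 1} = Nat.card C - 1 := by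
    haveI := Fintype.ofFinite C
    rw [Nat.card_eq_fintype_card, Nat.card_eq_fintype_card, Fintype.card_subtype_compl,
      Fintype.card_subtype_eq]
  rw [← hsub, Subgroup.index, ← Nat.card_prod]
  refine Nat.card_le_card_of_injective
    (fun z => ⟨z.1.out * ((z.2 : C) : G) * z.1.out⁻¹,
      hQ _ z.2.1.2 (fun h => z.2.2 (Subtype.ext h)) _⟩) ?_
  rintro ⟨k, ⟨⟨g, hg⟩, hg1⟩⟩ ⟨k', ⟨⟨g', hg'⟩, hg1'⟩⟩ h
  have h' : k.out * g * k.out⁻¹ = k'.out * g' * k'.out⁻¹ := congrArg Subtype.val h
  have hne : g ≠ 1 := fun e => hg1 (Subtype.ext e)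
  have hne' : g' ≠ 1 := fun e => hg1' (Subtype.ext e)
  set m := k'.out⁻¹ * k.out with hm
  have hm' : m * g * m⁻¹ = g' := by
    rw [hm, show k'.out⁻¹ * k.out * g * (k'.out⁻¹ * k.out)⁻¹ =
      k'.out⁻¹ * (k.out * g * k.out⁻¹) * k'.out by group, h']
    group
  have hmN : m ∈ Subgroup.normalizer (C : Set G) := by
    refine Subgroup.mem_normalizer_iff.mpr fun x => ?_
    conv_lhs => rw [← hC g hg hne]
    conv_rhs => rw [← hC g' hg' hne']
    simp only [SetLike.mem_coe, Subgroup.mem_centralizer_singleton_iff, ← hm']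
    constructor
    · intro hx
      rw [show m * x * m⁻¹ * (m * g * m⁻¹) = m * (x * g) * m⁻¹ by group, hx]; group
    · intro hx
      apply mul_left_cancel (a := m)
      apply mul_right_cancel (b := m⁻¹)
      calc m * (x * g) * m⁻¹ = m * x * m⁻¹ * (m * g * m⁻¹) := by group
        _ = m * g * m⁻¹ * (m * x * m⁻¹) := hx
        _ = m * (g * x) * m⁻¹ := by group
  have hk : k = k' := by
    rw [← k.out_eq', ← k'.out_eq', eq_comm, QuotientGroup.eq]
    exact hmN
  subst hk
  have hgg : g = g' := by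
    rw [hm, inv_mul_cancel, one_mul, inv_one, mul_one] at hm'
    exact hm'
  subst hgg
  rfl

/-- A group of order `(q + 1) q (q - 1)` with elementary abelian Sylow subgroups of order `q`, each
the centraliser of its non-trivial elements, and few involutions is `PSL(2, q)`. -/
theorem nonempty_psl_even [IsSimpleGroup G] {f : ℕ} (hf : 2 ≤ f)
    (hG : Nat.card G = (2 ^ f + 1) * (2 ^ f * (2 ^ f - 1)))
    (hexp : ∀ y : G, y ^ 2 ^ f = 1 → y * y = 1)
    (hc : ∀ t : G, orderOf t = 2 → Nat.card (Subgroup.centralizer ({t} : Set G)) = 2 ^ f)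
    (hI : Nat.card {t : G // orderOf t = 2} * 2 ^ f ≤ Nat.card G)
    {F : Type*} [Field F] [Fintype F] (hF : Fintype.card F = 2 ^ f) :
    Nonempty (G ≃* Matrix.ProjectiveSpecialLinearGroup (Fin 2) F) := by
  classical
  haveI : Fact (Nat.Prime 2) := ⟨Nat.prime_two⟩
  set q := 2 ^ f with hq
  have hq4 : 4 ≤ q := by rw [hq]; exact Nat.pow_le_pow_right (show 1 ≤ 2 by norm_num) hf
  have heven : Even q := by rw [hq]; exact Nat.even_pow.mpr ⟨even_two, by omega⟩
  have hodd : ¬ 2 ∣ (q + 1) * (q - 1) := by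
    rw [← even_iff_two_dvd, Nat.not_even_iff_odd]
    exact heven.add_one.mul (Nat.Even.sub_odd (by omega) heven odd_one)
  have hG' : Nat.card G = 2 ^ f * ((q + 1) * (q - 1)) := by rw [hG, ← hq]; ring
  have hna : ¬ IsMulCommutative G := CfsgLib.SmallGroups.not_isMulCommutative_of_not_prime (by
    rw [hG']
    exact Nat.not_prime_mul (by omega) (by nlinarith [Nat.sub_add_cancel (show 1 ≤ q by omega)]))
  have hcard : ∀ P : Sylow 2 G, Nat.card (P : Subgroup G) = q :=
    fun P => CfsgLib.SmallGroups.card_sylow_eq hG' hodd P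
  have hsq : ∀ (P : Sylow 2 G), ∀ y ∈ (P : Subgroup G), y * y = 1 := fun P y hy => by
    refine hexp y ?_
    rw [← hcard P]
    exact congrArg Subtype.val (pow_card_eq_one' (x := (⟨y, hy⟩ : (P : Subgroup G))))
  have hcent : ∀ (P : Sylow 2 G), ∀ y ∈ (P : Subgroup G), y ≠ 1 →
      Subgroup.centralizer ({y} : Set G) = P := by
    intro P y hy hy1
    have ho : orderOf y = 2 := orderOf_eq_prime (by rw [pow_two, hsq P y hy]) hy1
    refine (Subgroup.eq_of_le_of_card_ge (fun x hx => ?_) (by rw [hc y ho, hcard P])).symm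
    rw [Subgroup.mem_centralizer_singleton_iff]
    have h1 := hsq P _ (mul_mem hx hy)
    calc x * y = (x * y)⁻¹ := (inv_eq_of_mul_eq_one_right h1).symm
      _ = y * x := by
        rw [mul_inv_rev, inv_eq_of_mul_eq_one_right (hsq P x hx),
          inv_eq_of_mul_eq_one_right (hsq P y hy)]
  have hTI : ∀ (P Q : Sylow 2 G), ∀ y ∈ (P : Subgroup G), y ∈ (Q : Subgroup G) → y ≠ 1 → P = Q :=
    fun P Q y hP hQ hy1 => Sylow.ext ((hcent P y hP hy1).symm.trans (hcent Q y hQ hy1))
  -- a Sylow subgroup moves the others freely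
  have hfree : ∀ (P Q : Sylow 2 G), ∀ y ∈ (P : Subgroup G), P ≠ Q → y • Q = Q → y = 1 := by
    intro P Q y hy hPQ hfix
    by_contra hy1
    have hp : IsPGroup 2 (Subgroup.zpowers y) :=
      P.2.to_le (Subgroup.zpowers_le.mpr hy)
    have h5 : Subgroup.zpowers y ≤ Subgroup.normalizer (Q : Set G) :=
      Subgroup.zpowers_le.mpr (Sylow.smul_eq_iff_mem_normalizer.mp hfix)
    have h6 := hp.inf_normalizer_sylow Q
    rw [inf_eq_left.mpr h5] at h6
    have hyQ : y ∈ (Q : Subgroup G) :=
      (h6 ▸ Subgroup.mem_zpowers y : y ∈ Subgroup.zpowers y ⊓ (Q : Subgroup G)).2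
    exact hPQ (hTI P Q y hy hyQ hy1)
  haveI := Fintype.ofFinite (Sylow 2 G)
  have hfixself : ∀ (P : Sylow 2 G), ∀ y ∈ (P : Subgroup G), y • P = P := fun P y hy =>
    Sylow.smul_eq_iff_mem_normalizer.mpr (Subgroup.le_normalizer hy)
  have hmoved : ∀ (P Q : Sylow 2 G), P ≠ Q → ∀ y ∈ (P : Subgroup G), y • Q ≠ P := by
    intro P Q hPQ y hy e
    rw [← hfixself P y hy] at e
    exact hPQ (smul_left_cancel y e).symm
  let orb : ∀ (P Q : Sylow 2 G), P ≠ Q → ((P : Subgroup G) : Type _) → {R : Sylow 2 G // R ≠ P} :=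
    fun P Q h y => ⟨(y : G) • Q, hmoved P Q h _ y.2⟩
  have horb : ∀ P Q h, Function.Injective (orb P Q h) := by
    intro P Q h x y e
    have e' : (x : G) • Q = (y : G) • Q := congrArg Subtype.val e
    have h1 := hfree P Q _ (mul_mem (inv_mem x.2) y.2) h (by rw [mul_smul, ← e', inv_smul_smul])
    exact Subtype.ext (inv_mul_eq_one.mp h1)
  have hne1 : ∀ P : Sylow 2 G, Nat.card {R : Sylow 2 G // R ≠ P} = Nat.card (Sylow 2 G) - 1 := by
    intro P
    rw [Nat.card_eq_fintype_card, Nat.card_eq_fintype_card, Fintype.card_subtype_compl,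
      Fintype.card_subtype_eq]
  have h2G : 2 ∣ Nat.card G := (dvd_pow_self 2 (by omega : f ≠ 0)).trans (Dvd.intro _ hG'.symm)
  have hn1 : 1 < Nat.card (Sylow 2 G) := by
    have := CfsgLib.SmallGroups.card_sylow_ne_one (G := G) (p := 2) hna h2G
    have := Nat.card_pos (α := Sylow 2 G)
    omega
  haveI : Nontrivial (Sylow 2 G) := Finite.one_lt_card_iff_nontrivial.mp hn1
  obtain ⟨P₀⟩ : Nonempty (Sylow 2 G) := inferInstance
  obtain ⟨P₁, hP₁⟩ := exists_ne P₀
  have hge : q + 1 ≤ Nat.card (Sylow 2 G) := by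
    have h := Nat.card_le_card_of_injective _ (horb P₀ P₁ hP₁.symm)
    rw [hne1, hcard] at h
    omega
  -- the involutions bound the number of Sylow subgroups
  have hle : Nat.card (Sylow 2 G) ≤ q + 1 := by
    let F' : (Σ P : Sylow 2 G, {y : (P : Subgroup G) // y ≠ 1}) → {t : G // orderOf t = 2} := fun z =>
      ⟨(z.2.1 : G), orderOf_eq_prime (by rw [pow_two, hsq z.1 _ z.2.1.2])
        (fun h => z.2.2 (Subtype.ext h))⟩
    have hF' : Function.Injective F' := by
      rintro ⟨P, ⟨⟨y, hy⟩, hy1⟩⟩ ⟨Q, ⟨⟨y', hy'⟩, hy1'⟩⟩ e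
      have e' : y = y' := congrArg Subtype.val e
      subst e'
      obtain rfl := hTI P Q y hy hy' (fun h => hy1 (Subtype.ext h))
      rfl
    have h := Nat.card_le_card_of_injective F' hF'
    have hP : ∀ P : Sylow 2 G, Nat.card {y : (P : Subgroup G) // y ≠ 1} = q - 1 := by
      intro P
      haveI := Fintype.ofFinite (P : Subgroup G)
      rw [Nat.card_eq_fintype_card, Fintype.card_subtype_compl, Fintype.card_subtype_eq,
        ← Nat.card_eq_fintype_card, hcard]
    rw [Nat.card_sigma, Finset.sum_congr rfl (fun P _ => hP P), Finset.sum_const, Finset.card_univ,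
      smul_eq_mul, ← Nat.card_eq_fintype_card] at h
    have h1 : Nat.card (Sylow 2 G) * (q - 1) * q ≤ (q + 1) * (q * (q - 1)) :=
      (Nat.mul_le_mul_right q h).trans (by rw [← hG]; exact hI)
    rw [mul_assoc, mul_comm q (q - 1)] at h1
    exact Nat.le_of_mul_le_mul_right h1 (Nat.mul_pos (by omega) (by omega))
  have hn : Nat.card (Sylow 2 G) = q + 1 := le_antisymm hle hge
  have hsurj : ∀ P Q h, Function.Surjective (orb P Q h) := fun P Q h =>
    ((Nat.bijective_iff_injective_and_card _).mpr ⟨horb P Q h, by rw [hne1, hcard, hn]; omega⟩).2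
  -- sharply three-transitive
  have hthree : ∀ (g : G) (A B C : Sylow 2 G), A ≠ B → A ≠ C → B ≠ C →
      g • A = A → g • B = B → g • C = C → g = 1 := by
    intro g A B C hAB hAC hBC hA hB hC'
    obtain ⟨⟨u, hu⟩, hu'⟩ := hsurj A B hAB ⟨C, hAC.symm⟩
    have hu2 : u • B = C := congrArg Subtype.val hu'
    have hu1 : u ≠ 1 := fun h => hBC (by rw [← hu2, h, one_smul])
    have hgu : g * u * g⁻¹ ∈ (A : Subgroup G) :=
      (Sylow.smul_eq_iff_mem_normalizer.mp hA u).mp hu
    have hconj : (g * u * g⁻¹) • B = C := by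
      rw [mul_smul, mul_smul, inv_smul_eq_iff.mpr hB.symm, hu2, hC']
    have heq : u = g * u * g⁻¹ := congrArg Subtype.val
      (horb A B hAB (a₁ := ⟨u, hu⟩) (a₂ := ⟨_, hgu⟩) (Subtype.ext (hu2.trans hconj.symm)))
    have hgA : g ∈ (A : Subgroup G) := by
      rw [← hcent A u hu hu1, Subgroup.mem_centralizer_singleton_iff]
      exact eq_mul_inv_iff_mul_eq.mp heq |>.symm
    exact hfree A B g hgA hAB hB
  set φ := toPermHom G (Sylow 2 G) with hφ
  have hthird : ∀ A : Sylow 2 G, ∀ B, A ≠ B → ∃ C, A ≠ C ∧ B ≠ C := by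
    intro A B hAB
    obtain ⟨C, hC⟩ := Finset.exists_mem_notMem_of_card_lt_card (s := {A, B}) (t := Finset.univ)
      (by rw [Finset.card_pair hAB, Finset.card_univ, ← Nat.card_eq_fintype_card, hn]; omega)
    simp only [Finset.mem_insert, Finset.mem_singleton, not_or] at hC
    exact ⟨C, Ne.symm hC.2.1, Ne.symm hC.2.2⟩
  obtain ⟨P₂, hP₂⟩ := hthird P₀ P₁ hP₁.symm
  have hinj : Function.Injective φ := by
    refine (injective_iff_map_eq_one φ).mpr fun g hg => ?_
    have h : ∀ R : Sylow 2 G, g • R = R := fun R => congrArg (fun σ : Equiv.Perm (Sylow 2 G) => σ R) hg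
    exact hthree g P₀ P₁ P₂ hP₁.symm hP₂.1 hP₂.2 (h _) (h _) (h _)
  have e : G ≃* φ.range := MonoidHom.ofInjective hinj
  have hfree3 : ∀ (g : φ.range) (x : Fin 3 ↪ Sylow 2 G), g • x = x → g = 1 := by
    rintro ⟨_, g, rfl⟩ x hx
    have h : ∀ i, g • x i = x i := fun i => DFunLike.congr_fun hx i
    have := hthree g (x 0) (x 1) (x 2) (x.injective.ne (by decide)) (x.injective.ne (by decide))
      (x.injective.ne (by decide)) (h 0) (h 1) (h 2)
    subst this
    exact Subtype.ext (map_one φ)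
  have hpre : IsMultiplyPretransitive φ.range (Sylow 2 G) 3 := by
    obtain ⟨x₀⟩ : Nonempty (Fin 3 ↪ Sylow 2 G) := Function.Embedding.nonempty_of_card_le (by
      rw [Fintype.card_fin, ← Nat.card_eq_fintype_card, hn]; omega)
    have hbij : Function.Bijective (fun g : φ.range => g • x₀) := by
      refine (Nat.bijective_iff_injective_and_card _).mpr ⟨fun g h e => ?_, ?_⟩
      · exact (inv_mul_eq_one.mp (hfree3 (g⁻¹ * h) x₀ ((mul_smul g⁻¹ h x₀).trans
          ((congrArg (fun z => g⁻¹ • z) (show h • x₀ = g • x₀ from e.symm)).trans (inv_smul_smul g x₀)))))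
      · rw [← Nat.card_congr e.toEquiv, Nat.card_eq_fintype_card (α := Fin 3 ↪ Sylow 2 G),
          Fintype.card_embedding_eq, Fintype.card_fin, ← Nat.card_eq_fintype_card, hn, hG]
        simp [Nat.descFactorial_succ]
        ring
    refine ⟨fun x y => ?_⟩
    obtain ⟨a, ha⟩ := hbij.2 x
    obtain ⟨b, hb⟩ := hbij.2 y
    subst ha hb
    exact ⟨b * a⁻¹, (smul_smul (b * a⁻¹) a x₀).trans (congrArg (fun z => z • x₀) (by group))⟩
  obtain ⟨K, _, _, hK, ⟨i⟩⟩ := Cfsg.Agent.S0727.result (α := Sylow 2 G) (f := f) (by omega)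
    (by rw [← Nat.card_eq_fintype_card, hn]) φ.range hpre
    (fun x => (Subgroup.eq_bot_iff_forall _).mpr fun g hg => hfree3 g x hg)
  have hbijK : Function.Bijective (Matrix.ProjectiveSpecialLinearGroup.toPGL (n := Fin 2) (R := K)) := by
    haveI : Finite (Matrix.ProjGenLinGroup (Fin 2) K) :=
      Finite.of_surjective _ Matrix.ProjGenLinGroup.mk_surjective
    refine (Nat.bijective_iff_injective_and_card _).2
      ⟨Matrix.ProjectiveSpecialLinearGroup.toPGL_injective (n := Fin 2) (R := K), ?_⟩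
    have h := CfsgLib.Classical.Dickson.gcd_mul_card_PSL (F := K) hK
    rw [Nat.prime_two.coprime_iff_not_dvd.2 (fun h2 => hodd (h2.trans (dvd_mul_left _ _))), one_mul] at h
    rw [h, CfsgLib.Classical.Dickson.card_pgl hK]
  exact ⟨(e.trans (i.trans (MulEquiv.ofBijective _ hbijK).symm)).trans
    (CfsgLib.Classical.Dickson.pslCongr (FiniteField.ringEquivOfCardEq (by rw [hK, hF])))⟩

end CfsgLib.SmallGroups.EvenCharRecog
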