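import Cfsg.Agent.Lib.SmallGroups.SharpThreeField
import Mathlib

/-!
Sharply triply transitive groups of degree `p ^ f + 1` with `p` and `f` odd: the two-point
stabiliser is abelian and is inverted by the inversion.
-/

set_option autoImplicit false

namespace CfsgLib.SmallGroups.SharpThreeOdd

open MulAction CfsgLib.SmallGroups.SharplyThreeTransitive

section Abelian

variable {H M : Type*} [Group H] [Finite H] [AddCommGroup M] {p : ℕ} [Fact p.Prime]
  [Module (ZMod p) M] [Module.Finite (ZMod p) M]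

/-- A fixed point free linear group of odd dimension over a prime field has no inverted element. -/
theorem sq_eq_one_of_inverted (ρ : H →* Module.End (ZMod p) M)
    (hfree : ∀ h m, m ≠ 0 → ρ h m = m → h = 1) (hp : p ≠ 2)
    (hd : Odd (Module.finrank (ZMod p) M)) {g y : H} (hy : g * y * g⁻¹ = y⁻¹) : y * y = 1 := by
  have h1 : ρ g * ρ y = ρ y⁻¹ * ρ g := by
    rw [← map_mul, ← map_mul, ← hy, inv_mul_cancel_right]
  have hy' : g * y⁻¹ * g⁻¹ = y := by
    have := congrArg (fun t : H => t⁻¹) hy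
    simpa [mul_assoc] using this
  have h2 : ρ g * ρ y⁻¹ = ρ y * ρ g := by
    rw [← map_mul, ← map_mul]
    exact congrArg ρ (mul_inv_eq_iff_eq_mul.mp hy')
  have hu : IsUnit (LinearMap.det (ρ g)) :=
    ((Group.isUnit g).map ρ).map LinearMap.det
  have hD : ρ g * (ρ y - ρ y⁻¹) = ((-1 : ZMod p) • (ρ y - ρ y⁻¹)) * ρ g := by
    rw [mul_sub, h1, h2, smul_mul_assoc, sub_mul, neg_one_smul, neg_sub]
  have hdet : LinearMap.det (ρ y - ρ y⁻¹) = 0 := by
    have h3 := congrArg LinearMap.det hD
    rw [map_mul, map_mul, LinearMap.det_smul, hd.neg_one_pow, mul_comm _ (LinearMap.det (ρ g))] at h3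
    have h4 := hu.mul_left_cancel h3
    have h5 : (2 : ZMod p) * LinearMap.det (ρ y - ρ y⁻¹) = 0 := by linear_combination h4
    have h2ne : (2 : ZMod p) ≠ 0 := by
      intro h
      have : ((2 : ℕ) : ZMod p) = 0 := by exact_mod_cast h
      rw [ZMod.natCast_eq_zero_iff] at this
      exact hp ((Nat.prime_dvd_prime_iff_eq Fact.out Nat.prime_two).mp this)
    exact (mul_eq_zero.mp h5).resolve_left h2ne
  obtain ⟨m, hm, hm0⟩ := Submodule.exists_mem_ne_zero_of_ne_bot
    (LinearMap.det_eq_zero_iff_ker_ne_bot.mp hdet)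
  rw [LinearMap.mem_ker, LinearMap.sub_apply, sub_eq_zero] at hm
  refine hfree _ m hm0 ?_
  rw [map_mul, Module.End.mul_apply, hm, ← Module.End.mul_apply, ← map_mul, mul_inv_cancel, map_one,
    Module.End.one_apply]

/-- A fixed point free linear group of odd dimension with a fixed point free involutive automorphism
away from the involution is abelian. -/
theorem commute_of_fpf_odd (ρ : H →* Module.End (ZMod p) M)
    (hfree : ∀ h m, m ≠ 0 → ρ h m = m → h = 1) (hp : p ≠ 2)
    (hd : Odd (Module.finrank (ZMod p) M)) (heven : 2 ∣ Nat.card H)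
    (σ : H →* H) (hσ : Function.Involutive σ) (hfix : ∀ h, σ h = h → h * h = 1) (g k : H) :
    g * k = k * g := by
  classical
  haveI : Fact (Nat.Prime 2) := ⟨Nat.prime_two⟩
  have hneg : ∀ z : H, orderOf z = 2 → ρ z = (-1 : ZMod p) • LinearMap.id := by
    intro z hz
    have hz2 : z * z = 1 := by rw [← sq, ← hz]; exact pow_orderOf_eq_one z
    refine LinearMap.ext fun m => ?_
    have h1 : ρ z m + m = 0 := by
      by_contra hne
      have h2 : ρ z (ρ z m + m) = ρ z m + m := by
        rw [map_add, ← Module.End.mul_apply, ← map_mul, hz2, map_one, Module.End.one_apply, add_comm]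
      rw [hfree z _ hne h2, orderOf_one] at hz
      exact absurd hz (by norm_num)
    rw [LinearMap.smul_apply, LinearMap.id_apply, neg_one_smul]
    exact eq_neg_of_add_eq_zero_left h1
  obtain ⟨e, m, hm, hpm⟩ := Nat.exists_eq_two_pow_mul_odd
    (show p - 1 ≠ 0 by have := (Fact.out : p.Prime).two_le; omega)
  let χ : H →* (ZMod p)ˣ := (powMonoidHom m).comp (LinearMap.det.comp ρ).toHomUnits
  have hχe : ∀ h : H, χ h ^ 2 ^ e = 1 := by
    intro h
    show (((LinearMap.det.comp ρ).toHomUnits h) ^ m) ^ 2 ^ e = 1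
    rw [← pow_mul, mul_comm, ← hpm]
    exact ZMod.units_pow_card_sub_one_eq_one p _
  have hkerodd : ∀ h ∈ χ.ker, ¬ 2 ∣ orderOf h := by
    intro h hh hdvd
    obtain ⟨i, hi⟩ : ∃ i, orderOf (h ^ i) = 2 := by
      refine ⟨orderOf h / 2, ?_⟩
      have hpos := orderOf_pos h
      rw [orderOf_pow_of_dvd (by omega) (Nat.div_dvd_of_dvd hdvd),
        Nat.div_div_self hdvd hpos.ne']
    have h1 : χ (h ^ i) = 1 := by rw [map_pow, MonoidHom.mem_ker.mp hh, one_pow]
    have h2 : LinearMap.det (ρ (h ^ i)) ^ m = 1 := congrArg Units.val h1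
    rw [hneg _ hi, LinearMap.det_smul, LinearMap.det_id, mul_one, hd.neg_one_pow, hm.neg_one_pow] at h2
    have hne : (-1 : ZMod p) ≠ 1 := by
      intro hh
      have h22 : ((2 : ℕ) : ZMod p) = 0 := by push_cast; linear_combination (-1 : ZMod p) * hh
      rw [ZMod.natCast_eq_zero_iff] at h22
      exact hp ((Nat.prime_dvd_prime_iff_eq Fact.out Nat.prime_two).mp h22)
    exact hne h2
  have hker : ∀ h : H, h ∈ χ.ker ↔ ¬ 2 ∣ orderOf h := by
    refine fun h => ⟨hkerodd h, fun hh => ?_⟩
    have h1 : orderOf (χ h) ∣ 2 ^ e := orderOf_dvd_of_pow_eq_one (hχe h)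
    have h2 : orderOf (χ h) ∣ orderOf h := orderOf_map_dvd χ h
    have h3 : Nat.Coprime (2 ^ e) (orderOf h) :=
      ((Nat.Prime.coprime_iff_not_dvd Nat.prime_two).mpr hh).pow_left e
    exact MonoidHom.mem_ker.mpr (orderOf_eq_one_iff.mp (Nat.eq_one_of_dvd_coprimes h3 h1 h2))
  have hone : ∀ y ∈ χ.ker, y * y = 1 → y = 1 := by
    intro y hy h2
    have h1 : orderOf y ∣ 2 := orderOf_dvd_of_pow_eq_one (by rw [sq]; exact h2)
    rcases (Nat.dvd_prime Nat.prime_two).mp h1 with h | h
    · exact orderOf_eq_one_iff.mp h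
    · exact absurd (by rw [h]) ((hker y).mp hy)
  have hstab : ∀ x ∈ χ.ker, σ x ∈ χ.ker := fun x hx =>
    (hker _).mpr (by rw [orderOf_injective σ hσ.injective x]; exact (hker x).mp hx)
  let ψ : χ.ker →* χ.ker := (σ.comp χ.ker.subtype).codRestrict χ.ker fun x => hstab x x.2
  have hψ : MonoidHom.FixedPointFree ψ := fun x hx =>
    Subtype.ext (hone x x.2 (hfix x (congrArg Subtype.val hx)))
  have hψi : Function.Involutive ψ := fun x => Subtype.ext (hσ x)
  have habel : ∀ x ∈ χ.ker, ∀ y ∈ χ.ker, x * y = y * x := fun x hx y hy =>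
    congrArg Subtype.val (hψ.commute_all_of_involutive hψi ⟨x, hx⟩ ⟨y, hy⟩).eq
  have hcentral : χ.ker ≤ Subgroup.center H := by
    intro x hx
    rw [Subgroup.mem_center_iff]
    intro w
    have key : ∀ i, w ^ 2 ^ (e - i) * x = x * w ^ 2 ^ (e - i) := by
      intro i
      induction i with
      | zero =>
        refine habel _ ?_ x hx
        rw [Nat.sub_zero, MonoidHom.mem_ker, map_pow, hχe]
      | succ i ih =>
        by_cases hi : i < e
        swap
        · rwa [show e - (i + 1) = e - i by omega]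
        rw [show e - i = (e - (i + 1)) + 1 by omega, pow_succ, pow_mul, sq] at ih
        set v := w ^ 2 ^ (e - (i + 1)) with hv
        set y := v * x * v⁻¹ * x⁻¹ with hy
        have hymem : y ∈ χ.ker :=
          χ.ker.mul_mem ((MonoidHom.normal_ker χ).conj_mem x hx v) (χ.ker.inv_mem hx)
        have hinv : v * y * v⁻¹ = y⁻¹ := by
          calc v * y * v⁻¹ = (v * v * x) * (v * v)⁻¹ * (v * x⁻¹ * v⁻¹) := by rw [hy]; group
            _ = y⁻¹ := by rw [ih, hy]; group
        have hy1 := hone y hymem (sq_eq_one_of_inverted ρ hfree hp hd hinv)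
        rw [hy, mul_inv_eq_one, mul_inv_eq_iff_eq_mul] at hy1
        exact hy1
    simpa using key e
  exact commutative_of_cyclic_center_quotient χ hcentral g k

end Abelian

/-- The sharply triply transitive groups of odd-exponent degree are projective linear. -/
theorem nonempty_pgl_of_odd {G α : Type*} [Group G] [MulAction G α] [Finite α] [Finite G]
    [FaithfulSMul G α] (hS : IsSharpThree G α) {p f : ℕ} (hp : p.Prime) (hp2 : p ≠ 2) (hfo : Odd f)
    (hα : Nat.card α = p ^ f + 1) :
    ∃ (F : Type) (_ : Field F) (_ : Fintype F), Fintype.card F = p ^ f ∧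
      Nonempty (G ≃* Matrix.ProjGenLinGroup (Fin 2) F) := by
  classical
  have hpf : 3 ≤ p ^ f := by
    have h1 : p ^ 1 ≤ p ^ f := Nat.pow_le_pow_right hp.pos hfo.pos
    have := hp.two_le
    simp only [pow_one] at h1
    omega
  have h4 : 4 ≤ Nat.card α := by omega
  have eqv := Finite.equivFinOfCardEq hα
  let a : α := eqv.symm ⟨0, by omega⟩
  let b : α := eqv.symm ⟨1, by omega⟩
  let c : α := eqv.symm ⟨2, by omega⟩
  have hab : a ≠ b := fun h => by simpa [a, b] using eqv.symm.injective h
  have hac : a ≠ c := fun h => by simpa [a, c] using eqv.symm.injective h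
  have hbc : b ≠ c := fun h => by simpa [b, c] using eqv.symm.injective h
  obtain ⟨s, hsa, hsb, hsc⟩ := hS.1 a b c b a c hab hac hbc hab.symm hbc hac
  have hs2 : s * s = 1 := hS.2 _ a b c hab hac hbc (by rw [mul_smul, hsa, hsb])
    (by rw [mul_smul, hsb, hsa]) (by rw [mul_smul, hsc, hsc])
  have hsi : s⁻¹ = s := inv_eq_of_mul_eq_one_right hs2
  have hs1 : s ≠ 1 := fun h => hab (by rw [← hsa, h, one_smul])
  obtain ⟨p', j, K, hp', hj, hα', hKa, hKc, hKp, hKn, hKtr, hKfree, hHcard⟩ := exists_additive hS h4 a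
  have hpow : p' ^ j = p ^ f := by omega
  obtain rfl : p' = p := by
    have h1 : p' ∣ p ^ f := hpow ▸ dvd_pow_self p' (by omega)
    exact (Nat.prime_dvd_prime_iff_eq hp' hp).mp (hp'.dvd_of_dvd_pow h1)
  obtain rfl : j = f := Nat.pow_right_injective hp.two_le hpow
  haveI : Fact p'.Prime := ⟨hp⟩
  let H : Subgroup G := stabilizer G a ⊓ stabilizer G b
  have hconjmem : ∀ x ∈ H, s * x * s⁻¹ ∈ H := fun x hx => by
    refine ⟨?_, ?_⟩
    · show (s * x * s⁻¹) • a = a
      rw [hsi, mul_smul, mul_smul, hsa, (mem_stabilizer_iff.mp hx.2), hsb]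
    · show (s * x * s⁻¹) • b = b
      rw [hsi, mul_smul, mul_smul, hsb, (mem_stabilizer_iff.mp hx.1), hsa]
  have hHeven : 2 ∣ Nat.card H := by
    rw [hHcard b hab.symm]
    exact even_iff_two_dvd.mp (Nat.Odd.sub_odd ((hp.odd_of_ne_two hp2).pow) odd_one)
  obtain ⟨⟨z, hz⟩, hzo⟩ := exists_prime_orderOf_dvd_card' (G := H) 2 hHeven
  have hz1 : z ≠ 1 := fun h => by
    have h1 : (⟨z, hz⟩ : H) = 1 := Subtype.ext h
    rw [h1, orderOf_one] at hzo
    exact absurd hzo (by norm_num)
  letI : CommGroup K :=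
    { (inferInstance : Group K) with mul_comm := fun x y => Subtype.ext (hKc _ x.2 _ y.2) }
  haveI hmod : Module (ZMod p') (Additive K) := AddCommGroup.zmodModule fun x => by
    apply Additive.toMul.injective
    rw [toMul_nsmul, toMul_zero]
    exact Subtype.ext (by rw [SubgroupClass.coe_pow]; exact hKp _ (Additive.toMul x).2)
  let pt : Additive K → α := fun m => ((Additive.toMul m : K) : G) • b
  have hpt_ne : ∀ m, pt m ≠ a := fun m e =>
    hab (MulAction.injective ((Additive.toMul m : K) : G) (e.trans (hKa _ (Additive.toMul m).2).symm)).symm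
  have hpt_inj : Function.Injective pt := by
    intro m n h
    have h1 : ((Additive.toMul m)⁻¹ * Additive.toMul n : K).1 • b = b := by
      show (((Additive.toMul m : K) : G)⁻¹ * ((Additive.toMul n : K) : G)) • b = b
      rw [mul_smul]
      show ((Additive.toMul m : K) : G)⁻¹ • pt n = b
      rw [← h, inv_smul_smul]
    have h2 : ((Additive.toMul m)⁻¹ * Additive.toMul n : K) = 1 :=
      Subtype.ext (hKfree _ ((Additive.toMul m)⁻¹ * Additive.toMul n : K).2 b hab.symm h1)
    exact Additive.toMul.injective (inv_mul_eq_one.mp h2)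
  let lin : H → Module.End (ZMod p') (Additive K) := fun h => AddMonoidHom.toZModLinearMap p'
    { toFun := fun m => Additive.ofMul (⟨(h : G) * ((Additive.toMul m : K) : G) * (h : G)⁻¹,
        hKn (h : G) h.2.1 _ (Additive.toMul m).2⟩ : K)
      map_zero' := by
        apply Additive.toMul.injective
        refine Subtype.ext ?_
        show (h : G) * ((1 : K) : G) * (h : G)⁻¹ = ((1 : K) : G)
        rw [Subgroup.coe_one, mul_one, mul_inv_cancel]
      map_add' := fun m n => by
        apply Additive.toMul.injective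
        refine Subtype.ext ?_
        show (h : G) * ((Additive.toMul m * Additive.toMul n : K) : G) * (h : G)⁻¹ =
          ((h : G) * ((Additive.toMul m : K) : G) * (h : G)⁻¹) *
            ((h : G) * ((Additive.toMul n : K) : G) * (h : G)⁻¹)
        rw [Subgroup.coe_mul]
        group }
  have hlin : ∀ (h : H) m, pt (lin h m) = (h : G) • pt m := fun h m => by
    show ((h : G) * ((Additive.toMul m : K) : G) * (h : G)⁻¹) • b = (h : G) • _
    rw [mul_smul, mul_smul, inv_smul_eq_iff.mpr h.2.2.symm]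
  let ρ : H →* Module.End (ZMod p') (Additive K) :=
    { toFun := lin
      map_one' := LinearMap.ext fun m => hpt_inj (by
        rw [hlin, Subgroup.coe_one, one_smul, Module.End.one_apply])
      map_mul' := fun g h => LinearMap.ext fun m => hpt_inj (by
        rw [hlin, Module.End.mul_apply, hlin, hlin, Subgroup.coe_mul, mul_smul]) }
  have hfree : ∀ (h : H) m, m ≠ 0 → ρ h m = m → h = 1 := fun h m hm e => by
    refine Subtype.ext (hS.2 _ a b (pt m) hab (hpt_ne m).symm (fun e' => hm (hpt_inj ?_)) h.2.1 h.2.2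
      ((hlin h m).symm.trans (congrArg pt e)))
    exact e'.symm.trans (one_smul G b).symm
  have hd : Odd (Module.finrank (ZMod p') (Additive K)) := by
    have e : Additive K ≃ {x : α // x ≠ a} := Equiv.ofBijective (fun m => ⟨pt m, hpt_ne m⟩)
      ⟨fun m n h => hpt_inj (congrArg Subtype.val h), fun x => by
        obtain ⟨k, hk, hkx⟩ := hKtr b x.1 hab.symm x.2
        exact ⟨Additive.ofMul ⟨k, hk⟩, Subtype.ext hkx⟩⟩
    cases nonempty_fintype α
    have h1 : Nat.card (Additive K) = p' ^ j := by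
      rw [Nat.card_congr e, Nat.card_eq_fintype_card, Fintype.card_subtype_compl,
        Fintype.card_subtype_eq, ← Nat.card_eq_fintype_card, hα']
      omega
    rw [Module.natCard_eq_pow_finrank (K := ZMod p'), Nat.card_zmod] at h1
    rwa [Nat.pow_right_injective hp.two_le h1]
  have hfix2 : ∀ x y, x ≠ c → y ≠ c → s • x = x → s • y = y → x = y := fun x y hx hy hx' hy' => by
    by_contra hne
    exact hs1 (hS.2 s x y c hne hx hy hx' hy' hsc)
  let σ : H →* H :=
    { toFun := fun x => ⟨s * (x : G) * s⁻¹, hconjmem x x.2⟩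
      map_one' := Subtype.ext (by simp)
      map_mul' := fun x y => Subtype.ext (by simp [mul_assoc]) }
  have hσi : Function.Involutive σ := fun x => Subtype.ext (by
    show s * (s * (x : G) * s⁻¹) * s⁻¹ = (x : G)
    rw [hsi, ← mul_assoc s, ← mul_assoc s, hs2, one_mul, mul_assoc, hs2, mul_one])
  have hzc : z • c ≠ c := fun e => hz1 (hS.2 z a b c hab hac hbc hz.1 hz.2 e)
  have huniq : ∀ w : H, orderOf w = 2 → w = ⟨z, hz⟩ := by
    intro w hw
    refine Subtype.ext ?_
    have key : ∀ u : H, orderOf u = 2 → ∀ m, ρ u m + m = 0 := by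
      intro u hu m
      by_contra hne
      have hu2 : u * u = 1 := by rw [← sq, ← hu]; exact pow_orderOf_eq_one u
      have h2 : ρ u (ρ u m + m) = ρ u m + m := by
        rw [map_add, ← Module.End.mul_apply, ← map_mul, hu2, map_one, Module.End.one_apply, add_comm]
      rw [hfree u _ hne h2, orderOf_one] at hu
      exact absurd hu (by norm_num)
    obtain ⟨k, hk, hkc⟩ := hKtr b c hab.symm hac.symm
    have h1 : ρ w (Additive.ofMul ⟨k, hk⟩) = ρ ⟨z, hz⟩ (Additive.ofMul ⟨k, hk⟩) :=
      (eq_neg_of_add_eq_zero_left (key w hw _)).trans (eq_neg_of_add_eq_zero_left (key _ hzo _)).symm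
    have h2 := congrArg pt h1
    rw [show ρ w = lin w from rfl, show ρ ⟨z, hz⟩ = lin ⟨z, hz⟩ from rfl, hlin, hlin] at h2
    rw [show pt (Additive.ofMul ⟨k, hk⟩) = c from hkc] at h2
    exact (inv_mul_eq_one.mp (hS.2 (z⁻¹ * (w : G)) a b c hab hac hbc
      (by rw [mul_smul, (mem_stabilizer_iff.mp w.2.1), inv_smul_eq_iff, (mem_stabilizer_iff.mp hz.1)])
      (by rw [mul_smul, (mem_stabilizer_iff.mp w.2.2), inv_smul_eq_iff, (mem_stabilizer_iff.mp hz.2)])
      (by rw [mul_smul, h2, inv_smul_smul]))).symm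
  have hzs : s • (z • c) = z • c := by
    have h1 : σ ⟨z, hz⟩ = ⟨z, hz⟩ :=
      huniq _ (by rw [orderOf_injective σ hσi.injective, hzo])
    have h2 : s * z * s⁻¹ = z := congrArg Subtype.val h1
    conv_rhs => rw [← h2, mul_smul, mul_smul, inv_smul_eq_iff.mpr hsc.symm]
  have hfix : ∀ h : H, σ h = h → h * h = 1 := by
    intro h hh
    have h2 : s * (h : G) * s⁻¹ = (h : G) := congrArg Subtype.val hh
    have h3 : s • ((h : G) • c) = (h : G) • c := by
      conv_rhs => rw [← h2, mul_smul, mul_smul, inv_smul_eq_iff.mpr hsc.symm]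
    by_cases hc : (h : G) • c = c
    · have : h = 1 := Subtype.ext (hS.2 _ a b c hab hac hbc h.2.1 h.2.2 hc)
      rw [this, one_mul]
    · have h4 := hfix2 _ _ hc hzc h3 hzs
      have h5 : h = ⟨z, hz⟩ := Subtype.ext (inv_mul_eq_one.mp (hS.2 (z⁻¹ * (h : G)) a b c hab hac hbc
        (by rw [mul_smul, (mem_stabilizer_iff.mp h.2.1), inv_smul_eq_iff, (mem_stabilizer_iff.mp hz.1)])
        (by rw [mul_smul, (mem_stabilizer_iff.mp h.2.2), inv_smul_eq_iff, (mem_stabilizer_iff.mp hz.2)])
        (by rw [mul_smul, h4, inv_smul_smul]))).symm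
      rw [h5, ← sq, ← hzo, pow_orderOf_eq_one]
  have hcomm : ∀ g h : G, g • a = a → g • b = b → h • a = a → h • b = b → g * h = h * g :=
    fun g h hga hgb hha hhb => congrArg Subtype.val
      (commute_of_fpf_odd ρ hfree hp2 hd hHeven σ hσi hfix ⟨g, hga, hgb⟩ ⟨h, hha, hhb⟩)
  obtain ⟨q, i, F, _, _, P, hq, -, hαq, hF, hPinj, hPa, hPsurj, hP0, hP1, htrans, hmult⟩ :=
    SharpThreeField.exists_coordinates hS h4 hab hac hbc hcomm
  have hFc : Fintype.card F = p' ^ j := by omega
  have hmulu : ∀ h : G, h • a = a → h • b = b → ∀ t, h • c = P t → ∀ u, h • P u = P (t * u) := by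
    intro h ha hb t ht u
    have ht0 : t ≠ 0 := by
      rintro rfl
      rw [hP0] at ht
      exact hbc.symm (MulAction.injective h (ht.trans hb.symm))
    obtain ⟨g, hga, hgb, hg⟩ := hmult t ht0
    have hgh : g = h := inv_mul_eq_one.mp (hS.2 (g⁻¹ * h) a b c hab hac hbc
      (by rw [mul_smul, ha, inv_smul_eq_iff, hga]) (by rw [mul_smul, hb, inv_smul_eq_iff, hgb])
      (by rw [mul_smul, ht, inv_smul_eq_iff, ← hP1, hg, mul_one]))
    rw [← hgh]; exact hg u
  have hsne : ∀ t : F, t ≠ 0 → s • P t ≠ a := fun t ht e =>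
    ht (hPinj ((MulAction.injective s (e.trans hsb.symm)).trans hP0.symm))
  choose τ hτ using fun t : {t : F // t ≠ 0} => hPsurj _ (hsne t.1 t.2)
  have hτ0 : ∀ t, τ t ≠ 0 := fun t e => by
    have h1 : s • P t.1 = b := by rw [← hτ, e, hP0]
    exact hPa t.1 (MulAction.injective s (h1.trans hsa.symm))
  have hτmul : ∀ t u, τ ⟨t.1 * u.1, mul_ne_zero t.2 u.2⟩ = τ t * τ u := by
    intro t u
    apply hPinj
    obtain ⟨h, hha, hhb, hh⟩ := hmult t.1 t.2
    have hmem := hconjmem h ⟨hha, hhb⟩
    have h1 : (s * h * s⁻¹) • c = P (τ t) := by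
      rw [mul_smul, mul_smul, inv_smul_eq_iff.mpr hsc.symm, ← hP1, hh, mul_one, hτ]
    have h2 := hmulu _ hmem.1 hmem.2 _ h1 (τ u)
    rw [hτ, ← h2, hτ, mul_smul, mul_smul, inv_smul_smul, hh]
  have hττ : ∀ t, τ ⟨τ t, hτ0 t⟩ = t.1 := fun t => hPinj (by
    rw [hτ, hτ, ← mul_smul, hs2, one_smul])
  let τ' : Fˣ →* Fˣ :=
    { toFun := fun t => Units.mk0 (τ ⟨t, t.ne_zero⟩) (hτ0 _)
      map_one' := Units.ext (hPinj (by
        show P (τ _) = P 1
        rw [hτ]
        show s • P (1 : F) = P 1
        rw [hP1, hsc]))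
      map_mul' := fun t u => Units.ext (hτmul ⟨t, t.ne_zero⟩ ⟨u, u.ne_zero⟩) }
  have hτ'P : ∀ t : Fˣ, P (τ' t) = s • P t := fun t => hτ ⟨(t : F), t.ne_zero⟩
  have hτ'τ : ∀ t, τ' (τ' t) = t := fun t => Units.ext (hττ ⟨(t : F), t.ne_zero⟩)
  have hFodd : ringChar F ≠ 2 := fun e => by
    have h1 := (FiniteField.even_card_of_char_two e)
    rw [hFc, (Nat.odd_iff).mp ((hp.odd_of_ne_two hp2).pow)] at h1
    exact absurd h1 (by norm_num)
  have hne1 : (-1 : F) ≠ 1 := Ring.neg_one_ne_one_of_char_ne_two hFodd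
  have hτm1 : τ' (-1) = -1 := by
    have h1 : τ' (-1) * τ' (-1) = 1 := by rw [← map_mul, neg_mul_neg, one_mul, map_one]
    have h2 : ((τ' (-1) : Fˣ) : F) * ((τ' (-1) : Fˣ) : F) = 1 := by
      rw [← Units.val_mul, h1, Units.val_one]
    rcases mul_self_eq_one_iff.mp h2 with h | h
    · exfalso
      have h3 : τ' (-1) = τ' 1 := by rw [map_one]; exact Units.ext h
      have h4 := congrArg τ' h3
      rw [hτ'τ, hτ'τ] at h4
      exact hne1 (by simpa using congrArg Units.val h4)
    · exact Units.ext (by rw [h, Units.val_neg, Units.val_one])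
  have hfixτ : ∀ t, τ' t = t → t = 1 ∨ t = -1 := by
    intro t ht
    by_cases hc : P t = c
    · exact Or.inl (Units.ext (hPinj (hc.trans hP1.symm)))
    · refine Or.inr (Units.ext (hPinj (hfix2 _ _ hc ?_ ?_ ?_)))
      · rw [← hP1]; exact fun e => hne1 (by simpa using hPinj e)
      · rw [← hτ'P, ht]
      · rw [← hτ'P, hτm1]
  let ε : Fˣ → Fˣ := fun t => t * τ' t
  have hεmul : ∀ t u, ε (t * u) = ε t * ε u := fun t u => by
    simp only [ε, map_mul]; exact mul_mul_mul_comm _ _ _ _
  have hεv : ∀ t, ε t = 1 ∨ ε t = -1 := fun t => hfixτ _ (by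
    simp only [ε, map_mul, hτ'τ]; exact mul_comm _ _)
  obtain ⟨r, hra, hr⟩ : ∃ r : G, r • a = a ∧ ∀ u : F, r • P u = P (1 - u) := by
    obtain ⟨k, hka, hk⟩ := htrans 1
    obtain ⟨h, hha, -, hh⟩ := hmult (-1) (neg_ne_zero.mpr one_ne_zero)
    refine ⟨k * h, by rw [mul_smul, hha, hka], fun u => ?_⟩
    rw [mul_smul, hh, hk, neg_one_mul, neg_add_eq_sub]
  have hrb : r • b = c := by rw [← hP0, hr, sub_zero, hP1]
  have hrc : r • c = b := by rw [← hP1, hr, sub_self, hP0]
  have hrs : (r * s) * ((r * s) * (r * s)) = 1 := by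
    have e1 : (r * s) • a = c := by rw [mul_smul, hsa, hrb]
    have e2 : (r * s) • c = b := by rw [mul_smul, hsc, hrc]
    have e3 : (r * s) • b = a := by rw [mul_smul, hsb, hra]
    exact hS.2 _ a b c hab hac hbc
      (by rw [mul_smul (r * s) (r * s * (r * s)), mul_smul (r * s) (r * s), e1, e2, e3])
      (by rw [mul_smul (r * s) (r * s * (r * s)), mul_smul (r * s) (r * s), e3, e1, e2])
      (by rw [mul_smul (r * s) (r * s * (r * s)), mul_smul (r * s) (r * s), e2, e3, e1])
  have hS1 : ∀ x : Fˣ, ε x = 1 → ∀ h : (x : F) + 1 ≠ 0, ε (Units.mk0 _ h) = 1 := by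
    intro x hx hw
    set w := Units.mk0 ((x : F) + 1) hw with hwdef
    have hτx : τ' x = x⁻¹ := by
      simp only [ε] at hx
      exact (inv_eq_of_mul_eq_one_right hx).symm
    set y : Fˣ := -x with hy
    have hτy : ((τ' y : Fˣ) : F) = -(x : F)⁻¹ := by
      rw [hy, ← neg_one_mul, map_mul, hτm1, hτx, Units.val_mul, Units.val_neg, Units.val_one,
        neg_one_mul, Units.val_inv_eq_inv_val]
    have h1 := congrArg (fun g : G => g • P (y : F)) hrs
    simp only [mul_smul, one_smul] at h1
    rw [← hτ'P y, hr, hτy, sub_neg_eq_add] at h1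
    have h2 : (1 : F) + (x : F)⁻¹ = ((w * x⁻¹ : Fˣ) : F) := by
      rw [Units.val_mul, hwdef, Units.val_mk0, Units.val_inv_eq_inv_val, add_mul,
        mul_inv_cancel₀ x.ne_zero, one_mul]
    rw [h2, ← hτ'P, hr] at h1
    have hr1 : r * r = 1 := hS.2 _ a b c hab hac hbc (by rw [mul_smul, hra, hra])
      (by rw [mul_smul, hrb, hrc]) (by rw [mul_smul, hrc, hrb])
    have h3 := congrArg (fun z => s • r • z) h1
    simp only [← mul_smul r r, hr1, one_smul] at h3
    rw [← mul_smul s s, hs2, one_smul, hr, hy, Units.val_neg, sub_neg_eq_add,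
      show (1 : F) + (x : F) = ((w : Fˣ) : F) by rw [hwdef, Units.val_mk0, add_comm], ← hτ'P] at h3
    have h4 := hPinj h3
    rw [map_mul, map_inv, hτx, inv_inv, Units.val_mul] at h4
    have h5 : (w : F) * ((τ' w : Fˣ) : F) = 1 := by
      have hwv : (w : F) = (x : F) + 1 := by rw [hwdef, Units.val_mk0]
      rw [hwv]
      linear_combination (-1 : F) * h4
    exact Units.ext (by simp only [ε, Units.val_mul, h5, Units.val_one])
  have hεm1 : ε (-1) = 1 := by simp only [ε, hτm1, neg_mul_neg, one_mul]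
  have hall : ∀ t, ε t = 1 := by
    by_contra hne
    push_neg at hne
    obtain ⟨t0, ht0⟩ := hne
    have ht0' : ε t0 = -1 := (hεv t0).resolve_left ht0
    let E : Fˣ →* Fˣ := MonoidHom.mk' ε hεmul
    let A : AddSubgroup F :=
      { carrier := {u | ∀ h : u ≠ 0, ε (Units.mk0 u h) = 1}
        zero_mem' := fun h => absurd rfl h
        neg_mem' := fun {u} hu h => by
          have hu0 : u ≠ 0 := fun e => h (by rw [e, neg_zero])
          rw [show Units.mk0 (-u) h = (-1) * Units.mk0 u hu0 from Units.ext (by simp), hεmul, hεm1,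
            one_mul]
          exact hu hu0
        add_mem' := fun {u v} hu hv h => by
          by_cases hu0 : u = 0
          · subst hu0; simp only [zero_add] at h ⊢; exact hv h
          by_cases hv0 : v = 0
          · subst hv0; simp only [add_zero] at h ⊢; exact hu h
          have hw : ((Units.mk0 u hu0 / Units.mk0 v hv0 : Fˣ) : F) + 1 ≠ 0 := by
            rw [Units.val_div_eq_div_val, Units.val_mk0, Units.val_mk0, div_add_one hv0]
            exact div_ne_zero h hv0
          have hq1 : ε (Units.mk0 u hu0 / Units.mk0 v hv0) = 1 := by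
            show E (_ / _) = 1
            rw [map_div]
            show ε _ / ε _ = 1
            rw [hu hu0, hv hv0, div_one]
          rw [show Units.mk0 (u + v) h = Units.mk0 v hv0 * Units.mk0 _ hw from Units.ext (by
            simp [Units.val_div_eq_div_val, mul_add, mul_div_cancel₀ _ hv0]), hεmul, hv hv0,
            hS1 _ hq1 hw, one_mul] }
    have hmul : Nat.card E.ker * 2 = p' ^ j - 1 := by
      have hindex : E.ker.index = 2 := by
        refine Subgroup.index_eq_two_iff.mpr ⟨t0, fun u => ?_⟩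
        rcases hεv u with h | h
        · refine Or.inr ⟨h, fun h' => hne1 ?_⟩
          have h'' : ε (u * t0) = 1 := h'
          rw [hεmul, h, ht0', one_mul] at h''
          simpa using congrArg Units.val h''
        · refine Or.inl ⟨?_, fun h' => hne1 ?_⟩
          · show ε (u * t0) = 1
            rw [hεmul, h, ht0', neg_mul_neg, one_mul]
          · have h'' : ε u = 1 := h'
            rw [h] at h''
            simpa using congrArg Units.val h''
      have h := E.ker.card_mul_index
      rwa [hindex, Nat.card_units, Nat.card_eq_fintype_card (α := F), hFc] at h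
    have hA : Nat.card E.ker + 1 ≤ Nat.card A := by
      rw [← Finite.card_option]
      let g : Option E.ker → A := fun o => o.elim 0 fun t => ⟨((t : Fˣ) : F), fun h => by
        rw [Units.mk0_val]; exact t.2⟩
      refine Nat.card_le_card_of_injective g fun x y h => ?_
      rcases x with _ | x <;> rcases y with _ | y
      · rfl
      · exact absurd (congrArg Subtype.val h).symm (Units.ne_zero _)
      · exact absurd (congrArg Subtype.val h) (Units.ne_zero _)
      · exact congrArg some (Subtype.ext (Units.ext (congrArg Subtype.val h :)))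
    have hdvd : Nat.card A ∣ p' ^ j := by
      rw [← hFc, ← Nat.card_eq_fintype_card]; exact A.card_addSubgroup_dvd_card
    have hlt : Nat.card A < p' ^ j := by
      refine lt_of_le_of_ne (Nat.le_of_dvd (by omega) hdvd) fun e => ht0 ?_
      have htop : A = ⊤ :=
        A.eq_top_of_card_eq (by rw [e, Nat.card_eq_fintype_card, hFc])
      have h1 : (t0 : F) ∈ A := htop ▸ AddSubgroup.mem_top _
      simpa using h1 t0.ne_zero
    obtain ⟨k, hk⟩ := hdvd
    have hk2 : 2 ≤ k := by
      by_contra hk'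
      interval_cases k <;> omega
    have h6 : Nat.card A * 2 ≤ p' ^ j := hk ▸ Nat.mul_le_mul_left _ hk2
    omega
  have hinv : ∀ h : G, h • a = a → h • b = b → s * h * s⁻¹ = h⁻¹ := by
    intro h ha hb
    obtain ⟨t, ht⟩ := hPsurj (h • c) fun e => hac.symm (MulAction.injective h (e.trans ha.symm))
    have ht0 : t ≠ 0 := by
      rintro rfl
      rw [hP0] at ht
      exact hbc.symm (MulAction.injective h (ht.symm.trans hb.symm))
    have hmem := hconjmem h ⟨ha, hb⟩
    refine (inv_eq_of_mul_eq_one_right (hS.2 _ a b c hab hac hbc ?_ ?_ ?_)).symm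
    · rw [mul_smul, (mem_stabilizer_iff.mp hmem.1), ha]
    · rw [mul_smul, (mem_stabilizer_iff.mp hmem.2), hb]
    · have hτt : (t : F) * ((τ' (Units.mk0 t ht0) : Fˣ) : F) = 1 := congrArg Units.val (hall (Units.mk0 t ht0))
      rw [mul_smul, mul_smul, mul_smul, inv_smul_eq_iff.mpr hsc.symm, ← ht, ← Units.val_mk0 ht0,
        ← hτ'P, hmulu h ha hb t ht.symm, hτt, hP1]
  obtain ⟨F', _, _, hF', hiso⟩ :=
    SharpThreeField.nonempty_pgl hS h4 hab hac hbc hcomm hsa hsb hsc hinv
  exact ⟨F', inferInstance, inferInstance, by omega, hiso⟩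

end CfsgLib.SmallGroups.SharpThreeOdd
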