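import Mathlib
import Cfsg.Prelude.Def_Perm
import Cfsg.Agent.Lib.Char.Ortho
import Cfsg.Agent.Lib.Char.PermChar

/-!
Constituents of a complex representation through its spaces of intertwining maps, applied to
permutation modules: commutativity of the centraliser algebra, symmetry, and a trace formula.
-/

set_option autoImplicit false

namespace CfsgLib.SmallGroups.PermDecomp

open Module
open scoped ComplexConjugate

variable {G : Type*} [Group G] [Fintype G]

section General

variable {V W : Type*} [AddCommGroup V] [Module ℂ V] [FiniteDimensional ℂ V]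
  [AddCommGroup W] [Module ℂ W] [FiniteDimensional ℂ W]
  (σ : Representation ℂ G W) (ρ : Representation ℂ G V)

omit [Fintype G] [FiniteDimensional ℂ V] [FiniteDimensional ℂ W] in
theorem mem_hom_iff {σ : Representation ℂ G W} {ρ : Representation ℂ G V} {f : W →ₗ[ℂ] V} :
    f ∈ (σ.linHom ρ).invariants ↔ ∀ g w, ρ g (f w) = f (σ g w) := by
  constructor
  · intro h g w
    have h' := congrArg (fun F : W →ₗ[ℂ] V => F (σ g w)) (h g)
    change ρ g (f (σ g⁻¹ (σ g w))) = f (σ g w) at h'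
    rwa [Representation.inv_self_apply] at h'
  · intro h g
    refine LinearMap.ext fun w => ?_
    show ρ g (f (σ g⁻¹ w)) = f w
    rw [h, Representation.self_inv_apply]

/-- The space of equivariant maps has dimension the inner product of the characters. -/
theorem finrank_hom :
    (finrank ℂ (σ.linHom ρ).invariants : ℂ) = Cfsg.classInner ρ.character σ.character := by
  rw [CfsgLib.Char.classInner_character,
    (Representation.invariantsEquivIntertwiningMap σ ρ).finrank_eq]

omit [FiniteDimensional ℂ V] [FiniteDimensional ℂ W] in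
/-- The average of a map of rank one. -/
theorem rankOne_mem (φ : W →ₗ[ℂ] ℂ) (v : V) :
    (∑ g : G, (φ ∘ₗ σ g⁻¹).smulRight (ρ g v)) ∈ (σ.linHom ρ).invariants := by
  rw [mem_hom_iff]
  intro h w
  simp only [LinearMap.sum_apply, LinearMap.smulRight_apply, LinearMap.comp_apply, map_sum,
    map_smul]
  refine Fintype.sum_equiv (Equiv.mulLeft h) _ _ fun g => ?_
  simp only [Equiv.coe_mulLeft]
  rw [← Module.End.mul_apply, ← map_mul, ← Module.End.mul_apply, ← map_mul,
    show (h * g)⁻¹ * h = g⁻¹ by group]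

omit [Fintype G] [FiniteDimensional ℂ V] in
theorem character_eq_sum_coord {ι : Type*} [Fintype ι] [DecidableEq ι] (b : Basis ι ℂ W) (g : G) :
    σ.character g = ∑ i, b.coord i (σ g (b i)) := by
  rw [Representation.character, LinearMap.trace_eq_matrix_trace ℂ b]
  simp [Matrix.trace, LinearMap.toMatrix_apply]

/-- The character sum sends everything into the images of the intertwining maps. -/
theorem charSum_mem (S : Submodule ℂ V)
    (hS : ∀ f ∈ (σ.linHom ρ).invariants, ∀ w, f w ∈ S) (v : V) :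
    ∑ g : G, σ.character g⁻¹ • ρ g v ∈ S := by
  classical
  let b := Module.finBasis ℂ W
  have : ∑ g : G, σ.character g⁻¹ • ρ g v =
      ∑ i, (∑ g : G, ((b.coord i) ∘ₗ σ g⁻¹).smulRight (ρ g v)) (b i) := by
    simp only [character_eq_sum_coord σ b, Finset.sum_smul, LinearMap.sum_apply,
      LinearMap.smulRight_apply, LinearMap.comp_apply]
    rw [Finset.sum_comm]
  rw [this]
  exact S.sum_mem fun i _ => hS _ (rankOne_mem σ ρ _ v) _

/-- Two maps agreeing on all images of irreducible representations are equal. -/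
theorem eq_zero_of_comp {X : Type*} [AddCommGroup X] [Module ℂ X] (T : V →ₗ[ℂ] X)
    (h : ∀ (n : ℕ) (τ : Representation ℂ G (Fin n → ℂ)), τ.IsIrreducible →
      ∀ f ∈ (τ.linHom ρ).invariants, T ∘ₗ f = 0) : T = 0 := by
  classical
  refine LinearMap.ext fun v => ?_
  have key : ∀ χ : Cfsg.IrrCharacter G, T (∑ g : G, (χ : G → ℂ) g⁻¹ • ρ g v) = 0 := by
    rintro ⟨_, n, τ, hτ, rfl⟩
    exact charSum_mem τ ρ (LinearMap.ker T) (fun f hf w =>
      LinearMap.congr_fun (h n τ hτ f hf) w) v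
  have hsum : ∑ χ : Cfsg.IrrCharacter G, (χ : G → ℂ) 1 • ∑ g : G, (χ : G → ℂ) g⁻¹ • ρ g v =
      (Nat.card G : ℂ) • v := by
    simp only [Finset.smul_sum, smul_smul]
    rw [Finset.sum_comm]
    simp only [← Finset.sum_smul, CfsgLib.Char.sum_degree_mul_apply, inv_eq_one, ite_smul,
      zero_smul, Finset.sum_ite_eq', Finset.mem_univ, if_true, map_one, Module.End.one_apply]
  have h0 := congrArg T hsum
  rw [map_sum, map_smul, Finset.sum_eq_zero fun χ _ => by rw [map_smul, key, smul_zero]] at h0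
  rw [LinearMap.zero_apply]
  exact (smul_eq_zero.mp h0.symm).resolve_left CfsgLib.Char.card_ne_zero'

theorem injective_of_mem [σ.IsIrreducible] {f : W →ₗ[ℂ] V}
    (hf : f ∈ (σ.linHom ρ).invariants) (h0 : f ≠ 0) : Function.Injective f := by
  let F := f.intertwiningMap_of_isIntertwiningMap σ ρ (fun g w => (mem_hom_iff.mp hf g w).symm)
  rcases Representation.IsIrreducible.injective_or_eq_zero F with h | h
  · exact h
  · exact absurd (congrArg Representation.IntertwiningMap.toLinearMap h) h0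

/-- An equivariant endomorphism of an irreducible representation is a scalar. -/
theorem exists_scalar [σ.IsIrreducible] {S : W →ₗ[ℂ] W} (hS : S ∈ (σ.linHom σ).invariants) :
    ∃ c : ℂ, S = c • LinearMap.id := by
  have hid : (LinearMap.id : W →ₗ[ℂ] W) ∈ (σ.linHom σ).invariants := mem_hom_iff.mpr fun g w => rfl
  have h1 : finrank ℂ (σ.linHom σ).invariants = 1 := by
    rw [(Representation.invariantsEquivIntertwiningMap σ σ).finrank_eq,
      Representation.IsIrreducible.finrank_intertwiningMap_self]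
  have hne : (⟨_, hid⟩ : (σ.linHom σ).invariants) ≠ 0 := fun e => by
    have hpos := CfsgLib.Char.finrank_pos_of_irreducible σ
    obtain ⟨w, hw⟩ := (Module.finrank_pos_iff_exists_ne_zero (R := ℂ)).mp hpos
    exact hw (LinearMap.congr_fun (congrArg Subtype.val e) w)
  obtain ⟨c, hc⟩ := (finrank_eq_one_iff_of_nonzero' _ hne).mp h1 ⟨S, hS⟩
  exact ⟨c, (congrArg Subtype.val hc).symm⟩

theorem comp_mem {T : V →ₗ[ℂ] V} (hT : T ∈ (ρ.linHom ρ).invariants) {f : W →ₗ[ℂ] V}
    (hf : f ∈ (σ.linHom ρ).invariants) : T ∘ₗ f ∈ (σ.linHom ρ).invariants :=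
  mem_hom_iff.mpr fun g w => by
    rw [LinearMap.comp_apply, mem_hom_iff.mp hT, mem_hom_iff.mp hf]; rfl

/-- With multiplicity at most one, equivariant endomorphisms act by scalars on the images. -/
theorem exists_eigen (hm : finrank ℂ (σ.linHom ρ).invariants ≤ 1) {T : V →ₗ[ℂ] V}
    (hT : T ∈ (ρ.linHom ρ).invariants) {f : W →ₗ[ℂ] V} (hf : f ∈ (σ.linHom ρ).invariants)
    (hf0 : f ≠ 0) : ∃ c : ℂ, T ∘ₗ f = c • f := by
  have hne : (⟨f, hf⟩ : (σ.linHom ρ).invariants) ≠ 0 := fun e => hf0 (congrArg Subtype.val e)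
  have h1 : finrank ℂ (σ.linHom ρ).invariants = 1 :=
    le_antisymm hm (Module.finrank_pos_iff_exists_ne_zero.mpr ⟨_, hne⟩)
  obtain ⟨c, hc⟩ := (finrank_eq_one_iff_of_nonzero' _ hne).mp h1 ⟨_, comp_mem σ ρ hT hf⟩
  exact ⟨c, (congrArg Subtype.val hc).symm⟩

/-- With multiplicity at most one any two intertwining maps are proportional. -/
theorem exists_smul_eq (hm : finrank ℂ (σ.linHom ρ).invariants ≤ 1) {f f' : W →ₗ[ℂ] V}
    (hf : f ∈ (σ.linHom ρ).invariants) (hf' : f' ∈ (σ.linHom ρ).invariants) (hf0 : f ≠ 0) :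
    ∃ c : ℂ, f' = c • f := by
  have hne : (⟨f, hf⟩ : (σ.linHom ρ).invariants) ≠ 0 := fun e => hf0 (congrArg Subtype.val e)
  have h1 : finrank ℂ (σ.linHom ρ).invariants = 1 :=
    le_antisymm hm (Module.finrank_pos_iff_exists_ne_zero.mpr ⟨_, hne⟩)
  obtain ⟨c, hc⟩ := (finrank_eq_one_iff_of_nonzero' _ hne).mp h1 ⟨f', hf'⟩
  exact ⟨c, (congrArg Subtype.val hc).symm⟩

theorem commute_of_multiplicityFree
    (h : ∀ (n : ℕ) (τ : Representation ℂ G (Fin n → ℂ)), τ.IsIrreducible →
      finrank ℂ (τ.linHom ρ).invariants ≤ 1)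
    {S T : V →ₗ[ℂ] V} (hS : S ∈ (ρ.linHom ρ).invariants) (hT : T ∈ (ρ.linHom ρ).invariants) :
    S ∘ₗ T = T ∘ₗ S := by
  refine sub_eq_zero.mp (eq_zero_of_comp ρ _ fun n τ hτ f hf => ?_)
  by_cases hf0 : f = 0
  · simp [hf0]
  obtain ⟨c, hc⟩ := exists_eigen τ ρ (h n τ hτ) hS hf hf0
  obtain ⟨d, hd⟩ := exists_eigen τ ρ (h n τ hτ) hT hf hf0
  rw [LinearMap.sub_comp, LinearMap.comp_assoc, LinearMap.comp_assoc, hc, hd, LinearMap.comp_smul,
    LinearMap.comp_smul, hc, hd, smul_smul, smul_smul, mul_comm, sub_self]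

theorem finrank_le_one_of_commute [σ.IsIrreducible]
    (hc : ∀ S T : V →ₗ[ℂ] V, S ∈ (ρ.linHom ρ).invariants → T ∈ (ρ.linHom ρ).invariants →
      S ∘ₗ T = T ∘ₗ S) : finrank ℂ (σ.linHom ρ).invariants ≤ 1 := by
  classical
  by_contra hlt
  push Not at hlt
  haveI : Nontrivial (σ.linHom ρ).invariants := Module.nontrivial_of_finrank_pos (R := ℂ) (by omega)
  obtain ⟨⟨f₁, hf₁⟩, hne⟩ := exists_ne (0 : (σ.linHom ρ).invariants)
  have hf₁0 : f₁ ≠ 0 := fun e => hne (Subtype.ext e)
  obtain ⟨f₂, hf₂, hindep⟩ : ∃ f₂ ∈ (σ.linHom ρ).invariants, ∀ c : ℂ, f₂ ≠ c • f₁ := by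
    by_contra hcon
    push Not at hcon
    have hle : finrank ℂ (σ.linHom ρ).invariants ≤ 1 :=
      finrank_le_one (⟨f₁, hf₁⟩ : (σ.linHom ρ).invariants) fun x => by
        obtain ⟨c, hc⟩ := hcon x.1 x.2
        exact ⟨c, Subtype.ext hc.symm⟩
    omega
  obtain ⟨p₀, hp₀⟩ := LinearMap.exists_leftInverse_of_injective f₁
    (LinearMap.ker_eq_bot.mpr (injective_of_mem σ ρ hf₁ hf₁0))
  -- average the retraction
  set p : V →ₗ[ℂ] W := (Nat.card G : ℂ)⁻¹ • ∑ g : G, σ g ∘ₗ p₀ ∘ₗ ρ g⁻¹ with hp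
  have hpinv : p ∈ (ρ.linHom σ).invariants := by
    rw [mem_hom_iff]
    intro h v
    simp only [hp, LinearMap.smul_apply, LinearMap.sum_apply, LinearMap.comp_apply, map_smul, map_sum]
    congr 1
    refine Fintype.sum_equiv (Equiv.mulLeft h) _ _ fun g => ?_
    simp only [Equiv.coe_mulLeft]
    rw [← Module.End.mul_apply, ← map_mul, ← Module.End.mul_apply, ← map_mul,
      show (h * g)⁻¹ * h = g⁻¹ by group]
  have hpf : ∀ w, p (f₁ w) = w := by
    intro w
    simp only [hp, LinearMap.smul_apply, LinearMap.sum_apply, LinearMap.comp_apply]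
    have : ∀ g : G, σ g (p₀ (ρ g⁻¹ (f₁ w))) = w := fun g => by
      rw [mem_hom_iff.mp hf₁, show p₀ (f₁ (σ g⁻¹ w)) = σ g⁻¹ w from LinearMap.congr_fun hp₀ _,
        Representation.self_inv_apply]
    rw [Finset.sum_congr rfl fun g _ => this g, Finset.sum_const, Finset.card_univ,
      ← Nat.card_eq_fintype_card, ← Nat.cast_smul_eq_nsmul ℂ, smul_smul,
      inv_mul_cancel₀ CfsgLib.Char.card_ne_zero', one_smul]
  clear_value p
  obtain ⟨c, hcs⟩ := exists_scalar σ (S := p ∘ₗ f₂) (mem_hom_iff.mpr fun g w => by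
    rw [LinearMap.comp_apply, mem_hom_iff.mp hpinv, mem_hom_iff.mp hf₂]; rfl)
  set f₃ := f₂ - c • f₁ with hf₃
  have hf₃i : f₃ ∈ (σ.linHom ρ).invariants :=
    Submodule.sub_mem _ hf₂ (Submodule.smul_mem _ c hf₁)
  have hpf₃ : ∀ w, p (f₃ w) = 0 := fun w => by
    rw [hf₃, LinearMap.sub_apply, LinearMap.smul_apply, map_sub, map_smul, hpf,
      show p (f₂ w) = c • w from LinearMap.congr_fun hcs w, sub_self]
  have hmem : ∀ f ∈ (σ.linHom ρ).invariants, f ∘ₗ p ∈ (ρ.linHom ρ).invariants := fun f hf =>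
    mem_hom_iff.mpr fun g v => by
      rw [LinearMap.comp_apply, mem_hom_iff.mp hf, mem_hom_iff.mp hpinv]; rfl
  refine hindep c (sub_eq_zero.mp (LinearMap.ext fun w => ?_))
  have h := LinearMap.congr_fun (hc (f₃ ∘ₗ p) (f₁ ∘ₗ p) (hmem f₃ hf₃i) (hmem f₁ hf₁)) (f₁ w)
  simp only [LinearMap.comp_apply, hpf, hpf₃, map_zero] at h
  exact h

/-- A class-function sum acts on an irreducible representation by the scalar given by the trace. -/
theorem classSum_scalar [σ.IsIrreducible] {a : G → ℂ} (ha : ∀ g h : G, a (h * g * h⁻¹) = a g) :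
    ∃ c : ℂ, (∀ w, ∑ g : G, a g • σ g w = c • w) ∧
      c * finrank ℂ W = ∑ g : G, a g * σ.character g := by
  obtain ⟨c, hc⟩ := exists_scalar σ (S := ∑ g : G, a g • σ g) (mem_hom_iff.mpr fun h w => by
    simp only [LinearMap.sum_apply, LinearMap.smul_apply, map_sum, map_smul]
    refine Fintype.sum_equiv (MulAut.conj h).toEquiv _ _ fun g => ?_
    simp only [MulEquiv.toEquiv_eq_coe, EquivLike.coe_coe, MulAut.conj_apply]
    rw [ha, ← Module.End.mul_apply, ← map_mul, ← Module.End.mul_apply, ← map_mul,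
      inv_mul_cancel_right])
  refine ⟨c, fun w => by simpa [LinearMap.sum_apply] using LinearMap.congr_fun hc w, ?_⟩
  have h := congrArg (LinearMap.trace ℂ W) hc
  simp only [map_sum, map_smul, LinearMap.trace_id, smul_eq_mul] at h
  rw [← h]
  rfl

end General

section Trace

variable {V W : Type*} [AddCommGroup V] [Module ℂ V] [FiniteDimensional ℂ V]
  [AddCommGroup W] [Module ℂ W] [FiniteDimensional ℂ W]

omit [Fintype G] in
/-- The trace of `f ↦ A ∘ f ∘ B`. -/
theorem trace_conj_comp (A : V →ₗ[ℂ] V) (B : W →ₗ[ℂ] W) :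
    LinearMap.trace ℂ (W →ₗ[ℂ] V) ((LinearMap.lcomp ℂ V B) ∘ₗ (LinearMap.llcomp ℂ W V V A)) =
      LinearMap.trace ℂ V A * LinearMap.trace ℂ W B := by
  set e := dualTensorHomEquiv ℂ W V
  have h : e.conj (TensorProduct.map B.dualMap A) =
      (LinearMap.lcomp ℂ V B) ∘ₗ (LinearMap.llcomp ℂ W V V A) := by
    refine LinearMap.ext fun f => ?_
    obtain ⟨x, rfl⟩ := e.surjective f
    rw [LinearEquiv.conj_apply_apply, e.symm_apply_apply]
    induction x using TensorProduct.induction_on with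
    | zero => simp
    | tmul φ v =>
      refine LinearMap.ext fun w => ?_
      simp [e, dualTensorHomEquiv, dualTensorHom_apply, LinearMap.dualMap_apply]
    | add x y hx hy => simp only [map_add, hx, hy]
  rw [← h, LinearMap.trace_conj', LinearMap.trace_tensorProduct',
    show B.dualMap = Module.Dual.transpose (R := ℂ) B from rfl, LinearMap.trace_transpose',
    mul_comm]

variable (σ : Representation ℂ G W) (ρ : Representation ℂ G V)

/-- The trace of post-composition on the intertwining space is an algebraic integer. -/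
theorem isIntegral_trace {T : V →ₗ[ℂ] V} (hT : T ∈ (ρ.linHom ρ).invariants)
    (hint : ∀ z : ℂ, T.charpoly.IsRoot z → IsIntegral ℤ z) :
    ∃ a : ℂ, IsIntegral ℤ a ∧
      (Nat.card G : ℂ) * a = ∑ g : G, σ.character g⁻¹ * LinearMap.trace ℂ V (T ∘ₗ ρ g) ∧
      (finrank ℂ (σ.linHom ρ).invariants = 0 → a = 0) ∧
      ∀ c : ℂ, (∀ f ∈ (σ.linHom ρ).invariants, T ∘ₗ f = c • f) →
        a = c * finrank ℂ (σ.linHom ρ).invariants := by
  set H := (σ.linHom ρ).invariants
  let F : (W →ₗ[ℂ] V) →ₗ[ℂ] (W →ₗ[ℂ] V) := (Nat.card G : ℂ)⁻¹ •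
    ∑ g : G, (LinearMap.lcomp ℂ V (σ g⁻¹)) ∘ₗ (LinearMap.llcomp ℂ W V V (T ∘ₗ ρ g))
  have hF : ∀ f, F f = T ∘ₗ ((Nat.card G : ℂ)⁻¹ • ∑ g : G, ρ g ∘ₗ f ∘ₗ σ g⁻¹) := by
    intro f
    refine LinearMap.ext fun w => ?_
    simp [F, LinearMap.sum_apply, map_sum]
  have hFH : ∀ f, F f ∈ H := by
    intro f
    rw [hF]
    refine comp_mem σ ρ hT (Submodule.smul_mem _ _ ?_)
    rw [mem_hom_iff]
    intro h w
    simp only [LinearMap.sum_apply, LinearMap.comp_apply, map_sum]
    refine Fintype.sum_equiv (Equiv.mulLeft h) _ _ fun g => ?_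
    simp only [Equiv.coe_mulLeft]
    rw [← Module.End.mul_apply, ← map_mul, ← Module.End.mul_apply (σ (h * g)⁻¹), ← map_mul,
      show (h * g)⁻¹ * h = g⁻¹ by group]
  have hFfix : ∀ f ∈ H, F f = T ∘ₗ f := by
    intro f hf
    rw [hF]
    congr 1
    refine LinearMap.ext fun w => ?_
    simp only [LinearMap.smul_apply, LinearMap.sum_apply, LinearMap.comp_apply,
      mem_hom_iff.mp hf, Representation.self_inv_apply, Finset.sum_const, Finset.card_univ,
      ← Nat.card_eq_fintype_card, ← Nat.cast_smul_eq_nsmul ℂ, smul_smul,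
      inv_mul_cancel₀ CfsgLib.Char.card_ne_zero', one_smul]
  have htr := LinearMap.trace_restrict_eq_of_forall_mem H F hFH
  set L : H →ₗ[ℂ] H := F.restrict fun x _ => hFH x with hL
  refine ⟨LinearMap.trace ℂ H L, ?_, ?_, fun h0 => ?_, fun c hc => ?_⟩
  · rw [Module.End.trace_eq_sum_roots_charpoly_of_splits (IsAlgClosed.splits _)]
    refine IsIntegral.multiset_sum fun z hz => hint z ?_
    have hev : Module.End.HasEigenvalue L z :=
      (Module.End.hasEigenvalue_iff_isRoot_charpoly L z).mpr (Polynomial.isRoot_of_mem_roots hz)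
    obtain ⟨⟨f, hf⟩, hfv⟩ := hev.exists_hasEigenvector
    have he : T ∘ₗ f = z • f := by
      rw [← hFfix f hf]
      exact congrArg Subtype.val hfv.apply_eq_smul
    obtain ⟨w, hw⟩ : ∃ w, f w ≠ 0 := by
      by_contra hall
      push Not at hall
      exact hfv.2 (Subtype.ext (LinearMap.ext hall))
    exact (Module.End.hasEigenvalue_iff_isRoot_charpoly T z).mp
      (Module.End.hasEigenvalue_of_hasEigenvector
        ⟨Module.End.mem_eigenspace_iff.mpr (LinearMap.congr_fun he w), hw⟩)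
  · rw [htr]
    simp only [F, map_smul, map_sum, smul_eq_mul, trace_conj_comp]
    rw [mul_inv_cancel_left₀ CfsgLib.Char.card_ne_zero']
    exact Finset.sum_congr rfl fun g _ => mul_comm _ _
  · haveI : Subsingleton H := Module.finrank_zero_iff.mp h0
    rw [show L = 0 from LinearMap.ext fun x => Subsingleton.elim _ _, map_zero]
  · rw [show L = c • LinearMap.id from LinearMap.ext fun f => Subtype.ext (by
      show F f.1 = c • f.1
      rw [hFfix f.1 f.2, hc f.1 f.2]), map_smul, LinearMap.trace_id, smul_eq_mul]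

end Trace

end CfsgLib.SmallGroups.PermDecomp
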