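import Mathlib
import Cfsg.Agent.Lib.SmallGroups.PermDecomp

/-!
Permutation modules over the complex numbers: orbital operators, symmetric operators, subdegrees.
-/

set_option autoImplicit false

namespace CfsgLib.SmallGroups.PermOrbital

open Module
open scoped ComplexConjugate

variable {G : Type*} [Group G] [Fintype G] {Ω : Type*} [Fintype Ω] [DecidableEq Ω] [MulAction G Ω]

local notation "π" => Cfsg.permRep ℂ G Ω

omit [Fintype G] [Fintype Ω] [DecidableEq Ω] in
theorem permRep_apply (g : G) (v : Ω → ℂ) (x : Ω) : π g v x = v (g⁻¹ • x) := rfl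

omit [Fintype G] [Fintype Ω] in
theorem permRep_single (g : G) (y : Ω) :
    π g (Pi.single y (1 : ℂ)) = (Pi.single (g • y) (1 : ℂ) : Ω → ℂ) := by
  funext z
  show (Pi.single y (1 : ℂ) : Ω → ℂ) (g⁻¹ • z) = _
  simp [Pi.single_apply, inv_smul_eq_iff]

omit [Fintype G] in
theorem trace_eq_sum (T : (Ω → ℂ) →ₗ[ℂ] (Ω → ℂ)) :
    LinearMap.trace ℂ (Ω → ℂ) T = ∑ x, T (Pi.single x 1) x := by
  rw [LinearMap.trace_eq_matrix_trace ℂ (Pi.basisFun ℂ Ω)]
  simp [Matrix.trace, LinearMap.toMatrix_apply]

omit [Fintype G] in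
theorem character_permRep :
    (π).character = fun g : G => (Nat.card (MulAction.fixedBy Ω g) : ℂ) := by
  funext g
  rw [Representation.character, trace_eq_sum, Nat.card_eq_fintype_card]
  simp only [permRep_single, Pi.single_apply, Finset.sum_boole]
  rw [Fintype.card_of_subtype (Finset.univ.filter fun x : Ω => x = g • x)
    (fun x => by simp [MulAction.mem_fixedBy, eq_comm])]

/-- The multiplicity of a constituent. -/
theorem classInner_eq_finrank {n : ℕ} (σ : Representation ℂ G (Fin n → ℂ)) :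
    Cfsg.classInner (fun g : G => (Nat.card (MulAction.fixedBy Ω g) : ℂ)) σ.character =
      (finrank ℂ (σ.linHom π).invariants : ℂ) := by
  rw [PermDecomp.finrank_hom, character_permRep]

theorem multiplicityFree_iff :
    (∀ χ : G → ℂ, Cfsg.IsIrrCharacter G χ →
        Cfsg.classInner (fun g : G => (Nat.card (MulAction.fixedBy Ω g) : ℂ)) χ = 0 ∨
        Cfsg.classInner (fun g : G => (Nat.card (MulAction.fixedBy Ω g) : ℂ)) χ = 1) ↔
      ∀ (n : ℕ) (τ : Representation ℂ G (Fin n → ℂ)), τ.IsIrreducible →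
        finrank ℂ (τ.linHom π).invariants ≤ 1 := by
  constructor
  · intro h n τ hτ
    have h' := h _ ⟨n, τ, hτ, rfl⟩
    rw [classInner_eq_finrank] at h'
    norm_cast at h'
    omega
  · rintro h _ ⟨n, τ, hτ, rfl⟩
    rw [classInner_eq_finrank]
    norm_cast
    have := h n τ hτ
    omega

omit [Fintype G] in
/-- The entries of an invariant operator are constant on orbitals. -/
theorem entry_smul {T : (Ω → ℂ) →ₗ[ℂ] (Ω → ℂ)} (hT : T ∈ ((π).linHom π).invariants) (g : G)
    (x y : Ω) : T (Pi.single (g • y) 1) (g • x) = T (Pi.single y 1) x := by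
  rw [← permRep_single, ← PermDecomp.mem_hom_iff.mp hT, permRep_apply, inv_smul_smul]

omit [Fintype G] in
theorem apply_eq_sum (T : (Ω → ℂ) →ₗ[ℂ] (Ω → ℂ)) (v : Ω → ℂ) (x : Ω) :
    T v x = ∑ y, T (Pi.single y 1) x * v y := by
  conv_lhs => rw [show v = ∑ y, v y • (Pi.single y (1 : ℂ) : Ω → ℂ) from
    funext fun z => by simp [Finset.sum_apply, Pi.single_apply]]
  simp [map_sum, map_smul, Finset.sum_apply, mul_comm]

/-- The operator with a given matrix. -/
noncomputable def opOf (M : Ω → Ω → ℂ) : (Ω → ℂ) →ₗ[ℂ] (Ω → ℂ) :=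
  Matrix.toLin' (Matrix.of M)

omit [Fintype G] in
theorem opOf_single (M : Ω → Ω → ℂ) (x y : Ω) : opOf M (Pi.single y 1) x = M x y := by
  simp [opOf]

omit [Fintype G] in
theorem op_ext {S T : (Ω → ℂ) →ₗ[ℂ] (Ω → ℂ)}
    (h : ∀ x y, S (Pi.single y 1) x = T (Pi.single y 1) x) : S = T :=
  LinearMap.pi_ext' fun y => LinearMap.ext_ring (funext fun x => h x y)

omit [Fintype G] in
theorem opOf_mem {M : Ω → Ω → ℂ} (h : ∀ (g : G) x y, M (g • x) (g • y) = M x y) :
    opOf M ∈ ((π).linHom π).invariants := by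
  rw [PermDecomp.mem_hom_iff]
  intro g v
  funext x
  rw [permRep_apply, apply_eq_sum, apply_eq_sum (opOf M) (π g v)]
  refine Fintype.sum_equiv (MulAction.toPerm g) _ _ fun y => ?_
  rw [opOf_single, opOf_single, MulAction.toPerm_apply, permRep_apply, inv_smul_smul,
    ← h g (g⁻¹ • x) y, smul_inv_smul]

/-- All suborbits are self-paired exactly when all invariant operators are symmetric. -/
theorem selfPaired_iff_symmetric :
    (∀ a b : Ω, ∃ g : G, g • a = b ∧ g • b = a) ↔
      ∀ T ∈ ((π).linHom π).invariants, ∀ x y : Ω, T (Pi.single y 1) x = T (Pi.single x 1) y := by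
  classical
  constructor
  · intro h T hT x y
    obtain ⟨g, hgx, hgy⟩ := h x y
    rw [← entry_smul hT g x y, hgx, hgy]
  · intro h a b
    set M : Ω → Ω → ℂ := fun x y => if ∃ g : G, g • a = x ∧ g • b = y then 1 else 0 with hM
    have hMinv : ∀ (g : G) x y, M (g • x) (g • y) = M x y := by
      intro g x y
      simp only [hM]
      refine if_congr ⟨?_, ?_⟩ rfl rfl
      · rintro ⟨u, h1, h2⟩
        exact ⟨g⁻¹ * u, by rw [mul_smul, h1, inv_smul_smul], by rw [mul_smul, h2, inv_smul_smul]⟩
      · rintro ⟨u, h1, h2⟩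
        exact ⟨g * u, by rw [mul_smul, h1], by rw [mul_smul, h2]⟩
    have h' := h _ (opOf_mem hMinv) a b
    rw [opOf_single, opOf_single] at h'
    simp only [hM] at h'
    rw [if_pos ⟨1, one_smul G a, one_smul G b⟩] at h'
    by_contra hne
    rw [if_neg hne] at h'
    exact one_ne_zero h'

theorem commute_of_symmetric
    (h : ∀ T ∈ ((π).linHom π).invariants, ∀ x y : Ω, T (Pi.single y 1) x = T (Pi.single x 1) y)
    {S T : (Ω → ℂ) →ₗ[ℂ] (Ω → ℂ)} (hS : S ∈ ((π).linHom π).invariants)
    (hT : T ∈ ((π).linHom π).invariants) : S ∘ₗ T = T ∘ₗ S := by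
  refine op_ext fun x y => ?_
  rw [h _ (PermDecomp.comp_mem _ _ hS hT) x y, LinearMap.comp_apply, LinearMap.comp_apply,
    apply_eq_sum S, apply_eq_sum T (S (Pi.single y 1))]
  refine Finset.sum_congr rfl fun z _ => ?_
  rw [h S hS y z, h T hT z x, mul_comm]

/-- The character sum attached to a class function, as an invariant operator. -/
theorem classOp_mem {a : G → ℂ} (ha : ∀ g h : G, a (h * g * h⁻¹) = a g) :
    (∑ g : G, a g • π g) ∈ ((π).linHom π).invariants := by
  rw [PermDecomp.mem_hom_iff]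
  intro h w
  simp only [LinearMap.sum_apply, LinearMap.smul_apply, map_sum, map_smul]
  refine Fintype.sum_equiv (MulAut.conj h).toEquiv _ _ fun g => ?_
  simp only [MulEquiv.toEquiv_eq_coe, EquivLike.coe_coe, MulAut.conj_apply]
  rw [ha, ← Module.End.mul_apply, ← map_mul, ← Module.End.mul_apply, ← map_mul,
    inv_mul_cancel_right]

theorem classOp_entry (a : G → ℂ) (x y : Ω) :
    (∑ g : G, a g • π g) (Pi.single y 1) x = ∑ g : G, if g • y = x then a g else 0 := by
  simp [LinearMap.sum_apply, Finset.sum_apply, permRep_single, Pi.single_apply, eq_comm]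

/-- Symmetry forces real constituents. -/
theorem real_of_symmetric
    (h : ∀ T ∈ ((π).linHom π).invariants, ∀ x y : Ω, T (Pi.single y 1) x = T (Pi.single x 1) y)
    {χ : G → ℂ} (hχ : Cfsg.IsIrrCharacter G χ)
    (hm : Cfsg.classInner (fun g : G => (Nat.card (MulAction.fixedBy Ω g) : ℂ)) χ ≠ 0) :
    ∀ g, conj (χ g) = χ g := by
  classical
  by_contra hne
  have hχc := hχ
  obtain ⟨n, σ, hσ, rfl⟩ := hχ
  have hcl : ∀ g u : G, σ.character (u * g * u⁻¹) = σ.character g := fun g u => σ.char_conj g u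
  have hcl' : ∀ g u : G, σ.character (u * g * u⁻¹)⁻¹ = σ.character g⁻¹ := fun g u => by
    rw [show (u * g * u⁻¹)⁻¹ = u * g⁻¹ * u⁻¹ by group, hcl]
  have hop : (∑ g : G, σ.character g⁻¹ • π g) = ∑ g : G, σ.character g • π g := by
    refine op_ext fun x y => ?_
    rw [h _ (classOp_mem (a := fun g => σ.character g⁻¹) hcl') x y, classOp_entry, classOp_entry]
    refine Fintype.sum_equiv (Equiv.inv G) _ _ fun g => ?_
    simp only [Equiv.inv_apply, inv_smul_eq_iff]
    exact if_congr eq_comm rfl rfl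
  obtain ⟨f, hf, hf0⟩ : ∃ f ∈ (σ.linHom π).invariants, f ≠ 0 := by
    by_contra hall
    push Not at hall
    apply hm
    rw [classInner_eq_finrank, show (σ.linHom π).invariants = ⊥ from (Submodule.eq_bot_iff _).mpr
      fun f hf => hall f hf, finrank_bot, Nat.cast_zero]
  obtain ⟨c, hc, hct⟩ := PermDecomp.classSum_scalar σ (a := fun g => σ.character g⁻¹) hcl'
  obtain ⟨d, hd, hdt⟩ := PermDecomp.classSum_scalar σ hcl
  have hpush : ∀ a : G → ℂ, ∀ w, (∑ g : G, a g • π g) (f w) = f (∑ g : G, a g • σ g w) := fun a w => by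
    simp [LinearMap.sum_apply, map_sum, PermDecomp.mem_hom_iff.mp hf]
  have hcd : c = d := by
    obtain ⟨w, hw⟩ : ∃ w, f w ≠ 0 := by
      by_contra hall
      push Not at hall
      exact hf0 (LinearMap.ext hall)
    have h1 := LinearMap.congr_fun hop (f w)
    rw [hpush, hpush, hc, hd, map_smul, map_smul] at h1
    exact smul_left_injective ℂ hw h1
  have hd0 : d * finrank ℂ (Fin n → ℂ) = 0 := by
    rw [hdt]
    have h0 := CfsgLib.Char.classInner_irr_ne hχc
      (ψ := fun g => conj (σ.character g)) ?_ (fun e => hne fun g => (congrFun e g).symm)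
    · rw [CfsgLib.Char.classInner_def, mul_eq_zero] at h0
      have h1 := h0.resolve_left (inv_ne_zero CfsgLib.Char.card_ne_zero')
      simpa using h1
    · refine CfsgLib.Char.irr_of_norm_one
        (CfsgLib.Char.isCharacter_conj (CfsgLib.Char.isCharacter_of_isIrr hχc)) ?_
      rw [← CfsgLib.Char.classInner_irr_self hχc, CfsgLib.Char.classInner_def,
        CfsgLib.Char.classInner_def]
      congr 1
      exact Finset.sum_congr rfl fun g _ => by rw [Complex.conj_conj, mul_comm]
  have hc0 : c * finrank ℂ (Fin n → ℂ) = (Nat.card G : ℂ) := by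
    rw [hct]
    have h1 := CfsgLib.Char.classInner_irr_self hχc
    rw [← mul_one (Nat.card G : ℂ), ← h1, CfsgLib.Char.card_mul_classInner]
    refine Finset.sum_congr rfl fun g _ => ?_
    rw [CfsgLib.Char.character_inv, mul_comm]
  rw [hcd, hd0] at hc0
  exact CfsgLib.Char.card_ne_zero' hc0.symm

/-- Multiplicity one and real constituents force symmetry. -/
theorem symmetric_of_real
    (hmf : ∀ (n : ℕ) (τ : Representation ℂ G (Fin n → ℂ)), τ.IsIrreducible →
      finrank ℂ (τ.linHom π).invariants ≤ 1)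
    (hreal : ∀ χ : G → ℂ, Cfsg.IsIrrCharacter G χ →
      Cfsg.classInner (fun g : G => (Nat.card (MulAction.fixedBy Ω g) : ℂ)) χ ≠ 0 →
        ∀ g, conj (χ g) = χ g)
    {T : (Ω → ℂ) →ₗ[ℂ] (Ω → ℂ)} (hT : T ∈ ((π).linHom π).invariants) (x y : Ω) :
    T (Pi.single y 1) x = T (Pi.single x 1) y := by
  classical
  set T' := opOf fun x y : Ω => T (Pi.single x 1) y with hT'
  have hT'i : T' ∈ ((π).linHom π).invariants := opOf_mem fun g x y => entry_smul hT g y x
  have hT'e : ∀ x y : Ω, T' (Pi.single y 1) x = T (Pi.single x 1) y := fun x y => opOf_single _ x y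
  set D := T - T' with hD
  have hDi : D ∈ ((π).linHom π).invariants := Submodule.sub_mem _ hT hT'i
  have hDx : ∀ x y : Ω, D (Pi.single y 1) x = T (Pi.single y 1) x - T (Pi.single x 1) y := by
    intro x y
    show T (Pi.single y 1) x - T' (Pi.single y 1) x = _
    rw [hT'e]
  have hDe : ∀ x y, D (Pi.single y 1) x = - D (Pi.single x 1) y := fun x y => by
    rw [hDx, hDx]
    ring
  suffices hD0 : D = 0 by
    have := LinearMap.congr_fun hD0 (Pi.single y 1)
    have h' := congrFun this x
    rw [hDx, LinearMap.zero_apply, Pi.zero_apply, sub_eq_zero] at h'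
    exact h'
  refine PermDecomp.eq_zero_of_comp π D fun n τ hτ f hf => ?_
  by_cases hf0 : f = 0
  · simp [hf0]
  obtain ⟨c, hc⟩ := PermDecomp.exists_eigen τ π (hmf n τ hτ) hDi hf hf0
  have hanti : ∀ p q : Ω → ℂ, ∑ x, D p x * q x = - ∑ x, p x * D q x := by
    intro p q
    rw [Finset.sum_congr rfl fun x _ => show D p x * q x =
        ∑ y, D (Pi.single y 1) x * p y * q x by rw [apply_eq_sum D p x, Finset.sum_mul],
      Finset.sum_congr rfl fun x _ => show p x * D q x =
        ∑ y, p x * (D (Pi.single y 1) x * q y) by rw [apply_eq_sum D q x, Finset.mul_sum]]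
    rw [Finset.sum_comm, ← Finset.sum_neg_distrib]
    refine Finset.sum_congr rfl fun x _ => ?_
    rw [← Finset.sum_neg_distrib]
    exact Finset.sum_congr rfl fun y _ => by rw [hDe y x]; ring
  -- the form does not vanish on the image
  obtain ⟨u, w, huw⟩ : ∃ u w, ∑ x, f u x * f w x ≠ 0 := by
    by_contra hall
    push Not at hall
    have hm : Cfsg.classInner (fun g : G => (Nat.card (MulAction.fixedBy Ω g) : ℂ)) τ.character ≠ 0 := by
      rw [classInner_eq_finrank]
      norm_cast
      intro h0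
      haveI : Subsingleton (τ.linHom π).invariants := Module.finrank_zero_iff.mp h0
      exact hf0 (congrArg Subtype.val (Subsingleton.elim (⟨f, hf⟩ : (τ.linHom π).invariants) 0))
    obtain ⟨d, hd, hdt⟩ := PermDecomp.classSum_scalar τ (a := τ.character) fun g h => τ.char_conj g h
    have hdne : d ≠ 0 := by
      intro h0
      rw [h0, zero_mul] at hdt
      have h1 := CfsgLib.Char.classInner_irr_self (φ := τ.character) ⟨n, τ, hτ, rfl⟩
      rw [CfsgLib.Char.classInner_def] at h1
      simp only [hreal _ ⟨n, τ, hτ, rfl⟩ hm] at h1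
      rw [← hdt, mul_zero] at h1
      exact zero_ne_one h1
    apply hf0
    refine LinearMap.ext fun u => funext fun z => ?_
    set E := ∑ g : G, τ.character g⁻¹ • π g (Pi.single z 1)
    obtain ⟨w, hw⟩ : E ∈ LinearMap.range f := by
      refine PermDecomp.charSum_mem τ π (LinearMap.range f) (fun f' hf' w => ?_) _
      obtain ⟨c', rfl⟩ := PermDecomp.exists_smul_eq τ π (hmf n τ hτ) hf hf' hf0
      exact ⟨c' • w, by rw [map_smul]; rfl⟩
    have h0 := hall u w
    rw [hw] at h0
    have hterm : ∀ g : G, ∑ x, f u x * π g (Pi.single z 1) x = f (τ g⁻¹ u) z := by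
      intro g
      rw [permRep_single, Finset.sum_eq_single (g • z)]
      · rw [Pi.single_eq_same, mul_one, ← PermDecomp.mem_hom_iff.mp hf, permRep_apply, inv_inv]
      · intro b _ hb; simp [hb]
      · simp
    simp only [E, Finset.sum_apply, Pi.smul_apply, smul_eq_mul, Finset.mul_sum] at h0
    rw [Finset.sum_comm] at h0
    simp only [mul_left_comm _ (τ.character _), ← Finset.mul_sum, hterm] at h0
    have h2 : f (∑ g : G, τ.character g • τ g u) z = 0 := by
      rw [← h0, map_sum, Finset.sum_apply]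
      refine Fintype.sum_equiv (Equiv.inv G) _ _ fun g => ?_
      simp
    rw [hd, map_smul, Pi.smul_apply, smul_eq_mul] at h2
    exact (mul_eq_zero.mp h2).resolve_left hdne
  have h := hanti (f u) (f w)
  rw [show D (f u) = c • f u from LinearMap.congr_fun hc u,
    show D (f w) = c • f w from LinearMap.congr_fun hc w] at h
  simp only [Pi.smul_apply, smul_eq_mul, mul_assoc, mul_left_comm _ c, ← Finset.mul_sum] at h
  have hc0 : c = 0 := by
    have h2 : (2 * c) * ∑ x, f u x * f w x = 0 := by linear_combination h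
    simpa using (mul_eq_zero.mp h2).resolve_right huw
  rw [hc, hc0, zero_smul]

end CfsgLib.SmallGroups.PermOrbital
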