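import Mathlib
import Cfsg.Agent.Lib.SmallGroups.PermOrbital

/-!
Traces of orbital operators on the constituents of a permutation module, and subdegrees.
-/

set_option autoImplicit false

namespace CfsgLib.SmallGroups.PermOrbital

open Module
open scoped ComplexConjugate

variable {G : Type*} [Group G] [Fintype G] {Ω : Type*} [Fintype Ω] [DecidableEq Ω] [MulAction G Ω]

local notation "π" => Cfsg.permRep ℂ G Ω

omit [DecidableEq Ω] in
theorem sum_smul_eq [MulAction.IsPretransitive G Ω] (F : Ω → ℂ) (x : Ω) :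
    (Fintype.card Ω : ℂ) * ∑ g : G, F (g • x) = (Nat.card G : ℂ) * ∑ y, F y := by
  have hz : ∀ z, ∑ g : G, F (g • z) = ∑ g : G, F (g • x) := by
    intro z
    obtain ⟨u, hu⟩ := MulAction.exists_smul_eq G x z
    exact Fintype.sum_equiv (Equiv.mulRight u) _ _ fun g => by
      rw [Equiv.coe_mulRight, mul_smul, hu]
  calc (Fintype.card Ω : ℂ) * ∑ g : G, F (g • x) = ∑ z, ∑ g : G, F (g • z) := by
        rw [Finset.sum_congr rfl fun z _ => hz z, Finset.sum_const, Finset.card_univ, nsmul_eq_mul]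
    _ = ∑ g : G, ∑ z, F (g • z) := Finset.sum_comm
    _ = ∑ _g : G, ∑ z, F z := Finset.sum_congr rfl fun g _ =>
        Fintype.sum_equiv (MulAction.toPerm g) _ _ fun z => rfl
    _ = (Nat.card G : ℂ) * ∑ y, F y := by
        rw [Finset.sum_const, Finset.card_univ, ← Nat.card_eq_fintype_card, nsmul_eq_mul]

theorem trace_average [MulAction.IsPretransitive G Ω] [Nonempty Ω] {T : (Ω → ℂ) →ₗ[ℂ] (Ω → ℂ)}
    {k : ℂ} (hk : ∀ x, ∑ y, T (Pi.single y 1) x = k) :
    ∑ g : G, LinearMap.trace ℂ (Ω → ℂ) (T ∘ₗ π g) = (Nat.card G : ℂ) * k := by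
  have hn : (Fintype.card Ω : ℂ) ≠ 0 := by exact_mod_cast Fintype.card_ne_zero
  refine mul_left_cancel₀ hn ?_
  simp only [trace_eq_sum, LinearMap.comp_apply, permRep_single]
  rw [Finset.sum_comm, Finset.mul_sum,
    Finset.sum_congr rfl (g := fun _ => (Nat.card G : ℂ) * k) fun x _ => by
      rw [sum_smul_eq (fun y => T (Pi.single y 1) x) x, hk x]]
  rw [Finset.sum_const, Finset.card_univ, nsmul_eq_mul]

omit [Fintype G] in
theorem isIntegral_of_isRoot {T : (Ω → ℂ) →ₗ[ℂ] (Ω → ℂ)}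
    (hint : ∀ x y, ∃ m : ℤ, T (Pi.single y 1) x = m) {z : ℂ} (hz : T.charpoly.IsRoot z) :
    IsIntegral ℤ z := by
  choose M hM using hint
  set A : Matrix Ω Ω ℤ := Matrix.of M
  have hT : T = Matrix.toLin' (A.map (Int.castRingHom ℂ)) := op_ext fun x y => by
    simp [A, hM]
  rw [hT, Matrix.charpoly_toLin', Matrix.charpoly_map] at hz
  refine ⟨A.charpoly, A.charpoly_monic, ?_⟩
  rw [Polynomial.IsRoot, Polynomial.eval_map] at hz
  rwa [show algebraMap ℤ ℂ = Int.castRingHom ℂ from rfl]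

/-- The trace of an invariant integral operator, split over the irreducible characters. -/
theorem trace_formula [MulAction.IsPretransitive G Ω] [Nonempty Ω] {T : (Ω → ℂ) →ₗ[ℂ] (Ω → ℂ)}
    (hT : T ∈ ((π).linHom π).invariants) (hint : ∀ x y, ∃ m : ℤ, T (Pi.single y 1) x = m)
    {k : ℂ} (hk : ∀ x, ∑ y, T (Pi.single y 1) x = k) :
    ∃ a : Cfsg.IrrCharacter G → ℂ, (∀ χ, IsIntegral ℤ (a χ)) ∧ a CfsgLib.Char.irrOne = k ∧
      (∀ χ : Cfsg.IrrCharacter G,
        Cfsg.classInner (fun g : G => (Nat.card (MulAction.fixedBy Ω g) : ℂ)) χ = 0 → a χ = 0) ∧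
      (∀ (χ : Cfsg.IrrCharacter G) (n : ℕ) (σ : Representation ℂ G (Fin n → ℂ)), σ.IsIrreducible →
        σ.character = χ → ∀ c : ℂ, (∀ f ∈ (σ.linHom π).invariants, T ∘ₗ f = c • f) →
          a χ = c * finrank ℂ (σ.linHom π).invariants) ∧
      LinearMap.trace ℂ (Ω → ℂ) T = ∑ χ : Cfsg.IrrCharacter G, (χ : G → ℂ) 1 * a χ := by
  classical
  set a : Cfsg.IrrCharacter G → ℂ := fun χ => (Nat.card G : ℂ)⁻¹ *
    ∑ g : G, (χ : G → ℂ) g⁻¹ * LinearMap.trace ℂ (Ω → ℂ) (T ∘ₗ π g) with ha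
  have hspec : ∀ (χ : Cfsg.IrrCharacter G) (n : ℕ) (σ : Representation ℂ G (Fin n → ℂ)),
      σ.character = χ → IsIntegral ℤ (a χ) ∧ (finrank ℂ (σ.linHom π).invariants = 0 → a χ = 0) ∧
        ∀ c : ℂ, (∀ f ∈ (σ.linHom π).invariants, T ∘ₗ f = c • f) →
          a χ = c * finrank ℂ (σ.linHom π).invariants := by
    intro χ n σ hσ
    obtain ⟨a', h1, h2, h3, h4⟩ := PermDecomp.isIntegral_trace σ π hT
      (fun z hz => isIntegral_of_isRoot hint hz)
    have he : a χ = a' := by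
      simp only [ha, ← hσ, ← h2, inv_mul_cancel_left₀ CfsgLib.Char.card_ne_zero']
    rw [he]
    exact ⟨h1, h3, h4⟩
  refine ⟨a, fun χ => ?_, ?_, fun χ hm => ?_, fun χ n σ _ hσ => (hspec χ n σ hσ).2.2, ?_⟩
  · obtain ⟨n, σ, -, hσ⟩ := χ.2
    exact (hspec χ n σ hσ).1
  · simp only [ha, CfsgLib.Char.irrOne_apply, one_mul, trace_average hk,
      inv_mul_cancel_left₀ CfsgLib.Char.card_ne_zero']
  · obtain ⟨n, σ, -, hσ⟩ := χ.2
    refine (hspec χ n σ hσ).2.1 ?_
    rw [← hσ, classInner_eq_finrank] at hm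
    exact_mod_cast hm
  · have hsum : ∑ χ : Cfsg.IrrCharacter G, (χ : G → ℂ) 1 *
        ∑ g : G, (χ : G → ℂ) g⁻¹ * LinearMap.trace ℂ (Ω → ℂ) (T ∘ₗ π g) =
        (Nat.card G : ℂ) * LinearMap.trace ℂ (Ω → ℂ) T := by
      simp only [Finset.mul_sum, ← mul_assoc]
      rw [Finset.sum_comm]
      simp only [← Finset.sum_mul, CfsgLib.Char.sum_degree_mul_apply, inv_eq_one, ite_mul, zero_mul,
        Finset.sum_ite_eq', Finset.mem_univ, if_true, map_one]
      rfl
    simp only [ha, mul_left_comm _ (Nat.card G : ℂ)⁻¹, ← Finset.mul_sum, hsum,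
      inv_mul_cancel_left₀ CfsgLib.Char.card_ne_zero']

/-- The operator of the orbital of a pair. -/
noncomputable def orbitalOp (G : Type*) [Group G] {Ω : Type*} [Fintype Ω] [DecidableEq Ω]
    [MulAction G Ω] (a b : Ω) : (Ω → ℂ) →ₗ[ℂ] (Ω → ℂ) :=
  open Classical in opOf fun x y => if ∃ g : G, g • a = x ∧ g • b = y then 1 else 0

omit [Fintype G] in
theorem orbitalOp_single (a b x y : Ω) [Decidable (∃ g : G, g • a = x ∧ g • b = y)] :
    orbitalOp G a b (Pi.single y 1) x = if ∃ g : G, g • a = x ∧ g • b = y then 1 else 0 := by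
  rw [orbitalOp, opOf_single]
  congr

omit [Fintype G] in
theorem orbitalOp_mem (a b : Ω) : orbitalOp G a b ∈ ((π).linHom π).invariants := by
  classical
  refine opOf_mem fun g x y => ?_
  refine if_congr ⟨?_, ?_⟩ rfl rfl
  · rintro ⟨u, h1, h2⟩
    exact ⟨g⁻¹ * u, by rw [mul_smul, h1, inv_smul_smul], by rw [mul_smul, h2, inv_smul_smul]⟩
  · rintro ⟨u, h1, h2⟩
    exact ⟨g * u, by rw [mul_smul, h1], by rw [mul_smul, h2]⟩

omit [Fintype G] in
theorem orbitalOp_int (a b x y : Ω) : ∃ m : ℤ, orbitalOp G a b (Pi.single y 1) x = m := by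
  classical
  rw [orbitalOp_single]
  split_ifs
  · exact ⟨1, by simp⟩
  · exact ⟨0, by simp⟩

theorem orbitalOp_row [MulAction.IsPretransitive G Ω] (a b x : Ω) :
    ∑ y, orbitalOp G a b (Pi.single y 1) x =
      (Nat.card (MulAction.orbit (MulAction.stabilizer G a) b) : ℂ) := by
  classical
  simp only [orbitalOp_single, Finset.sum_boole]
  rw [Nat.card_eq_fintype_card]
  norm_cast
  obtain ⟨u, hu⟩ := MulAction.exists_smul_eq G a x
  rw [← Fintype.card_subtype]
  refine Fintype.card_congr ((MulAction.toPerm u).symm.subtypeEquiv fun y => ?_)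
  constructor
  · rintro ⟨g, h1, h2⟩
    refine ⟨⟨u⁻¹ * g, ?_⟩, ?_⟩
    · rw [MulAction.mem_stabilizer_iff, mul_smul, h1, ← hu, inv_smul_smul]
    · show (u⁻¹ * g) • b = u⁻¹ • y
      rw [mul_smul, h2]
  · rintro ⟨⟨h, hh⟩, he⟩
    change h • b = u⁻¹ • y at he
    exact ⟨u * h, by rw [mul_smul, MulAction.mem_stabilizer_iff.mp hh, hu],
      by rw [mul_smul, he, smul_inv_smul]⟩

omit [Fintype G] in
theorem trace_orbitalOp {a b : Ω} (hab : b ≠ a) :
    LinearMap.trace ℂ (Ω → ℂ) (orbitalOp G a b) = 0 := by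
  classical
  rw [trace_eq_sum]
  refine Finset.sum_eq_zero fun x _ => ?_
  rw [orbitalOp_single, if_neg]
  rintro ⟨g, h1, h2⟩
  exact hab (MulAction.injective g (h2.trans h1.symm))

/-- A divisor of all non-principal constituent degrees divides the non-trivial subdegrees. -/
theorem dvd_subdegree [MulAction.IsPretransitive G Ω] (f : ℕ)
    (hf : ∀ χ : G → ℂ, Cfsg.IsIrrCharacter G χ → χ ≠ (fun _ => 1) →
      Cfsg.classInner (fun g : G => (Nat.card (MulAction.fixedBy Ω g) : ℂ)) χ ≠ 0 →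
        ∃ m : ℕ, χ 1 = (f : ℂ) * m) {a b : Ω} (hab : b ≠ a) :
    f ∣ Nat.card (MulAction.orbit (MulAction.stabilizer G a) b) := by
  classical
  haveI : Nonempty Ω := ⟨a⟩
  obtain ⟨c, hint, hone, hzero, -, htr⟩ :=
    trace_formula (G := G) (orbitalOp_mem a b) (orbitalOp_int a b) (orbitalOp_row a b)
  set k := Nat.card (MulAction.orbit (MulAction.stabilizer G a) b)
  rw [trace_orbitalOp hab, ← Finset.add_sum_erase _ _ (Finset.mem_univ CfsgLib.Char.irrOne), hone,
    CfsgLib.Char.irrOne_apply, one_mul] at htr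
  set s := Finset.univ.erase (CfsgLib.Char.irrOne (G := G))
  have hex : ∀ χ ∈ s, ∃ m : ℕ, (χ : G → ℂ) 1 * c χ = (f : ℂ) * ((m : ℂ) * c χ) := by
    intro χ hχ
    by_cases hm : Cfsg.classInner (fun g : G => (Nat.card (MulAction.fixedBy Ω g) : ℂ)) χ = 0
    · exact ⟨0, by simp [hzero χ hm]⟩
    · obtain ⟨m, hm'⟩ := hf χ χ.2 (fun e => (Finset.ne_of_mem_erase hχ) (Subtype.ext e)) hm
      exact ⟨m, by rw [hm', mul_assoc]⟩
  choose! m hm using hex
  rw [Finset.sum_congr rfl hm, ← Finset.mul_sum] at htr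
  set S := ∑ χ ∈ s, ((m χ : ℂ) * c χ)
  have hS : IsIntegral ℤ S := IsIntegral.sum _ fun χ _ => by
    have hn : IsIntegral ℤ ((m χ : ℂ)) := by simpa using isIntegral_algebraMap (R := ℤ) (A := ℂ) (x := (m χ : ℤ))
    exact hn.mul (hint χ)
  rcases Nat.eq_zero_or_pos f with rfl | hfpos
  · have : (k : ℂ) = 0 := by simpa using htr.symm
    rw [Nat.cast_eq_zero] at this
    exact absurd this (Nat.card_pos_iff.mpr ⟨⟨⟨b, MulAction.mem_orbit_self b⟩⟩, inferInstance⟩).ne'
  have hf0 : (f : ℂ) ≠ 0 := by exact_mod_cast hfpos.ne'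
  have hq : algebraMap ℚ ℂ (-((k : ℚ) / f)) = S := by
    rw [map_neg, map_div₀, map_natCast, map_natCast, neg_eq_iff_eq_neg, div_eq_iff hf0]
    linear_combination -htr
  have hQ : IsIntegral ℤ (-((k : ℚ) / f)) :=
    (isIntegral_algebraMap_iff (algebraMap ℚ ℂ).injective).mp (hq ▸ hS)
  obtain ⟨z, hz⟩ := IsIntegrallyClosed.isIntegral_iff.mp hQ
  have hzk : ((-z) * f : ℤ) = (k : ℤ) := by
    have : ((-z : ℤ) : ℚ) * f = k := by
      rw [eq_intCast] at hz
      push_cast
      rw [hz, neg_neg, div_mul_cancel₀]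
      exact_mod_cast hfpos.ne'
    exact_mod_cast this
  exact Int.natCast_dvd_natCast.mp ⟨-z, by rw [← hzk, mul_comm]⟩

/-- The number of orbitals is the number of suborbits. -/
theorem card_orbitals [MulAction.IsPretransitive G Ω] (a : Ω) :
    Nat.card (Quotient (MulAction.orbitRel G (Ω × Ω))) =
      Nat.card (MulAction.orbitRel.Quotient (MulAction.stabilizer G a) Ω) := by
  let F : MulAction.orbitRel.Quotient (MulAction.stabilizer G a) Ω →
      Quotient (MulAction.orbitRel G (Ω × Ω)) :=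
    fun q => Quotient.liftOn' q (fun b => Quotient.mk'' (a, b)) (by
      rintro b b' ⟨⟨h, hh⟩, he⟩
      exact Quotient.sound' ⟨h, Prod.ext (MulAction.mem_stabilizer_iff.mp hh) he⟩)
  refine (Nat.card_eq_of_bijective F ⟨fun q q' he => ?_, fun q => ?_⟩).symm
  · induction q using Quotient.inductionOn' with
    | h b =>
      induction q' using Quotient.inductionOn' with
      | h b' =>
        obtain ⟨g, hg⟩ := Quotient.exact' he
        simp only [Prod.smul_mk, Prod.mk.injEq] at hg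
        exact Quotient.sound' ⟨⟨g, hg.1⟩, hg.2⟩
  · induction q using Quotient.inductionOn' with
    | h p =>
      obtain ⟨g, hg⟩ := MulAction.exists_smul_eq G p.1 a
      refine ⟨Quotient.mk'' (g • p.2), Quotient.sound' ⟨g, ?_⟩⟩
      exact Prod.ext hg rfl

/-- The multiplicities: their degree-weighted sum and the sum of their squares. -/
theorem exists_multiplicities [MulAction.IsPretransitive G Ω] (a : Ω) :
    ∃ (m d : Cfsg.IrrCharacter G → ℕ), m CfsgLib.Char.irrOne = 1 ∧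
      (∀ χ : Cfsg.IrrCharacter G,
        Cfsg.classInner (fun g : G => (Nat.card (MulAction.fixedBy Ω g) : ℂ)) χ = m χ) ∧
      (∀ χ : Cfsg.IrrCharacter G, (χ : G → ℂ) 1 = d χ ∧ 0 < d χ) ∧
      ∑ χ, m χ * d χ = Fintype.card Ω ∧
      ∑ χ, m χ ^ 2 = Nat.card (MulAction.orbitRel.Quotient (MulAction.stabilizer G a) Ω) := by
  classical
  haveI : Nonempty Ω := ⟨a⟩
  have hch := CfsgLib.Char.isCharacter_permChar (G := G) (X := Ω)
  obtain ⟨m, hm, hmi⟩ := CfsgLib.Char.char_decomp hch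
  choose d hd0 hd using fun χ : Cfsg.IrrCharacter G => CfsgLib.Char.exists_degree_pos χ.2
  refine ⟨m, d, ?_, hmi, fun χ => ⟨hd χ, hd0 χ⟩, ?_, ?_⟩
  · have h := hmi CfsgLib.Char.irrOne
    change Cfsg.classInner (fun g : G => (Nat.card (MulAction.fixedBy Ω g) : ℂ)) (fun _ => 1) = _ at h
    rw [CfsgLib.Char.classInner_one_right, CfsgLib.Char.sum_fixed_eq_card_orbits,
      inv_mul_cancel_left₀ CfsgLib.Char.card_ne_zero'] at h
    haveI : Subsingleton (Quotient (MulAction.orbitRel G Ω)) :=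
      MulAction.pretransitive_iff_subsingleton_quotient G Ω |>.mp inferInstance
    haveI : Nonempty (Quotient (MulAction.orbitRel G Ω)) := ⟨Quotient.mk'' a⟩
    rw [Nat.card_unique] at h
    exact_mod_cast h.symm
  · have h := congrFun hm 1
    simp only [MulAction.fixedBy, one_smul, Finset.sum_apply, Pi.smul_apply, smul_eq_mul, hd,
      Set.setOf_true] at h
    rw [Nat.card_congr (Equiv.Set.univ Ω), Nat.card_eq_fintype_card] at h
    exact_mod_cast h.symm
  · have h := CfsgLib.Char.classInner_eq_sum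
      (f' := fun g : G => (Nat.card (MulAction.fixedBy Ω g) : ℂ))
      (CfsgLib.Char.isClassFunction_of_isCharacter hch)
    rw [CfsgLib.Char.classInner_permChar, card_orbitals a] at h
    simp only [hmi, map_natCast, ← pow_two] at h
    exact_mod_cast h.symm

/-- The suborbit lengths add up to the degree. -/
theorem sum_subdegrees (a : Ω)
    [Fintype (MulAction.orbitRel.Quotient (MulAction.stabilizer G a) Ω)] :
    ∑ q : MulAction.orbitRel.Quotient (MulAction.stabilizer G a) Ω,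
      Nat.card (MulAction.orbit (MulAction.stabilizer G a) q.out) = Fintype.card Ω := by
  rw [← Nat.card_eq_fintype_card,
    Nat.card_congr (MulAction.selfEquivSigmaOrbits (MulAction.stabilizer G a) Ω), Nat.card_sigma]

end CfsgLib.SmallGroups.PermOrbital
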