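import Cfsg.Agent.Lib.FGS.CountsBasic
import Cfsg.Agent.Lib.PGroup.CyclicOrEightConj
import Cfsg.Agent.Lib.Classical.Dickson.SmallIdent
import Cfsg.Agent.S0497

/-!
The alternating groups of degree 4, 5 and 6 from the numbers of elements of each order.
-/

set_option autoImplicit false

namespace CfsgLib.AltNSE

open CfsgLib.FGS.Counts
open scoped Pointwise

variable {G : Type*} [Group G] [Finite G]

/-- The numbers of elements of each order lie in `V`, and all of `V` occurs. -/
structure Hyp (G : Type*) [Group G] (V : Finset ℕ) : Prop where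
  mem : ∀ m, cnt G m ≠ 0 → cnt G m ∈ V
  attained : ∀ v ∈ V, ∃ m, cnt G m = v

theorem dvd_of_prime_pow_bounds {m N : ℕ} (hm : m ≠ 0)
    (h : ∀ p k : ℕ, p.Prime → p ^ k ∣ m → p ^ k ∣ N) : m ∣ N :=
  (Nat.dvd_iff_prime_pow_dvd_dvd N m).2 h

theorem cnt_zero_of_not_dvd {m : ℕ} (h : ¬ m ∣ Nat.card G) : cnt G m = 0 := by
  by_contra h0
  exact h (dvd_card_of_cnt h0)

/-- The order of a Sylow subgroup divides the number of elements of bounded prime-power order. -/
theorem sylow_dvd_sum {p e : ℕ} [hp : Fact p.Prime] (P : Sylow p G)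
    (he : cnt G (p ^ (e + 1)) = 0) :
    Nat.card (P : Subgroup G) ∣ ∑ m ∈ (Finset.range (e + 1)).image (p ^ ·), cnt G m := by
  obtain ⟨n, hn⟩ := IsPGroup.iff_card.1 P.2
  rw [hn]
  rcases Nat.lt_or_ge e n with hen | hen
  · refine dvd_sum_cnt (hn ▸ Subgroup.card_subgroup_dvd_card _) ?_ ?_
    · simp only [Finset.mem_image, Finset.mem_range]
      rintro _ ⟨i, hi, rfl⟩
      exact pow_dvd_pow p (by omega)
    · intro x hx
      obtain ⟨i, -, hi⟩ := (Nat.dvd_prime_pow hp.out).1 (orderOf_dvd_of_pow_eq_one hx)
      rw [Finset.mem_image]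
      refine ⟨i, Finset.mem_range.2 ?_, hi.symm⟩
      by_contra hie
      exact cnt_dvd_ne_zero (cnt_ne_zero hi) (pow_dvd_pow p (by omega : e + 1 ≤ i)) he
  · have h1 : Finset.range (n + 1) ⊆ Finset.range (e + 1) := fun i hi =>
      Finset.mem_range.2 (lt_of_lt_of_le (Finset.mem_range.1 hi) (by omega))
    rw [Finset.sum_image fun a _ b _ h => Nat.pow_right_injective hp.out.two_le h,
      ← Finset.sum_sdiff h1, ← Finset.sum_image (g := (p ^ ·)) (s := Finset.range (n + 1))
        fun a _ b _ h => Nat.pow_right_injective hp.out.two_le h]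
    refine dvd_add (Finset.dvd_sum fun i hi => ?_) ?_
    · simp only [Finset.mem_sdiff, Finset.mem_range] at hi
      rw [cnt_zero_of_not_dvd]
      · exact dvd_zero _
      · intro hd
        have h2 : p ^ i ∣ Nat.card (P : Subgroup G) := by
          have := P.card_eq_multiplicity
          rw [this]
          exact pow_dvd_pow p ((hp.out.pow_dvd_iff_le_factorization Nat.card_pos.ne').1 hd)
        rw [hn, Nat.pow_dvd_pow_iff_le_right hp.out.one_lt] at h2
        omega
    · refine dvd_sum_cnt (hn ▸ Subgroup.card_subgroup_dvd_card _) ?_ ?_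
      · simp only [Finset.mem_image, Finset.mem_range]
        rintro _ ⟨i, hi, rfl⟩
        exact pow_dvd_pow p (by omega)
      · intro x hx
        obtain ⟨i, hi, he'⟩ := (Nat.dvd_prime_pow hp.out).1 (orderOf_dvd_of_pow_eq_one hx)
        exact Finset.mem_image.2 ⟨i, Finset.mem_range.2 (by omega), he'.symm⟩

/-- With cyclic Sylow subgroups the number of subgroups of prime order divides the group order. -/
theorem cnt_prime_of_cyclic {p : ℕ} [hp : Fact p.Prime] (hd : p ∣ Nat.card G) (P : Sylow p G)
    (hcyc : IsCyclic (P : Subgroup G)) : ∃ n, n ∣ Nat.card G ∧ cnt G p = n * (p - 1) := by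
  classical
  have := Fintype.ofFinite G
  obtain ⟨z, hz⟩ := exists_prime_orderOf_dvd_card' p
    (show p ∣ Nat.card (P : Subgroup G) from P.dvd_card_of_dvd_card hd)
  set Z := Subgroup.zpowers (z : G) with hZ
  have hZc : Nat.card Z = p := by rw [hZ, Nat.card_zpowers, Subgroup.orderOf_coe, hz]
  -- every subgroup of order `p` is conjugate to `Z`
  have hconj : ∀ x : G, orderOf x = p → ∃ g : G, Subgroup.zpowers x = Z.map (MulAut.conj g).toMonoidHom := by
    intro x hx
    obtain ⟨Q, hQ⟩ := (IsPGroup.of_card (G := Subgroup.zpowers x) (n := 1)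
      (by rw [Nat.card_zpowers, hx, pow_one])).exists_le_sylow
    obtain ⟨g, hg⟩ := MulAction.exists_smul_eq G P Q
    refine ⟨g, ?_⟩
    have h1 : Subgroup.zpowers (g⁻¹ * x * g) = Z := by
      have hmem : g⁻¹ * x * g ∈ (P : Subgroup G) := by
        have h2 := hQ (Subgroup.mem_zpowers x)
        rw [← hg] at h2
        obtain ⟨w, hw, e⟩ := h2
        simp only [MulDistribMulAction.toMonoidEnd_apply, MulDistribMulAction.toMonoidHom_apply,
          MulAut.smul_def, MulAut.conj_apply] at e
        rw [← e, show g⁻¹ * (g * w * g⁻¹) * g = w by group]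
        exact hw
      refine CfsgLib.PGroup.ConjAb.eq_of_card_eq_of_le_cyclic hcyc
        (Subgroup.zpowers_le.2 hmem) (Subgroup.zpowers_le.2 z.2) ?_
      rw [hZc, Nat.card_zpowers, show g⁻¹ * x * g = MulAut.conj g⁻¹ x by rw [MulAut.conj_apply, inv_inv],
        MulEquiv.orderOf_eq, hx]
    rw [← h1, MonoidHom.map_zpowers]
    congr 1
    show x = g * (g⁻¹ * x * g) * g⁻¹
    group
  -- count by the generated subgroup
  set O : Finset (Subgroup G) :=
    Finset.univ.image fun g : G => Z.map (MulAut.conj g).toMonoidHom with hO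
  refine ⟨O.card, ?_, ?_⟩
  · have h1 : O.card = Nat.card (MulAction.orbit (ConjAct G) Z) := by
      rw [hO, ← Nat.card_eq_finsetCard]
      refine Nat.card_congr (Equiv.subtypeEquivRight fun H => ?_)
      simp only [Finset.mem_image, Finset.mem_univ, true_and, MulAction.mem_orbit_iff]
      exact ⟨fun ⟨g, hg⟩ => ⟨ConjAct.toConjAct g, hg⟩, fun ⟨g, hg⟩ => ⟨ConjAct.ofConjAct g, hg⟩⟩
    rw [h1, ← Nat.card_congr (MulAction.orbitEquivQuotientStabilizer (ConjAct G) Z).symm]
    exact (Subgroup.card_quotient_dvd_card _).trans (Nat.card_congr ConjAct.ofConjAct.toEquiv).dvd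
  · rw [cnt, Nat.card_eq_fintype_card, Fintype.card_subtype,
      Finset.card_eq_sum_card_fiberwise (f := fun x : G => Subgroup.zpowers x) (t := O)
        (fun x hx => by
          obtain ⟨g, hg⟩ := hconj x (Finset.mem_filter.1 hx).2
          exact Finset.mem_image.2 ⟨g, Finset.mem_univ _, hg.symm⟩)]
    refine Finset.sum_const_nat fun H hH => ?_
    obtain ⟨g, -, rfl⟩ := Finset.mem_image.1 hH
    set H := Z.map (MulAut.conj g).toMonoidHom
    have hHc : Nat.card H = p := by
      rw [← hZc]
      exact (Nat.card_congr (Z.equivMapOfInjective _ (MulAut.conj g).injective).toEquiv).symm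
    have h2 : (H : Set G).toFinset.erase 1 =
        Finset.filter (fun x => Subgroup.zpowers x = H) (Finset.filter (fun x => orderOf x = p) Finset.univ) := by
      ext x
      simp only [Finset.mem_erase, Set.mem_toFinset, SetLike.mem_coe, Finset.mem_filter,
        Finset.mem_univ, true_and]
      constructor
      · rintro ⟨hx1, hxH⟩
        have ho : orderOf x = p := by
          have h3 : orderOf (⟨x, hxH⟩ : H) ∣ p := hHc ▸ orderOf_dvd_natCard _
          rw [Subgroup.orderOf_mk] at h3
          exact ((Nat.dvd_prime hp.out).1 h3).resolve_left fun h => hx1 (orderOf_eq_one_iff.1 h)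
        exact ⟨ho, Subgroup.eq_of_le_of_card_ge (Subgroup.zpowers_le.2 hxH)
          (by rw [hHc, Nat.card_zpowers, ho])⟩
      · rintro ⟨ho, hx⟩
        refine ⟨fun h => hp.out.ne_one (by rw [← ho, h, orderOf_one]), ?_⟩
        rw [← hx]
        exact Subgroup.mem_zpowers x
    rw [← h2, Finset.card_erase_of_mem (by simp), Set.toFinset_card, ← Nat.card_eq_fintype_card,
      show Nat.card (H : Set G) = p from hHc]

theorem isCyclic_sylow_of {p k : ℕ} [hp : Fact p.Prime] (P : Sylow p G)
    (hP : Nat.card (P : Subgroup G) = p ^ k) (hk : k ≤ 1 ∨ cnt G (p ^ k) ≠ 0) :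
    IsCyclic (P : Subgroup G) := by
  rcases hk with hk | hk
  · rcases Nat.le_one_iff_eq_zero_or_eq_one.1 hk with rfl | rfl
    · rw [pow_zero] at hP
      have := (Nat.card_eq_one_iff_unique.1 hP).1
      infer_instance
    · rw [pow_one] at hP
      exact isCyclic_of_prime_card hP
  · obtain ⟨x, hx⟩ := exists_of_cnt hk
    obtain ⟨Q, hQ⟩ := (IsPGroup.of_card (G := Subgroup.zpowers x) (n := k)
      (by rw [Nat.card_zpowers, hx])).exists_le_sylow
    have hQc : Nat.card (Q : Subgroup G) = p ^ k := by
      rw [← hP]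
      exact Nat.card_congr (Sylow.equiv Q P).toEquiv
    have hcyc : IsCyclic (Q : Subgroup G) := isCyclic_of_orderOf_eq_card ⟨x, hQ (Subgroup.mem_zpowers x)⟩
      (by rw [Subgroup.orderOf_mk, hQc, hx])
    exact isCyclic_of_surjective (Sylow.equiv Q P).toMonoidHom (Sylow.equiv Q P).surjective

theorem two_part {v : ℕ} {V : Finset ℕ} (h : Hyp G V) (hv : v ∈ V) (hodd : ¬ 2 ∣ v) (h1 : v ≠ 1) :
    cnt G 2 = v := by
  obtain ⟨m, hm⟩ := h.attained v hv
  rcases Nat.lt_or_ge 2 m with h2 | h2
  · exact absurd (hm ▸ even_cnt (G := G) h2) hodd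
  · interval_cases m
    · exfalso
      apply hodd
      rw [← hm, cnt_zero_of_not_dvd (fun h0 => Nat.card_pos.ne' (zero_dvd_iff.1 h0))]
      exact dvd_zero 2
    · exact absurd (hm.symm.trans cnt_one) h1
    · exact hm

/-- The list of possible values above order two. -/
theorem big_cases {V : Finset ℕ} (h : Hyp G V) {m : ℕ} (hm : 2 < m) (h0 : cnt G m ≠ 0) :
    cnt G m ∈ V ∧ 2 ∣ cnt G m ∧ m.totient ∣ cnt G m :=
  ⟨h.mem m h0, even_cnt hm, totient_dvd_cnt m⟩

theorem frob {s : Finset ℕ} {n : ℕ} (hn : n ∣ Nat.card G) (hs : n.divisors = s) :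
    n ∣ ∑ m ∈ s, cnt G m := by
  subst hs
  exact dvd_sum_cnt hn (fun m hm => Nat.dvd_of_mem_divisors hm) fun x hx =>
    Nat.mem_divisors.2 ⟨orderOf_dvd_of_pow_eq_one hx, fun e => by
      subst e; exact Nat.card_pos.ne' (zero_dvd_iff.1 hn)⟩

/-! ### Degree four -/

theorem four (h : Hyp G {1, 3, 8}) : Nonempty (G ≃* alternatingGroup (Fin 4)) := by
  have h2 : cnt G 2 = 3 := two_part h (by simp) (by norm_num) (by norm_num)
  have hval : ∀ m, 2 < m → cnt G m ≠ 0 → cnt G m = 8 := by
    intro m hm h0
    obtain ⟨h1, h3, -⟩ := big_cases h hm h0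
    simp only [Finset.mem_insert, Finset.mem_singleton] at h1
    omega
  have hphi : ∀ m, 2 < m → cnt G m ≠ 0 → m.totient ∣ 8 := fun m hm h0 =>
    hval m hm h0 ▸ totient_dvd_cnt m
  have hprimes : ∀ p : ℕ, p.Prime → p ∣ Nat.card G → p = 2 ∨ p = 3 := by
    intro p hp hd
    by_contra hc
    push Not at hc
    have h5 : 2 < p := by have := hp.two_le; omega
    have h1 := dvd_one_add hp hd
    rw [hval p h5 (cnt_ne_zero_of_prime hp hd)] at h1
    have h6 := Nat.le_of_dvd (by norm_num) h1
    interval_cases p <;> first | omega | norm_num at hp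
  have hno8 : cnt G 8 = 0 := by
    by_contra h0
    have hf := frob (n := 8) (dvd_card_of_cnt h0) (s := {1, 2, 4, 8}) (by decide)
    have h4 := cnt_dvd_ne_zero h0 (show 4 ∣ 8 by norm_num)
    rw [Finset.sum_insert (by decide), Finset.sum_insert (by decide), Finset.sum_insert (by decide),
      Finset.sum_singleton, cnt_one, h2, hval 4 (by norm_num) h4, hval 8 (by norm_num) h0] at hf
    omega
  have hno9 : cnt G 9 = 0 := by
    by_contra h0
    have := hphi 9 (by norm_num) h0
    rw [show Nat.totient 9 = 6 by decide] at this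
    omega
  have hno6 : cnt G 6 = 0 := by
    by_contra h0
    have hf := frob (n := 6) (dvd_card_of_cnt h0) (s := {1, 2, 3, 6}) (by decide)
    have h3 := cnt_dvd_ne_zero h0 (show 3 ∣ 6 by norm_num)
    rw [Finset.sum_insert (by decide), Finset.sum_insert (by decide), Finset.sum_insert (by decide),
      Finset.sum_singleton, cnt_one, h2, hval 3 (by norm_num) h3, hval 6 (by norm_num) h0] at hf
    omega
  have hord : ∀ x : G, orderOf x ∈ ({1, 2, 3, 4} : Finset ℕ) := by
    intro x
    have h0 := cnt_ne_zero (x := x) rfl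
    have hd : orderOf x ∣ 12 := by
      refine dvd_of_prime_pow_bounds (orderOf_pos x).ne' fun p k hp hpk => ?_
      rcases Nat.eq_zero_or_pos k with rfl | hk
      · simp
      rcases hprimes p hp (((dvd_pow_self p hk.ne').trans hpk).trans (orderOf_dvd_natCard x)) with rfl | rfl
      · have : k ≤ 2 := by
          by_contra hc
          exact cnt_dvd_ne_zero h0 ((pow_dvd_pow 2 (by omega : 3 ≤ k)).trans hpk) hno8
        interval_cases k <;> norm_num
      · have : k ≤ 1 := by
          by_contra hc
          exact cnt_dvd_ne_zero h0 ((pow_dvd_pow 3 (by omega : 2 ≤ k)).trans hpk) hno9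
        interval_cases k; norm_num
    have h6 : ¬ 6 ∣ orderOf x := fun hd6 => cnt_dvd_ne_zero h0 hd6 hno6
    have hm : orderOf x ∈ Nat.divisors 12 := Nat.mem_divisors.2 ⟨hd, by norm_num⟩
    revert h6
    revert hm
    generalize orderOf x = m
    decide +kernel +revert
  have hc := sum_cnt_eq hord
  rw [Finset.sum_insert (by decide), Finset.sum_insert (by decide), Finset.sum_insert (by decide),
    Finset.sum_singleton, cnt_one, h2] at hc
  have h4 : cnt G 4 = 0 ∨ cnt G 4 = 8 := or_iff_not_imp_left.2 (hval 4 (by norm_num))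
  have h3 : cnt G 3 = 0 ∨ cnt G 3 = 8 := or_iff_not_imp_left.2 (hval 3 (by norm_num))
  obtain ⟨m, hm⟩ := h.attained 8 (by simp)
  have hm0 : cnt G m ≠ 0 := by omega
  obtain ⟨x, hx⟩ := exists_of_cnt hm0
  have hmem := hord x
  rw [hx] at hmem
  simp only [Finset.mem_insert, Finset.mem_singleton] at hmem
  have hm34 : cnt G 3 = 8 ∨ cnt G 4 = 8 := by
    rcases hmem with rfl | rfl | rfl | rfl
    · rw [cnt_one] at hm; omega
    · omega
    · exact Or.inl hm
    · exact Or.inr hm
  have hcard : Nat.card G = 12 := by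
    by_contra hne
    have h20 : Nat.card G = 20 := by omega
    rcases hprimes 5 (by norm_num) (by rw [h20]; norm_num) with h5 | h5 <;> omega
  refine CfsgLib.Classical.Dickson.alt_four_of hcard fun a b ha hb hab => ?_
  exact cnt_ne_zero (x := a * b) (by
    rw [hab.orderOf_mul_eq_mul_orderOf_of_coprime (by rw [ha, hb]; norm_num), ha, hb]) hno6

/-! ### Degree five -/

theorem five (h : Hyp G {1, 15, 20, 24}) : Nonempty (G ≃* alternatingGroup (Fin 5)) := by
  have h2 : cnt G 2 = 15 := two_part h (by simp) (by norm_num) (by norm_num)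
  have hval : ∀ m, 2 < m → cnt G m ≠ 0 → cnt G m = 20 ∨ cnt G m = 24 := by
    intro m hm h0
    obtain ⟨h1, h3, -⟩ := big_cases h hm h0
    simp only [Finset.mem_insert, Finset.mem_singleton] at h1
    omega
  have hval' : ∀ m, 2 < m → cnt G m = 0 ∨ cnt G m = 20 ∨ cnt G m = 24 := fun m hm =>
    or_iff_not_imp_left.2 (hval m hm)
  have htot : ∀ m t : ℕ, m.totient = t → t ∣ cnt G m := fun m t ht => ht ▸ totient_dvd_cnt m
  have hsmall : ∀ p : ℕ, p.Prime → p ∣ Nat.card G → 2 < p → (p = 3 ∧ cnt G p = 20) ∨ (p = 5 ∧ cnt G p = 24) := by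
    intro p hp hd h5
    have h1 := dvd_one_add hp hd
    have h4 := htot p _ (Nat.totient_prime hp)
    rcases hval p h5 (cnt_ne_zero_of_prime hp hd) with e | e <;> rw [e] at h1 h4
    · have h6 := Nat.le_of_dvd (by norm_num) h1
      interval_cases p <;> first | omega | exact absurd hp (by norm_num) | (exfalso; norm_num at h4; done) | (exfalso; norm_num at h1; done) | exact Or.inl ⟨rfl, e⟩
    · have h6 := Nat.le_of_dvd (by norm_num) h1
      interval_cases p <;> first | omega | exact absurd hp (by norm_num) | (exfalso; norm_num at h4; done) | (exfalso; norm_num at h1; done) | exact Or.inr ⟨rfl, e⟩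
  have hprimes : ∀ p : ℕ, p.Prime → p ∣ Nat.card G → p = 2 ∨ p = 3 ∨ p = 5 := by
    intro p hp hd
    by_cases h5 : 2 < p
    · rcases hsmall p hp hd h5 with h | h <;> omega
    · have := hp.two_le; omega
  have h3v : 3 ∣ Nat.card G → cnt G 3 = 20 := fun hd => by
    rcases hsmall 3 (by norm_num) hd (by norm_num) with h | h
    · exact h.2
    · omega
  have h5v : 5 ∣ Nat.card G → cnt G 5 = 24 := fun hd => by
    rcases hsmall 5 (by norm_num) hd (by norm_num) with h | h
    · omega
    · exact h.2
  -- no prime powers beyond 16, 9 and 5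
  have h32 : cnt G 32 = 0 := by
    have := htot 32 16 (by decide)
    have := hval' 32 (by norm_num)
    omega
  have h27 : cnt G 27 = 0 := by
    have := htot 27 18 (by decide)
    have := hval' 27 (by norm_num)
    omega
  have h25 : cnt G 25 = 0 := by
    by_contra h0
    have hf := frob (n := 25) (dvd_card_of_cnt h0) (s := {1, 5, 25}) (by decide)
    have h5 := h5v ((by norm_num : 5 ∣ 25).trans (dvd_card_of_cnt h0))
    have := htot 25 20 (by decide)
    rw [Finset.sum_insert (by decide), Finset.sum_insert (by decide), Finset.sum_singleton, cnt_one, h5] at hf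
    rcases hval 25 (by norm_num) h0 with e | e <;> omega
  have h9v : cnt G 9 = 0 ∨ cnt G 9 = 24 := by
    have := htot 9 6 (by decide)
    have := hval' 9 (by norm_num)
    omega
  have h16v : cnt G 16 = 0 ∨ cnt G 16 = 24 := by
    have := htot 16 8 (by decide)
    have := hval' 16 (by norm_num)
    omega
  have hdvd : ∀ x : G, orderOf x ∣ 720 := by
    intro x
    have h0 := cnt_ne_zero (x := x) rfl
    refine dvd_of_prime_pow_bounds (orderOf_pos x).ne' fun p k hp hpk => ?_
    rcases Nat.eq_zero_or_pos k with rfl | hk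
    · simp
    rcases hprimes p hp (((dvd_pow_self p hk.ne').trans hpk).trans (orderOf_dvd_natCard x)) with rfl | rfl | rfl
    · have : k ≤ 4 := by
        by_contra hc
        exact cnt_dvd_ne_zero h0 ((pow_dvd_pow 2 (by omega : 5 ≤ k)).trans hpk) h32
      interval_cases k <;> norm_num
    · have : k ≤ 2 := by
        by_contra hc
        exact cnt_dvd_ne_zero h0 ((pow_dvd_pow 3 (by omega : 3 ≤ k)).trans hpk) h27
      interval_cases k <;> norm_num
    · have : k ≤ 1 := by
        by_contra hc
        exact cnt_dvd_ne_zero h0 ((pow_dvd_pow 5 (by omega : 2 ≤ k)).trans hpk) h25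
      interval_cases k; norm_num
  have h6v : cnt G 6 = 0 ∨ cnt G 6 = 24 := by
    rcases hval' 6 (by norm_num) with e | e
    · exact Or.inl e
    have h0 : cnt G 6 ≠ 0 := by omega
    have hf := frob (n := 6) (dvd_card_of_cnt h0) (s := {1, 2, 3, 6}) (by decide)
    have h3 := h3v ((by norm_num : 3 ∣ 6).trans (dvd_card_of_cnt h0))
    rw [Finset.sum_insert (by decide), Finset.sum_insert (by decide), Finset.sum_insert (by decide),
      Finset.sum_singleton, cnt_one, h2, h3] at hf
    omega
  have h15 : cnt G 15 = 0 := by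
    by_contra h0
    have hf := frob (n := 15) (dvd_card_of_cnt h0) (s := {1, 3, 5, 15}) (by decide)
    have h3 := h3v ((by norm_num : 3 ∣ 15).trans (dvd_card_of_cnt h0))
    have h5 := h5v ((by norm_num : 5 ∣ 15).trans (dvd_card_of_cnt h0))
    have := htot 15 8 (by decide)
    rw [Finset.sum_insert (by decide), Finset.sum_insert (by decide), Finset.sum_insert (by decide),
      Finset.sum_singleton, cnt_one, h3, h5] at hf
    rcases hval 15 (by norm_num) h0 with e | e <;> omega
  have hz : ∀ {m n : ℕ}, cnt G m = 0 → m ∣ n → cnt G n = 0 := fun {m n} hm hd => by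
    by_contra h0
    exact cnt_dvd_ne_zero h0 hd hm
  by_cases h5 : 5 ∣ Nat.card G
  · have c5 := h5v h5
    have h9 : cnt G 9 = 0 := by
      by_contra h0
      have := dvd_cnt_of_no_mul (m := 9) (q := 5) (by norm_num) h5 (by norm_num) (hz h15 (by norm_num))
      omega
    have h6 : cnt G 6 = 0 := by
      by_contra h0
      have := dvd_cnt_of_no_mul (m := 6) (q := 5) (by norm_num) h5 (by norm_num) (hz h15 (by norm_num))
      omega
    have h10v : cnt G 10 = 0 ∨ cnt G 10 = 20 := by
      rcases hval' 10 (by norm_num) with e | e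
      · exact Or.inl e
      have h0 : cnt G 10 ≠ 0 := by omega
      have hf := frob (n := 10) (dvd_card_of_cnt h0) (s := {1, 2, 5, 10}) (by decide)
      rw [Finset.sum_insert (by decide), Finset.sum_insert (by decide), Finset.sum_insert (by decide),
        Finset.sum_singleton, cnt_one, h2, c5] at hf
      omega
    have h20 : cnt G 20 = 0 := by
      by_contra h0
      have hf := frob (n := 20) (dvd_card_of_cnt h0) (s := {1, 2, 4, 5, 10, 20}) (by decide)
      have := htot 20 8 (by decide)
      have := cnt_dvd_ne_zero h0 (show 4 ∣ 20 by norm_num)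
      have := cnt_dvd_ne_zero h0 (show 10 ∣ 20 by norm_num)
      have := hval' 4 (by norm_num)
      have := hval' 20 (by norm_num)
      rw [Finset.sum_insert (by decide), Finset.sum_insert (by decide), Finset.sum_insert (by decide),
        Finset.sum_insert (by decide), Finset.sum_insert (by decide),
        Finset.sum_singleton, cnt_one, h2, c5] at hf
      omega
    have h16 : cnt G 16 = 0 := by
      by_contra h0
      have := dvd_cnt_of_no_mul (m := 16) (q := 5) (by norm_num) h5 (by norm_num) (hz h20 (by norm_num))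
      omega
    have h4v : cnt G 4 = 0 ∨ cnt G 4 = 20 := by
      have := dvd_cnt_of_no_mul (m := 4) (q := 5) (by norm_num) h5 (by norm_num) h20
      have := hval' 4 (by norm_num)
      omega
    have h8v : cnt G 8 = 0 ∨ cnt G 8 = 20 := by
      have := dvd_cnt_of_no_mul (m := 8) (q := 5) (by norm_num) h5 (by norm_num) (hz h20 (by norm_num))
      have := hval' 8 (by norm_num)
      omega
    have hord : ∀ x : G, orderOf x ∈ ({1, 2, 3, 4, 5, 8, 10} : Finset ℕ) := by
      intro x
      have h0 := cnt_ne_zero (x := x) rfl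
      have n9 : ¬ 9 ∣ orderOf x := fun hd => cnt_dvd_ne_zero h0 hd h9
      have n6 : ¬ 6 ∣ orderOf x := fun hd => cnt_dvd_ne_zero h0 hd h6
      have n15 : ¬ 15 ∣ orderOf x := fun hd => cnt_dvd_ne_zero h0 hd h15
      have n20 : ¬ 20 ∣ orderOf x := fun hd => cnt_dvd_ne_zero h0 hd h20
      have n16 : ¬ 16 ∣ orderOf x := fun hd => cnt_dvd_ne_zero h0 hd h16
      have hm : orderOf x ∈ Nat.divisors 720 := Nat.mem_divisors.2 ⟨hdvd x, by norm_num⟩
      revert n9 n6 n15 n20 n16
      revert hm
      generalize orderOf x = m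
      decide +kernel +revert
    by_cases h3 : 3 ∣ Nat.card G
    · have c3 := h3v h3
      have h4 : cnt G 4 = 0 := by
        have := dvd_cnt_of_no_mul (m := 4) (q := 3) (by norm_num) h3 (by norm_num) (hz h6 (by norm_num))
        omega
      have h10 : cnt G 10 = 0 := by
        have := dvd_cnt_of_no_mul (m := 10) (q := 3) (by norm_num) h3 (by norm_num) (hz h15 (by norm_num))
        omega
      have h8 : cnt G 8 = 0 := hz h4 (by norm_num)
      have hc := sum_cnt_eq hord
      rw [Finset.sum_insert (by decide), Finset.sum_insert (by decide), Finset.sum_insert (by decide),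
        Finset.sum_insert (by decide), Finset.sum_insert (by decide), Finset.sum_insert (by decide),
        Finset.sum_singleton, cnt_one, h2, c3, h4, c5, h8, h10] at hc
      refine CfsgLib.Classical.Dickson.alt_five_of (G := G) hc.symm (fun a b ha hb hab => ?_) fun a b ha hb hab => ?_
      · exact cnt_ne_zero (x := a * b) (by
          rw [hab.orderOf_mul_eq_mul_orderOf_of_coprime (by rw [ha, hb]; norm_num), ha, hb]) h10
      · exact cnt_ne_zero (x := a * b) (by
          rw [hab.orderOf_mul_eq_mul_orderOf_of_coprime (by rw [ha, hb]; norm_num), ha, hb]) h15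
    · exfalso
      have h3z : cnt G 3 = 0 := cnt_zero_of_not_dvd h3
      have := Fact.mk (show Nat.Prime 5 by norm_num)
      obtain ⟨P⟩ : Nonempty (Sylow 5 G) := inferInstance
      have hP := sylow_dvd_sum (e := 1) P (by norm_num; exact h25)
      rw [show (Finset.range (1 + 1)).image (5 ^ ·) = ({1, 5} : Finset ℕ) by decide,
        Finset.sum_pair (by norm_num), cnt_one, c5] at hP
      have hc := sum_cnt_eq hord
      rw [Finset.sum_insert (by decide), Finset.sum_insert (by decide), Finset.sum_insert (by decide),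
        Finset.sum_insert (by decide), Finset.sum_insert (by decide), Finset.sum_insert (by decide),
        Finset.sum_singleton, cnt_one, h2, h3z, c5] at hc
      obtain ⟨k, hk⟩ := IsPGroup.iff_card.1 P.2
      have hk2 : k ≤ 2 := by
        have h8 := Nat.le_of_dvd (by norm_num) hP
        by_contra hc'
        have : 5 ^ 3 ≤ 5 ^ k := Nat.pow_le_pow_right (by norm_num) (by omega)
        omega
      have hk1 : k ≠ 0 := by
        rintro rfl
        have := P.dvd_card_of_dvd_card h5
        rw [hk, pow_zero, Nat.dvd_one] at this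
        norm_num at this
      interval_cases k
      · exact absurd rfl hk1
      · obtain ⟨n, hn, hn'⟩ := cnt_prime_of_cyclic h5 P (isCyclic_sylow_of P hk (Or.inl le_rfl))
        have : n = 6 := by omega
        subst this
        exact h3 ((by norm_num : 3 ∣ 6).trans hn)
      · have h100 : 25 ∣ Nat.card G := by
          have := Subgroup.card_subgroup_dvd_card (P : Subgroup G)
          rwa [hk] at this
        have h8d : cnt G 8 = 0 ∨ 8 ∣ Nat.card G := or_iff_not_imp_left.2 dvd_card_of_cnt
        have h12 : ¬ 3 ∣ Nat.card G := h3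
        omega
  · exfalso
    have h5z : cnt G 5 = 0 := cnt_zero_of_not_dvd h5
    by_cases h3 : 3 ∣ Nat.card G
    · have c3 := h3v h3
      have := Fact.mk (show Nat.Prime 3 by norm_num)
      obtain ⟨P⟩ : Nonempty (Sylow 3 G) := inferInstance
      obtain ⟨k, hk⟩ := IsPGroup.iff_card.1 P.2
      have hcyc : IsCyclic (P : Subgroup G) := by
        rcases h9v with h9 | h9
        · have hP := sylow_dvd_sum (e := 1) P (by norm_num; exact h9)
          rw [show (Finset.range (1 + 1)).image (3 ^ ·) = ({1, 3} : Finset ℕ) by decide,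
            Finset.sum_pair (by norm_num), cnt_one, c3, hk] at hP
          refine isCyclic_sylow_of P hk (Or.inl ?_)
          by_contra hc
          have := (pow_dvd_pow 3 (by omega : 2 ≤ k)).trans hP
          norm_num at this
        · have hP := sylow_dvd_sum (e := 2) P (by norm_num; exact h27)
          rw [show (Finset.range (2 + 1)).image (3 ^ ·) = ({1, 3, 9} : Finset ℕ) by decide,
            Finset.sum_insert (by decide), Finset.sum_pair (by norm_num), cnt_one, c3, h9, hk] at hP
          have h9d : 9 ∣ Nat.card (P : Subgroup G) := by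
            have hd : 3 ^ 2 ∣ Nat.card G := dvd_card_of_cnt (show cnt G 9 ≠ 0 by omega)
            exact P.pow_dvd_card_of_pow_dvd_card hd
          rw [hk, show (9 : ℕ) = 3 ^ 2 by norm_num, Nat.pow_dvd_pow_iff_le_right (by norm_num)] at h9d
          have hk2 : k ≤ 2 := by
            by_contra hc
            have := (pow_dvd_pow 3 (by omega : 3 ≤ k)).trans hP
            norm_num at this
          obtain rfl : k = 2 := by omega
          exact isCyclic_sylow_of P hk (Or.inr (by norm_num; omega))
      obtain ⟨n, hn, hn'⟩ := cnt_prime_of_cyclic h3 P hcyc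
      have : n = 10 := by omega
      subst this
      exact h5 ((by norm_num : 5 ∣ 10).trans hn)
    · -- a two-group
      have hord : ∀ x : G, orderOf x ∈ ({1, 2, 4, 8, 16} : Finset ℕ) := by
        intro x
        have n3 : ¬ 3 ∣ orderOf x := fun hd => h3 (hd.trans (orderOf_dvd_natCard x))
        have n5 : ¬ 5 ∣ orderOf x := fun hd => h5 (hd.trans (orderOf_dvd_natCard x))
        have hm : orderOf x ∈ Nat.divisors 720 := Nat.mem_divisors.2 ⟨hdvd x, by norm_num⟩
        revert n3 n5
        revert hm
        generalize orderOf x = m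
        decide +kernel +revert
      have h20m : ∀ v ∈ ({20, 24} : Finset ℕ), cnt G 4 = v ∨ cnt G 8 = v ∨ cnt G 16 = v := by
        intro v hv
        simp only [Finset.mem_insert, Finset.mem_singleton] at hv
        obtain ⟨m, hm⟩ := h.attained v (by simp; omega)
        obtain ⟨x, hx⟩ := exists_of_cnt (G := G) (m := m) (by omega)
        have hmem := hord x
        rw [hx] at hmem
        simp only [Finset.mem_insert, Finset.mem_singleton] at hmem
        rcases hmem with rfl | rfl | rfl | rfl | rfl
        · rw [cnt_one] at hm; omega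
        · omega
        · exact Or.inl hm
        · exact Or.inr (Or.inl hm)
        · exact Or.inr (Or.inr hm)
      have hc := sum_cnt_eq hord
      rw [Finset.sum_insert (by decide), Finset.sum_insert (by decide), Finset.sum_insert (by decide),
        Finset.sum_insert (by decide), Finset.sum_singleton, cnt_one, h2] at hc
      have := h20m 20 (by simp)
      have := h20m 24 (by simp)
      have := hval' 4 (by norm_num)
      have := hval' 8 (by norm_num)
      have hpow : ∃ a, Nat.card G = 2 ^ a := ⟨_, Nat.eq_prime_pow_of_unique_prime_dvd Nat.card_pos.ne'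
        fun {q} hq hqd => by
          rcases hprimes q hq hqd with h | h | h
          · exact h
          · subst h; exact absurd hqd h3
          · subst h; exact absurd hqd h5⟩
      obtain ⟨a, ha⟩ := hpow
      have hle : a ≤ 6 := by
        by_contra hc'
        have : 2 ^ 7 ≤ 2 ^ a := Nat.pow_le_pow_right (by norm_num) (by omega)
        omega
      interval_cases a <;> omega

/-! ### Degree six -/

theorem card_six (h : Hyp G {1, 45, 80, 90, 144}) :
    Nat.card G = 360 ∧ cnt G 3 = 80 ∧ cnt G 5 = 144 ∧
      (∀ x : G, orderOf x ∈ ({1, 2, 3, 4, 5} : Finset ℕ)) := by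
  have h2 : cnt G 2 = 45 := two_part h (by simp) (by norm_num) (by norm_num)
  have hval : ∀ m, 2 < m → cnt G m ≠ 0 → cnt G m = 80 ∨ cnt G m = 90 ∨ cnt G m = 144 := by
    intro m hm h0
    obtain ⟨h1, h3, -⟩ := big_cases h hm h0
    simp only [Finset.mem_insert, Finset.mem_singleton] at h1
    omega
  have hval' : ∀ m, 2 < m → cnt G m = 0 ∨ cnt G m = 80 ∨ cnt G m = 90 ∨ cnt G m = 144 := fun m hm =>
    or_iff_not_imp_left.2 (hval m hm)
  have htot : ∀ m t : ℕ, m.totient = t → t ∣ cnt G m := fun m t ht => ht ▸ totient_dvd_cnt m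
  have hsmall : ∀ p : ℕ, p.Prime → p ∣ Nat.card G → 2 < p →
      (p = 3 ∧ cnt G p = 80) ∨ (p = 5 ∧ cnt G p = 144) ∨ (p = 7 ∧ cnt G p = 90) := by
    intro p hp hd h5
    have h1 := dvd_one_add hp hd
    have h4 := htot p _ (Nat.totient_prime hp)
    rcases hval p h5 (cnt_ne_zero_of_prime hp hd) with e | e | e <;> rw [e] at h1 h4
    · have h6 := Nat.le_of_dvd (by norm_num) h1
      interval_cases p <;> first | omega | exact absurd hp (by norm_num) | (exfalso; norm_num at h4; done) | (exfalso; norm_num at h1; done) | exact Or.inl ⟨rfl, e⟩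
    · have h6 := Nat.le_of_dvd (by norm_num) h1
      interval_cases p <;> first | omega | exact absurd hp (by norm_num) | (exfalso; norm_num at h4; done) | (exfalso; norm_num at h1; done) | exact Or.inr (Or.inr ⟨rfl, e⟩)
    · have h6 := Nat.le_of_dvd (by norm_num) h1
      interval_cases p <;> first | omega | exact absurd hp (by norm_num) | (exfalso; norm_num at h4; done) | (exfalso; norm_num at h1; done) | exact Or.inr (Or.inl ⟨rfl, e⟩)
  have h3v : 3 ∣ Nat.card G → cnt G 3 = 80 := fun hd => by
    rcases hsmall 3 (by norm_num) hd (by norm_num) with h | h | h <;> first | exact h.2 | omega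
  have h5v : 5 ∣ Nat.card G → cnt G 5 = 144 := fun hd => by
    rcases hsmall 5 (by norm_num) hd (by norm_num) with h | h | h <;> first | exact h.2 | omega
  have hz : ∀ {m n : ℕ}, cnt G m = 0 → m ∣ n → cnt G n = 0 := fun {m n} hm hd => by
    by_contra h0
    exact cnt_dvd_ne_zero h0 hd hm
  have h4v : cnt G 4 = 0 ∨ cnt G 4 = 90 := by
    rcases hval' 4 (by norm_num) with e | e
    · exact Or.inl e
    have h0 : cnt G 4 ≠ 0 := by omega
    have hf := frob (n := 4) (dvd_card_of_cnt h0) (s := {1, 2, 4}) (by decide)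
    rw [Finset.sum_insert (by decide), Finset.sum_pair (by decide), cnt_one, h2] at hf
    omega
  have h8v : cnt G 8 = 0 ∨ cnt G 8 = 80 ∨ cnt G 8 = 144 := by
    have := htot 8 4 (by decide)
    have := hval' 8 (by norm_num)
    omega
  have h16 : cnt G 16 = 0 := by
    by_contra h0
    have hf := frob (n := 16) (dvd_card_of_cnt h0) (s := {1, 2, 4, 8, 16}) (by decide)
    have := cnt_dvd_ne_zero h0 (show 4 ∣ 16 by norm_num)
    have := cnt_dvd_ne_zero h0 (show 8 ∣ 16 by norm_num)
    have := htot 16 8 (by decide)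
    have := hval' 16 (by norm_num)
    rw [Finset.sum_insert (by decide), Finset.sum_insert (by decide), Finset.sum_insert (by decide),
      Finset.sum_pair (by decide), cnt_one, h2] at hf
    omega
  have h9v : cnt G 9 = 0 ∨ cnt G 9 = 90 ∨ cnt G 9 = 144 := by
    have := htot 9 6 (by decide)
    have := hval' 9 (by norm_num)
    omega
  have h27 : cnt G 27 = 0 := by
    by_contra h0
    have hf := frob (n := 27) (dvd_card_of_cnt h0) (s := {1, 3, 9, 27}) (by decide)
    have := cnt_dvd_ne_zero h0 (show 9 ∣ 27 by norm_num)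
    have := htot 27 18 (by decide)
    have := hval' 27 (by norm_num)
    rw [Finset.sum_insert (by decide), Finset.sum_insert (by decide),
      Finset.sum_pair (by decide), cnt_one, h3v ((by norm_num : 3 ∣ 27).trans (dvd_card_of_cnt h0))] at hf
    omega
  have h125 : cnt G 125 = 0 := by
    have := htot 125 100 (by decide)
    have := hval' 125 (by norm_num)
    omega
  have h25v : cnt G 25 = 0 ∨ cnt G 25 = 80 := by
    have := htot 25 20 (by decide)
    have := hval' 25 (by norm_num)
    omega
  have h49 : cnt G 49 = 0 := by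
    have := htot 49 42 (by decide)
    have := hval' 49 (by norm_num)
    omega
  have := Fact.mk (show Nat.Prime 2 by norm_num)
  have := Fact.mk (show Nat.Prime 3 by norm_num)
  have := Fact.mk (show Nat.Prime 5 by norm_num)
  have := Fact.mk (show Nat.Prime 7 by norm_num)
  -- Sylow orders
  obtain ⟨P2⟩ : Nonempty (Sylow 2 G) := inferInstance
  obtain ⟨a, ha⟩ := IsPGroup.iff_card.1 P2.2
  have hP2 := sylow_dvd_sum (e := 3) P2 (by norm_num; exact h16)
  rw [show (Finset.range (3 + 1)).image (2 ^ ·) = ({1, 2, 4, 8} : Finset ℕ) by decide,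
    Finset.sum_insert (by decide), Finset.sum_insert (by decide), Finset.sum_pair (by decide),
    cnt_one, h2, ha] at hP2
  have h84 : cnt G 8 = 0 ∨ cnt G 4 ≠ 0 :=
    or_iff_not_imp_left.2 fun h0 => cnt_dvd_ne_zero h0 (by norm_num)
  have ha3 : a ≤ 3 := by
    by_contra hc
    have := (pow_dvd_pow 2 (by omega : 4 ≤ a)).trans hP2
    rcases h4v with e4 | e4 <;> rcases h8v with e8 | e8 | e8 <;> rw [e4, e8] at this <;>
      first | omega | norm_num at this
  -- seven
  have h7 : ¬ 7 ∣ Nat.card G := by
    intro hd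
    have c7 : cnt G 7 = 90 := by
      rcases hsmall 7 (by norm_num) hd (by norm_num) with h | h | h <;> omega
    obtain ⟨P⟩ : Nonempty (Sylow 7 G) := inferInstance
    obtain ⟨k, hk⟩ := IsPGroup.iff_card.1 P.2
    have hP := sylow_dvd_sum (e := 1) P (by norm_num; exact h49)
    rw [show (Finset.range (1 + 1)).image (7 ^ ·) = ({1, 7} : Finset ℕ) by decide,
      Finset.sum_pair (by norm_num), cnt_one, c7, hk] at hP
    have hk1 : k ≤ 1 := by
      by_contra hc
      have := (pow_dvd_pow 7 (by omega : 2 ≤ k)).trans hP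
      norm_num at this
    obtain ⟨n, hn, hn'⟩ := cnt_prime_of_cyclic hd P (isCyclic_sylow_of P hk (Or.inl hk1))
    have : n = 15 := by omega
    subst this
    have h5 : 5 ∣ Nat.card G := (by norm_num : 5 ∣ 15).trans hn
    have h35 : cnt G 35 = 0 := by
      by_contra h0
      have hf := frob (n := 35) (dvd_card_of_cnt h0) (s := {1, 5, 7, 35}) (by decide)
      have := htot 35 24 (by decide)
      have := hval' 35 (by norm_num)
      rw [Finset.sum_insert (by decide), Finset.sum_insert (by decide),
        Finset.sum_pair (by decide), cnt_one, h5v h5, c7] at hf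
      omega
    have := dvd_cnt_of_no_mul (m := 5) (q := 7) (by norm_num) hd (by norm_num) h35
    rw [h5v h5] at this
    omega
  have hprimes : ∀ p : ℕ, p.Prime → p ∣ Nat.card G → p = 2 ∨ p = 3 ∨ p = 5 := by
    intro p hp hd
    by_cases h5 : 2 < p
    · rcases hsmall p hp hd h5 with h | h | h
      · omega
      · omega
      · rw [h.1] at hd; exact absurd hd h7
    · have := hp.two_le; omega
  obtain ⟨P3⟩ : Nonempty (Sylow 3 G) := inferInstance
  obtain ⟨b, hb⟩ := IsPGroup.iff_card.1 P3.2
  obtain ⟨P5⟩ : Nonempty (Sylow 5 G) := inferInstance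
  obtain ⟨c, hc5⟩ := IsPGroup.iff_card.1 P5.2
  have hP3 := sylow_dvd_sum (e := 2) P3 (by norm_num; exact h27)
  rw [show (Finset.range (2 + 1)).image (3 ^ ·) = ({1, 3, 9} : Finset ℕ) by decide,
    Finset.sum_insert (by decide), Finset.sum_pair (by decide), cnt_one, hb] at hP3
  have hP5 := sylow_dvd_sum (e := 2) P5 (by norm_num; exact h125)
  rw [show (Finset.range (2 + 1)).image (5 ^ ·) = ({1, 5, 25} : Finset ℕ) by decide,
    Finset.sum_insert (by decide), Finset.sum_pair (by decide), cnt_one, hc5] at hP5
  have hb4 : b ≤ 4 ∧ (cnt G 9 ≠ 0 → b ≤ 2) := by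
    by_cases h3 : 3 ∣ Nat.card G
    · rw [h3v h3] at hP3
      constructor
      · by_contra hc
        have := (pow_dvd_pow 3 (by omega : 5 ≤ b)).trans hP3
        rcases h9v with e | e | e <;> rw [e] at this <;> norm_num at this
      · intro h0
        by_contra hc
        have := (pow_dvd_pow 3 (by omega : 3 ≤ b)).trans hP3
        rcases h9v with e | e | e <;> rw [e] at this <;> first | omega | norm_num at this
    · have hb0 : b = 0 := by
        by_contra hne
        exact h3 (((dvd_pow_self 3 hne).trans hb.symm.dvd).trans (Subgroup.card_subgroup_dvd_card _))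
      exact ⟨by omega, fun _ => by omega⟩
  -- the order
  have hcard : Nat.card G = 2 ^ a * 3 ^ b * 5 ^ c := by
    have e2 := P2.card_eq_multiplicity
    have e3 := P3.card_eq_multiplicity
    have e5 := P5.card_eq_multiplicity
    rw [ha] at e2
    rw [hb] at e3
    rw [hc5] at e5
    rw [e2, e3, e5]
    conv_lhs => rw [← Nat.prod_factorization_pow_eq_self (Nat.card_pos (α := G)).ne']
    rw [Finsupp.prod_of_support_subset _ (s := ({2, 3, 5} : Finset ℕ)) ?_ _ (by simp)]
    · rw [Finset.prod_insert (by decide), Finset.prod_pair (by decide), mul_assoc]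
    · intro p hp
      rw [Nat.support_factorization, Nat.mem_primeFactors] at hp
      rcases hprimes p hp.1 hp.2.1 with rfl | rfl | rfl <;> simp
  have hdvd : ∀ x : G, orderOf x ∣ 1800 := by
    intro x
    have h0 := cnt_ne_zero (x := x) rfl
    refine dvd_of_prime_pow_bounds (orderOf_pos x).ne' fun p k hp hpk => ?_
    rcases Nat.eq_zero_or_pos k with rfl | hk
    · simp
    rcases hprimes p hp (((dvd_pow_self p hk.ne').trans hpk).trans (orderOf_dvd_natCard x)) with rfl | rfl | rfl
    · have : k ≤ 3 := by
        by_contra hc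
        exact cnt_dvd_ne_zero h0 ((pow_dvd_pow 2 (by omega : 4 ≤ k)).trans hpk) h16
      interval_cases k <;> norm_num
    · have : k ≤ 2 := by
        by_contra hc
        exact cnt_dvd_ne_zero h0 ((pow_dvd_pow 3 (by omega : 3 ≤ k)).trans hpk) h27
      interval_cases k <;> norm_num
    · have : k ≤ 2 := by
        by_contra hc
        exact cnt_dvd_ne_zero h0 ((pow_dvd_pow 5 (by omega : 3 ≤ k)).trans hpk) h125
      interval_cases k <;> norm_num
  by_cases h5 : 5 ∣ Nat.card G
  · have c5 := h5v h5
    rw [c5] at hP5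
    have hc1 : c ≠ 0 := by
      rintro rfl
      have := P5.dvd_card_of_dvd_card h5
      rw [hc5, pow_zero, Nat.dvd_one] at this
      norm_num at this
    have hc2 : c ≤ 2 ∧ (cnt G 25 = 0 → c = 1) := by
      constructor
      · by_contra hc
        have := (pow_dvd_pow 5 (by omega : 3 ≤ c)).trans hP5
        rcases h25v with e | e <;> rw [e] at this <;> norm_num at this
      · intro h0
        rw [h0] at hP5
        by_contra hc
        have := (pow_dvd_pow 5 (by omega : 2 ≤ c)).trans hP5
        norm_num at this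
    have hcyc : IsCyclic (P5 : Subgroup G) := by
      rcases Nat.lt_or_ge c 2 with hlt | hge
      · exact isCyclic_sylow_of P5 hc5 (Or.inl (by omega))
      · obtain rfl : c = 2 := by omega
        exact isCyclic_sylow_of P5 hc5 (Or.inr fun h0 => by have := hc2.2 (by simpa using h0); omega)
    obtain ⟨n, hn, hn'⟩ := cnt_prime_of_cyclic h5 P5 hcyc
    have : n = 36 := by omega
    subst this
    have h3 : 3 ∣ Nat.card G := (by norm_num : 3 ∣ 36).trans hn
    have c3 := h3v h3
    have h15 : cnt G 15 = 0 := by
      by_contra h0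
      have hf := frob (n := 15) (dvd_card_of_cnt h0) (s := {1, 3, 5, 15}) (by decide)
      have := htot 15 8 (by decide)
      have := hval' 15 (by norm_num)
      rw [Finset.sum_insert (by decide), Finset.sum_insert (by decide), Finset.sum_pair (by decide),
        cnt_one, c3, c5] at hf
      omega
    have d3 : ∀ m, Nat.Coprime m 3 → 5 ∣ m → 3 ∣ cnt G m := fun m hm h5m =>
      dvd_cnt_of_no_mul (by norm_num) h3 hm (hz h15 (Nat.Coprime.mul_dvd_of_dvd_of_dvd
        (by norm_num : Nat.Coprime 3 5) (dvd_mul_left 3 m) (h5m.trans (dvd_mul_right m 3))))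
    have d5 : ∀ m, Nat.Coprime m 5 → 3 ∣ m → 5 ∣ cnt G m := fun m hm h3m =>
      dvd_cnt_of_no_mul (by norm_num) h5 hm (hz h15 (Nat.Coprime.mul_dvd_of_dvd_of_dvd
        (by norm_num : Nat.Coprime 3 5) (h3m.trans (dvd_mul_right m 5)) (dvd_mul_left 5 m)))
    have h25 : cnt G 25 = 0 := by
      have := d3 25 (by norm_num) (by norm_num)
      omega
    have h6v : cnt G 6 = 0 ∨ cnt G 6 = 90 := by
      rcases hval' 6 (by norm_num) with e | e
      · exact Or.inl e
      have h0 : cnt G 6 ≠ 0 := by omega
      have hf := frob (n := 6) (dvd_card_of_cnt h0) (s := {1, 2, 3, 6}) (by decide)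
      have := d5 6 (by norm_num) (by norm_num)
      rw [Finset.sum_insert (by decide), Finset.sum_insert (by decide), Finset.sum_pair (by decide),
        cnt_one, h2, c3] at hf
      omega
    have h10 : cnt G 10 = 0 := by
      by_contra h0
      have hf := frob (n := 10) (dvd_card_of_cnt h0) (s := {1, 2, 5, 10}) (by decide)
      have := d3 10 (by norm_num) (by norm_num)
      have := htot 10 4 (by decide)
      have := hval' 10 (by norm_num)
      rw [Finset.sum_insert (by decide), Finset.sum_insert (by decide), Finset.sum_pair (by decide),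
        cnt_one, h2, c5] at hf
      omega
    have h12 : cnt G 12 = 0 := by
      by_contra h0
      have hf := frob (n := 12) (dvd_card_of_cnt h0) (s := {1, 2, 3, 4, 6, 12}) (by decide)
      have := d5 12 (by norm_num) (by norm_num)
      have := htot 12 4 (by decide)
      have := hval' 12 (by norm_num)
      have := cnt_dvd_ne_zero h0 (show 4 ∣ 12 by norm_num)
      have := cnt_dvd_ne_zero h0 (show 6 ∣ 12 by norm_num)
      rw [Finset.sum_insert (by decide), Finset.sum_insert (by decide), Finset.sum_insert (by decide),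
        Finset.sum_insert (by decide), Finset.sum_pair (by decide), cnt_one, h2, c3] at hf
      omega
    have h8 : cnt G 8 = 0 := by
      have e1 := dvd_cnt_of_no_mul (m := 8) (q := 5) (by norm_num) h5 (by norm_num) (hz h10 (by norm_num))
      have e2 := dvd_cnt_of_no_mul (m := 8) (q := 3) (by norm_num) h3 (by norm_num) (hz h12 (by norm_num))
      omega
    have h9' : cnt G 9 = 0 ∨ cnt G 9 = 90 := by
      have := d5 9 (by norm_num) (by norm_num)
      omega
    have h18v : cnt G 18 = 0 ∨ cnt G 18 = 90 := by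
      have := d5 18 (by norm_num) (by norm_num)
      have := htot 18 6 (by decide)
      have := hval' 18 (by norm_num)
      omega
    have hord : ∀ x : G, orderOf x ∈ ({1, 2, 3, 4, 5, 6, 9, 18} : Finset ℕ) := by
      intro x
      have h0 := cnt_ne_zero (x := x) rfl
      have n15 : ¬ 15 ∣ orderOf x := fun hd => cnt_dvd_ne_zero h0 hd h15
      have n25 : ¬ 25 ∣ orderOf x := fun hd => cnt_dvd_ne_zero h0 hd h25
      have n10 : ¬ 10 ∣ orderOf x := fun hd => cnt_dvd_ne_zero h0 hd h10
      have n12 : ¬ 12 ∣ orderOf x := fun hd => cnt_dvd_ne_zero h0 hd h12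
      have n8 : ¬ 8 ∣ orderOf x := fun hd => cnt_dvd_ne_zero h0 hd h8
      have hm : orderOf x ∈ Nat.divisors 1800 := Nat.mem_divisors.2 ⟨hdvd x, by norm_num⟩
      revert n15 n25 n10 n12 n8
      revert hm
      generalize orderOf x = m
      decide +kernel +revert
    have hc := sum_cnt_eq hord
    rw [Finset.sum_insert (by decide), Finset.sum_insert (by decide), Finset.sum_insert (by decide),
      Finset.sum_insert (by decide), Finset.sum_insert (by decide), Finset.sum_insert (by decide),
      Finset.sum_pair (by decide), cnt_one, h2, c3, c5] at hc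
    have hceq : c = 1 := hc2.2 h25
    subst hceq
    have ha2 : 2 ≤ a := by
      have h1 : 2 ^ 2 ∣ Nat.card (P2 : Subgroup G) :=
        P2.pow_dvd_card_of_pow_dvd_card ((by norm_num : (2 : ℕ) ^ 2 ∣ 36).trans hn)
      rwa [ha, Nat.pow_dvd_pow_iff_le_right (by norm_num)] at h1
    have hb2 : 2 ≤ b := by
      have h1 : 3 ^ 2 ∣ Nat.card (P3 : Subgroup G) :=
        P3.pow_dvd_card_of_pow_dvd_card ((by norm_num : (3 : ℕ) ^ 2 ∣ 36).trans hn)
      rwa [hb, Nat.pow_dvd_pow_iff_le_right (by norm_num)] at h1
    have h4 : cnt G 4 = 90 := by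
      rcases h4v with e | e
      · exfalso
        rw [e, h8] at hP2
        have := (pow_dvd_pow 2 ha2).trans hP2
        norm_num at this
      · exact e
    have h18' : cnt G 18 = 0 ∨ (cnt G 9 ≠ 0 ∧ cnt G 6 ≠ 0) := or_iff_not_imp_left.2 fun h0 =>
      ⟨cnt_dvd_ne_zero h0 (by norm_num), cnt_dvd_ne_zero h0 (by norm_num)⟩
    obtain ⟨hb4', hb9⟩ := hb4
    have key : cnt G 6 = 0 ∧ cnt G 9 = 0 ∧ cnt G 18 = 0 ∧ Nat.card G = 360 := by
      rcases Classical.em (cnt G 9 = 0) with e9 | e9
      · interval_cases a <;> interval_cases b <;> omega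
      · have := hb9 e9
        interval_cases a <;> interval_cases b <;> omega
    refine ⟨key.2.2.2, c3, c5, fun x => ?_⟩
    have h0 := cnt_ne_zero (x := x) rfl
    have := hord x
    simp only [Finset.mem_insert, Finset.mem_singleton] at this ⊢
    rcases this with e | e | e | e | e | e | e | e <;> rw [e] at h0 <;> simp_all
  · exfalso
    have hc0 : c = 0 := by
      by_contra hne
      exact h5 (((dvd_pow_self 5 hne).trans hc5.symm.dvd).trans (Subgroup.card_subgroup_dvd_card _))
    subst hc0
    have hord : ∀ x : G, orderOf x ∈ ({1, 2, 3, 4, 6, 8, 9, 12, 18, 24, 36, 72} : Finset ℕ) := by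
      intro x
      have n5 : ¬ 5 ∣ orderOf x := fun hd => h5 (hd.trans (orderOf_dvd_natCard x))
      have hm : orderOf x ∈ Nat.divisors 1800 := Nat.mem_divisors.2 ⟨hdvd x, by norm_num⟩
      revert n5
      revert hm
      generalize orderOf x = m
      decide +kernel +revert
    -- the three values occur at three different orders
    obtain ⟨m1, hm1⟩ := h.attained 80 (by simp)
    obtain ⟨m2, hm2⟩ := h.attained 90 (by simp)
    obtain ⟨m3, hm3⟩ := h.attained 144 (by simp)
    have hlow : 360 ≤ Nat.card G := by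
      have hne : m1 ≠ m2 ∧ m1 ≠ m3 ∧ m2 ≠ m3 ∧ m1 ≠ 1 ∧ m2 ≠ 1 ∧ m3 ≠ 1 ∧ m1 ≠ 2 ∧ m2 ≠ 2 ∧ m3 ≠ 2 := by
        refine ⟨?_, ?_, ?_, ?_, ?_, ?_, ?_, ?_, ?_⟩ <;>
          (intro e; subst e; first | omega | (rw [cnt_one] at *; omega))
      obtain ⟨n1, n2, n3, n4, n5, n6, n7, n8, n9⟩ := hne
      have := sum_cnt_le (G := G) ({1, 2, m1, m2, m3} : Finset ℕ)
      rw [Finset.sum_insert (by simp; omega), Finset.sum_insert (by simp; omega),
        Finset.sum_insert (by simp; omega), Finset.sum_pair n3, cnt_one, h2, hm1, hm2, hm3] at this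
      omega
    obtain ⟨hb4', hb9⟩ := hb4
    have h9 : cnt G 9 = 0 := by
      by_contra e9
      have := hb9 e9
      interval_cases a <;> interval_cases b <;> omega
    have h648 : a = 3 ∧ b = 4 := by
      interval_cases a <;> interval_cases b <;> omega
    obtain ⟨rfl, rfl⟩ := h648
    have h8 : cnt G 8 = 0 := by
      by_contra h0
      obtain ⟨n, hn, hn'⟩ := cnt_prime_of_cyclic (p := 2) (by rw [hcard]; norm_num) P2
        (isCyclic_sylow_of P2 ha (Or.inr (by norm_num; exact h0)))
      rw [h2] at hn'
      norm_num at hn'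
      subst hn'
      exact h5 ((by norm_num : 5 ∣ 45).trans hn)
    have hc := sum_cnt_eq hord
    rw [Finset.sum_insert (by decide), Finset.sum_insert (by decide), Finset.sum_insert (by decide),
      Finset.sum_insert (by decide), Finset.sum_insert (by decide), Finset.sum_insert (by decide),
      Finset.sum_insert (by decide), Finset.sum_insert (by decide), Finset.sum_insert (by decide),
      Finset.sum_insert (by decide),
      Finset.sum_pair (by decide), cnt_one, h2, h3v (by rw [hcard]; norm_num), h8,
      h9, hz h9 (show 9 ∣ 18 by norm_num), hz h8 (show 8 ∣ 24 by norm_num),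
      hz h9 (show 9 ∣ 36 by norm_num), hz h9 (show 9 ∣ 72 by norm_num)] at hc
    have := htot 12 4 (by decide)
    have := hval' 12 (by norm_num)
    have := hval' 6 (by norm_num)
    omega

theorem isSimple_six (h : Hyp G {1, 45, 80, 90, 144}) : IsSimpleGroup G ∧ Nat.card G = 360 := by
  classical
  obtain ⟨hcard, h3, h5, hord⟩ := card_six h
  refine ⟨?_, hcard⟩
  have := Fact.mk (show Nat.Prime 5 by norm_num)
  have : Nontrivial G := Finite.one_lt_card_iff_nontrivial.1 (by omega)
  obtain ⟨y, hy⟩ := exists_prime_orderOf_dvd_card' 5 (show 5 ∣ Nat.card G by rw [hcard]; norm_num)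
  refine ⟨fun N hN => ?_⟩
  by_contra hne
  push Not at hne
  obtain ⟨hN1, hN2⟩ := hne
  have hdvd : Nat.card N ∣ 360 := hcard ▸ N.card_subgroup_dvd_card
  have hlt : Nat.card N < 360 := by
    rcases (Nat.le_of_dvd (by norm_num) hdvd).lt_or_eq with hl | he
    · exact hl
    · exact absurd (Subgroup.eq_top_of_card_eq N (by rw [he, hcard])) hN2
  have hN0 : 1 < Nat.card N := N.one_lt_card_iff_ne_bot.2 hN1
  -- a full Sylow subgroup inside gives all elements of that prime order
  have hall : ∀ p, p.Prime → ¬ p ∣ N.index → cnt G p ≤ Nat.card N := by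
    intro p hp hnd
    refine Nat.card_le_card_of_injective (fun x : {g : G // orderOf g = p} => (⟨x.1, ?_⟩ : N))
      fun a b e => Subtype.ext (congrArg Subtype.val e :)
    have h1 : orderOf (QuotientGroup.mk' N x.1) ∣ N.index := orderOf_dvd_natCard _
    have h2 := orderOf_map_dvd (QuotientGroup.mk' N) x.1
    rw [x.2] at h2
    rcases (Nat.dvd_prime hp).1 h2 with e | e
    · exact (QuotientGroup.eq_one_iff _).1 (orderOf_eq_one_iff.1 e)
    · rw [e] at h1; exact absurd h1 hnd
  have hidx := N.card_mul_index
  rw [hcard] at hidx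
  have hboth : ∀ d, d ∈ Nat.divisors 360 → Nat.card N = d → N.index = 360 / d := fun d hd e => by
    rw [← e, ← hidx, Nat.mul_div_cancel_left _ Nat.card_pos]
  have hN5 : ¬ 5 ∣ Nat.card N := by
    intro hd
    obtain ⟨d, hd'⟩ := hd
    have hnd5 : ¬ 5 ∣ N.index := by
      intro ⟨e, he⟩
      rw [hd', he] at hidx
      have : 25 * (d * e) = 360 := by linarith
      omega
    have e5 := hall 5 (by norm_num) hnd5
    rw [h5] at e5
    have h180 : Nat.card N = 180 := by
      obtain ⟨e, he⟩ := hdvd
      rcases Nat.lt_or_ge e 3 with he3 | he3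
      · interval_cases e <;> omega
      · nlinarith
    have hi : N.index = 2 := by rw [h180] at hidx; omega
    have e3 := hall 3 (by norm_num) (by rw [hi]; norm_num)
    -- elements of orders `3` and `5` all lie in `N`
    have hmem : ∀ p, p.Prime → ¬ p ∣ N.index → ∀ g : G, orderOf g = p → g ∈ N := by
      intro p hp hnd g hg
      have h1 : orderOf (QuotientGroup.mk' N g) ∣ N.index := orderOf_dvd_natCard _
      have h2 := orderOf_map_dvd (QuotientGroup.mk' N) g
      rw [hg] at h2
      rcases (Nat.dvd_prime hp).1 h2 with e | e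
      · exact (QuotientGroup.eq_one_iff _).1 (orderOf_eq_one_iff.1 e)
      · rw [e] at h1; exact absurd h1 hnd
    have hle : cnt G 3 + cnt G 5 ≤ Nat.card N := by
      have hs := sum_cnt (G := G) ({3, 5} : Finset ℕ)
      rw [Finset.sum_pair (by norm_num)] at hs
      rw [hs]
      refine Nat.card_le_card_of_injective (fun x : {g : G // orderOf g ∈ ({3, 5} : Finset ℕ)} =>
        (⟨x.1, ?_⟩ : N)) fun a b e => Subtype.ext (congrArg Subtype.val e :)
      have hx := x.2
      simp only [Finset.mem_insert, Finset.mem_singleton] at hx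
      rcases hx with e | e
      · exact hmem 3 (by norm_num) (by rw [hi]; norm_num) _ e
      · exact hmem 5 (by norm_num) (by rw [hi]; norm_num) _ e
    omega
  have hN9 : ¬ 9 ∣ Nat.card N := by
    intro ⟨d, hd⟩
    have hnd3 : ¬ 3 ∣ N.index := by
      intro ⟨e, he⟩
      rw [hd, he] at hidx
      have : 27 * (d * e) = 360 := by linarith
      omega
    have e3 := hall 3 (by norm_num) hnd3
    have h72 : Nat.card N ∣ 72 :=
      ((((by norm_num : Nat.Prime 5).coprime_iff_not_dvd).2 hN5).symm).dvd_of_dvd_mul_left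
        (by simpa using hdvd : Nat.card N ∣ 5 * 72)
    have := Nat.le_of_dvd (by norm_num) h72
    omega
  -- the element of order five fixes a non-trivial element of `N`
  have hact : ∀ n, orderOf y = 5 → (∀ k, (k : ℕ) ≠ 1 → ¬ 5 * k ∈ ({1, 2, 3, 4, 5} : Finset ℕ)) →
      ¬ 5 ∣ Nat.card {x : N // orderOf (x : G) ∈ n} → 1 ∉ (n : Finset ℕ) → False := by
    intro n _ hk hnd h1n
    set C := Subgroup.zpowers y with hC
    have hCp : IsPGroup 5 C := IsPGroup.of_card (n := 1) (by rw [Nat.card_zpowers, hy, pow_one])
    letI : MulAction C {x : N // orderOf (x : G) ∈ n} :=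
      { smul := fun c x => ⟨⟨(c : G) * (x.1 : G) * (c : G)⁻¹, hN.conj_mem _ x.1.2 c⟩, by
          show orderOf ((c : G) * (x.1 : G) * (c : G)⁻¹) ∈ n
          rw [← MulAut.conj_apply, MulEquiv.orderOf_eq]; exact x.2⟩
        one_smul := fun x => Subtype.ext (Subtype.ext
          (show (1 : G) * (x.1 : G) * (1 : G)⁻¹ = x.1 by simp))
        mul_smul := fun a b x => Subtype.ext (Subtype.ext
          (show ((a : G) * b) * (x.1 : G) * ((a : G) * b)⁻¹ =
            (a : G) * ((b : G) * (x.1 : G) * (b : G)⁻¹) * (a : G)⁻¹ by group)) }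
    obtain ⟨x, hx⟩ := hCp.nonempty_fixed_point_of_prime_not_dvd_card {x : N // orderOf (x : G) ∈ n} hnd
    have hc : Commute y (x.1 : G) := by
      have := congrArg (fun z : {x : N // orderOf (x : G) ∈ n} => (z.1 : G)) (hx ⟨y, Subgroup.mem_zpowers y⟩)
      exact mul_inv_eq_iff_eq_mul.1 this
    have hk5 : ¬ 5 ∣ orderOf (x.1 : G) := fun hd => hN5 (by
      rw [Subgroup.orderOf_coe] at hd
      exact hd.trans (orderOf_dvd_natCard _))
    have ho := hc.orderOf_mul_eq_mul_orderOf_of_coprime (by
      rw [hy]; exact ((by norm_num : Nat.Prime 5).coprime_iff_not_dvd).2 hk5)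
    rw [hy] at ho
    have h5k := hord (y * x.1)
    rw [ho] at h5k
    exact hk _ (fun e => h1n (e ▸ x.2)) h5k
  have hk : ∀ k, (k : ℕ) ≠ 1 → ¬ 5 * k ∈ ({1, 2, 3, 4, 5} : Finset ℕ) := by
    intro k hk
    simp only [Finset.mem_insert, Finset.mem_singleton]
    omega
  have hcases : Nat.card N ∈ ({2, 3, 4, 6, 8, 12, 24} : Finset ℕ) := by
    have hm : Nat.card N ∈ Nat.divisors 360 := Nat.mem_divisors.2 ⟨hdvd, by norm_num⟩
    revert hN5 hN9 hlt hN0
    revert hm
    generalize Nat.card N = m
    decide +kernel +revert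
  by_cases h6 : Nat.card N = 6
  · refine hact {3} hy hk ?_ (by simp)
    have hc : Nat.card {x : N // orderOf (x : G) ∈ ({3} : Finset ℕ)} = cnt N 3 :=
      Nat.card_congr (Equiv.subtypeEquivRight fun x => by
        rw [Finset.mem_singleton, Subgroup.orderOf_coe])
    rw [hc]
    have h1 := dvd_one_add (G := N) (by norm_num : Nat.Prime 3) (by rw [h6]; norm_num)
    have h2 := totient_dvd_cnt (G := N) 3
    rw [show Nat.totient 3 = 2 by decide] at h2
    have h3 := sum_cnt_le (G := N) ({1, 3} : Finset ℕ)
    rw [Finset.sum_pair (by norm_num), cnt_one, h6] at h3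
    omega
  · refine hact ({2, 3, 4, 5}) hy hk ?_ (by simp)
    have hc : Nat.card {x : N // orderOf (x : G) ∈ ({2, 3, 4, 5} : Finset ℕ)} = Nat.card N - 1 := by
      have := Fintype.ofFinite N
      rw [Nat.card_eq_fintype_card, Fintype.card_subtype, Nat.card_eq_fintype_card]
      rw [show Finset.univ.filter (fun x : N => orderOf (x : G) ∈ ({2, 3, 4, 5} : Finset ℕ)) =
          Finset.univ.erase 1 by
        ext x
        have hx := hord (x : G)
        simp only [Finset.mem_insert, Finset.mem_singleton] at hx
        simp only [Finset.mem_filter, Finset.mem_univ, true_and, Finset.mem_erase, and_true,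
          Finset.mem_insert, Finset.mem_singleton]
        constructor
        · rintro h' rfl
          rw [OneMemClass.coe_one, orderOf_one] at h'
          omega
        · intro hx1
          have : orderOf (x : G) ≠ 1 := fun e => hx1 (Subtype.ext (orderOf_eq_one_iff.1 e))
          omega, Finset.card_erase_of_mem (Finset.mem_univ _), Finset.card_univ]
    rw [hc]
    simp only [Finset.mem_insert, Finset.mem_singleton] at hcases
    omega

theorem six (h : Hyp G {1, 45, 80, 90, 144}) : Nonempty (G ≃* alternatingGroup (Fin 6)) := by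
  obtain ⟨hs, hc⟩ := isSimple_six h
  exact Cfsg.Agent.S0497.result hc

end CfsgLib.AltNSE
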