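import Mathlib

/-!
Facts on symmetric and alternating groups used for orbits of small size.
-/

set_option autoImplicit false

namespace CfsgLib.SmallGroups.AltStab

open Equiv Function

variable {β : Type*} [Fintype β] [DecidableEq β]

/-- Even permutations fixing one of two given points generate the alternating group. -/
theorem alternating_le {H : Subgroup (Perm β)} (h5 : 5 ≤ Fintype.card β) {i j : β} (hij : i ≠ j)
    (hi : ∀ σ : Perm β, σ ∈ alternatingGroup β → σ i = i → σ ∈ H)
    (hj : ∀ σ : Perm β, σ ∈ alternatingGroup β → σ j = j → σ ∈ H) : alternatingGroup β ≤ H := by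
  rw [← Equiv.Perm.closure_three_cycles_eq_alternating, Subgroup.closure_le]
  intro c hc
  have hc3 : c.IsThreeCycle := hc
  have hceven : c ∈ alternatingGroup β := hc3.mem_alternatingGroup
  by_cases h1 : c i = i
  · exact hi c hceven h1
  by_cases h2 : c j = j
  · exact hj c hceven h2
  -- a point `b` outside `{i, j}` in the support, and two further points
  have hcard : c.support.card = 3 := hc3.card_support
  obtain ⟨b, hb⟩ : ∃ b, b ∈ c.support \ {i, j} := by
    apply Finset.card_pos.mp
    have h := Finset.le_card_sdiff {i, j} c.support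
    have h' : ({i, j} : Finset β).card ≤ 2 := Finset.card_le_two
    omega
  simp only [Finset.mem_sdiff, Finset.mem_insert, Finset.mem_singleton, not_or] at hb
  obtain ⟨y, hy, z, hz, hyz⟩ : ∃ y ∈ c.supportᶜ, ∃ z ∈ c.supportᶜ, y ≠ z := by
    apply Finset.one_lt_card.mp
    rw [Finset.card_compl, hcard]
    omega
  rw [Finset.mem_compl] at hy hz
  have hmemi : i ∈ c.support := Equiv.Perm.mem_support.mpr h1
  have hmemj : j ∈ c.support := Equiv.Perm.mem_support.mpr h2
  set d := swap y j * swap z b with hd
  have hne : ∀ {u v : β}, u ∈ c.support → v ∉ c.support → v ≠ u := fun hu hv e => hv (e ▸ hu)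
  have hzy : z ≠ y := hyz.symm
  have hzj : z ≠ j := hne hmemj hz
  have hby : b ≠ y := (hne hb.1 hy).symm
  have hdi : d i = i := by
    rw [hd, Equiv.Perm.mul_apply, swap_apply_of_ne_of_ne (hne hmemi hz).symm (Ne.symm hb.2.1),
      swap_apply_of_ne_of_ne (hne hmemi hy).symm hij]
  have hdj : d j = y := by
    rw [hd, Equiv.Perm.mul_apply, swap_apply_of_ne_of_ne hzj.symm (Ne.symm hb.2.2),
      swap_apply_right]
  have hdy : d y = j := by
    rw [hd, Equiv.Perm.mul_apply, swap_apply_of_ne_of_ne hyz hby.symm, swap_apply_left]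
  have hdeven : d ∈ alternatingGroup β := by
    rw [Equiv.Perm.mem_alternatingGroup, hd, map_mul, Equiv.Perm.sign_swap (hne hmemj hy),
      Equiv.Perm.sign_swap (hne hb.1 hz)]
    rfl
  have hdinv : d⁻¹ = d := by
    rw [hd, mul_inv_rev, swap_inv, swap_inv]
    refine (Equiv.Perm.Disjoint.commute ?_).eq
    intro x
    by_cases hx : x = y ∨ x = j
    · left
      rcases hx with rfl | rfl
      · exact swap_apply_of_ne_of_ne hyz hby.symm
      · exact swap_apply_of_ne_of_ne hzj.symm (Ne.symm hb.2.2)
    · push Not at hx
      exact Or.inr (swap_apply_of_ne_of_ne hx.1 hx.2)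
  have hc' : d * c * d⁻¹ ∈ H := by
    refine hj _ ((alternatingGroup β).mul_mem ((alternatingGroup β).mul_mem hdeven hceven)
      ((alternatingGroup β).inv_mem hdeven)) ?_
    rw [Equiv.Perm.mul_apply, Equiv.Perm.mul_apply, hdinv, hdj,
      Equiv.Perm.notMem_support.mp hy, hdy]
  have hdH : d ∈ H := hi d hdeven hdi
  have : d⁻¹ * (d * c * d⁻¹) * d = c := by group
  rw [← this]
  exact H.mul_mem (H.mul_mem (H.inv_mem hdH) hc') hdH

/-- A subgroup containing the even permutations fixing `i` and moving `i` contains the alternating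
group. -/
theorem alternating_le_of_moves {H : Subgroup (Perm β)} (h5 : 5 ≤ Fintype.card β) {i : β}
    (hi : ∀ σ : Perm β, σ ∈ alternatingGroup β → σ i = i → σ ∈ H) {π : Perm β} (hπ : π ∈ H)
    (hmv : π i ≠ i) : alternatingGroup β ≤ H := by
  refine alternating_le h5 hmv.symm hi fun σ hσ hfix => ?_
  have h1 : π⁻¹ * σ * π ∈ H := by
    refine hi _ ?_ ?_
    · have := (alternatingGroup.normal (α := β)).conj_mem σ hσ π⁻¹
      rwa [inv_inv] at this
    · rw [Equiv.Perm.mul_apply, Equiv.Perm.mul_apply, hfix]
      exact π.symm_apply_apply i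
  have := H.mul_mem (H.mul_mem hπ h1) (H.inv_mem hπ)
  rwa [show π * (π⁻¹ * σ * π) * π⁻¹ = σ by group] at this

section Five

variable {Y : Type*} [Finite Y] [MulAction (Perm (Fin 5)) Y]

/-- The alternating group of degree five fixes everything or moves in orbits of length at least
five: a set with at most four points is fixed. -/
theorem orbit_le_four_fixed (y : Y)
    (hsmall : Nat.card (MulAction.orbit (alternatingGroup (Fin 5)) y) ≤ 4) :
    ∀ σ ∈ alternatingGroup (Fin 5), σ • y = y := by
  set A := alternatingGroup (Fin 5)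
  set O := MulAction.orbit A y
  haveI : IsSimpleGroup A := alternatingGroup.isSimpleGroup (by rw [Nat.card_eq_fintype_card, Fintype.card_fin])
  intro σ hσ
  have hne : (MulAction.toPermHom A O).ker ≠ ⊥ := by
    intro hbot
    have h1 := Nat.card_le_card_of_injective _
      ((MonoidHom.ker_eq_bot_iff _).mp hbot)
    rw [Nat.card_perm, nat_card_alternatingGroup, Nat.card_eq_fintype_card (α := Fin 5),
      Fintype.card_fin] at h1
    have h2 := Nat.factorial_le hsmall
    simp [Nat.factorial] at h1 h2
    omega
  have htop : (MulAction.toPermHom A O).ker = ⊤ :=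
    (MonoidHom.normal_ker _).eq_bot_or_eq_top.resolve_left hne
  have hmem : (⟨σ, hσ⟩ : A) ∈ (MulAction.toPermHom A O).ker := htop ▸ Subgroup.mem_top _
  rw [MonoidHom.mem_ker] at hmem
  exact congrArg Subtype.val (Equiv.congr_fun hmem ⟨y, MulAction.mem_orbit_self y⟩)

/-- With at most four points, or exactly seven, or five on which transpositions fix at most two,
the alternating group has a fixed point. -/
theorem exists_fixed [Nonempty Y]
    (hY : Nat.card Y ≤ 4 ∨ Nat.card Y = 7 ∨ (Nat.card Y = 5 ∧ ∃ τ : Perm (Fin 5),
      Perm.sign τ = -1 ∧ τ * τ = 1 ∧ Nat.card {y : Y // τ • y = y} ≤ 2)) :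
    ∃ y : Y, ∀ σ ∈ alternatingGroup (Fin 5), σ • y = y := by
  classical
  cases nonempty_fintype Y
  set A := alternatingGroup (Fin 5)
  by_contra hcon
  have hbig : ∀ y : Y, 5 ≤ Nat.card (MulAction.orbit A y) := fun y => by
    by_contra hlt
    exact hcon ⟨y, orbit_le_four_fixed y (Nat.le_of_lt_succ (Nat.not_le.mp hlt))⟩
  have hle : ∀ y : Y, Nat.card (MulAction.orbit A y) ≤ Nat.card Y := fun y =>
    Nat.card_le_card_of_injective _ Subtype.val_injective
  obtain ⟨y₀⟩ := (inferInstance : Nonempty Y)
  rcases hY with h4 | h7 | ⟨h5, τ, hsgn, hτ2, hfix⟩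
  · have := hbig y₀; have := hle y₀; omega
  · -- a single orbit of length seven
    have htot : MulAction.orbit A y₀ = Set.univ := by
      by_contra hne
      obtain ⟨z, hz⟩ := (Set.ne_univ_iff_exists_notMem _).mp hne
      have hdis : Disjoint (MulAction.orbit A y₀) (MulAction.orbit A z) := by
        rw [Set.disjoint_left]
        intro w hw hw'
        apply hz
        rw [← MulAction.orbit_eq_iff] at hw hw'
        rw [← hw, hw']
        exact MulAction.mem_orbit_self z
      have h1 := Set.ncard_union_eq hdis (Set.toFinite _) (Set.toFinite _)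
      have h2 := Set.ncard_le_card (MulAction.orbit A y₀ ∪ MulAction.orbit A z)
      have := hbig y₀
      have := hbig z
      simp only [← Nat.card_coe_set_eq] at h1 h2
      omega
    have h1 : Nat.card (MulAction.orbit A y₀) ∣ Nat.card A := by
      rw [Nat.card_coe_set_eq, ← MulAction.index_stabilizer]
      exact Subgroup.index_dvd_card _
    rw [htot, Nat.card_coe_set_eq, Set.ncard_univ, h7, nat_card_alternatingGroup,
      Nat.card_eq_fintype_card (α := Fin 5), Fintype.card_fin] at h1
    norm_num [Nat.factorial] at h1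
  · -- the action on five points is the natural one
    set φ := MulAction.toPermHom (Perm (Fin 5)) Y with hφ
    haveI : IsSimpleGroup A := alternatingGroup.isSimpleGroup (by rw [Nat.card_eq_fintype_card, Fintype.card_fin])
    have hkA : φ.ker.subgroupOf A = ⊥ := by
      refine (Subgroup.Normal.eq_bot_or_eq_top inferInstance).resolve_right fun h => hcon ⟨y₀, ?_⟩
      intro σ hσ
      have : (⟨σ, hσ⟩ : A) ∈ φ.ker.subgroupOf A := h ▸ Subgroup.mem_top _
      exact Equiv.congr_fun (MonoidHom.mem_ker.mp (Subgroup.mem_subgroupOf.mp this)) y₀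
    have heven : ∀ κ ∈ φ.ker, Perm.sign κ = 1 → κ = 1 := fun κ hκ hs => by
      have : (⟨κ, Equiv.Perm.mem_alternatingGroup.mpr hs⟩ : A) ∈ φ.ker.subgroupOf A := hκ
      rw [hkA, Subgroup.mem_bot] at this
      exact congrArg Subtype.val this
    have hinj : Injective φ := by
      rw [← MonoidHom.ker_eq_bot_iff, Subgroup.eq_bot_iff_forall]
      intro κ hκ
      rcases Int.units_eq_one_or (Perm.sign κ) with hs | hs
      · exact heven κ hκ hs
      by_contra hne
      obtain ⟨a, ha⟩ : ∃ a, κ a ≠ a := by
        by_contra hall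
        push Not at hall
        exact hne (Equiv.ext hall)
      obtain ⟨c, hc⟩ : ∃ c, c ∉ ({a, κ a} : Finset (Fin 5)) := by
        by_contra hall
        push Not at hall
        have h1 := Finset.card_le_card (fun x _ => hall x : (Finset.univ : Finset (Fin 5)) ⊆ {a, κ a})
        have h2 : ({a, κ a} : Finset (Fin 5)).card ≤ 2 := Finset.card_le_two
        rw [Finset.card_univ, Fintype.card_fin] at h1
        omega
      simp only [Finset.mem_insert, Finset.mem_singleton, not_or] at hc
      set π := Equiv.swap (κ a) c
      have hconj : π * κ * π⁻¹ ∈ φ.ker := (MonoidHom.normal_ker φ).conj_mem κ hκ π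
      have h1 := heven _ (φ.ker.mul_mem hconj (φ.ker.inv_mem hκ)) (by
        simp [hs])
      rw [mul_inv_eq_one] at h1
      have h2 := Equiv.congr_fun h1 a
      rw [Equiv.Perm.mul_apply, Equiv.Perm.mul_apply, Equiv.swap_inv,
        Equiv.swap_apply_of_ne_of_ne ha.symm (Ne.symm hc.1), Equiv.swap_apply_left] at h2
      exact hc.2 h2
    have hbij : Bijective φ := hinj.bijective_of_nat_card_le (by
      rw [Nat.card_perm, Nat.card_perm, h5, Nat.card_eq_fintype_card (α := Fin 5),
        Fintype.card_fin])
    have hsign : (Perm.sign).comp φ = Perm.sign := by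
      refine Equiv.Perm.eq_sign_of_surjective_hom ?_
      haveI : Nontrivial Y := Fintype.one_lt_card_iff_nontrivial.mp
        (by rw [← Nat.card_eq_fintype_card]; omega)
      exact (Equiv.Perm.sign_surjective Y).comp hbij.2
    set p := φ τ with hp
    have hpsign : Perm.sign p = -1 := by
      rw [← hsgn, ← hsign]; rfl
    have hp2 : p ^ 2 = 1 := by rw [pow_two, hp, ← map_mul, hτ2, map_one]
    have hsupp : p.support.card = 2 := by
      have hpne : p ≠ 1 := fun e => by rw [e, map_one] at hpsign; exact absurd hpsign (by decide)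
      have hord : orderOf p = 2 := orderOf_eq_prime hp2 hpne
      obtain ⟨r, hr⟩ := Equiv.Perm.cycleType_prime_order (by rw [hord]; exact Nat.prime_two)
      rw [hord] at hr
      have hsum := Equiv.Perm.sum_cycleType p
      have hle' : p.support.card ≤ 5 := by
        rw [← h5, Nat.card_eq_fintype_card]; exact Finset.card_le_univ _
      have hsg := Equiv.Perm.sign_of_cycleType p
      rw [hr] at hsum hsg
      simp only [Multiset.sum_replicate, smul_eq_mul, Multiset.card_replicate] at hsum hsg
      rw [hpsign] at hsg
      rcases r with _ | r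
      · omega
      · exfalso
        have : r = 0 := by omega
        subst this
        norm_num at hsg
    have hfix3 : Nat.card {y : Y // τ • y = y} = 3 := by
      rw [Nat.card_eq_fintype_card, Fintype.card_subtype]
      have : (Finset.univ.filter fun y : Y => τ • y = y) = p.supportᶜ := by
        ext y; simp [hp, hφ]
      rw [this, Finset.card_compl, hsupp, ← Nat.card_eq_fintype_card, h5]
    omega

end Five

end CfsgLib.SmallGroups.AltStab
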