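import Cfsg.Agent.Lib.SmallGroups.PrimeTransitiveSylow
import Cfsg.Agent.Lib.Char.Burnside
import Mathlib

/-!
Non-solvable transitive permutation groups on seven points.
-/

set_option autoImplicit false

namespace CfsgLib.SmallGroups

variable {α : Type*} [Fintype α] [DecidableEq α]

/-- A subgroup containing a full Sylow subgroup contains a conjugate of every `p`-element. -/
theorem exists_conj_mem_of_pow_dvd {X : Type*} [Group X] [Finite X] {p : ℕ} [Fact p.Prime]
    (H : Subgroup X) (hdvd : p ^ (Nat.card X).factorization p ∣ Nat.card H) {x : X}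
    (hx : IsPGroup p (Subgroup.zpowers x)) : ∃ g : X, g * x * g⁻¹ ∈ H := by
  obtain ⟨K, hK⟩ := Sylow.exists_subgroup_card_pow_prime p hdvd
  let S : Sylow p X := Sylow.ofCard (K.map H.subtype) (by
    rw [Subgroup.card_map_of_injective H.subtype_injective, hK])
  obtain ⟨Q, hQ⟩ := hx.exists_le_sylow
  obtain ⟨g, hg⟩ := MulAction.exists_smul_eq X Q S
  refine ⟨g, ?_⟩
  have : g * x * g⁻¹ ∈ (S : Subgroup X) := by
    rw [← hg]
    exact Subgroup.smul_mem_pointwise_smul _ (MulAut.conj g) _ (hQ (Subgroup.mem_zpowers x))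
  obtain ⟨y, -, hy⟩ := Subgroup.mem_map.mp this
  exact hy ▸ y.2

theorem not_nine_dvd_card (hα : Fintype.card α = 7) (G : Subgroup (Equiv.Perm α))
    (hG : MulAction.IsPreprimitive G α) (hA : ¬ alternatingGroup α ≤ G) :
    ¬ 9 ∣ Nat.card G := by
  intro h9
  haveI : Fact (Nat.Prime 3) := ⟨Nat.prime_three⟩
  have hf : (Nat.card (Equiv.Perm α)).factorization 3 = 2 := by
    rw [Nat.card_perm, Nat.card_eq_fintype_card, hα]
    have h : ¬ 3 ^ 3 ∣ Nat.factorial 7 := by decide
    have h' : 3 ^ 2 ∣ Nat.factorial 7 := by decide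
    rw [Nat.prime_three.pow_dvd_iff_le_factorization (Nat.factorial_ne_zero 7)] at h h'
    omega
  obtain ⟨a, b, c, -, hab, hac, hbc⟩ : ∃ a b c : α, True ∧ a ≠ b ∧ a ≠ c ∧ b ≠ c := by
    obtain ⟨a, b, c, h⟩ := Finset.two_lt_card_iff.mp (show 2 < (Finset.univ : Finset α).card by
      rw [Finset.card_univ, hα]; norm_num)
    exact ⟨a, b, c, trivial, h.2.2.2.1, h.2.2.2.2.1, h.2.2.2.2.2⟩
  have h3 : (Equiv.swap a b * Equiv.swap a c).IsThreeCycle :=
    Equiv.Perm.isThreeCycle_swap_mul_swap_same hab hac hbc
  obtain ⟨g, hg⟩ := exists_conj_mem_of_pow_dvd (p := 3) G (by rw [hf]; exact h9)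
    (x := Equiv.swap a b * Equiv.swap a c)
    (IsPGroup.of_card (n := 1) (by rw [Nat.card_zpowers, h3.orderOf, pow_one]))
  refine hA (Equiv.Perm.alternatingGroup_le_of_isPreprimitive_of_isThreeCycle_mem hG ?_ hg)
  rw [Equiv.Perm.IsThreeCycle, Equiv.Perm.cycleType_conj]
  exact h3

theorem not_sixteen_dvd_card (hα : Fintype.card α = 7) (G : Subgroup (Equiv.Perm α))
    (hG : MulAction.IsPreprimitive G α) (hA : ¬ alternatingGroup α ≤ G) :
    ¬ 16 ∣ Nat.card G := by
  intro h16
  haveI : Fact (Nat.Prime 2) := ⟨Nat.prime_two⟩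
  have hf : (Nat.card (Equiv.Perm α)).factorization 2 = 4 := by
    rw [Nat.card_perm, Nat.card_eq_fintype_card, hα]
    have h : ¬ 2 ^ 5 ∣ Nat.factorial 7 := by decide
    have h' : 2 ^ 4 ∣ Nat.factorial 7 := by decide
    rw [Nat.prime_two.pow_dvd_iff_le_factorization (Nat.factorial_ne_zero 7)] at h h'
    omega
  obtain ⟨a, b, hab⟩ := Fintype.one_lt_card_iff.mp (show 1 < Fintype.card α by omega)
  obtain ⟨g, hg⟩ := exists_conj_mem_of_pow_dvd (p := 2) G (by rw [hf]; exact h16)
    (x := Equiv.swap a b) (IsPGroup.of_card (n := 1) (by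
      rw [Nat.card_zpowers, (show (Equiv.swap a b).IsSwap from ⟨a, b, hab, rfl⟩).orderOf, pow_one]))
  rw [Equiv.mul_swap_eq_swap_mul, mul_inv_cancel_right] at hg
  refine hA ?_
  rw [Equiv.Perm.subgroup_eq_top_of_isPreprimitive_of_isSwap_mem hG _
    ⟨g a, g b, fun h => hab (g.injective h), rfl⟩ hg]
  exact le_top

theorem sylow_normalizer_bound (hα : Fintype.card α = 7) (G : Subgroup (Equiv.Perm α))
    [MulAction.IsPretransitive G α] [Fact (Nat.Prime 7)] (P : Sylow 7 G) :
    Nat.card (Subgroup.normalizer ((P : Subgroup G) : Set G)) ∣ 42 := by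
  obtain ⟨σ, hσ, hP⟩ := exists_sylow_generator hα G P
  have hPc : Nat.card (P : Subgroup G) = 7 := card_sylow_prime_degree hα G P
  haveI : IsCyclic (P : Subgroup G) := isCyclic_of_prime_card hPc
  set Pg := (P : Subgroup G) with hPg
  have hcent : Subgroup.centralizer (Pg : Set G) ≤ Pg := by
    intro x hx
    rw [Subgroup.mem_centralizer_iff] at hx
    have hxσ := hx σ (by rw [hP]; exact Subgroup.mem_zpowers σ)
    have hle : Subgroup.zpowers (σ : Equiv.Perm α) ≤ Subgroup.centralizer {(σ : Equiv.Perm α)} := by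
      rw [Subgroup.zpowers_le, Subgroup.mem_centralizer_iff]
      simp
    have hxc : (x : Equiv.Perm α) ∈ Subgroup.zpowers (σ : Equiv.Perm α) := by
      rw [Subgroup.eq_of_le_of_card_ge hle (by
        rw [card_centralizer_of_orderOf_eq (by omega) hσ, hα, Nat.card_zpowers, hσ]; simp),
        Subgroup.mem_centralizer_iff]
      intro h hh
      rw [Set.mem_singleton_iff] at hh
      subst hh
      exact congrArg Subtype.val hxσ
    obtain ⟨k, hk⟩ := Subgroup.mem_zpowers_iff.mp hxc
    rw [hP]
    exact Subgroup.mem_zpowers_iff.mpr ⟨k, Subtype.ext (by rw [Subgroup.coe_zpow, hk])⟩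
  have hidx : Pg.normalizerMonoidHom.ker.index ∣ 6 := by
    rw [Subgroup.index_ker]
    refine (Subgroup.card_subgroup_dvd_card _).trans ?_
    rw [IsCyclic.card_mulAut, hPc]
    decide
  have hker : Nat.card Pg.normalizerMonoidHom.ker ∣ 7 := by
    rw [Subgroup.normalizerMonoidHom_ker, ← hPc]
    refine (Dvd.dvd.trans ?_ (Subgroup.card_dvd_of_le hcent))
    rw [← Subgroup.relIndex_bot_left (Subgroup.centralizer (Pg : Set G))]
    rw [Nat.card_congr (Subgroup.subgroupOfEquivOfLe ?_).toEquiv, Subgroup.relIndex_bot_left]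
    intro x hx
    rw [Subgroup.mem_centralizer_iff] at hx
    intro y
    constructor
    · intro hy
      rwa [← hx y hy, mul_inv_cancel_right]
    · intro hy
      have h := hx _ hy
      have hyy : x * y * x⁻¹ = y := by
        have h2 : x * y * x⁻¹ * x = x * (x * y * x⁻¹) := h
        rw [inv_mul_cancel_right] at h2
        exact (mul_left_cancel h2).symm
      rwa [hyy] at hy
  rw [← Subgroup.card_mul_index Pg.normalizerMonoidHom.ker]
  exact mul_dvd_mul hker hidx

theorem card_eq_of_degree_seven (hα : Fintype.card α = 7) (G : Subgroup (Equiv.Perm α))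
    [MulAction.IsPretransitive G α] (hG : ¬ Group.IsSolvable G)
    (hA : ¬ alternatingGroup α ≤ G) : Nat.card G = 168 := by
  haveI : Fact (Nat.Prime 7) := ⟨by norm_num⟩
  haveI hprim : MulAction.IsPreprimitive G α :=
    MulAction.IsPreprimitive.of_prime_card (by rw [Nat.card_eq_fintype_card, hα]; norm_num)
  obtain ⟨P⟩ : Nonempty (Sylow 7 G) := inferInstance
  set Nz := Subgroup.normalizer ((P : Subgroup G) : Set G) with hNz
  have hPc : Nat.card (P : Subgroup G) = 7 := card_sylow_prime_degree hα G P
  have hmul : Nat.card Nz * Nat.card (Sylow 7 G) = Nat.card G := by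
    rw [P.card_eq_index_normalizer]; exact Nz.card_mul_index
  have hn7 : Nat.card (Sylow 7 G) % 7 = 1 := by
    have := card_sylow_modEq_one 7 G
    exact this
  have h5040 : Nat.card G ∣ 5040 := by
    have := G.card_subgroup_dvd_card
    rwa [Nat.card_perm, Nat.card_eq_fintype_card (α := α), hα] at this
  have h42 := sylow_normalizer_bound hα G P
  have h7 : 7 ∣ Nat.card Nz := hPc ▸ Subgroup.card_dvd_of_le Subgroup.le_normalizer
  have h9 := not_nine_dvd_card hα G hprim hA
  have h16 := not_sixteen_dvd_card hα G hprim hA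
  -- the normalizer is not the whole group and is larger than the Sylow subgroup
  have hn1 : Nat.card (Sylow 7 G) ≠ 1 := by
    intro h
    apply hG
    obtain ⟨σ, hσ, hP⟩ := exists_sylow_generator hα G P
    refine isSolvable_normalizer hα hσ fun g hg => ?_
    have hnorm : Nz = ⊤ := Subgroup.eq_top_of_card_eq _ (by rw [h, mul_one] at hmul; exact hmul)
    have hmem : ∀ x : G, x * σ * x⁻¹ ∈ (P : Subgroup G) := fun x =>
      ((show x ∈ Nz by rw [hnorm]; trivial) σ).mp (by rw [hP]; exact Subgroup.mem_zpowers σ)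
    have hle : (Subgroup.zpowers (σ : Equiv.Perm α)).map (MulAut.conj g).toMonoidHom =
        Subgroup.zpowers (σ : Equiv.Perm α) := by
      apply Subgroup.eq_of_le_of_card_ge
      · rw [MonoidHom.map_zpowers, Subgroup.zpowers_le]
        exact conj_mem_of_mem_normalizer hP (g := ⟨g, hg⟩) (by rw [← hNz, hnorm]; trivial)
      · rw [Subgroup.card_map_of_injective (MulAut.conj g).injective]
    intro x
    constructor
    · intro hx
      rw [← hle]
      exact ⟨x, hx, rfl⟩
    · intro hx
      rw [← hle] at hx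
      obtain ⟨y, hy, hy'⟩ := hx
      exact (MulAut.conj g).injective hy' ▸ hy
  have hd1 : Nat.card Nz ≠ 7 := by
    intro h
    have hNP : Nz = (P : Subgroup G) :=
      (Subgroup.eq_of_le_of_card_ge Subgroup.le_normalizer (by rw [h, hPc])).symm
    haveI : IsCyclic (P : Subgroup G) := isCyclic_of_prime_card hPc
    have hle : Nz ≤ Subgroup.centralizer ((P : Subgroup G) : Set G) := by
      rw [hNP]
      intro x hx
      rw [Subgroup.mem_centralizer_iff]
      intro y hy
      letI := IsCyclic.commGroup (α := (P : Subgroup G))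
      exact congrArg Subtype.val (mul_comm (⟨y, hy⟩ : (P : Subgroup G)) ⟨x, hx⟩)
    have hcomp := MonoidHom.ker_transferSylow_isComplement' P hle
    set K := (MonoidHom.transferSylow P hle).ker with hK
    have hKc : Nat.card K * 7 = Nat.card G := by rw [← hPc]; exact hcomp.card_mul_card
    by_cases hfix : MulAction.fixedPoints K α = Set.univ
    · have hKbot : K = ⊥ := by
        rw [eq_bot_iff]
        intro d hd
        refine Subgroup.mem_bot.mpr (Subtype.ext (Equiv.ext fun x => ?_))
        have hx : x ∈ MulAction.fixedPoints K α := hfix ▸ Set.mem_univ x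
        exact hx ⟨d, hd⟩
      rw [hKbot, Subgroup.card_bot, one_mul] at hKc
      apply hn1
      rw [h, ← hKc] at hmul
      omega
    · haveI : MulAction.IsPretransitive K α :=
        MulAction.IsQuasiPreprimitive.isPretransitive_of_normal hfix
      obtain ⟨a⟩ : Nonempty α := Fintype.card_pos_iff.mp (by omega)
      have h7K : 7 ∣ Nat.card K := by
        rw [← hα, ← Nat.card_eq_fintype_card (α := α),
          ← MulAction.index_stabilizer_of_transitive (G := K) a]
        exact Subgroup.index_dvd_card _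
      exact not_sq_dvd_card hα G (hKc ▸ Nat.mul_dvd_mul_right h7K 7)
  obtain ⟨e, he⟩ : ∃ e, Nat.card Nz = 7 * e := h7
  have he6 : e ∣ 6 := by
    rw [he, show (42 : ℕ) = 7 * 6 by norm_num, Nat.mul_dvd_mul_iff_left (by norm_num)] at h42
    exact h42
  have hn : Nat.card (Sylow 7 G) ∣ 720 := by
    have h : 7 * (e * Nat.card (Sylow 7 G)) ∣ 7 * 720 := by
      rw [← mul_assoc, ← he, hmul]; exact h5040
    exact (Dvd.intro_left e rfl).trans (Nat.dvd_of_mul_dvd_mul_left (by norm_num) h)
  have hcases : Nat.card (Sylow 7 G) ∈ ({8, 15, 36, 120} : Finset ℕ) := by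
    have : ∀ x ∈ Nat.divisors 720, x % 7 = 1 → x ≠ 1 → x ∈ ({8, 15, 36, 120} : Finset ℕ) := by
      decide +kernel
    exact this _ (Nat.mem_divisors.mpr ⟨hn, by norm_num⟩) hn7 hn1
  have hm : 7 * e * Nat.card (Sylow 7 G) = Nat.card G := by rw [← he]; exact hmul
  have he4 : e ∈ ({1, 2, 3, 6} : Finset ℕ) := by
    have : ∀ x ∈ Nat.divisors 6, x ∈ ({1, 2, 3, 6} : Finset ℕ) := by decide
    exact this _ (Nat.mem_divisors.mpr ⟨he6, by norm_num⟩)
  have hsq : Nat.card G ≠ 210 := by
    intro h
    have : IsZGroup G := IsZGroup.of_squarefree (by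
      rw [h, show (210 : ℕ) = 2 * 3 * 5 * 7 by norm_num,
        Nat.squarefree_mul (by norm_num), Nat.squarefree_mul (by norm_num),
        Nat.squarefree_mul (by norm_num)]
      exact ⟨⟨⟨Nat.prime_two.prime.squarefree, Nat.prime_three.prime.squarefree⟩,
        (Nat.Prime.prime (by norm_num)).squarefree⟩, (Nat.Prime.prime (by norm_num)).squarefree⟩)
    exact hG inferInstance
  simp only [Finset.mem_insert, Finset.mem_singleton] at hcases he4
  rcases hcases with h | h | h | h <;> rcases he4 with h' | h' | h' | h' <;>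
    rw [h, h'] at hm <;> subst h' <;>
    first
    | omega
    | exact absurd he hd1
    | (rw [← hm] at h5040; norm_num at h5040)
    | (rw [← hm] at h9; norm_num at h9)
    | (rw [← hm] at h16; norm_num at h16)

/-- Non-solvable transitive groups of degree seven other than `A₇`, `S₇` are simple of order 168. -/
theorem isSimple_of_degree_seven (hα : Fintype.card α = 7) (G : Subgroup (Equiv.Perm α))
    [MulAction.IsPretransitive G α] (hG : ¬ Group.IsSolvable G)
    (hA : ¬ alternatingGroup α ≤ G) : IsSimpleGroup G := by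
  haveI : Fact (Nat.Prime 7) := ⟨by norm_num⟩
  have h168 := card_eq_of_degree_seven hα G hG hA
  haveI hprim : MulAction.IsPreprimitive G α :=
    MulAction.IsPreprimitive.of_prime_card (by rw [Nat.card_eq_fintype_card, hα]; norm_num)
  haveI : Nontrivial G := Finite.one_lt_card_iff_nontrivial.mp (by omega)
  refine ⟨fun N hN => ?_⟩
  by_cases hfix : MulAction.fixedPoints N α = Set.univ
  · left
    rw [eq_bot_iff]
    intro d hd
    refine Subgroup.mem_bot.mpr (Subtype.ext (Equiv.ext fun x => ?_))
    have hx : x ∈ MulAction.fixedPoints N α := hfix ▸ Set.mem_univ x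
    exact hx ⟨d, hd⟩
  · right
    haveI : MulAction.IsPretransitive N α :=
      MulAction.IsQuasiPreprimitive.isPretransitive_of_normal hfix
    set N' := N.map G.subtype with hN'
    haveI : MulAction.IsPretransitive N' α := ⟨fun x y => by
      obtain ⟨g, hg⟩ := MulAction.exists_smul_eq N x y
      exact ⟨⟨((g : G) : Equiv.Perm α), Subgroup.mem_map_of_mem G.subtype g.2⟩, hg⟩⟩
    have hc : Nat.card N' = Nat.card N := Subgroup.card_map_of_injective G.subtype_injective
    by_cases hsol : Group.IsSolvable N'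
    · exfalso
      let e : N ≃* N' := N.equivMapOfInjective _ G.subtype_injective
      haveI : Group.IsSolvable N :=
        Group.isSolvable_of_isSolvable_injective (f := e.toMonoidHom) e.injective
      obtain ⟨a⟩ : Nonempty α := Fintype.card_pos_iff.mp (by omega)
      have h7 : 7 ∣ Nat.card N := by
        rw [← hα, ← Nat.card_eq_fintype_card (α := α),
          ← MulAction.index_stabilizer_of_transitive (G := N) a]
        exact Subgroup.index_dvd_card _
      have hq : Nat.card (G ⧸ N) ∣ 2 ^ 3 * 3 ^ 1 := by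
        obtain ⟨k, hk⟩ := h7
        have h := N.card_mul_index
        rw [hk, h168, mul_assoc] at h
        show N.index ∣ _
        exact Dvd.intro_left k (by omega)
      haveI : Group.IsSolvable (G ⧸ N) :=
        CfsgLib.Char.isSolvable_of_card_eq_pow_mul_pow Nat.prime_two Nat.prime_three hq
      exact hG (Group.isSolvable_of_ker_le_range N.subtype (QuotientGroup.mk' N) (by simp))
    · apply Subgroup.eq_top_of_card_eq
      rw [← hc, card_eq_of_degree_seven hα N' hsol
        (fun h => hA (h.trans (Subgroup.map_subtype_le N))), h168]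

end CfsgLib.SmallGroups
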