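import Mathlib

/-!
Homogeneous groups: descending from `k`-sets to `(k - 1)`-sets.
-/

set_option autoImplicit false

open scoped Pointwise

namespace CfsgLib.SmallGroups.Homogeneous

open Finset

variable {G α : Type*} [Group G] [MulAction G α] [DecidableEq α]

/-- Transitivity on `k`-element sets, stated with finsets. -/
def IsHom (G α : Type*) [Group G] [MulAction G α] [DecidableEq α] (k : ℕ) : Prop :=
  ∀ s t : Finset α, s.card = k → t.card = k → ∃ g : G, g • s = t

theorem isHom_of_isPretransitive {k : ℕ}
    (h : MulAction.IsPretransitive G (Set.powersetCard α k)) : IsHom G α k := by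
  intro s t hs ht
  obtain ⟨g, hg⟩ := h.exists_smul_eq (⟨s, hs⟩ : Set.powersetCard α k) ⟨t, ht⟩
  exact ⟨g, congrArg Subtype.val hg⟩

theorem isPretransitive_of_isHom {k : ℕ} (h : IsHom G α k) :
    MulAction.IsPretransitive G (Set.powersetCard α k) :=
  ⟨fun s t => by
    obtain ⟨g, hg⟩ := h s.1 t.1 s.2 t.2
    exact ⟨g, Subtype.ext hg⟩⟩

variable [Fintype α] (P : Finset α → Prop) [DecidablePred P]

/-- The members of the family having `k - 1` elements. -/
def fam (k : ℕ) : Finset (Finset α) :=
  ((univ : Finset α).powersetCard (k - 1)).filter P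

/-- The members containing `A` and avoiding `B`. -/
def famCount (k : ℕ) (A B : Finset α) : ℕ :=
  ((fam P k).filter fun Γ => A ⊆ Γ ∧ Disjoint B Γ).card

theorem card_supersets (k : ℕ) (A : Finset α) (hA : A.card ≤ k) :
    (((univ : Finset α).powersetCard k).filter fun K => A ⊆ K).card =
      (Fintype.card α - A.card).choose (k - A.card) := by
  rw [← card_compl, ← card_powersetCard]
  refine card_nbij' (fun K => K \ A) (fun D => D ∪ A) ?_ ?_ ?_ ?_
  · intro K hK
    simp only [coe_filter, mem_powersetCard, Set.mem_setOf_eq] at hK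
    simp only [mem_coe, mem_powersetCard]
    refine ⟨fun x hx => ?_, ?_⟩
    · rw [mem_sdiff] at hx; exact mem_compl.mpr hx.2
    · rw [card_sdiff_of_subset hK.2, hK.1.2]
  · intro D hD
    simp only [mem_coe, mem_powersetCard] at hD
    simp only [coe_filter, mem_powersetCard, Set.mem_setOf_eq]
    have hdis : Disjoint D A := disjoint_left.mpr fun x hx hxA => mem_compl.mp (hD.1 hx) hxA
    exact ⟨⟨subset_univ _, by rw [card_union_of_disjoint hdis, hD.2]; omega⟩, subset_union_right⟩
  · intro K hK
    simp only [coe_filter, mem_powersetCard, Set.mem_setOf_eq] at hK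
    exact sdiff_union_of_subset hK.2
  · intro D hD
    simp only [mem_coe, mem_powersetCard] at hD
    have hdis : Disjoint D A := disjoint_left.mpr fun x hx hxA => mem_compl.mp (hD.1 hx) hxA
    exact union_sdiff_cancel_right hdis

/-- The number of extensions of one member to a `k`-set containing `A`. -/
theorem card_extensions {k : ℕ} (hk : 1 ≤ k) {A Γ : Finset α} (hΓ : Γ.card = k - 1) :
    (Γᶜ.filter fun x => A ⊆ insert x Γ).card + (if A ⊆ Γ then A.card else 0) =
      (if A ⊆ Γ then Fintype.card α - (k - 1) else 0) + (A.filter fun x => A.erase x ⊆ Γ).card := by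
  by_cases h : A ⊆ Γ
  · rw [if_pos h, if_pos h, filter_true_of_mem fun x _ => h.trans (subset_insert x Γ),
      filter_true_of_mem fun x _ => (erase_subset x A).trans h, card_compl, hΓ]
  · rw [if_neg h, if_neg h, add_zero, zero_add]
    congr 1
    ext x
    simp only [mem_filter, mem_compl]
    constructor
    · rintro ⟨-, hx⟩
      refine ⟨?_, fun y hy => ?_⟩
      · by_contra hxA
        exact h fun y hy => (mem_insert.mp (hx hy)).resolve_left fun e => hxA (e ▸ hy)
      · rw [mem_erase] at hy
        exact (mem_insert.mp (hx hy.2)).resolve_left hy.1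
    · rintro ⟨hxA, hx⟩
      refine ⟨fun hxΓ => h fun y hy => ?_, fun y hy => ?_⟩
      · by_cases e : y = x
        · exact e ▸ hxΓ
        · exact hx (mem_erase.mpr ⟨e, hy⟩)
      · by_cases e : y = x
        · exact e ▸ mem_insert_self x Γ
        · exact mem_insert_of_mem (hx (mem_erase.mpr ⟨e, hy⟩))

/-- Double counting the pairs (member, `k`-set over it). -/
theorem count_identity {k c : ℕ} (hk : 1 ≤ k)
    (hc : ∀ K : Finset α, K.card = k → ((fam P k).filter fun Γ => Γ ⊆ K).card = c)
    (A : Finset α) (hA : A.card ≤ k) :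
    c * (Fintype.card α - A.card).choose (k - A.card) + A.card * famCount P k A ∅ =
      (Fintype.card α - (k - 1)) * famCount P k A ∅ + ∑ x ∈ A, famCount P k (A.erase x) ∅ := by
  have hd : ∀ S : Finset α, famCount P k S ∅ = ∑ Γ ∈ fam P k, if S ⊆ Γ then 1 else 0 := by
    intro S
    rw [famCount, card_filter]
    simp
  have h1 : ∑ Γ ∈ fam P k, (Γᶜ.filter fun x => A ⊆ insert x Γ).card =
      c * (Fintype.card α - A.card).choose (k - A.card) := by
    have hmem : ∀ Γ ∈ fam P k, Γ.card = k - 1 := fun Γ hΓ =>
      (mem_powersetCard.mp (mem_filter.mp hΓ).1).2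
    set Ks := ((univ : Finset α).powersetCard k).filter fun K => A ⊆ K with hKs
    have hstep : ∀ Γ ∈ fam P k, (Γᶜ.filter fun x => A ⊆ insert x Γ).card =
        (Ks.filter fun K => Γ ⊆ K).card := by
      intro Γ hΓ
      refine card_bij (fun x _ => insert x Γ) ?_ ?_ ?_
      · intro x hx
        simp only [mem_filter, mem_compl] at hx
        simp only [hKs, mem_filter, mem_powersetCard]
        refine ⟨⟨⟨subset_univ _, ?_⟩, hx.2⟩, subset_insert x Γ⟩
        rw [card_insert_of_notMem hx.1, hmem Γ hΓ]; omega
      · intro x hx y hy e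
        simp only [mem_filter, mem_compl] at hx
        exact (mem_insert.mp (e ▸ mem_insert_self x Γ : x ∈ insert y Γ)).resolve_right hx.1
      · intro K hK
        simp only [hKs, mem_filter, mem_powersetCard] at hK
        obtain ⟨x, hx⟩ := card_eq_one.mp (show (K \ Γ).card = 1 by
          rw [card_sdiff_of_subset hK.2, hK.1.1.2, hmem Γ hΓ]; omega)
        have hxmem : x ∈ K \ Γ := by rw [hx]; exact mem_singleton_self x
        rw [mem_sdiff] at hxmem
        have hins : insert x Γ = K := by
          rw [insert_eq, ← hx, sdiff_union_of_subset hK.2]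
        refine ⟨x, ?_, hins⟩
        simp only [mem_filter, mem_compl]
        exact ⟨hxmem.2, hins.symm ▸ hK.1.2⟩
    rw [sum_congr rfl hstep]
    simp only [card_filter]
    rw [sum_comm, sum_congr rfl (g := fun _ => c) fun K hK => ?_]
    · rw [sum_const, smul_eq_mul, mul_comm, hKs, card_supersets k A hA]
    · rw [← card_filter]
      exact hc K (mem_powersetCard.mp (mem_filter.mp hK).1).2
  have h2 : ∑ x ∈ A, famCount P k (A.erase x) ∅ =
      ∑ Γ ∈ fam P k, (A.filter fun x => A.erase x ⊆ Γ).card := by
    simp only [hd, card_filter]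
    exact sum_comm
  rw [← h1, h2, hd, mul_sum, mul_sum, ← sum_add_distrib, ← sum_add_distrib]
  refine sum_congr rfl fun Γ hΓ => ?_
  have := card_extensions (A := A) hk (mem_powersetCard.mp (mem_filter.mp hΓ).1).2
  split_ifs at this ⊢ with h
  · simpa using this
  · simpa using this

variable {k c : ℕ} (hk : 1 ≤ k) (hkn : k ≤ Fintype.card α)
  (hc : ∀ K : Finset α, K.card = k → ((fam P k).filter fun Γ => Γ ⊆ K).card = c)

include hk hkn hc

theorem mul_famCount_empty : ∀ (j : ℕ), j ≤ k - 1 → j ≤ Fintype.card α - k → ∀ A : Finset α,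
    A.card = j →
      k * famCount P k A ∅ = c * (Fintype.card α - j).choose (k - 1 - j) := by
  intro j
  induction j with
  | zero =>
    intro _ _ A hA
    rw [card_eq_zero] at hA
    subst hA
    have h := count_identity P hk hc ∅ (by simp)
    simp only [card_empty, Nat.sub_zero, zero_mul, add_zero, sum_empty] at h
    obtain ⟨l, rfl⟩ : ∃ l, k = l + 1 := ⟨k - 1, by omega⟩
    simp only [Nat.add_sub_cancel] at h ⊢
    rw [Nat.sub_zero]
    have h3 := Nat.choose_succ_right_eq (Fintype.card α) l
    have hpos : 0 < Fintype.card α - l := by omega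
    refine Nat.eq_of_mul_eq_mul_left hpos ?_
    calc (Fintype.card α - l) * ((l + 1) * famCount P (l + 1) ∅ ∅)
        = (l + 1) * ((Fintype.card α - l) * famCount P (l + 1) ∅ ∅) := by ring
      _ = (l + 1) * (c * (Fintype.card α).choose (l + 1)) := by rw [h]
      _ = c * ((Fintype.card α).choose (l + 1) * (l + 1)) := by ring
      _ = (Fintype.card α - l) * (c * (Fintype.card α).choose l) := by rw [h3]; ring
  | succ j ih =>
    intro hj1 hj2 A hA
    have h := count_identity P hk hc A (by omega)
    have hsum : k * ∑ x ∈ A, famCount P k (A.erase x) ∅ =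
        (j + 1) * (c * (Fintype.card α - j).choose (k - 1 - j)) := by
      rw [mul_sum, sum_congr rfl fun x hx => ih (by omega) (by omega) (A.erase x)
        (by rw [card_erase_of_mem hx, hA]; omega), sum_const, hA, smul_eq_mul]
    obtain ⟨r, hr⟩ : ∃ r, k = r + j + 2 := ⟨k - 2 - j, by omega⟩
    obtain ⟨N, hN⟩ : ∃ N, Fintype.card α = N + (j + 1) := ⟨Fintype.card α - (j + 1), by omega⟩
    have e1 : Fintype.card α - (k - 1) = N - r := by omega
    have e2 : Fintype.card α - (j + 1) = N := by omega
    have e3 : Fintype.card α - j = N + 1 := by omega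
    have e4 : k - (j + 1) = r + 1 := by omega
    have e5 : k - 1 - j = r + 1 := by omega
    have e6 : k - 1 - (j + 1) = r := by omega
    rw [hA, e1, e2, e4] at h
    rw [e3, e5, Nat.choose_succ_succ] at hsum
    rw [e2, e6]
    obtain ⟨M, hM⟩ : ∃ M, N = r + M := ⟨N - r, by omega⟩
    have hMj : j + 1 < M := by omega
    rw [show N - r = M by omega] at h
    have hch := Nat.choose_succ_right_eq N r
    rw [show N - r = M by omega] at hch
    set d := famCount P k A ∅
    set v := ∑ x ∈ A, famCount P k (A.erase x) ∅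
    set C0 := N.choose r
    set C1 := N.choose (r + 1)
    have hz : ((M : ℤ) - (j + 1)) * ((k : ℤ) * d - c * C0) = 0 := by
      have hk' : (k : ℤ) = r + j + 2 := by exact_mod_cast hr
      have h' : (c : ℤ) * C1 + (j + 1) * d = M * d + v := by exact_mod_cast h
      have hs' : (k : ℤ) * v = (j + 1) * (c * (C0 + C1)) := by exact_mod_cast hsum
      have hc' : (C1 : ℤ) * (r + 1) = C0 * M := by exact_mod_cast hch
      linear_combination (-(k : ℤ)) * h' - hs' + (c : ℤ) * hc' + (c : ℤ) * (C1 : ℤ) * hk'
    rcases mul_eq_zero.mp hz with h0 | h0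
    · omega
    · have : ((k * d : ℕ) : ℤ) = ((c * C0 : ℕ) : ℤ) := by push_cast; linarith
      exact_mod_cast this

theorem mul_famCount : ∀ (B A : Finset α), Disjoint A B → A.card ≤ k - 1 →
    A.card + B.card ≤ Fintype.card α - k →
      k * famCount P k A B = c * (Fintype.card α - A.card - B.card).choose (k - 1 - A.card) := by
  intro B
  induction B using Finset.induction_on with
  | empty =>
    intro A _ hA1 hA2
    rw [card_empty, Nat.sub_zero]
    exact mul_famCount_empty P hk hkn hc _ hA1 (by simpa using hA2) A rfl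
  | @insert b B hb ih =>
    intro A hdis hA1 hA2
    rw [disjoint_insert_right] at hdis
    rw [card_insert_of_notMem hb] at hA2 ⊢
    have hsplit : famCount P k A (insert b B) + famCount P k (insert b A) B = famCount P k A B := by
      simp only [famCount]
      rw [← card_union_of_disjoint]
      · congr 1
        ext Γ
        simp only [mem_union, mem_filter, disjoint_insert_left, insert_subset_iff]
        tauto
      · rw [disjoint_left]
        intro Γ h1 h2
        simp only [mem_filter, disjoint_insert_left, insert_subset_iff] at h1 h2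
        exact h1.2.2.1 h2.2.1.1
    have h1 := ih A hdis.2 hA1 (by omega)
    obtain ⟨N, hN⟩ : ∃ N, Fintype.card α - A.card - B.card = N + 1 :=
      ⟨Fintype.card α - A.card - B.card - 1, by omega⟩
    have hN' : Fintype.card α - A.card - (B.card + 1) = N := by omega
    rw [hN] at h1
    rw [hN']
    rcases Nat.eq_or_lt_of_le hA1 with he | hlt
    · have h0 : famCount P k (insert b A) B = 0 := by
        rw [famCount, card_eq_zero, filter_eq_empty_iff]
        rintro Γ hΓ ⟨hsub, -⟩
        have := card_le_card hsub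
        rw [card_insert_of_notMem hdis.1, (mem_powersetCard.mp (mem_filter.mp hΓ).1).2] at this
        omega
      rw [h0, add_zero] at hsplit
      rw [hsplit, h1, show k - 1 - A.card = 0 by omega, Nat.choose_zero_right, Nat.choose_zero_right]
    · have h2 := ih (insert b A) (disjoint_insert_left.mpr ⟨hb, hdis.2⟩)
        (by rw [card_insert_of_notMem hdis.1]; omega) (by rw [card_insert_of_notMem hdis.1]; omega)
      rw [card_insert_of_notMem hdis.1,
        show Fintype.card α - (A.card + 1) - B.card = N by omega] at h2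
      obtain ⟨r, hr⟩ : ∃ r, k - 1 - A.card = r + 1 := ⟨k - 2 - A.card, by omega⟩
      rw [hr, Nat.choose_succ_succ, ← hsplit] at h1
      rw [show k - 1 - (A.card + 1) = r by omega] at h2
      rw [hr]
      simp only [Nat.succ_eq_add_one, mul_add, h2] at h1
      omega

end CfsgLib.SmallGroups.Homogeneous

namespace CfsgLib.SmallGroups.Homogeneous

open Finset

variable {G α : Type*} [Group G] [MulAction G α] [Fintype α] [DecidableEq α]

/-- `k`-homogeneous gives `(k - 1)`-homogeneous. -/
theorem isHom_pred {k : ℕ} (hk : 2 ≤ k) (h : IsHom G α k)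
    (hq : ∀ q : ℕ, IsPrimePow q → q ∣ k → k + q - 1 ≤ Fintype.card α) : IsHom G α (k - 1) := by
  classical
  have hkn : k < Fintype.card α := by
    have hp := Nat.minFac_prime (show k ≠ 1 by omega)
    have := hq k.minFac hp.isPrimePow (Nat.minFac_dvd k)
    have := hp.two_le
    omega
  intro s₀ t hs₀ ht
  set P : Finset α → Prop := fun Γ => ∃ g : G, g • s₀ = Γ with hP
  obtain ⟨K₀, hK₀⟩ : ∃ K : Finset α, K.card = k :=
    (exists_subset_card_eq (s := (univ : Finset α)) (n := k) (by rw [card_univ]; omega)).imp
      fun _ h => h.2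
  set c := ((fam P k).filter fun Γ => Γ ⊆ K₀).card with hc0
  have hc : ∀ K : Finset α, K.card = k → ((fam P k).filter fun Γ => Γ ⊆ K).card = c := by
    intro K hK
    obtain ⟨g, rfl⟩ := h K₀ K hK₀ hK
    refine (card_nbij' (fun Γ => g • Γ) (fun Γ => g⁻¹ • Γ) ?_ ?_ ?_ ?_).symm
    · intro Γ hΓ
      simp only [coe_filter, fam, mem_filter, mem_powersetCard, Set.mem_setOf_eq] at hΓ ⊢
      obtain ⟨⟨⟨-, hcard⟩, u, hu⟩, hsub⟩ := hΓ
      exact ⟨⟨⟨subset_univ _, by rw [card_smul_finset, hcard]⟩, g * u, by rw [mul_smul, hu]⟩,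
        smul_finset_subset_smul_finset hsub⟩
    · intro Γ hΓ
      simp only [coe_filter, fam, mem_filter, mem_powersetCard, Set.mem_setOf_eq] at hΓ ⊢
      obtain ⟨⟨⟨-, hcard⟩, u, hu⟩, hsub⟩ := hΓ
      refine ⟨⟨⟨subset_univ _, by rw [card_smul_finset, hcard]⟩, g⁻¹ * u, by rw [mul_smul, hu]⟩, ?_⟩
      have := smul_finset_subset_smul_finset (a := g⁻¹) hsub
      rwa [inv_smul_smul] at this
    · intro Γ _; exact inv_smul_smul g Γ
    · intro Γ _; exact smul_inv_smul g Γ
  -- `k` divides the constant
  have hdvd : k ∣ c := by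
    rw [Nat.dvd_iff_prime_pow_dvd_dvd]
    intro p e hp he
    rcases Nat.eq_zero_or_pos e with rfl | hepos
    · simp
    set v := k.factorization p
    have hev : e ≤ v := (Nat.Prime.pow_dvd_iff_le_factorization hp (by omega)).mp he
    refine dvd_trans (pow_dvd_pow p hev) ?_
    have hqk : p ^ v ∣ k := Nat.ordProj_dvd k p
    have hbound := hq (p ^ v) (hp.isPrimePow.pow (by omega)) hqk
    set q := p ^ v
    have hq1 : 1 ≤ q := Nat.one_le_pow _ _ hp.pos
    have hqle : q ≤ k := Nat.le_of_dvd (by omega) hqk
    obtain ⟨A, -, hA⟩ := exists_subset_card_eq (s := (univ : Finset α)) (n := q - 1)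
      (by rw [card_univ]; omega)
    obtain ⟨B, hBsub, hB⟩ := exists_subset_card_eq (s := Aᶜ)
      (n := Fintype.card α - k - (q - 1)) (by rw [card_compl, hA]; omega)
    have hdis : Disjoint A B := disjoint_left.mpr fun x hx hxB => mem_compl.mp (hBsub hxB) hx
    have hf := mul_famCount P (by omega) (by omega) hc B A hdis (by omega) (by omega)
    rw [hA, hB, show Fintype.card α - (q - 1) - (Fintype.card α - k - (q - 1)) = k by omega,
      show k - 1 - (q - 1) = k - q by omega, Nat.choose_symm hqle] at hf
    haveI := Fact.mk hp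
    set m := k / q
    have hm : k = q * m := (Nat.mul_div_cancel' hqk).symm
    have hpm : ¬ p ∣ m := Nat.not_dvd_ordCompl hp (by omega)
    have hmod : k.choose q ≡ m [MOD p] := by
      have h1 := Choose.choose_pow_mul_pow_mul_modEq_choose_nat (p := p) (k := v) (a := m) (b := 1)
      rw [mul_one, Nat.choose_one_right] at h1
      exact hm ▸ h1
    have hnd : ¬ p ∣ k.choose q := fun h' => hpm ((hmod.dvd_iff dvd_rfl).mp h')
    have hdc : q ∣ c * k.choose q := hf ▸ dvd_mul_of_dvd_left hqk _
    exact (((Nat.Prime.coprime_iff_not_dvd hp).mpr hnd).pow_left v).dvd_of_dvd_mul_right hdc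
  -- so every `k`-set lies over members only
  obtain ⟨z, hz⟩ : (s₀ᶜ).Nonempty := card_pos.mp (by rw [card_compl, hs₀]; omega)
  have hKz : (insert z s₀).card = k := by
    rw [card_insert_of_notMem (mem_compl.mp hz), hs₀]; omega
  have hpos : 0 < c := by
    rw [← hc _ hKz]
    refine card_pos.mpr ⟨s₀, ?_⟩
    simp only [fam, mem_filter, mem_powersetCard]
    exact ⟨⟨⟨subset_univ _, hs₀⟩, 1, one_smul G s₀⟩, subset_insert z s₀⟩
  obtain ⟨x, hx⟩ : (tᶜ).Nonempty := card_pos.mp (by rw [card_compl, ht]; omega)
  have hKt : (insert x t).card = k := by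
    rw [card_insert_of_notMem (mem_compl.mp hx), ht]; omega
  have hsub : (fam P k).filter (fun Γ => Γ ⊆ insert x t) ⊆ (insert x t).powersetCard (k - 1) := by
    intro Γ hΓ
    simp only [fam, mem_filter, mem_powersetCard] at hΓ ⊢
    exact ⟨hΓ.2, hΓ.1.1.2⟩
  have hcard : ((insert x t).powersetCard (k - 1)).card = k := by
    rw [card_powersetCard, hKt]
    obtain ⟨l, rfl⟩ : ∃ l, k = l + 1 := ⟨k - 1, by omega⟩
    simp
  have heq := eq_of_subset_of_card_le hsub (by
    rw [hcard, hc _ hKt]; exact Nat.le_of_dvd hpos hdvd)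
  have : t ∈ (fam P k).filter (fun Γ => Γ ⊆ insert x t) := by
    rw [heq, mem_powersetCard]
    exact ⟨subset_insert x t, ht⟩
  simp only [fam, mem_filter] at this
  exact this.1.2

/-- Homogeneity descends below half the degree. -/
theorem isHom_of_le {k : ℕ} (h : IsHom G α k) (hkn : 2 * k ≤ Fintype.card α + 1) :
    ∀ j, j ≤ k → 1 ≤ j → IsHom G α j := by
  induction k with
  | zero => intro j h1 h2; omega
  | succ k ih =>
    intro j hj h1
    rcases Nat.eq_or_lt_of_le hj with rfl | hlt
    · exact h
    refine ih (isHom_pred (k := k + 1) (by omega) h ?_) (by omega) j (by omega) h1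
    intro q hq hdvd
    have := Nat.le_of_dvd (by omega) hdvd
    omega

end CfsgLib.SmallGroups.Homogeneous
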