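import Mathlib

/-!
Orbits of a group on `k`-tuples of distinct points, with the action of the symmetric group on the
coordinates. In a `k`-transitive group where only the identity fixes `k + 1` points, the classes
of `(k + 1)`-tuples fixed by a nontrivial coordinate permutation are few.
-/

set_option autoImplicit false

namespace CfsgLib.SmallGroups.TupleClass

open MulAction Function

variable {G α : Type*} [Group G] [MulAction G α] {k : ℕ}

/-- Orbits of `G` on `k`-tuples of distinct points. -/
def Cls (G α : Type*) [Group G] [MulAction G α] (k : ℕ) :=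
  MulAction.orbitRel.Quotient G (Fin k ↪ α)

/-- The class of a tuple. -/
def cls (G : Type*) {α : Type*} [Group G] [MulAction G α] {k : ℕ} (t : Fin k ↪ α) : Cls G α k :=
  Quotient.mk'' t

theorem cls_eq_iff {s t : Fin k ↪ α} : cls G s = cls G t ↔ ∃ g : G, g • t = s :=
  Quotient.eq''

theorem cls_surjective : Surjective (cls G : (Fin k ↪ α) → Cls G α k) :=
  fun c => Quotient.exists_rep c

instance finiteCls [Finite α] : Finite (Cls G α k) := Finite.of_surjective _ cls_surjective

/-- Permuting the coordinates of a tuple class. -/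
instance tupleClassMulAction : MulAction (Equiv.Perm (Fin k)) (Cls G α k) where
  smul σ := Quotient.lift (fun t => cls G ((σ⁻¹).toEmbedding.trans t)) (by
    rintro s t ⟨g, hg⟩
    exact cls_eq_iff.mpr ⟨g, by ext i; exact DFunLike.congr_fun hg (σ⁻¹ i)⟩)
  one_smul c := by
    obtain ⟨t, rfl⟩ := cls_surjective c
    show cls G _ = cls G t
    congr 1
  mul_smul σ π c := by
    obtain ⟨t, rfl⟩ := cls_surjective c
    show cls G _ = cls G _
    congr 1

theorem smul_cls (σ : Equiv.Perm (Fin k)) (t : Fin k ↪ α) :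
    σ • cls G t = cls G ((σ⁻¹).toEmbedding.trans t) := rfl

/-- A class is fixed by a coordinate permutation when some group element realises it. -/
theorem smul_cls_eq_self_iff {σ : Equiv.Perm (Fin k)} {t : Fin k ↪ α} :
    σ • cls G t = cls G t ↔ ∃ g : G, ∀ i, g • t i = t (σ i) := by
  rw [smul_cls, eq_comm, cls_eq_iff]
  constructor
  · rintro ⟨g, hg⟩
    refine ⟨g, fun i => ?_⟩
    have h := DFunLike.congr_fun hg (σ i)
    simpa using h
  · rintro ⟨g, hg⟩
    refine ⟨g, ?_⟩
    ext i
    have h := hg (σ⁻¹ i)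
    simpa using h

/-- The elements mapping one point to another form a coset of the stabiliser. -/
theorem card_fibre {β : Type*} [MulAction G β] (x : β) (g₀ : G) :
    Nat.card {g : G // g • x = g₀ • x} = Nat.card (stabilizer G x) :=
  Nat.card_congr
    { toFun := fun g => ⟨g₀⁻¹ * g.1, by rw [mem_stabilizer_iff, mul_smul, g.2, inv_smul_smul]⟩
      invFun := fun h => ⟨g₀ * h.1, by rw [mul_smul, mem_stabilizer_iff.mp h.2]⟩
      left_inv := fun g => Subtype.ext (mul_inv_cancel_left g₀ g.1)
      right_inv := fun h => Subtype.ext (inv_mul_cancel_left g₀ h.1) }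

/-- Only the identity fixes more than `k` points. -/
def Semifree (G α : Type*) [Group G] [MulAction G α] (k : ℕ) : Prop :=
  ∀ (g : G) (t : Fin (k + 1) ↪ α), g • t = t → g = 1

theorem Semifree.card_fixedBy_le [Finite α] (hfree : Semifree G α k) {g : G} (hg : g ≠ 1) :
    Nat.card {a : α // g • a = a} ≤ k := by
  by_contra hlt
  cases nonempty_fintype α
  classical
  obtain ⟨e⟩ := Embedding.nonempty_of_card_le (α := Fin (k + 1)) (β := {a : α // g • a = a}) (by
    rw [Fintype.card_fin, ← Nat.card_eq_fintype_card]; omega)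
  refine hg (hfree g (e.trans (Embedding.subtype _)) ?_)
  ext i
  exact (e i).2

theorem card_cls_mul [Finite α] [Finite G] (hfree : Semifree G α k)
    (ht : IsMultiplyPretransitive G α k) (hk : k ≤ Nat.card α) (x : Fin k ↪ α) :
    Nat.card (Cls G α (k + 1)) * Nat.card (stabilizer G x) = Nat.card α - k := by
  cases nonempty_fintype α
  classical
  have hs : ∀ t : Fin (k + 1) ↪ α, stabilizer G t = ⊥ := fun t =>
    (Subgroup.eq_bot_iff_forall _).mpr fun g hg => hfree g t hg
  have h1 : Nat.card (Fin (k + 1) ↪ α) = Nat.card (Cls G α (k + 1)) * Nat.card G := by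
    rw [Nat.card_congr (selfEquivOrbitsQuotientProd hs), Nat.card_prod]
    rfl
  have h2 : Nat.card G = Nat.card (Fin k ↪ α) * Nat.card (stabilizer G x) := by
    rw [← index_stabilizer_of_transitive G x, mul_comm, Subgroup.card_mul_index]
  have h3 : Nat.card (Fin (k + 1) ↪ α) = (Nat.card α - k) * Nat.card (Fin k ↪ α) := by
    simp only [Nat.card_eq_fintype_card, Fintype.card_embedding_eq, Fintype.card_fin,
      Nat.descFactorial_succ]
  have h4 : 0 < Nat.card (Fin k ↪ α) := Nat.card_pos_iff.mpr ⟨⟨x⟩, inferInstance⟩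
  rw [h3, h2] at h1
  refine Nat.eq_of_mul_eq_mul_left h4 ?_
  rw [mul_comm (Nat.card (Fin k ↪ α)) (Nat.card α - k), h1]
  ring

/-- The bound on the classes fixed by a nontrivial coordinate permutation fixing `0`. -/
theorem card_fixed_add_card_le [Finite α] [Finite G] (hfree : Semifree G α k)
    (ht : IsMultiplyPretransitive G α k) (hk : k ≤ Nat.card α)
    {σ : Equiv.Perm (Fin (k + 1))} (h0 : σ 0 = 0) (hσ : σ ≠ 1) :
    Nat.card {c : Cls G α (k + 1) // σ • c = c} + Nat.card {i : Fin (k + 1) // σ i = i} ≤
      k + 1 := by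
  cases nonempty_fintype α
  cases nonempty_fintype G
  classical
  haveI := ht
  obtain ⟨x⟩ := Embedding.nonempty_of_card_le (α := Fin k) (β := α) (by
    rw [Fintype.card_fin, ← Nat.card_eq_fintype_card]; exact hk)
  have hne : ∀ i : Fin k, σ i.succ ≠ 0 := fun i e =>
    Fin.succ_ne_zero i (σ.injective (e.trans h0.symm))
  set w : Fin k ↪ α := ⟨fun i => x ((σ i.succ).pred (hne i)), fun i j h =>
    Fin.succ_injective _ (σ.injective (Fin.pred_inj.mp (x.injective h)))⟩ with hw
  have hwi : ∀ i, w i = x ((σ i.succ).pred (hne i)) := fun i => rfl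
  have hrep : ∀ c : Cls G α (k + 1), ∃ t : Fin (k + 1) ↪ α,
      cls G t = c ∧ ∀ i : Fin k, t i.succ = x i := by
    intro c
    obtain ⟨t, rfl⟩ := cls_surjective c
    obtain ⟨g, hg⟩ := exists_smul_eq G ((Fin.succEmb k).trans t) x
    exact ⟨g • t, cls_eq_iff.mpr ⟨g, rfl⟩, fun i => DFunLike.congr_fun hg i⟩
  choose rep hrep1 hrep2 using hrep
  set F := {c : Cls G α (k + 1) // σ • c = c}
  set N := stabilizer G x with hN
  set C := {g : G // g • x = w}
  set O := {a : α // a ∉ Set.range x}
  have hNx : ∀ (h : N) (i : Fin k), (h : G) • x i = x i := fun h i =>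
    DFunLike.congr_fun (mem_stabilizer_iff.mp h.2) i
  have hOmem : ∀ (c : Cls G α (k + 1)) (h : N), (h : G) • rep c 0 ∉ Set.range x := by
    rintro c h ⟨i, hi⟩
    rw [← hNx h i, ← hrep2 c i] at hi
    exact Fin.succ_ne_zero i ((rep c).injective (MulAction.injective (h : G) hi))
  set φ : F × N → O := fun p => ⟨(p.2 : G) • rep p.1.1 0, hOmem p.1.1 p.2⟩ with hφ
  have hφinj : Injective φ := by
    rintro ⟨c, h⟩ ⟨c', h'⟩ e
    have e' : (h : G) • rep c.1 0 = (h' : G) • rep c'.1 0 := congrArg Subtype.val e
    have hact : (((h' : G))⁻¹ * h) • rep c.1 = rep c'.1 := by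
      ext i
      rw [Embedding.smul_apply]
      induction i using Fin.cases with
      | zero => rw [mul_smul, e', inv_smul_smul]
      | succ j => rw [hrep2, hrep2, mul_smul, hNx, inv_smul_eq_iff, hNx]
    have hc : c = c' := by
      apply Subtype.ext
      rw [← hrep1 c.1, ← hrep1 c'.1]
      exact (cls_eq_iff.mpr ⟨_, hact⟩).symm
    subst hc
    have := hfree _ _ hact
    exact Prod.ext rfl (Subtype.ext (inv_mul_eq_one.mp this).symm)
  have hfix : ∀ p : F × N, ∃ g : C, g.1 • (φ p).1 = (φ p).1 := by
    rintro ⟨⟨c, hc⟩, h⟩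
    rw [← hrep1 c, smul_cls_eq_self_iff] at hc
    obtain ⟨g, hg⟩ := hc
    refine ⟨⟨(h : G) * g * (h : G)⁻¹, ?_⟩, ?_⟩
    · ext i
      rw [Embedding.smul_apply, mul_smul, mul_smul, inv_smul_eq_iff.mpr (hNx h i).symm,
        ← hrep2 c i, hg]
      obtain ⟨j, hj⟩ := Fin.exists_succ_eq.mpr (hne i)
      show (h : G) • rep c (σ i.succ) = x ((σ i.succ).pred (hne i))
      simp only [← hj, hrep2, Fin.pred_succ, hNx]
    · show ((h : G) * g * (h : G)⁻¹) • ((h : G) • rep c 0) = (h : G) • rep c 0
      rw [mul_smul, mul_smul, inv_smul_smul, hg, h0]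
  choose gsel hgsel using hfix
  have hle : Nat.card (F × N) ≤ Nat.card (Σ g : C, {a : O // g.1 • a.1 = a.1}) := by
    refine Nat.card_le_card_of_injective (fun p => ⟨gsel p, ⟨φ p, hgsel p⟩⟩) fun p q e => hφinj ?_
    exact congrArg (fun z : Σ g : C, {a : O // g.1 • a.1 = a.1} => z.2.1) e
  set f := Nat.card {i : Fin (k + 1) // σ i = i} with hf
  have hfsucc : Nat.card {i : Fin k // σ i.succ = i.succ} + 1 = f := by
    have e : {i : Fin (k + 1) // σ i = i} ≃ Option {i : Fin k // σ i.succ = i.succ} :=
      { toFun := fun i => if h : i.1 = 0 then none else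
          some ⟨i.1.pred h, by rw [Fin.succ_pred]; exact i.2⟩
        invFun := fun o => o.elim ⟨0, h0⟩ fun i => ⟨i.1.succ, i.2⟩
        left_inv := fun i => by
          by_cases h : i.1 = 0
          · simp only [h, ↓reduceDIte]; exact Subtype.ext h.symm
          · simp only [h, ↓reduceDIte]; exact Subtype.ext (Fin.succ_pred i.1 h)
        right_inv := fun o => by
          rcases o with _ | i
          · simp
          · simp [Fin.succ_ne_zero] }
    rw [hf, Nat.card_congr e, Finite.card_option]
  have hbound : ∀ g : C, Nat.card {a : O // g.1 • a.1 = a.1} + f ≤ k + 1 := by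
    intro g
    have hg1 : g.1 ≠ 1 := by
      intro e
      apply hσ
      refine Equiv.ext fun i => ?_
      induction i using Fin.cases with
      | zero => simpa using h0
      | succ j =>
        have h1 := DFunLike.congr_fun g.2 j
        rw [e, one_smul] at h1
        obtain ⟨l, hl⟩ := Fin.exists_succ_eq.mpr (hne j)
        have h2 : x j = x l := by simpa [hwi, ← hl] using h1
        rw [← hl, ← x.injective h2]; rfl
    have h1 : Nat.card ({a : O // g.1 • a.1 = a.1} ⊕ {i : Fin k // σ i.succ = i.succ}) ≤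
        Nat.card {a : α // g.1 • a = a} := by
      have hx : ∀ i : Fin k, σ i.succ = i.succ → g.1 • x i = x i := fun i hi => by
        have h1 := DFunLike.congr_fun g.2 i
        simpa [hwi, hi] using h1
      refine Nat.card_le_card_of_injective
        (Sum.elim (fun a => ⟨a.1.1, a.2⟩) fun i => ⟨x i.1, hx i.1 i.2⟩) ?_
      rintro (a | i) (b | j) e <;> have e' := congrArg Subtype.val e
      · exact congrArg Sum.inl (Subtype.ext (Subtype.ext e'))
      · exact absurd ⟨j.1, e'.symm⟩ a.1.2
      · exact absurd ⟨i.1, e'⟩ b.1.2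
      · exact congrArg Sum.inr (Subtype.ext (x.injective e'))
    rw [Nat.card_sum] at h1
    have h2 := hfree.card_fixedBy_le hg1
    omega
  by_cases hF : IsEmpty F
  · have h1 : Nat.card F = 0 := Nat.card_of_isEmpty
    have h2 : f ≤ k + 1 := by
      have := Nat.card_le_card_of_injective (Subtype.val : {i : Fin (k + 1) // σ i = i} → _)
        Subtype.val_injective
      rwa [Nat.card_eq_fintype_card (α := Fin (k + 1)), Fintype.card_fin] at this
    show Nat.card F + f ≤ k + 1
    omega
  obtain ⟨c₀⟩ := not_isEmpty_iff.mp hF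
  have hCN : Nat.card C = Nat.card N := by
    have h := (gsel (c₀, 1)).2
    show Nat.card {g : G // g • x = w} = _
    simp only [← h]
    exact card_fibre x _
  have hNpos : 0 < Nat.card N := Nat.card_pos
  have hsum : Nat.card (Σ g : C, {a : O // g.1 • a.1 = a.1}) ≤ Nat.card C * (k + 1 - f) := by
    rw [Nat.card_sigma]
    refine le_trans (Finset.sum_le_sum fun g _ => (show _ ≤ k + 1 - f by
      have := hbound g; omega)) ?_
    rw [Finset.sum_const, Finset.card_univ, ← Nat.card_eq_fintype_card, smul_eq_mul]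
  rw [Nat.card_prod] at hle
  rw [hCN, mul_comm (Nat.card N)] at hsum
  have h3 := Nat.le_of_mul_le_mul_right (hle.trans hsum) hNpos
  have h4 : f ≤ k + 1 := by
    have := Nat.card_le_card_of_injective (Subtype.val : {i : Fin (k + 1) // σ i = i} → _)
      Subtype.val_injective
    rwa [Nat.card_eq_fintype_card (α := Fin (k + 1)), Fintype.card_fin] at this
  show Nat.card F + f ≤ k + 1
  omega

end CfsgLib.SmallGroups.TupleClass
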