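import Mathlib
import Cfsg.Agent.Lib.SmallGroups.TupleClasses
import Cfsg.Agent.Lib.SmallGroups.Homogeneous

/-!
Double counting over the facets of ordered tuples, for functions of tuple classes.
-/

set_option autoImplicit false

open scoped Pointwise

namespace CfsgLib.SmallGroups.TupleClass

open MulAction Function Finset

section Facets

variable {G α : Type*} [Group G] [MulAction G α]

/-- Extend a permutation of `Fin m` to `Fin (m + 1)` fixing `0`. -/
def ext0 {m : ℕ} (ρ : Equiv.Perm (Fin m)) : Equiv.Perm (Fin (m + 1)) :=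
  Equiv.Perm.decomposeFin.symm (0, ρ)

@[simp] theorem ext0_zero {m : ℕ} (ρ : Equiv.Perm (Fin m)) : ext0 ρ 0 = 0 :=
  Equiv.Perm.decomposeFin_symm_apply_zero 0 ρ

@[simp] theorem ext0_succ {m : ℕ} (ρ : Equiv.Perm (Fin m)) (j : Fin m) :
    ext0 ρ j.succ = (ρ j).succ := by
  rw [ext0, Equiv.Perm.decomposeFin_symm_apply_succ, Equiv.swap_self, Equiv.refl_apply]

theorem ext0_mul {m : ℕ} (ρ π : Equiv.Perm (Fin m)) : ext0 (ρ * π) = ext0 ρ * ext0 π := by
  refine Equiv.ext fun i => ?_
  induction i using Fin.cases with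
  | zero => simp
  | succ j => simp

theorem ext0_inv {m : ℕ} (ρ : Equiv.Perm (Fin m)) : ext0 ρ⁻¹ = (ext0 ρ)⁻¹ := by
  refine eq_inv_of_mul_eq_one_left ?_
  rw [← ext0_mul, inv_mul_cancel]
  refine Equiv.ext fun i => ?_
  induction i using Fin.cases with
  | zero => simp
  | succ j => simp

theorem sign_ext0 {m : ℕ} (ρ : Equiv.Perm (Fin m)) :
    Equiv.Perm.sign (ext0 ρ) = Equiv.Perm.sign ρ := by
  rw [ext0, Equiv.Perm.decomposeFin.symm_sign, if_pos rfl, one_mul]

theorem exists_ext0 {m : ℕ} {π π' : Equiv.Perm (Fin (m + 1))} (h : π 0 = π' 0) :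
    ∃ ρ : Equiv.Perm (Fin m), π' = π * ext0 ρ := by
  refine ⟨(Equiv.Perm.decomposeFin (π⁻¹ * π')).2, ?_⟩
  have h1 : Equiv.Perm.decomposeFin (π⁻¹ * π') = (0, (Equiv.Perm.decomposeFin (π⁻¹ * π')).2) := by
    refine Prod.ext ?_ rfl
    set z := Equiv.Perm.decomposeFin (π⁻¹ * π') with hz
    have h2 : Equiv.Perm.decomposeFin.symm z 0 = z.1 :=
      Equiv.Perm.decomposeFin_symm_apply_zero z.1 z.2
    rw [hz, Equiv.symm_apply_apply] at h2
    rw [hz, ← h2, Equiv.Perm.mul_apply, ← h]
    exact π.symm_apply_apply 0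
  rw [ext0, ← h1, Equiv.symm_apply_apply, mul_inv_cancel_left]

/-- The tail of a tuple. -/
def tail {t : ℕ} (u : Fin (t + 1) ↪ α) : Fin t ↪ α := (Fin.succEmb t).trans u

/-- The class of the facet omitting position `π 0`, in the order given by `π`. -/
def facetCls (G : Type*) {α : Type*} [Group G] [MulAction G α] {m : ℕ} (φ : Fin (m + 1) ↪ α)
    (π : Equiv.Perm (Fin (m + 1))) : Cls G α m :=
  cls G (tail (π.toEmbedding.trans φ))

theorem facetCls_mul_ext0 {m : ℕ} (φ : Fin (m + 1) ↪ α) (π : Equiv.Perm (Fin (m + 1)))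
    (ρ : Equiv.Perm (Fin m)) : facetCls G φ (π * ext0 ρ) = ρ⁻¹ • facetCls G φ π := by
  rw [facetCls, facetCls, smul_cls]
  congr 1

theorem facetCls_trans {m : ℕ} (φ : Fin (m + 1) ↪ α) (σ π : Equiv.Perm (Fin (m + 1))) :
    facetCls G (σ.toEmbedding.trans φ) π = facetCls G φ (σ * π) := rfl

theorem facetCls_smul {m : ℕ} (g : G) (φ : Fin (m + 1) ↪ α) (π : Equiv.Perm (Fin (m + 1))) :
    facetCls G (g • φ) π = facetCls G φ π :=
  cls_eq_iff.mpr ⟨g, by ext j; rfl⟩

/-- Reordering a set of `k` points. -/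
theorem exists_perm_of_isHom [DecidableEq α] {k : ℕ} (h : Homogeneous.IsHom G α k)
    (φ ψ : Fin k ↪ α) : ∃ (g : G) (σ : Equiv.Perm (Fin k)), g • σ.toEmbedding.trans φ = ψ := by
  obtain ⟨g, hg⟩ := h (univ.map φ) (univ.map ψ) (by simp) (by simp)
  have hex : ∀ i, ∃ j, g • φ j = ψ i := by
    intro i
    have hmem : ψ i ∈ g • univ.map φ := by rw [hg]; exact mem_map_of_mem ψ (mem_univ i)
    obtain ⟨y, hy, hyi⟩ := mem_smul_finset.mp hmem
    obtain ⟨j, -, rfl⟩ := mem_map.mp hy
    exact ⟨j, hyi⟩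
  choose f hf using hex
  have hinj : Injective f := fun i j e => ψ.injective (by rw [← hf i, ← hf j, e])
  refine ⟨g, Equiv.ofBijective f (Finite.injective_iff_bijective.mp hinj), ?_⟩
  ext i
  exact hf i

/-- The symmetric group is transitive on the classes of a homogeneous group. -/
theorem exists_smul_cls_eq [DecidableEq α] {k : ℕ} (h : Homogeneous.IsHom G α k)
    (c d : Cls G α k) : ∃ σ : Equiv.Perm (Fin k), σ • c = d := by
  obtain ⟨φ, rfl⟩ := cls_surjective c
  obtain ⟨ψ, rfl⟩ := cls_surjective d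
  obtain ⟨g, σ, hg⟩ := exists_perm_of_isHom h φ ψ
  refine ⟨σ⁻¹, ?_⟩
  rw [smul_cls, inv_inv]
  exact (cls_eq_iff.mpr ⟨g, hg⟩).symm

variable [Fintype α] [DecidableEq α]

/-- The sum over ordered pairs of positions does not depend on the tuple. -/
theorem offdiag_const {k : ℕ} (h : Homogeneous.IsHom G α k)
    (F : Fin k → Fin k → (Fin k ↪ α) → ℤ)
    (hF : ∀ (σ : Equiv.Perm (Fin k)) i j φ, F i j (σ.toEmbedding.trans φ) = F (σ i) (σ j) φ)
    (hG : ∀ (g : G) i j φ, F i j (g • φ) = F i j φ) (φ ψ : Fin k ↪ α) :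
    ∑ i, ∑ j, F i j ψ = ∑ i, ∑ j, F i j φ := by
  obtain ⟨g, σ, rfl⟩ := exists_perm_of_isHom h φ ψ
  simp only [hG, hF]
  rw [Fintype.sum_equiv σ (fun i => ∑ j, F (σ i) (σ j) φ) (fun i => ∑ j, F i (σ j) φ) fun i => rfl]
  exact Finset.sum_congr rfl fun i _ =>
    Fintype.sum_equiv σ (fun j => F i (σ j) φ) (fun j => F i j φ) fun j => rfl

omit [MulAction G α] [Group G] in
/-- Over all tuples every pair of distinct positions contributes alike. -/
theorem sum_offdiag {k : ℕ} (hk : 2 ≤ k) (F : Fin k → Fin k → (Fin k ↪ α) → ℤ)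
    (hF : ∀ (σ : Equiv.Perm (Fin k)) i j φ, F i j (σ.toEmbedding.trans φ) = F (σ i) (σ j) φ)
    (hd : ∀ i φ ψ, F i i φ = F i i ψ) (φ₀ : Fin k ↪ α) :
    ∑ φ : Fin k ↪ α, ∑ i, ∑ j, F i j φ =
      (Fintype.card (Fin k ↪ α) : ℤ) * (∑ i, F i i φ₀) +
        (k : ℤ) * (k - 1) * ∑ φ : Fin k ↪ α, F ⟨0, by omega⟩ ⟨1, by omega⟩ φ := by
  set z : Fin k := ⟨0, by omega⟩ with hz
  set o : Fin k := ⟨1, by omega⟩ with ho
  have hzo : z ≠ o := by simp [hz, ho, Fin.ext_iff]
  have hoff : ∀ i j, i ≠ j → ∑ φ : Fin k ↪ α, F i j φ = ∑ φ : Fin k ↪ α, F z o φ := by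
    intro i j hij
    set σ := Equiv.swap z i * Equiv.swap o (Equiv.swap z i j) with hσ
    have hne : z ≠ Equiv.swap z i j := by
      intro e
      have := congrArg (Equiv.swap z i) e
      rw [Equiv.swap_apply_left, Equiv.swap_apply_self] at this
      exact hij this
    have h0 : σ z = i := by
      rw [hσ, Equiv.Perm.mul_apply, Equiv.swap_apply_of_ne_of_ne hzo hne, Equiv.swap_apply_left]
    have h1 : σ o = j := by
      rw [hσ, Equiv.Perm.mul_apply, Equiv.swap_apply_left, Equiv.swap_apply_self]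
    let e : (Fin k ↪ α) ≃ (Fin k ↪ α) :=
      { toFun := fun φ => σ.toEmbedding.trans φ
        invFun := fun φ => σ⁻¹.toEmbedding.trans φ
        left_inv := fun φ => by ext l; simp
        right_inv := fun φ => by ext l; simp }
    refine (Fintype.sum_equiv e (fun φ => F z o (σ.toEmbedding.trans φ)) _ fun φ => rfl).symm.trans
      ?_ |>.symm
    simp only [hF, h0, h1]
  have hsplit : ∀ φ : Fin k ↪ α, ∑ i, ∑ j, F i j φ =
      (∑ i, F i i φ₀) + ∑ i, ∑ j ∈ univ.erase i, F i j φ := by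
    intro φ
    rw [← Finset.sum_add_distrib]
    refine Finset.sum_congr rfl fun i _ => ?_
    rw [hd i φ₀ φ]
    exact (Finset.add_sum_erase _ (fun j => F i j φ) (mem_univ i)).symm
  rw [Finset.sum_congr rfl fun φ _ => hsplit φ, Finset.sum_add_distrib, Finset.sum_const,
    Finset.card_univ, nsmul_eq_mul, Finset.sum_comm]
  congr 1
  rw [Finset.sum_congr rfl fun i _ => Finset.sum_comm,
    Finset.sum_congr rfl fun i _ => Finset.sum_congr rfl fun j hj =>
      hoff i j (Finset.ne_of_mem_erase hj).symm]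
  simp only [Finset.sum_const, Finset.card_erase_of_mem, Finset.mem_univ, Finset.card_univ,
    Fintype.card_fin, nsmul_eq_mul, Nat.cast_sub (show 1 ≤ k by omega), Nat.cast_one]
  ring

/-- The tuples with a given tail. -/
noncomputable def fib {t : ℕ} (T : Fin t ↪ α) : Finset (Fin (t + 1) ↪ α) := univ.filter fun u => tail u = T

omit [MulAction G α] [Group G] in
theorem mem_fib {t : ℕ} {T : Fin t ↪ α} {u : Fin (t + 1) ↪ α} : u ∈ fib T ↔ tail u = T := by
  simp [fib]

omit [MulAction G α] [Group G] in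
theorem eq_of_tail_eq {t : ℕ} {u v : Fin (t + 1) ↪ α} (h : tail u = tail v) (h0 : u 0 = v 0) :
    u = v := by
  ext i
  induction i using Fin.cases with
  | zero => exact h0
  | succ j => exact DFunLike.congr_fun h j

omit [MulAction G α] [Group G] in
theorem card_fib {t : ℕ} (T : Fin t ↪ α) : (fib T).card = Fintype.card α - t := by
  have : (fib T).card = ((univ.map T)ᶜ).card := by
    refine card_bij (fun u _ => u 0) ?_ ?_ ?_
    · intro u hu
      rw [mem_fib] at hu
      simp only [mem_compl, mem_map, mem_univ, true_and, not_exists]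
      intro i hi
      rw [← hu] at hi
      exact Fin.succ_ne_zero i (u.injective hi)
    · intro u hu v hv e
      rw [mem_fib] at hu hv
      exact eq_of_tail_eq (hu.trans hv.symm) e
    · intro x hx
      simp only [mem_compl, mem_map, mem_univ, true_and, not_exists] at hx
      refine ⟨⟨Fin.cons x T, Fin.cons_injective_iff.mpr
        ⟨by rintro ⟨i, hi⟩; exact hx i hi, T.injective⟩⟩, ?_, rfl⟩
      rw [mem_fib]
      rfl
  rw [this, card_compl, card_map, card_univ, Fintype.card_fin]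

/-- Sums over the first two facets, grouped by the common part. -/
theorem pair_sum {t : ℕ} (Q : Cls G α (t + 1) → Cls G α (t + 1) → ℤ) :
    ∑ φ : Fin (t + 2) ↪ α, Q (facetCls G φ 1) (facetCls G φ (Equiv.swap 0 1)) =
      ∑ T : Fin t ↪ α, ((∑ u ∈ fib T, ∑ v ∈ fib T, Q (cls G u) (cls G v)) -
        ∑ u ∈ fib T, Q (cls G u) (cls G u)) := by
  have h1 : ∀ T : Fin t ↪ α, (∑ u ∈ fib T, ∑ v ∈ fib T, Q (cls G u) (cls G v)) -
      ∑ u ∈ fib T, Q (cls G u) (cls G u) =
      ∑ u ∈ fib T, ∑ v ∈ (fib T).erase u, Q (cls G u) (cls G v) := by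
    intro T
    rw [← Finset.sum_sub_distrib]
    refine Finset.sum_congr rfl fun u hu => ?_
    rw [← Finset.add_sum_erase _ _ hu]
    ring
  rw [Finset.sum_congr rfl fun T _ => h1 T]
  have h2 : ∑ T : Fin t ↪ α, ∑ u ∈ fib T, ∑ v ∈ (fib T).erase u, Q (cls G u) (cls G v) =
      ∑ u : Fin (t + 1) ↪ α, ∑ v ∈ (fib (tail u)).erase u, Q (cls G u) (cls G v) := by
    rw [← Finset.sum_fiberwise univ (fun u : Fin (t + 1) ↪ α => tail u)
      (fun u => ∑ v ∈ (fib (tail u)).erase u, Q (cls G u) (cls G v))]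
    refine Finset.sum_congr rfl fun T _ => Finset.sum_congr rfl fun u hu => ?_
    rw [(Finset.mem_filter.mp hu).2]
  rw [h2, Finset.sum_sigma' univ (fun u : Fin (t + 1) ↪ α => (fib (tail u)).erase u)
    (fun u v => Q (cls G u) (cls G v))]
  set F : (Fin (t + 2) ↪ α) → (Fin (t + 1) ↪ α) × (Fin (t + 1) ↪ α) := fun φ =>
    (tail φ, tail ((Equiv.swap 0 1).toEmbedding.trans φ)) with hFdef
  refine Finset.sum_bij (fun φ _ => (⟨(F φ).1, (F φ).2⟩ :
    Σ _ : Fin (t + 1) ↪ α, Fin (t + 1) ↪ α)) ?_ ?_ ?_ ?_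
  · intro φ _
    simp only [Finset.mem_sigma, Finset.mem_univ, true_and, Finset.mem_erase, mem_fib, hFdef]
    refine ⟨fun e => ?_, ?_⟩
    · have := DFunLike.congr_fun e 0
      simp [tail, show (Fin.succ 0 : Fin (t + 2)) = 1 from rfl] at this
    · ext j
      simp [tail, Equiv.swap_apply_of_ne_of_ne, Fin.ext_iff]
  · intro φ _ ψ _ e
    simp only [hFdef, Sigma.mk.injEq, heq_eq_eq] at e
    refine eq_of_tail_eq e.1 ?_
    have := DFunLike.congr_fun e.2 0
    simpa [tail, show (Fin.succ 0 : Fin (t + 2)) = 1 from rfl] using this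
  · rintro ⟨u, v⟩ h
    simp only [Finset.mem_sigma, Finset.mem_univ, true_and, Finset.mem_erase, mem_fib] at h
    have hv0 : v 0 ∉ Set.range u := by
      rintro ⟨i, hi⟩
      induction i using Fin.cases with
      | zero => exact h.1 (eq_of_tail_eq h.2 hi.symm)
      | succ j =>
        have := DFunLike.congr_fun h.2 j
        exact Fin.succ_ne_zero j (v.injective (this.trans hi))
    refine ⟨⟨Fin.cons (v 0) u, Fin.cons_injective_iff.mpr ⟨hv0, u.injective⟩⟩, mem_univ _, ?_⟩
    refine Sigma.ext ?_ (heq_of_eq ?_)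
    · rfl
    · refine eq_of_tail_eq ?_ ?_
      · ext j
        have := DFunLike.congr_fun h.2 j
        simp only [hFdef, tail, Embedding.trans_apply, Fin.coe_succEmb, Equiv.toEmbedding_apply]
        rw [Equiv.swap_apply_of_ne_of_ne (Fin.succ_ne_zero _)
          (by simp [Fin.ext_iff])]
        exact this.symm
      · simp [hFdef, tail, show (Fin.succ 0 : Fin (t + 2)) = 1 from rfl]
  · intro φ _
    rfl

omit [MulAction G α] [Group G] in
theorem card_tuples {t : ℕ} : (Fintype.card (Fin (t + 1) ↪ α) : ℤ) =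
    Fintype.card (Fin t ↪ α) * (Fintype.card α - t : ℕ) := by
  rw [← Finset.card_univ (α := Fin (t + 1) ↪ α),
    Finset.card_eq_sum_card_fiberwise (f := fun u : Fin (t + 1) ↪ α => tail u) (t := univ)
      (fun u _ => mem_univ _)]
  push_cast
  rw [Finset.sum_congr rfl (g := fun _ => ((Fintype.card α - t : ℕ) : ℤ)) fun T _ => ?_]
  · simp
  · exact_mod_cast card_fib T

/-- The number of tuples over a given tail in a given class set. -/
noncomputable def fibCount {t : ℕ} {X : Type*} [DecidableEq X] (V : Cls G α (t + 1) → X) (x : X)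
    (T : Fin t ↪ α) : ℕ :=
  ((fib T).filter fun u => V (cls G u) = x).card

theorem fibCount_const {t : ℕ} {X : Type*} [DecidableEq X] [IsMultiplyPretransitive G α t]
    (V : Cls G α (t + 1) → X) (x : X) (T T' : Fin t ↪ α) : fibCount V x T = fibCount V x T' := by
  obtain ⟨g, rfl⟩ := exists_smul_eq G T T'
  refine card_nbij' (fun u => g • u) (fun u => g⁻¹ • u) ?_ ?_ ?_ ?_
  · intro u hu
    simp only [coe_filter, Set.mem_ofPred_eq, mem_fib] at hu ⊢
    refine ⟨?_, ?_⟩
    · rw [← hu.1]; rfl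
    · rw [← hu.2]; exact congrArg V (cls_eq_iff.mpr ⟨g, rfl⟩)
  · intro u hu
    simp only [coe_filter, Set.mem_ofPred_eq, mem_fib] at hu ⊢
    refine ⟨?_, ?_⟩
    · rw [← inv_smul_smul g T, ← hu.1]; rfl
    · rw [← hu.2]; exact congrArg V (cls_eq_iff.mpr ⟨g⁻¹, rfl⟩)
  · intro u _; exact inv_smul_smul g u
  · intro u _; exact smul_inv_smul g u

/-- An equivariant position function takes all nonzero values equally often. -/
theorem fibCount_succ_eq {t : ℕ} [IsMultiplyPretransitive G α t]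
    (V : Cls G α (t + 1) → Fin (t + 1))
    (hV : ∀ (σ : Equiv.Perm (Fin t)) d, V (ext0 σ • d) = ext0 σ (V d)) (l l' : Fin t)
    (T : Fin t ↪ α) : fibCount V l.succ T = fibCount V l'.succ T := by
  set σ : Equiv.Perm (Fin t) := Equiv.swap l l'
  rw [fibCount_const V l'.succ T (σ.toEmbedding.trans T)]
  refine card_nbij' (fun u => (ext0 σ).toEmbedding.trans u)
    (fun u => (ext0 σ).toEmbedding.trans u) ?_ ?_ ?_ ?_
  · intro u hu
    simp only [coe_filter, Set.mem_ofPred_eq, mem_fib] at hu ⊢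
    refine ⟨?_, ?_⟩
    · rw [← hu.1]; ext j; simp [tail]
    · have hc : cls G ((ext0 σ).toEmbedding.trans u) = ext0 σ • cls G u := by
        rw [smul_cls, ← ext0_inv, show σ⁻¹ = σ from Equiv.swap_inv l l']
      rw [hc, hV, hu.2, ext0_succ, Equiv.swap_apply_left]
  · intro u hu
    simp only [coe_filter, Set.mem_ofPred_eq, mem_fib] at hu ⊢
    refine ⟨?_, ?_⟩
    · ext j
      have := DFunLike.congr_fun hu.1 (σ j)
      simp only [tail, Embedding.trans_apply, Fin.coe_succEmb, Equiv.toEmbedding_apply,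
        ext0_succ] at this ⊢
      rw [this]
      simp [σ]
    · have hc : cls G ((ext0 σ).toEmbedding.trans u) = ext0 σ • cls G u := by
        rw [smul_cls, ← ext0_inv, show σ⁻¹ = σ from Equiv.swap_inv l l']
      rw [hc, hV, hu.2, ext0_succ, Equiv.swap_apply_right]
  · intro u _
    ext j
    simp only [Embedding.trans_apply, Equiv.toEmbedding_apply]
    rw [← Equiv.Perm.mul_apply, ← ext0_mul, Equiv.swap_mul_self]
    induction j using Fin.cases <;> simp
  · intro u _
    ext j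
    simp only [Embedding.trans_apply, Equiv.toEmbedding_apply]
    rw [← Equiv.Perm.mul_apply, ← ext0_mul, Equiv.swap_mul_self]
    induction j using Fin.cases <;> simp

end Facets

end CfsgLib.SmallGroups.TupleClass
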