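import Cfsg.Agent.Lib.Invol.ZStarFinal
import Mathlib

/-!
Four-fold transitive permutation groups with four-point stabilizers of odd order: involutions with a
prescribed pattern on four points, and the isolation of an involution in the stabilizer of two
of its fixed points (Hall).
-/

set_option autoImplicit false

namespace CfsgLib.SmallGroups.FourOdd

open Equiv Finset
open scoped commutatorElement

variable {α : Type*} [Fintype α] [DecidableEq α]

/-- Four distinct points. -/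
structure D4 (x y z w : α) : Prop where
  xy : x ≠ y
  xz : x ≠ z
  xw : x ≠ w
  yz : y ≠ z
  yw : y ≠ w
  zw : z ≠ w

theorem D4.map {x y z w : α} (h : D4 x y z w) (g : Perm α) : D4 (g x) (g y) (g z) (g w) :=
  ⟨g.injective.ne h.xy, g.injective.ne h.xz, g.injective.ne h.xw, g.injective.ne h.yz,
    g.injective.ne h.yw, g.injective.ne h.zw⟩

/-- The hypotheses: four-transitivity and odd four-point stabilizers. -/
structure Hyp (G : Subgroup (Perm α)) : Prop where
  trans : ∀ {x y z w x' y' z' w' : α}, D4 x y z w → D4 x' y' z' w' →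
    ∃ g ∈ G, g x = x' ∧ g y = y' ∧ g z = z' ∧ g w = w'
  odd : ∀ {x y z w : α}, D4 x y z w → ∀ g ∈ G, g x = x → g y = y → g z = z → g w = w → Odd (orderOf g)

/-- The elements of `G` fixing four points. -/
def fix4 (G : Subgroup (Perm α)) (x y z w : α) : Subgroup (Perm α) where
  carrier := {g | g ∈ G ∧ g x = x ∧ g y = y ∧ g z = z ∧ g w = w}
  one_mem' := ⟨G.one_mem, rfl, rfl, rfl, rfl⟩
  mul_mem' := fun {a b} ha hb => ⟨G.mul_mem ha.1 hb.1, by rw [Perm.mul_apply, hb.2.1, ha.2.1],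
    by rw [Perm.mul_apply, hb.2.2.1, ha.2.2.1], by rw [Perm.mul_apply, hb.2.2.2.1, ha.2.2.2.1],
    by rw [Perm.mul_apply, hb.2.2.2.2, ha.2.2.2.2]⟩
  inv_mem' := fun {a} ha => ⟨G.inv_mem ha.1, Perm.inv_eq_iff_eq.2 ha.2.1.symm,
    Perm.inv_eq_iff_eq.2 ha.2.2.1.symm, Perm.inv_eq_iff_eq.2 ha.2.2.2.1.symm,
    Perm.inv_eq_iff_eq.2 ha.2.2.2.2.symm⟩

/-- The fixed points of a permutation. -/
def Fx (u : Perm α) : Finset α := Finset.univ.filter fun x => u x = x

theorem mem_Fx {u : Perm α} {x : α} : x ∈ Fx u ↔ u x = x := by simp [Fx]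

theorem apply_apply {u : Perm α} (h : u * u = 1) (x : α) : u (u x) = x := by
  rw [← Perm.mul_apply, h, Perm.one_apply]

/-- An element of odd order cannot interchange two distinct points. -/
theorem odd_swap {h : Perm α} (hodd : Odd (orderOf h)) {x : α} (hx : h (h x) = x) : h x = x := by
  obtain ⟨k, hk⟩ := hodd
  have h2 : ((h * h) ^ k) x = x := Perm.pow_apply_eq_self_of_apply_eq_self hx k
  have := congrArg (fun g : Perm α => g x) (pow_orderOf_eq_one h)
  simp only [hk, pow_succ', pow_mul, Perm.mul_apply, Perm.one_apply, pow_zero, mul_one] at this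
  rw [pow_two, h2] at this
  exact this

theorem card_conj_Fx (u g : Perm α) : (Fx (g * u * g⁻¹)).card = (Fx u).card := by
  rw [show Fx (g * u * g⁻¹) = (Fx u).image g from ?_, Finset.card_image_of_injective _ g.injective]
  ext x
  simp only [mem_Fx, Finset.mem_image, Perm.mul_apply]
  constructor
  · intro h
    refine ⟨g⁻¹ x, g.injective ?_, g.apply_symm_apply x⟩
    rw [h]
    exact (g.apply_symm_apply x).symm
  · rintro ⟨y, hy, rfl⟩
    simp [hy]

theorem Fx_parity {u : Perm α} (hu : u * u = 1) : (Fx u).card % 2 = Fintype.card α % 2 := by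
  have hF : Fx u = u.supportᶜ := by ext x; simp [mem_Fx]
  rw [hF, Finset.card_compl]
  rcases eq_or_ne u 1 with rfl | h1
  · simp
  have ho : orderOf u = 2 := orderOf_eq_prime (by rw [pow_two, hu]) h1
  obtain ⟨j, hj⟩ := Perm.cycleType_prime_order (σ := u) (by rw [ho]; exact Nat.prime_two)
  have hsum := u.sum_cycleType
  rw [hj, ho, Multiset.sum_replicate, smul_eq_mul] at hsum
  have := Finset.card_le_univ u.support
  omega

section Lemmas

variable {G : Subgroup (Perm α)} (hG : Hyp G)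

include hG

theorem eq_one_of_sq {x y z w : α} (h : D4 x y z w) {g : Perm α} (hg : g ∈ G) (hgg : g * g = 1)
    (hx : g x = x) (hy : g y = y) (hz : g z = z) (hw : g w = w) : g = 1 := by
  obtain ⟨k, hk⟩ := hG.odd h g hg hx hy hz hw
  have h2 : orderOf g ∣ 2 := orderOf_dvd_of_pow_eq_one (by rw [pow_two, hgg])
  rw [← orderOf_eq_one_iff]
  rcases (Nat.dvd_prime Nat.prime_two).1 h2 with e | e
  · exact e
  · omega

theorem card_Fx_le {u : Perm α} (hu : u ∈ G) (huu : u * u = 1) (h1 : u ≠ 1) : (Fx u).card ≤ 3 := by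
  by_contra hlt
  obtain ⟨s, hs, hsc⟩ := Finset.exists_subset_card_eq (s := Fx u) (n := 4) (by omega)
  obtain ⟨x, y, z, w, h1', h2', h3', h4', h5', h6', rfl⟩ := Finset.card_eq_four.1 hsc
  refine h1 (eq_one_of_sq hG ⟨h1', h2', h3', h4', h5', h6'⟩ hu huu ?_ ?_ ?_ ?_) <;>
    exact mem_Fx.1 (hs (by simp))

/-- An element squaring to the identity on four points can be replaced by an involution. -/
theorem inv_of {x y z w : α} (h : D4 x y z w) {g : Perm α} (hg : g ∈ G)
    (hx : g (g x) = x) (hy : g (g y) = y) (hz : g (g z) = z) (hw : g (g w) = w) :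
    ∃ t ∈ G, t * t = 1 ∧ t x = g x ∧ t y = g y ∧ t z = g z ∧ t w = g w := by
  obtain ⟨k, hk⟩ := hG.odd h (g * g) (G.mul_mem hg hg) hx hy hz hw
  refine ⟨g * (g * g) ^ k, G.mul_mem hg (G.pow_mem (G.mul_mem hg hg) k), ?_, ?_, ?_, ?_, ?_⟩
  · have hc : Commute g ((g * g) ^ k) := ((Commute.refl g).mul_right (Commute.refl g)).pow_right k
    calc g * (g * g) ^ k * (g * (g * g) ^ k) = g * ((g * g) ^ k * g) * (g * g) ^ k := by group
      _ = (g * g) * ((g * g) ^ k * (g * g) ^ k) := by rw [← hc.eq]; group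
      _ = (g * g) ^ orderOf (g * g) := by rw [hk, ← pow_add, ← pow_succ', two_mul]
      _ = 1 := pow_orderOf_eq_one _
  all_goals
    rw [Perm.mul_apply, Perm.pow_apply_eq_self_of_apply_eq_self (show (g * g) _ = _ from ?_)]
    assumption

/-- An involution commuting with `u` and agreeing with `g` on four points. -/
theorem pair_of {x y z w : α} (h : D4 x y z w) {u g : Perm α} (hu : u ∈ G) (huu : u * u = 1)
    (hg : g ∈ G) (hx : g (g x) = x) (hy : g (g y) = y) (hz : g (g z) = z) (hw : g (g w) = w)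
    (hux : u x = x ∨ u x = y ∨ u x = z ∨ u x = w) (huy : u y = x ∨ u y = y ∨ u y = z ∨ u y = w)
    (huz : u z = x ∨ u z = y ∨ u z = z ∨ u z = w) (huw : u w = x ∨ u w = y ∨ u w = z ∨ u w = w)
    (hcx : u (g x) = g (u x)) (hcy : u (g y) = g (u y)) (hcz : u (g z) = g (u z))
    (hcw : u (g w) = g (u w))
    (hgx : g x = x ∨ g x = y ∨ g x = z ∨ g x = w) (hgy : g y = x ∨ g y = y ∨ g y = z ∨ g y = w)
    (hgz : g z = x ∨ g z = y ∨ g z = z ∨ g z = w) (hgw : g w = x ∨ g w = y ∨ g w = z ∨ g w = w) :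
    ∃ t ∈ G, t * t = 1 ∧ u * t = t * u ∧ t x = g x ∧ t y = g y ∧ t z = g z ∧ t w = g w := by
  obtain ⟨s, hs, hss, sx, sy, sz, sw⟩ := inv_of hG h hg hx hy hz hw
  -- the product squares to the identity on the four points
  have hsu : ∀ v, (v = x ∨ v = y ∨ v = z ∨ v = w) → s (u v) = u (s v) := by
    have hs' : ∀ v, (v = x ∨ v = y ∨ v = z ∨ v = w) → s v = g v := by
      rintro v (rfl | rfl | rfl | rfl) <;> assumption
    rintro v (rfl | rfl | rfl | rfl)
    · rw [hs' _ hux, sx, hcx]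
    · rw [hs' _ huy, sy, hcy]
    · rw [hs' _ huz, sz, hcz]
    · rw [hs' _ huw, sw, hcw]
  have hfix : ∀ v, (v = x ∨ v = y ∨ v = z ∨ v = w) → ((u * s) * (u * s)) v = v := by
    intro v hv
    have hsv : s v = x ∨ s v = y ∨ s v = z ∨ s v = w := by
      rcases hv with rfl | rfl | rfl | rfl
      · rw [sx]; exact hgx
      · rw [sy]; exact hgy
      · rw [sz]; exact hgz
      · rw [sw]; exact hgw
    simp only [Perm.mul_apply]
    rw [hsu _ hsv, apply_apply huu, apply_apply hss]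
  obtain ⟨k, hk⟩ := hG.odd h ((u * s) * (u * s)) (G.mul_mem (G.mul_mem hu hs) (G.mul_mem hu hs))
    (hfix x (Or.inl rfl)) (hfix y (Or.inr (Or.inl rfl))) (hfix z (Or.inr (Or.inr (Or.inl rfl))))
    (hfix w (Or.inr (Or.inr (Or.inr rfl))))
  set c := u * s with hc
  set Z := c ^ orderOf (c * c) with hZ
  have hZZ : Z * Z = 1 := by
    rw [hZ, ← (Commute.refl c).mul_pow, pow_orderOf_eq_one]
  have huZ : u * Z = Z * u := by
    have h1 : SemiconjBy u c c⁻¹ := by
      show u * c = c⁻¹ * u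
      have hui : u⁻¹ = u := inv_eq_of_mul_eq_one_left huu
      have hsi : s⁻¹ = s := inv_eq_of_mul_eq_one_left hss
      rw [hc, mul_inv_rev, hui, hsi, ← mul_assoc, huu, one_mul, mul_assoc, huu, mul_one]
    have h2 : u * Z = Z⁻¹ * u := by rw [hZ, ← inv_pow]; exact (h1.pow_right _).eq
    rwa [inv_eq_of_mul_eq_one_left hZZ] at h2
  have hval : ∀ v, (v = x ∨ v = y ∨ v = z ∨ v = w) → (u * Z) v = s v := by
    intro v hv
    rw [Perm.mul_apply, hZ, hk, pow_succ', pow_mul, pow_two, Perm.mul_apply,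
      Perm.pow_apply_eq_self_of_apply_eq_self (hfix v hv), hc, Perm.mul_apply, apply_apply huu]
  refine ⟨u * Z, G.mul_mem hu (G.pow_mem (G.mul_mem hu hs) _), ?_, ?_, ?_, ?_, ?_, ?_⟩
  · calc u * Z * (u * Z) = u * (Z * u) * Z := by group
      _ = (u * u) * (Z * Z) := by rw [← huZ]; group
      _ = 1 := by rw [huu, hZZ, one_mul]
  · calc u * (u * Z) = u * (Z * u) := by rw [huZ]
      _ = u * Z * u := by group
  · rw [hval x (Or.inl rfl), sx]
  · rw [hval y (Or.inr (Or.inl rfl)), sy]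
  · rw [hval z (Or.inr (Or.inr (Or.inl rfl))), sz]
  · rw [hval w (Or.inr (Or.inr (Or.inr rfl))), sw]

/-- Involutions agreeing on four points are conjugate under an element fixing them. -/
theorem conj_of_agree {x y z w : α} (h : D4 x y z w) {u v : Perm α} (hu : u ∈ G) (hv : v ∈ G)
    (huu : u * u = 1) (hvv : v * v = 1) (hx : u x = v x) (hy : u y = v y) (hz : u z = v z)
    (hw : u w = v w) :
    ∃ k ∈ fix4 G x y z w, k * v * k⁻¹ = u ∧ ∀ c : Perm α, c * u = u * c → c * v = v * c → c * k = k * c := by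
  have hfix : ∀ p, u p = v p → (u * v) p = p := fun p hp => by
    rw [Perm.mul_apply, ← hp, apply_apply huu]
  have hm : u * v ∈ fix4 G x y z w := ⟨G.mul_mem hu hv, hfix x hx, hfix y hy, hfix z hz, hfix w hw⟩
  obtain ⟨i, hi⟩ := hG.odd h (u * v) hm.1 hm.2.1 hm.2.2.1 hm.2.2.2.1 hm.2.2.2.2
  set k := (u * v) ^ (i + 1) with hkdef
  have hk2 : k * k = u * v := by
    rw [hkdef, ← pow_add, show i + 1 + (i + 1) = orderOf (u * v) + 1 by omega, pow_succ, pow_orderOf_eq_one,
      one_mul]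
  refine ⟨k, (fix4 G x y z w).pow_mem hm _, ?_, fun c hcu hcv => ?_⟩
  · have hui : u⁻¹ = u := inv_eq_of_mul_eq_one_left huu
    have hvi : v⁻¹ = v := inv_eq_of_mul_eq_one_left hvv
    have h1 : SemiconjBy v (u * v)⁻¹ (u * v) := by
      show v * (u * v)⁻¹ = (u * v) * v
      rw [mul_inv_rev, hui, hvi, ← mul_assoc, hvv, one_mul, mul_assoc, hvv, mul_one]
    have h2 : v * k⁻¹ = k * v := by rw [hkdef, ← inv_pow]; exact (h1.pow_right _).eq
    rw [mul_assoc, h2, ← mul_assoc, hk2, mul_assoc, hvv, mul_one]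
  · exact ((Commute.mul_right (show Commute c u from hcu) (show Commute c v from hcv)).pow_right _).eq

/-- If one of two agreeing involutions commutes with the stabilizer of the four points they are equal. -/
theorem unique_of_comm {x y z w : α} (h : D4 x y z w) {u v : Perm α} (hu : u ∈ G) (hv : v ∈ G)
    (huu : u * u = 1) (hvv : v * v = 1) (hx : u x = v x) (hy : u y = v y) (hz : u z = v z)
    (hw : u w = v w) (hc : ∀ k ∈ fix4 G x y z w, k * u = u * k) : u = v := by
  obtain ⟨k, hk, hkv, -⟩ := conj_of_agree hG h hu hv huu hvv hx hy hz hw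
  calc u = k⁻¹ * (k * u) := by group
    _ = k⁻¹ * (u * k) := by rw [hc k hk]
    _ = v := by rw [← hkv]; group

/-- No two commuting involutions with two common fixed points. -/
theorem no_four {a b : Perm α} (ha : a ∈ G) (hb : b ∈ G) (haa : a * a = 1) (hbb : b * b = 1)
    (hab : a * b = b * a) {w : α} (hw1 : a w ≠ w) (hw2 : b w ≠ w) (hw3 : a (b w) ≠ w)
    (hcommon : ∀ p q, a p = p → b p = p → a q = q → b q = q → p = q)
    {v : Perm α} (hv : v ∈ G) (hvv : v * v = 1) (hav : a * v = v * a)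
    {p q : α} (hpq : p ≠ q) (hap : a p = p) (haq : a q = q) (hvp : v p = p) (hvq : v q = q)
    {z : α} (hz1 : a z ≠ z) (hz2 : v z ≠ z) (hz3 : a (v z) ≠ z) : False := by
  have hA := apply_apply haa
  have hB := apply_apply hbb
  have hV := apply_apply hvv
  have hAB : ∀ x, a (b x) = b (a x) := fun x => by rw [← Perm.mul_apply, hab, Perm.mul_apply]
  have hAV : ∀ x, a (v x) = v (a x) := fun x => by rw [← Perm.mul_apply, hav, Perm.mul_apply]
  have dW : D4 w (a w) (b w) (a (b w)) :=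
    ⟨Ne.symm hw1, Ne.symm hw2, Ne.symm hw3, fun e => hw3 (by rw [← e, hA]),
      fun e => hw2 (a.injective e).symm, fun e => hw1 (b.injective ((hAB w).symm.trans e.symm))⟩
  have dZ : D4 z (a z) (v z) (a (v z)) :=
    ⟨Ne.symm hz1, Ne.symm hz2, Ne.symm hz3, fun e => hz3 (by rw [← e, hA]),
      fun e => hz2 (a.injective e).symm, fun e => hz1 (v.injective ((hAV z).symm.trans e.symm))⟩
  obtain ⟨g, hg, g1, g2, g3, g4⟩ := hG.trans dZ dW
  have hinv : ∀ {x y : α}, g x = y → g⁻¹ y = x := fun {x y} e => by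
    rw [← e]; exact g.symm_apply_apply x
  have ha' : g * a * g⁻¹ ∈ G := G.mul_mem (G.mul_mem hg ha) (G.inv_mem hg)
  have ha'' : g * a * g⁻¹ * (g * a * g⁻¹) = 1 := by
    rw [show g * a * g⁻¹ * (g * a * g⁻¹) = g * (a * a) * g⁻¹ by group, haa, mul_one, mul_inv_cancel]
  obtain ⟨k, hk, hka, -⟩ := conj_of_agree hG dW ha ha' haa ha''
    (by simp only [Perm.mul_apply, hinv g1, g2])
    (by simp only [Perm.mul_apply, hinv g2, hA, g1])
    (by simp only [Perm.mul_apply, hinv g3, g4])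
    (by simp only [Perm.mul_apply, hinv g4, hA, g3])
  set h₁ := k * g with hh₁
  have hh₁G : h₁ ∈ G := G.mul_mem hk.1 hg
  have e1 : h₁ * a * h₁⁻¹ = a := by
    conv_rhs => rw [← hka]
    rw [hh₁]; group
  have i1 : ∀ {x y : α}, g x = y → k y = y → h₁⁻¹ y = x := fun {x y} e e' => by
    rw [hh₁, mul_inv_rev, Perm.mul_apply, Perm.inv_eq_iff_eq.2 e'.symm, hinv e]
  have f1 : h₁ z = w := by rw [hh₁, Perm.mul_apply, g1, hk.2.1]
  have f2 : h₁ (a z) = a w := by rw [hh₁, Perm.mul_apply, g2, hk.2.2.1]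
  have f3 : h₁ (v z) = b w := by rw [hh₁, Perm.mul_apply, g3, hk.2.2.2.1]
  have f4 : h₁ (a (v z)) = a (b w) := by rw [hh₁, Perm.mul_apply, g4, hk.2.2.2.2]
  have hv₁ : h₁ * v * h₁⁻¹ ∈ G := G.mul_mem (G.mul_mem hh₁G hv) (G.inv_mem hh₁G)
  have hv₁' : h₁ * v * h₁⁻¹ * (h₁ * v * h₁⁻¹) = 1 := by
    rw [show h₁ * v * h₁⁻¹ * (h₁ * v * h₁⁻¹) = h₁ * (v * v) * h₁⁻¹ by group, hvv, mul_one, mul_inv_cancel]
  have hav₁ : a * (h₁ * v * h₁⁻¹) = h₁ * v * h₁⁻¹ * a := by
    conv_lhs => rw [← e1]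
    conv_rhs => arg 2; rw [← e1]
    calc h₁ * a * h₁⁻¹ * (h₁ * v * h₁⁻¹) = h₁ * (a * v) * h₁⁻¹ := by group
      _ = h₁ * (v * a) * h₁⁻¹ := by rw [hav]
      _ = h₁ * v * h₁⁻¹ * (h₁ * a * h₁⁻¹) := by group
  obtain ⟨k₂, hk₂, hk₂v, hk₂c⟩ := conj_of_agree hG dW hb hv₁ hbb hv₁'
    (by simp only [Perm.mul_apply, i1 g1 hk.2.1, f3])
    (by simp only [Perm.mul_apply, i1 g2 hk.2.2.1, ← hAV, f4, hAB])
    (by simp only [Perm.mul_apply, i1 g3 hk.2.2.2.1, hV, f1, hB])
    (by simp only [Perm.mul_apply, i1 g4 hk.2.2.2.2, hAV, hV, f2, ← hAB, hB])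
  set h := k₂ * h₁ with hh
  have hka2 : k₂ * a = a * k₂ := (hk₂c a hab hav₁).symm
  have ea : ∀ x, a x = x → a (h x) = h x := fun x hx => by
    have e3 : a * h = h * a := by
      calc a * h = a * k₂ * h₁ := by rw [hh, mul_assoc]
        _ = k₂ * (a * h₁) := by rw [← hka2]; group
        _ = k₂ * ((h₁ * a * h₁⁻¹) * h₁) := by rw [e1]
        _ = h * a := by rw [hh]; group
    rw [← Perm.mul_apply, e3, Perm.mul_apply, hx]
  have eb : ∀ x, v x = x → b (h x) = h x := fun x hx => by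
    have e3 : b * h = h * v := by
      calc b * h = (k₂ * (h₁ * v * h₁⁻¹) * k₂⁻¹) * h := by rw [hk₂v]
        _ = h * v := by rw [hh]; group
    rw [← Perm.mul_apply, e3, Perm.mul_apply, hx]
  exact hpq (h.injective (hcommon _ _ (ea p hap) (eb p hvp) (ea q haq) (eb q hvq)))

end Lemmas

end CfsgLib.SmallGroups.FourOdd
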