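import Cfsg.Agent.Lib.SmallGroups.FourTransitiveOddBasic
import Cfsg.Agent.Lib.Solvable.MinimalNormal
import Cfsg.Agent.S0205

/-!
An involution fixing two points, in the stabilizer of those points: Glauberman's theorem shows that
an odd normal subgroup is transitive on the other points (Hall's theorem on four-transitive groups).
-/

set_option autoImplicit false

namespace CfsgLib.SmallGroups.FourOdd

open Equiv Finset
open scoped commutatorElement

variable {α : Type*} [Fintype α] [DecidableEq α] {G : Subgroup (Perm α)} (hG : Hyp G)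

/-- The stabilizer of two points. -/
def K2 (G : Subgroup (Perm α)) (x y : α) : Subgroup (Perm α) where
  carrier := {g | g ∈ G ∧ g x = x ∧ g y = y}
  one_mem' := ⟨G.one_mem, rfl, rfl⟩
  mul_mem' := fun {a b} ha hb => ⟨G.mul_mem ha.1 hb.1, by rw [Perm.mul_apply, hb.2.1, ha.2.1],
    by rw [Perm.mul_apply, hb.2.2, ha.2.2]⟩
  inv_mem' := fun {a} ha => ⟨G.inv_mem ha.1, Perm.inv_eq_iff_eq.2 ha.2.1.symm,
    Perm.inv_eq_iff_eq.2 ha.2.2.symm⟩

include hG

/-- An involution interchanging the first two of four points, commuting with one interchanging the others. -/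
theorem exists_pair {x y z w : α} (h : D4 x y z w) {a : Perm α} (ha : a ∈ G) (haa : a * a = 1)
    (hax : a x = x) (hay : a y = y) (haz : a z = w) :
    ∃ b ∈ G, b * b = 1 ∧ a * b = b * a ∧ b x = y ∧ b y = x ∧ b z = z ∧ b w = w := by
  have haw : a w = z := by rw [← haz, apply_apply haa]
  obtain ⟨g, hg, gx, gy, gz, gw⟩ := hG.trans h
    (⟨h.xy.symm, h.yz, h.yw, h.xz, h.xw, h.zw⟩ : D4 y x z w)
  obtain ⟨t, ht, htt, hc, tx, ty, tz, tw⟩ := pair_of hG h ha haa hg
    (by rw [gx, gy]) (by rw [gy, gx]) (by rw [gz, gz]) (by rw [gw, gw])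
    (by simp [hax]) (by simp [hay]) (by simp [haz]) (by simp [haw])
    (by rw [gx, hax, hay, gx]) (by rw [gy, hax, hay, gy]) (by rw [gz, haz, gw])
    (by rw [gw, haw, gz])
    (by simp [gx]) (by simp [gy]) (by simp [gz]) (by simp [gw])
  exact ⟨t, ht, htt, hc, by rw [tx, gx], by rw [ty, gy], by rw [tz, gz], by rw [tw, gw]⟩

/-- Two of the four-group have at most one common fixed point. -/
theorem common_unique {x y z w : α} (h : D4 x y z w) {a b : Perm α} (ha : a ∈ G) (haa : a * a = 1)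
    (hax : a x = x) (hay : a y = y) (haz : a z = w) (hbx : b x = y) (hby : b y = x) :
    ∀ p q, a p = p → b p = p → a q = q → b q = q → p = q := by
  intro p q hap hbp haq hbq
  by_contra hne
  have hp : p ≠ x ∧ p ≠ y := ⟨fun e => h.xy (by rw [e, hbx] at hbp; exact hbp.symm),
    fun e => h.xy (by rw [e, hby] at hbp; exact hbp)⟩
  have hq : q ≠ x ∧ q ≠ y := ⟨fun e => h.xy (by rw [e, hbx] at hbq; exact hbq.symm),
    fun e => h.xy (by rw [e, hby] at hbq; exact hbq)⟩
  have h1 := eq_one_of_sq hG (⟨h.xy, Ne.symm hp.1, Ne.symm hq.1, Ne.symm hp.2, Ne.symm hq.2, hne⟩ : D4 x y p q)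
    ha haa hax hay hap haq
  rw [h1] at haz
  exact h.zw haz

/-- A point moved regularly. -/
theorem exists_regular (hn : 8 ≤ Fintype.card α) {x y z w : α} (h : D4 x y z w) {a b : Perm α}
    (ha : a ∈ G) (hb : b ∈ G) (haa : a * a = 1) (hbb : b * b = 1) (hab : a * b = b * a)
    (hax : a x = x) (hay : a y = y) (haz : a z = w) (hbx : b x = y) (hby : b y = x) (hbz : b z = z)
    (hbw : b w = w) :
    ∃ v, a v ≠ v ∧ b v ≠ v ∧ a (b v) ≠ v := by
  have hA1 : a ≠ 1 := fun e => h.zw (by rw [e] at haz; exact haz)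
  have hB1 : b ≠ 1 := fun e => h.xy (by rw [e] at hbx; exact hbx)
  have habab : a * b * (a * b) = 1 := by
    calc a * b * (a * b) = a * (b * a) * b := by group
      _ = (a * a) * (b * b) := by rw [← hab]; group
      _ = 1 := by rw [haa, hbb, one_mul]
  have hAB1 : a * b ≠ 1 := fun e => h.xy (by
    have := congrArg (fun g : Perm α => g x) e
    simp only [Perm.mul_apply, hbx, hay, Perm.one_apply] at this
    exact this.symm)
  by_contra hc
  push Not at hc
  have hcov : Finset.univ ⊆ Fx a ∪ Fx b ∪ Fx (a * b) := by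
    intro v _
    simp only [Finset.mem_union, mem_Fx, Perm.mul_apply]
    by_cases h1 : a v = v
    · exact Or.inl (Or.inl h1)
    by_cases h2 : b v = v
    · exact Or.inl (Or.inr h2)
    exact Or.inr (hc v h1 h2)
  have c1 := card_Fx_le hG ha haa hA1
  have c2 := card_Fx_le hG hb hbb hB1
  have c3 := card_Fx_le hG (G.mul_mem ha hb) habab hAB1
  by_cases hq : ∃ q, a q = q ∧ b q = q
  · obtain ⟨q, haq, hbq⟩ := hq
    have hcov' : Finset.univ ⊆ Fx a ∪ (Fx b).erase q ∪ (Fx (a * b)).erase q := by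
      intro v hv
      have := hcov hv
      by_cases e : v = q
      · subst e
        simp [mem_Fx, haq]
      · simp only [Finset.mem_union, Finset.mem_erase] at this ⊢
        tauto
    have := Finset.card_le_card hcov'
    have := Finset.card_union_le (Fx a ∪ (Fx b).erase q) ((Fx (a * b)).erase q)
    have := Finset.card_union_le (Fx a) ((Fx b).erase q)
    have hqb : q ∈ Fx b := mem_Fx.2 hbq
    have hqc : q ∈ Fx (a * b) := mem_Fx.2 (by rw [Perm.mul_apply, hbq, haq])
    rw [Finset.card_erase_of_mem hqb, Finset.card_erase_of_mem hqc, Finset.card_univ] at *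
    omega
  · push Not at hq
    have hFa : Fx a ⊆ {x, y} := by
      intro v hv
      simp only [Finset.mem_insert, Finset.mem_singleton]
      by_contra hvn
      push Not at hvn
      have hv' := mem_Fx.1 hv
      have hbv : a (b v) = b v := by rw [← Perm.mul_apply, hab, Perm.mul_apply, hv']
      have d : D4 x y v (b v) := ⟨h.xy, Ne.symm hvn.1,
        fun e => hvn.2 (by rw [← apply_apply hbb v, ← e, hbx]), Ne.symm hvn.2,
        fun e => hvn.1 (by rw [← apply_apply hbb v, ← e, hby]), fun e => hq v hv' e.symm⟩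
      exact hA1 (eq_one_of_sq hG d ha haa hax hay hv' hbv)
    have hFb : Fx b ⊆ {z, w} := by
      intro v hv
      simp only [Finset.mem_insert, Finset.mem_singleton]
      by_contra hvn
      push Not at hvn
      have hv' := mem_Fx.1 hv
      have hav : b (a v) = a v := by rw [← Perm.mul_apply, ← hab, Perm.mul_apply, hv']
      have haw : a w = z := by rw [← haz, apply_apply haa]
      have d : D4 z w v (a v) := ⟨h.zw, Ne.symm hvn.1,
        fun e => hvn.2 (by rw [← apply_apply haa v, ← e, haz]), Ne.symm hvn.2,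
        fun e => hvn.1 (by rw [← apply_apply haa v, ← e, haw]), fun e => hq v e.symm hv'⟩
      exact hB1 (eq_one_of_sq hG d hb hbb hbz hbw hv' hav)
    have := Finset.card_le_card hcov
    have := Finset.card_union_le (Fx a ∪ Fx b) (Fx (a * b))
    have := Finset.card_union_le (Fx a) (Fx b)
    have := (Finset.card_le_card hFa).trans Finset.card_le_two
    have := (Finset.card_le_card hFb).trans Finset.card_le_two
    rw [Finset.card_univ] at *
    omega

/-- The only involution of the stabilizer of `x, y` commuting with `a` is `a`. -/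
theorem commuting_eq (hn : 8 ≤ Fintype.card α) {x y z w : α} (h : D4 x y z w) {a : Perm α}
    (ha : a ∈ G) (haa : a * a = 1) (hax : a x = x) (hay : a y = y) (haz : a z = w)
    {v : Perm α} (hv : v ∈ G) (hvv : v * v = 1) (hv1 : v ≠ 1) (hvx : v x = x) (hvy : v y = y)
    (hav : a * v = v * a) : v = a := by
  by_contra hne
  obtain ⟨b, hb, hbb, hab, hbx, hby, hbz, hbw⟩ := exists_pair hG h ha haa hax hay haz
  obtain ⟨r, r1, r2, r3⟩ := exists_regular hG hn h ha hb haa hbb hab hax hay haz hbx hby hbz hbw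
  have hA1 : a ≠ 1 := fun e => h.zw (by rw [e] at haz; exact haz)
  have havav : a * v * (a * v) = 1 := by
    calc a * v * (a * v) = a * (v * a) * v := by group
      _ = (a * a) * (v * v) := by rw [← hav]; group
      _ = 1 := by rw [haa, hvv, one_mul]
  have hAV1 : a * v ≠ 1 := fun e => hne (mul_left_cancel (e.trans haa.symm))
  obtain ⟨s, s1, s2, s3⟩ : ∃ s, a s ≠ s ∧ v s ≠ s ∧ a (v s) ≠ s := by
    by_contra hc
    push Not at hc
    have hcov : Finset.univ ⊆ Fx a ∪ ((Fx v).erase x).erase y ∪ ((Fx (a * v)).erase x).erase y := by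
      intro u _
      simp only [Finset.mem_union, Finset.mem_erase, mem_Fx, Perm.mul_apply]
      by_cases h1 : a u = u
      · exact Or.inl (Or.inl h1)
      have hux : u ≠ x := fun e => h1 (e ▸ hax)
      have huy : u ≠ y := fun e => h1 (e ▸ hay)
      by_cases h2 : v u = u
      · exact Or.inl (Or.inr ⟨huy, hux, h2⟩)
      exact Or.inr ⟨huy, hux, hc u h1 h2⟩
    have c1 := card_Fx_le hG ha haa hA1
    have c2 := card_Fx_le hG hv hvv hv1
    have c3 := card_Fx_le hG (G.mul_mem ha hv) havav hAV1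
    have hx2 : x ∈ Fx v := mem_Fx.2 hvx
    have hy2 : y ∈ (Fx v).erase x := Finset.mem_erase.2 ⟨h.xy.symm, mem_Fx.2 hvy⟩
    have hx3 : x ∈ Fx (a * v) := mem_Fx.2 (by rw [Perm.mul_apply, hvx, hax])
    have hy3 : y ∈ (Fx (a * v)).erase x :=
      Finset.mem_erase.2 ⟨h.xy.symm, mem_Fx.2 (by rw [Perm.mul_apply, hvy, hay])⟩
    have := Finset.card_le_card hcov
    have := Finset.card_union_le (Fx a ∪ ((Fx v).erase x).erase y) (((Fx (a * v)).erase x).erase y)
    have := Finset.card_union_le (Fx a) (((Fx v).erase x).erase y)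
    rw [Finset.card_erase_of_mem hy2, Finset.card_erase_of_mem hy3, Finset.card_erase_of_mem hx2,
      Finset.card_erase_of_mem hx3, Finset.card_univ] at *
    omega
  exact no_four hG ha hb haa hbb hab r1 r2 r3 (common_unique hG h ha haa hax hay haz hbx hby)
    hv hvv hav h.xy hax hay hvx hvy s1 s2 s3

/-- Nontrivial normal subgroups of the two-point stabilizer are transitive on the other points. -/
theorem normal_transitive (hn : 8 ≤ Fintype.card α) {x y : α} (hxy : x ≠ y)
    (N : Subgroup (K2 G x y)) [hN : N.Normal] (hN1 : N ≠ ⊥) :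
    ∀ u v, u ≠ x → u ≠ y → v ≠ x → v ≠ y → ∃ n ∈ N, ((n : K2 G x y) : Perm α) u = v := by
  obtain ⟨⟨o, ho⟩, hoN, ho1⟩ := (Subgroup.bot_or_exists_ne_one N).resolve_left hN1
  obtain ⟨u₀, hu₀⟩ : ∃ u₀, o u₀ ≠ u₀ := by
    by_contra hc
    push Not at hc
    exact ho1 (Subtype.ext (Equiv.ext hc))
  have hu₀' : u₀ ≠ x ∧ u₀ ≠ y := ⟨fun e => hu₀ (e ▸ ho.2.1), fun e => hu₀ (e ▸ ho.2.2)⟩
  have move : ∀ u v u' v', D4 x y u v → D4 x y u' v' → ∃ g : K2 G x y, (g : Perm α) u = u' ∧ (g : Perm α) v = v' := by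
    intro u v u' v' d d'
    obtain ⟨g, hg, g1, g2, g3, g4⟩ := hG.trans d d'
    exact ⟨⟨g, hg, g1, g2⟩, g3, g4⟩
  intro u v hux huy hvx hvy
  obtain ⟨r, hr⟩ : ∃ r, r ∉ ({x, y, u, u₀} : Finset α) :=
    not_forall.1 fun hall => by
      have := Finset.card_le_four (a := x) (b := y) (c := u) (d := u₀)
      rw [Finset.eq_univ_iff_forall.2 hall, Finset.card_univ] at this
      omega
  simp only [Finset.mem_insert, Finset.mem_singleton, not_or] at hr
  obtain ⟨g, hgu, -⟩ := move u₀ r u r
    ⟨hxy, hu₀'.1.symm, Ne.symm hr.1, hu₀'.2.symm, Ne.symm hr.2.1, Ne.symm hr.2.2.2⟩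
    ⟨hxy, hux.symm, Ne.symm hr.1, huy.symm, Ne.symm hr.2.1, Ne.symm hr.2.2.1⟩
  set o' := g * ⟨o, ho⟩ * g⁻¹ with ho'
  have ho'N : o' ∈ N := hN.conj_mem _ hoN g
  have hgi : (g : Perm α)⁻¹ u = u₀ := Perm.inv_eq_iff_eq.2 hgu.symm
  have hu1 : (o' : Perm α) u ≠ u := by
    simp only [ho', Subgroup.coe_mul, Subgroup.coe_inv, Perm.mul_apply, hgi]
    intro e
    exact hu₀ ((g : Perm α).injective (e.trans hgu.symm))
  rcases eq_or_ne v u with rfl | hvu
  · exact ⟨1, N.one_mem, rfl⟩
  have h1x : (o' : Perm α) u ≠ x := fun e => hux ((o' : Perm α).injective (e.trans o'.2.2.1.symm))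
  have h1y : (o' : Perm α) u ≠ y := fun e => huy ((o' : Perm α).injective (e.trans o'.2.2.2.symm))
  obtain ⟨g', hg'u, hg'v⟩ := move u ((o' : Perm α) u) u v
    ⟨hxy, hux.symm, h1x.symm, huy.symm, h1y.symm, hu1.symm⟩
    ⟨hxy, hux.symm, hvx.symm, huy.symm, hvy.symm, hvu.symm⟩
  refine ⟨g' * o' * g'⁻¹, hN.conj_mem _ ho'N g', ?_⟩
  have hg'i : (g' : Perm α)⁻¹ u = u := Perm.inv_eq_iff_eq.2 hg'u.symm
  simp only [Subgroup.coe_mul, Subgroup.coe_inv, Perm.mul_apply, hg'i, hg'v]

/-- An odd nontrivial normal subgroup of the two-point stabilizer. -/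
theorem exists_odd_normal (hn : 8 ≤ Fintype.card α) {x y z w : α} (h : D4 x y z w) {a : Perm α}
    (ha : a ∈ G) (haa : a * a = 1) (hax : a x = x) (hay : a y = y) (haz : a z = w) :
    ∃ O : Subgroup (K2 G x y), O.Normal ∧ O ≠ ⊥ ∧ Odd (Nat.card O) := by
  have hA1 : a ≠ 1 := fun e => h.zw (by rw [e] at haz; exact haz)
  set A : K2 G x y := ⟨a, ha, hax, hay⟩ with hA
  have hiso : Cfsg.IsIsolatedInvolution A := by
    refine ⟨orderOf_eq_prime (Subtype.ext (by simpa [pow_two] using haa))
      (fun e => hA1 (congrArg Subtype.val e)), fun g hg => ?_⟩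
    have hvv : (g : Perm α) * a * (g : Perm α)⁻¹ * ((g : Perm α) * a * (g : Perm α)⁻¹) = 1 := by
      rw [show (g : Perm α) * a * (g : Perm α)⁻¹ * ((g : Perm α) * a * (g : Perm α)⁻¹) =
        (g : Perm α) * (a * a) * (g : Perm α)⁻¹ by group, haa, mul_one, mul_inv_cancel]
    refine Subtype.ext (commuting_eq hG hn h ha haa hax hay haz (v := ((g * A * g⁻¹ : K2 G x y) : Perm α))
      (g * A * g⁻¹).2.1 hvv (fun e => hA1 ?_) (g * A * g⁻¹).2.2.1 (g * A * g⁻¹).2.2.2
      (congrArg Subtype.val hg.eq))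
    have e' : (g : Perm α) * a * (g : Perm α)⁻¹ = 1 := e
    rwa [conj_eq_one_iff] at e'
  haveI hOn : (Cfsg.oddCore (K2 G x y)).Normal := by
    have := CfsgLib.Cores.pPrimeCore_characteristic (G := K2 G x y) 2
    infer_instance
  refine ⟨Cfsg.oddCore (K2 G x y), hOn, fun hO => ?_, CfsgLib.Cores.odd_card_oddCore⟩
  -- otherwise `a` would be central
  obtain ⟨r, hr⟩ : ∃ r, r ∉ ({x, y, z, w} : Finset α) :=
    not_forall.1 fun hall => by
      have := Finset.card_le_four (a := x) (b := y) (c := z) (d := w)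
      rw [Finset.eq_univ_iff_forall.2 hall, Finset.card_univ] at this
      omega
  simp only [Finset.mem_insert, Finset.mem_singleton, not_or] at hr
  obtain ⟨g, hg, g1, g2, g3, g4⟩ := hG.trans h
    (⟨h.xy, h.xz, Ne.symm hr.1, h.yz, Ne.symm hr.2.1, Ne.symm hr.2.2.1⟩ : D4 x y z r)
  have hz := CfsgLib.Invol.zstar hiso ⟨g, hg, g1, g2⟩
  rw [hO, Subgroup.mem_bot] at hz
  have hz' : a * g * a⁻¹ * g⁻¹ = 1 := congrArg Subtype.val hz
  have hz'' : a * g = g * a := by
    have := mul_inv_eq_one.1 hz'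
    exact mul_inv_eq_iff_eq_mul.1 this
  have := congrArg (fun k : Perm α => k z) hz''
  simp only [Perm.mul_apply, g3, haz, g4] at this
  exact hr.2.2.2 this.symm

/-- For even degree at least eight there is no such group. -/
theorem even_false (hn : 8 ≤ Fintype.card α) (heven : Fintype.card α % 2 = 0) {x y z w : α}
    (h : D4 x y z w) {a : Perm α} (ha : a ∈ G) (haa : a * a = 1) (hax : a x = x) (hay : a y = y)
    (haz : a z = w) : False := by
  obtain ⟨O, hOn, hO1, hOodd⟩ := exists_odd_normal hG hn h ha haa hax hay haz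
  haveI := hOn
  set O' : Subgroup (Perm α) := O.map (K2 G x y).subtype with hO'
  have horb : MulAction.orbit O' z = {v | v ≠ x ∧ v ≠ y} := by
    ext v
    constructor
    · rintro ⟨⟨_, k, hk, rfl⟩, rfl⟩
      exact ⟨fun e => h.xz.symm ((k : Perm α).injective (e.trans k.2.2.1.symm)),
        fun e => h.yz.symm ((k : Perm α).injective (e.trans k.2.2.2.symm))⟩
    · rintro ⟨hvx, hvy⟩
      obtain ⟨k, hk, hkv⟩ := normal_transitive hG hn h.xy O hO1 z v h.xz.symm h.yz.symm hvx hvy
      exact ⟨⟨_, k, hk, rfl⟩, hkv⟩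
  have hdvd : (MulAction.orbit O' z).ncard ∣ Nat.card O' := by
    rw [← MulAction.index_stabilizer]
    exact Subgroup.index_dvd_card _
  rw [horb, hO', Subgroup.card_map_of_injective (K2 G x y).subtype_injective] at hdvd
  have hY : ({v | v ≠ x ∧ v ≠ y} : Set α).ncard = Fintype.card α - 2 := by
    rw [show {v | v ≠ x ∧ v ≠ y} = (({x, y} : Finset α) : Set α)ᶜ by ext v; simp, Set.ncard_compl,
      Set.ncard_coe_finset, Finset.card_pair h.xy, Nat.card_eq_fintype_card]
  rw [hY] at hdvd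
  have h2 : 2 ∣ Nat.card O := (Nat.dvd_of_mod_eq_zero (by omega)).trans hdvd
  exact (Nat.not_even_iff_odd.2 hOodd) (even_iff_two_dvd.2 h2)

/-- Conjugate four-point stabilizers have equal order. -/
theorem card_fix4_eq {x y z w x' y' z' w' : α} (h : D4 x y z w) (h' : D4 x' y' z' w') :
    Nat.card (fix4 G x y z w) = Nat.card (fix4 G x' y' z' w') := by
  obtain ⟨g, hg, g1, g2, g3, g4⟩ := hG.trans h h'
  have e : (fix4 G x y z w).map (MulAut.conj g).toMonoidHom = fix4 G x' y' z' w' := by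
    ext k
    have hinv : ∀ {u v : α}, g u = v → g⁻¹ v = u := fun e => Perm.inv_eq_iff_eq.2 e.symm
    constructor
    · rintro ⟨j, ⟨hj, j1, j2, j3, j4⟩, rfl⟩
      refine ⟨G.mul_mem (G.mul_mem hg hj) (G.inv_mem hg), ?_, ?_, ?_, ?_⟩ <;>
        simp only [MulEquiv.coe_toMonoidHom, MulAut.conj_apply, Perm.mul_apply, hinv g1, hinv g2,
          hinv g3, hinv g4, j1, j2, j3, j4, g1, g2, g3, g4]
    · rintro ⟨hk, k1, k2, k3, k4⟩
      refine ⟨g⁻¹ * k * g, ⟨G.mul_mem (G.mul_mem (G.inv_mem hg) hk) hg, ?_, ?_, ?_, ?_⟩, ?_⟩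
      · simp only [Perm.mul_apply, g1, k1, hinv g1]
      · simp only [Perm.mul_apply, g2, k2, hinv g2]
      · simp only [Perm.mul_apply, g3, k3, hinv g3]
      · simp only [Perm.mul_apply, g4, k4, hinv g4]
      · simp only [MulEquiv.coe_toMonoidHom, MulAut.conj_apply]
        group
  rw [← e]
  exact (Subgroup.card_map_of_injective (MulAut.conj g).injective).symm

/-- For odd degree the four-point stabilizer centralizes the involution. -/
theorem fix4_commute (hn : 9 ≤ Fintype.card α) (hodd : Fintype.card α % 2 = 1) {x y z w : α}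
    (h : D4 x y z w) {a : Perm α} (ha : a ∈ G) (haa : a * a = 1) (hax : a x = x) (hay : a y = y)
    (haz : a z = w) : ∀ k ∈ fix4 G x y z w, k * a = a * k := by
  have hA1 : a ≠ 1 := fun e => h.zw (by rw [e] at haz; exact haz)
  -- the third fixed point
  have hpar := Fx_parity haa
  have hle := card_Fx_le hG ha haa hA1
  have h2 : ({x, y} : Finset α) ⊆ Fx a := by
    intro v hv
    simp only [Finset.mem_insert, Finset.mem_singleton] at hv
    rcases hv with rfl | rfl <;> exact mem_Fx.2 ‹_›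
  have h2c := Finset.card_le_card h2
  rw [Finset.card_pair h.xy] at h2c
  obtain ⟨q, hq, hqn⟩ := Finset.exists_mem_notMem_of_card_lt_card
    (s := ({x, y} : Finset α)) (t := Fx a) (by rw [Finset.card_pair h.xy]; omega)
  simp only [Finset.mem_insert, Finset.mem_singleton, not_or] at hqn
  obtain ⟨hqx, hqy⟩ := hqn
  have haq := mem_Fx.1 hq
  have hqz : q ≠ z := fun e => h.zw (by rw [e, haz] at haq; exact haq.symm)
  have hFx : ∀ v, a v = v → v = x ∨ v = y ∨ v = q := by
    intro v hv
    by_contra hc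
    push Not at hc
    exact hA1 (eq_one_of_sq hG ⟨h.xy, Ne.symm hc.1, (Ne.symm hqx), Ne.symm hc.2.1, (Ne.symm hqy), hc.2.2⟩
      ha haa hax hay hv haq)
  -- an abelian normal subgroup of the two-point stabilizer
  obtain ⟨O, hOn, hO1, hOodd⟩ := exists_odd_normal hG (by omega) h ha haa hax hay haz
  haveI := hOn
  obtain ⟨E, hEn, hE1, hEO, hEmin⟩ := CfsgLib.Solvable.exists_minimal_normal_le O hO1
  haveI := hEn
  have hEodd : Odd (Nat.card E) := hOodd.of_dvd_nat (Subgroup.card_dvd_of_le hEO)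
  have hEc := CfsgLib.Solvable.commute_of_minimal_normal E hE1 hEmin (Cfsg.Agent.S0205.result hEodd)
  have hEt := normal_transitive hG (by omega : 8 ≤ Fintype.card α) h.xy E hE1
  have hEreg : ∀ e ∈ E, ((e : K2 G x y) : Perm α) q = q → e = 1 := by
    intro e he heq
    refine Subtype.ext (Equiv.ext fun v => ?_)
    by_cases hvx : v = x
    · subst hvx; exact e.2.2.1
    by_cases hvy : v = y
    · subst hvy; exact e.2.2.2
    obtain ⟨f, hf, hfv⟩ := hEt q v hqx hqy hvx hvy
    have hc : ((e : K2 G x y) : Perm α) * (f : Perm α) = (f : Perm α) * (e : Perm α) :=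
      congrArg Subtype.val (hEc e he f hf)
    rw [← hfv, ← Perm.mul_apply, hc, Perm.mul_apply, heq]
    rfl
  set A : K2 G x y := ⟨a, ha, hax, hay⟩ with hAdef
  have hAi : A⁻¹ = A := inv_eq_of_mul_eq_one_left (Subtype.ext haa)
  have hinvE : ∀ e ∈ E, A * e * A⁻¹ = e⁻¹ := by
    intro e he
    have he' : A * e * A⁻¹ ∈ E := hEn.conj_mem e he A
    have hfE : e * (A * e * A⁻¹) ∈ E := E.mul_mem he he'
    have hfA : A * (e * (A * e * A⁻¹)) = e * (A * e * A⁻¹) * A := by
      rw [hAi] at he' ⊢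
      calc A * (e * (A * e * A)) = (A * e * A) * e * A := by group
        _ = e * (A * e * A) * A := by rw [hEc _ he' e he]
    have hfix : a (((e * (A * e * A⁻¹) : K2 G x y) : Perm α) q) =
        ((e * (A * e * A⁻¹) : K2 G x y) : Perm α) q := by
      have := congrArg (fun g : K2 G x y => (g : Perm α) q) hfA
      simp only [Subgroup.coe_mul, Perm.mul_apply, hAdef, haq] at this ⊢
      exact this
    have h3 : ((e * (A * e * A⁻¹) : K2 G x y) : Perm α) q = q := by
      rcases hFx _ hfix with e' | e' | e'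
      · exact absurd (((e * (A * e * A⁻¹) : K2 G x y) : Perm α).injective
          (e'.trans (e * (A * e * A⁻¹)).2.2.1.symm)) hqx
      · exact absurd (((e * (A * e * A⁻¹) : K2 G x y) : Perm α).injective
          (e'.trans (e * (A * e * A⁻¹)).2.2.2.symm)) hqy
      · exact e'
    exact eq_inv_of_mul_eq_one_right (hEreg _ hfE h3)
  -- elements fixing `x, y, q` centralize `a`
  have hK : ∀ k : K2 G x y, (k : Perm α) q = q → k * A = A * k := by
    intro k hkq
    have hki : (k : Perm α)⁻¹ q = q := Perm.inv_eq_iff_eq.2 hkq.symm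
    have hconj : ∀ e ∈ E, (k * A * k⁻¹) * e * (k * A * k⁻¹)⁻¹ = e⁻¹ := by
      intro e he
      have he' : k⁻¹ * e * k ∈ E := by simpa using hEn.conj_mem e he k⁻¹
      have := hinvE _ he'
      calc (k * A * k⁻¹) * e * (k * A * k⁻¹)⁻¹ = k * (A * (k⁻¹ * e * k) * A⁻¹) * k⁻¹ := by group
        _ = k * (k⁻¹ * e * k)⁻¹ * k⁻¹ := by rw [this]
        _ = e⁻¹ := by group
    suffices k * A * k⁻¹ = A by
      conv_rhs => rw [← this]
      group
    refine Subtype.ext (Equiv.ext fun v => ?_)
    by_cases hvx : v = x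
    · subst hvx
      exact (k * A * k⁻¹).2.2.1.trans hax.symm
    by_cases hvy : v = y
    · subst hvy
      exact (k * A * k⁻¹).2.2.2.trans hay.symm
    obtain ⟨f, hf, hfv⟩ := hEt q v hqx hqy hvx hvy
    have h5 : ((k * A * k⁻¹) * f : K2 G x y) = f⁻¹ * (k * A * k⁻¹) := by
      rw [← hconj f hf]; group
    have h6 : (A * f : K2 G x y) = f⁻¹ * A := by
      rw [← hinvE f hf]; group
    have e5 := congrArg (fun g : K2 G x y => (g : Perm α) q) h5
    have e6 := congrArg (fun g : K2 G x y => (g : Perm α) q) h6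
    simp only [Subgroup.coe_mul, Subgroup.coe_inv, Perm.mul_apply, hAdef, hki, haq, hkq] at e5 e6 ⊢
    rw [← hfv, e5, e6]
  -- the stabilizer of `x, y, q, z` is that of `x, y, z, w`
  have dq : D4 x y q z := ⟨h.xy, (Ne.symm hqx), h.xz, (Ne.symm hqy), h.yz, hqz⟩
  have hle' : fix4 G x y q z ≤ fix4 G x y z w := by
    rintro k ⟨hk, k1, k2, k3, k4⟩
    have hc := congrArg (fun g : K2 G x y => (g : Perm α) z) (hK ⟨k, hk, k1, k2⟩ k3)
    simp only [Subgroup.coe_mul, Perm.mul_apply, hAdef, haz, k4] at hc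
    exact ⟨hk, k1, k2, k4, hc⟩
  have heq := Subgroup.eq_of_le_of_card_ge hle' (card_fix4_eq hG h dq).le
  intro k hk
  rw [← heq] at hk
  exact congrArg Subtype.val (hK ⟨k, hk.1, hk.2.1, hk.2.2.1⟩ hk.2.2.2.1)

end CfsgLib.SmallGroups.FourOdd
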