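import Cfsg.Agent.Lib.SmallGroups.SharplyTwoTransitive
import Mathlib

/-!
Sharply four-transitive groups have degree at most eleven, and at most six in even degree
(no finiteness assumed).
-/

set_option autoImplicit false

namespace CfsgLib.SmallGroups.SharplyFour

open MulAction Function

variable {G Ω : Type*} [Group G] [MulAction G Ω]

/-- Sharp four-transitivity on explicit quadruples. -/
def IsSharpFour (G Ω : Type*) [Group G] [MulAction G Ω] : Prop :=
  (∀ a b c d a' b' c' d' : Ω, a ≠ b → a ≠ c → a ≠ d → b ≠ c → b ≠ d → c ≠ d →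
      a' ≠ b' → a' ≠ c' → a' ≠ d' → b' ≠ c' → b' ≠ d' → c' ≠ d' →
      ∃ g : G, g • a = a' ∧ g • b = b' ∧ g • c = c' ∧ g • d = d') ∧
  ∀ (g : G) (a b c d : Ω), a ≠ b → a ≠ c → a ≠ d → b ≠ c → b ≠ d → c ≠ d →
    g • a = a → g • b = b → g • c = c → g • d = d → g = 1

theorem injective_four {a b c d : Ω} (hab : a ≠ b) (hac : a ≠ c) (had : a ≠ d) (hbc : b ≠ c)
    (hbd : b ≠ d) (hcd : c ≠ d) : Injective ![a, b, c, d] := by
  intro i j h
  fin_cases i <;> fin_cases j <;> first
    | rfl
    | exact absurd h hab | exact absurd h hab.symm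
    | exact absurd h hac | exact absurd h hac.symm
    | exact absurd h had | exact absurd h had.symm
    | exact absurd h hbc | exact absurd h hbc.symm
    | exact absurd h hbd | exact absurd h hbd.symm
    | exact absurd h hcd | exact absurd h hcd.symm

theorem isSharpFour_of_stabilizer [IsMultiplyPretransitive G Ω 4]
    (h : ∀ x : Fin 4 ↪ Ω, stabilizer G x = ⊥) : IsSharpFour G Ω := by
  constructor
  · intro a b c d a' b' c' d' h1 h2 h3 h4 h5 h6 h7 h8 h9 h10 h11 h12
    obtain ⟨g, hg⟩ := exists_smul_eq G (⟨_, injective_four h1 h2 h3 h4 h5 h6⟩ : Fin 4 ↪ Ω)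
      ⟨_, injective_four h7 h8 h9 h10 h11 h12⟩
    exact ⟨g, DFunLike.congr_fun hg 0, DFunLike.congr_fun hg 1, DFunLike.congr_fun hg 2,
      DFunLike.congr_fun hg 3⟩
  · intro g a b c d h1 h2 h3 h4 h5 h6 ha hb hc hd
    have hg : g ∈ stabilizer G (⟨_, injective_four h1 h2 h3 h4 h5 h6⟩ : Fin 4 ↪ Ω) := by
      rw [mem_stabilizer_iff]
      ext i
      fin_cases i <;> assumption
    rwa [h, Subgroup.mem_bot] at hg

theorem tits_bound (hS : IsSharpFour G Ω) {p₁ p₂ p₃ p₄ : Ω} (h12 : p₁ ≠ p₂) (h13 : p₁ ≠ p₃)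
    (h14 : p₁ ≠ p₄) (h23 : p₂ ≠ p₃) (h24 : p₂ ≠ p₄) (h34 : p₃ ≠ p₄) :
    Finite Ω ∧ Nat.card Ω ≤ 11 ∧ (Even (Nat.card Ω) → Nat.card Ω ≤ 6) := by
  classical
  obtain ⟨htr, hsh⟩ := hS
  have heq : ∀ (g h : G) (u v w z : Ω), u ≠ v → u ≠ w → u ≠ z → v ≠ w → v ≠ z → w ≠ z →
      g • u = h • u → g • v = h • v → g • w = h • w → g • z = h • z → g = h := by
    intro g h u v w z e1 e2 e3 e4 e5 e6 hu hv hw hz
    have := hsh (h⁻¹ * g) u v w z e1 e2 e3 e4 e5 e6 (by rw [mul_smul, hu, inv_smul_smul])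
      (by rw [mul_smul, hv, inv_smul_smul]) (by rw [mul_smul, hw, inv_smul_smul])
      (by rw [mul_smul, hz, inv_smul_smul])
    exact (inv_mul_eq_one.mp this).symm
  obtain ⟨a, ha1, ha2, ha3, ha4⟩ := htr p₁ p₂ p₃ p₄ p₁ p₂ p₄ p₃ h12 h13 h14 h23 h24 h34
    h12 h14 h13 h24 h23 h34.symm
  obtain ⟨b, hb1, hb2, hb3, hb4⟩ := htr p₁ p₂ p₃ p₄ p₂ p₁ p₃ p₄ h12 h13 h14 h23 h24 h34
    h12.symm h23 h24 h13 h14 h34
  have haa : a * a = 1 := heq _ _ p₁ p₂ p₃ p₄ h12 h13 h14 h23 h24 h34
    (by rw [mul_smul, ha1, ha1, one_smul]) (by rw [mul_smul, ha2, ha2, one_smul])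
    (by rw [mul_smul, ha3, ha4, one_smul]) (by rw [mul_smul, ha4, ha3, one_smul])
  have hbb : b * b = 1 := heq _ _ p₁ p₂ p₃ p₄ h12 h13 h14 h23 h24 h34
    (by rw [mul_smul, hb1, hb2, one_smul]) (by rw [mul_smul, hb2, hb1, one_smul])
    (by rw [mul_smul, hb3, hb3, one_smul]) (by rw [mul_smul, hb4, hb4, one_smul])
  have hab : a * b = b * a := heq _ _ p₁ p₂ p₃ p₄ h12 h13 h14 h23 h24 h34
    (by rw [mul_smul, mul_smul, hb1, ha2, ha1, hb1]) (by rw [mul_smul, mul_smul, hb2, ha1, ha2, hb2])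
    (by rw [mul_smul, mul_smul, hb3, ha3, hb4]) (by rw [mul_smul, mul_smul, hb4, ha4, hb3])
  have hA : ∀ x : Ω, a • a • x = x := fun x => by rw [← mul_smul, haa, one_smul]
  have hB : ∀ x : Ω, b • b • x = x := fun x => by rw [← mul_smul, hbb, one_smul]
  have hAB : ∀ x : Ω, a • b • x = b • a • x := fun x => by rw [← mul_smul, hab, mul_smul]
  have ha_ne : a ≠ 1 := fun e => h34 (by rw [e, one_smul] at ha3; exact ha3)
  have hb_ne : b ≠ 1 := fun e => h12 (by rw [e, one_smul] at hb1; exact hb1)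
  have hab_ne : a * b ≠ 1 := fun e => h12 (by
    have := congrArg (· • p₁) e
    simp only [mul_smul, hb1, ha2, one_smul] at this
    exact this.symm)
  -- points fixed by `a`, by `b`
  have hFa : ∀ x : Ω, a • x = x → x = p₁ ∨ x = p₂ ∨ (a • x = x ∧ b • x = x) := by
    intro x hx
    by_cases h1 : x = p₁
    · exact Or.inl h1
    by_cases h2 : x = p₂
    · exact Or.inr (Or.inl h2)
    refine Or.inr (Or.inr ⟨hx, ?_⟩)
    by_contra hbx
    have hb1' : b • x ≠ p₁ := fun e => h2 (by rw [← hB x, e, hb1])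
    have hb2' : b • x ≠ p₂ := fun e => h1 (by rw [← hB x, e, hb2])
    exact ha_ne (hsh a p₁ p₂ x (b • x) h12 (Ne.symm h1) hb1'.symm (Ne.symm h2) hb2'.symm (Ne.symm hbx)
      ha1 ha2 hx (by rw [hAB, hx]))
  have hFb : ∀ x : Ω, b • x = x → x = p₃ ∨ x = p₄ ∨ (a • x = x ∧ b • x = x) := by
    intro x hx
    by_cases h1 : x = p₃
    · exact Or.inl h1
    by_cases h2 : x = p₄
    · exact Or.inr (Or.inl h2)
    refine Or.inr (Or.inr ⟨?_, hx⟩)
    by_contra hax
    have ha1' : a • x ≠ p₃ := fun e => h2 (by rw [← hA x, e, ha3])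
    have ha2' : a • x ≠ p₄ := fun e => h1 (by rw [← hA x, e, ha4])
    exact hb_ne (hsh b p₃ p₄ x (a • x) h34 (Ne.symm h1) ha1'.symm (Ne.symm h2) ha2'.symm (Ne.symm hax)
      hb3 hb4 hx (by rw [← hAB, hx]))
  have hpuniq : ∀ x y : Ω, a • x = x → b • x = x → a • y = y → b • y = y → x = y := by
    intro x y hax hbx hay hby
    by_contra hne
    have n1 : ∀ z : Ω, b • z = z → z ≠ p₁ ∧ z ≠ p₂ := fun z hz =>
      ⟨fun e => h12 (by rw [e, hb1] at hz; exact hz.symm), fun e => h12 (by rw [e, hb2] at hz; exact hz)⟩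
    exact ha_ne (hsh a p₁ p₂ x y h12 (n1 x hbx).1.symm (n1 y hby).1.symm (n1 x hbx).2.symm
      (n1 y hby).2.symm hne ha1 ha2 hax hay)
  -- the centraliser of `⟨a, b⟩` is itself
  have hcent : ∀ c : G, c * a = a * c → c * b = b * c → c = 1 ∨ c = a ∨ c = b ∨ c = a * b := by
    intro c hca hcb
    have hca' : ∀ x : Ω, c • a • x = a • c • x := fun x => by rw [← mul_smul, hca, mul_smul]
    have hcb' : ∀ x : Ω, c • b • x = b • c • x := fun x => by rw [← mul_smul, hcb, mul_smul]
    have hc1 : c • p₁ = p₁ ∨ c • p₁ = p₂ := by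
      have h : a • c • p₁ = c • p₁ := by rw [← hca', ha1]
      rcases hFa _ h with e | e | ⟨-, e⟩
      · exact Or.inl e
      · exact Or.inr e
      · rw [← hcb', hb1] at e
        exact absurd (MulAction.injective c e) h12.symm
    have hc3 : c • p₃ = p₃ ∨ c • p₃ = p₄ := by
      have h : b • c • p₃ = c • p₃ := by rw [← hcb', hb3]
      rcases hFb _ h with e | e | ⟨e, -⟩
      · exact Or.inl e
      · exact Or.inr e
      · rw [← hca', ha3] at e
        exact absurd (MulAction.injective c e) h34.symm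
    have hc2 : c • p₂ = b • c • p₁ := by rw [← hcb', hb1]
    have hc4 : c • p₄ = a • c • p₃ := by rw [← hca', ha3]
    rcases hc1 with e1 | e1 <;> rcases hc3 with e3 | e3 <;> rw [e1] at hc2 <;> rw [e3] at hc4
    · exact Or.inl (heq _ _ p₁ p₂ p₃ p₄ h12 h13 h14 h23 h24 h34 (by rw [e1, one_smul])
        (by rw [hc2, hb1, one_smul]) (by rw [e3, one_smul]) (by rw [hc4, ha3, one_smul]))
    · exact Or.inr (Or.inl (heq _ _ p₁ p₂ p₃ p₄ h12 h13 h14 h23 h24 h34 (by rw [e1, ha1])
        (by rw [hc2, hb1, ha2]) (by rw [e3, ha3]) (by rw [hc4])))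
    · exact Or.inr (Or.inr (Or.inl (heq _ _ p₁ p₂ p₃ p₄ h12 h13 h14 h23 h24 h34 (by rw [e1, hb1])
        (by rw [hc2]) (by rw [e3, hb3]) (by rw [hc4, ha3, hb4]))))
    · exact Or.inr (Or.inr (Or.inr (heq _ _ p₁ p₂ p₃ p₄ h12 h13 h14 h23 h24 h34
        (by rw [e1, mul_smul, hb1, ha2]) (by rw [hc2, hb2, mul_smul, hb2, ha1])
        (by rw [e3, mul_smul, hb3, ha3]) (by rw [hc4, mul_smul, hb4]))))
  -- a transposition on each regular orbit
  let Reg : Ω → Prop := fun w => a • w ≠ w ∧ b • w ≠ w ∧ a • b • w ≠ w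
  have hswap : ∀ w : Ω, Reg w → ∃ t : G, t * t = 1 ∧ t * a = a * t ∧ t * b = a * b * t ∧
      t • w = a • w ∧ t • b • w = b • w ∧ t • a • b • w = a • b • w := by
    rintro w ⟨hw1, hw2, hw3⟩
    have e1 : w ≠ a • w := Ne.symm hw1
    have e2 : w ≠ b • w := Ne.symm hw2
    have e3 : w ≠ a • b • w := Ne.symm hw3
    have e4 : a • w ≠ b • w := fun e => hw3 (by rw [← e, hA])
    have e5 : a • w ≠ a • b • w := fun e => hw2 (MulAction.injective a e).symm
    have e6 : b • w ≠ a • b • w := fun e => hw1 (MulAction.injective b ((hAB _).symm.trans e.symm))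
    obtain ⟨t, t1, t2, t3, t4⟩ := htr w (a • w) (b • w) (a • b • w) (a • w) w (b • w) (a • b • w)
      e1 e2 e3 e4 e5 e6 e1.symm e4 e5 e2 e3 e6
    refine ⟨t, ?_, ?_, ?_, t1, t3, t4⟩
    · exact heq _ _ w (a • w) (b • w) (a • b • w) e1 e2 e3 e4 e5 e6 (by rw [mul_smul, t1, t2, one_smul])
        (by rw [mul_smul, t2, t1, one_smul]) (by rw [mul_smul, t3, t3, one_smul])
        (by rw [mul_smul, t4, t4, one_smul])
    · exact heq _ _ w (a • w) (b • w) (a • b • w) e1 e2 e3 e4 e5 e6
        (by rw [mul_smul, mul_smul, t1, t2, hA]) (by rw [mul_smul, mul_smul, t2, hA, t1])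
        (by rw [mul_smul, mul_smul, t3, t4]) (by rw [mul_smul, mul_smul, t4, hA, t3])
    · exact heq _ _ w (a • w) (b • w) (a • b • w) e1 e2 e3 e4 e5 e6
        (by rw [mul_smul, mul_smul, mul_smul, t1, t3, ← hAB, hA])
        (by rw [mul_smul, mul_smul, mul_smul, t2, ← hAB, t4])
        (by rw [mul_smul, mul_smul, mul_smul, t3, hB, t1])
        (by rw [mul_smul, mul_smul, mul_smul, t4, ← hAB (b • w), hB, t2, hA])
  -- at most one regular orbit
  have hone : ∀ w z : Ω, Reg w → Reg z → z = w ∨ z = a • w ∨ z = b • w ∨ z = a • b • w := by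
    intro w z hw hz
    by_contra hne
    push Not at hne
    obtain ⟨n0, n1, n2, n3⟩ := hne
    obtain ⟨t, tt, ta, tb, tw, tbw, tabw⟩ := hswap w hw
    obtain ⟨u, uu, ua, ub, uz, ubz, uabz⟩ := hswap z hz
    obtain ⟨hw1, hw2, hw3⟩ := hw
    obtain ⟨hz1, hz2, hz3⟩ := hz
    have m0 : b • w ≠ b • z := fun e => n0 (MulAction.injective b e).symm
    have m1 : b • w ≠ a • b • z := fun e => n1 (by
      rw [hAB] at e
      rw [MulAction.injective b e, hA])
    have m2 : a • b • w ≠ b • z := fun e => n1 (by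
      rw [hAB] at e
      exact (MulAction.injective b e).symm)
    have m3 : a • b • w ≠ a • b • z := fun e => n0 (MulAction.injective b (MulAction.injective a e)).symm
    have d1 : b • w ≠ a • b • w := fun e => hw1 (MulAction.injective b ((hAB _).symm.trans e.symm))
    have d2 : b • z ≠ a • b • z := fun e => hz1 (MulAction.injective b ((hAB _).symm.trans e.symm))
    have hut : ∀ c, c = u * t → c * a = a * c ∧ c * b = b * c := by
      rintro c rfl
      refine ⟨by rw [mul_assoc, ta, ← mul_assoc, ua, mul_assoc], ?_⟩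
      rw [mul_assoc, tb, ← mul_assoc, ← mul_assoc, ua, mul_assoc a u b, ub, ← mul_assoc, ← mul_assoc,
        haa, one_mul, mul_assoc]
    have hu_eq : u = (u * t) * t := by rw [mul_assoc, tt, mul_one]
    rcases hcent (u * t) (hut _ rfl).1 (hut _ rfl).2 with h | h | h | h <;> rw [h] at hu_eq
    · -- `u = t`
      rw [one_mul] at hu_eq
      subst hu_eq
      have := hsh u (b • w) (a • b • w) (b • z) (a • b • z) d1 m0 m1 m2 m3 d2 tbw tabw ubz uabz
      rw [this, one_smul] at tw
      exact hw1 tw.symm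
    · -- `u = a t`
      have hfw : u • w = w := by rw [hu_eq, mul_smul, tw, hA]
      have hfaw : u • a • w = a • w := by rw [← mul_smul, ua, mul_smul, hfw]
      have k0 : w ≠ b • z := fun e => n2 (by rw [e, hB])
      have k1 : w ≠ a • b • z := fun e => n3 (by rw [e, hAB z, hB, hA])
      have k2 : a • w ≠ b • z := fun e => n3 (by rw [hAB, e, hB])
      have k3 : a • w ≠ a • b • z := fun e => n2 (by rw [MulAction.injective a e, hB])
      have := hsh u w (a • w) (b • z) (a • b • z) (Ne.symm hw1) k0 k1 k2 k3 d2 hfw hfaw ubz uabz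
      rw [this, one_smul] at uz
      exact hz1 uz.symm
    · -- `u = b t` is no involution
      apply ha_ne
      have h2 : b * t * (b * t) = a := by
        rw [show b * t * (b * t) = b * (t * b) * t by simp only [mul_assoc], tb, hab,
          show b * (b * a * t) * t = (b * b) * a * (t * t) by simp only [mul_assoc], hbb, tt,
          one_mul, mul_one]
      rw [← h2, ← hu_eq, uu]
    · -- `u = a b t` is no involution
      apply ha_ne
      have h2 : a * b * t * (a * b * t) = a := by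
        rw [show a * b * t * (a * b * t) = a * b * (t * a) * b * t by simp only [mul_assoc], ta,
          show a * b * (a * t) * b * t = a * (b * a) * (t * b) * t by simp only [mul_assoc], ← hab, tb,
          show a * (a * b) * (a * b * t) * t = (a * a) * (b * a) * b * (t * t) by
            simp only [mul_assoc], haa, tt, one_mul, mul_one, ← hab, mul_assoc, hbb, mul_one]
      rw [← h2, ← hu_eq, uu]
  -- the points fixed by `a * b`
  let Fab : Set Ω := {x | a • b • x = x ∧ a • x ≠ x}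
  have hFab : ∀ x ∈ Fab, ∀ y ∈ Fab, y = x ∨ y = a • x := by
    rintro x ⟨hx, hxa⟩ y ⟨hy, hya⟩
    by_contra hne
    push Not at hne
    have hfix : ∀ v : Ω, a • b • v = v → (a * b) • (a • v) = a • v := fun v hv => by
      rw [mul_smul, ← hAB v, hv]
    exact hab_ne (hsh (a * b) x (a • x) y (a • y) (Ne.symm hxa) (Ne.symm hne.1)
      (fun e => hne.2 (by rw [e, hA])) (Ne.symm hne.2)
      (fun e => hne.1 (MulAction.injective a e).symm) (Ne.symm hya)
      (by rw [mul_smul]; exact hx) (hfix x hx) (by rw [mul_smul]; exact hy) (hfix y hy))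
  have htype : ∀ x : Ω, x = p₁ ∨ x = p₂ ∨ x = p₃ ∨ x = p₄ ∨ (a • x = x ∧ b • x = x) ∨ x ∈ Fab ∨ Reg x := by
    intro x
    by_cases h1 : a • x = x
    · rcases hFa x h1 with h | h | h <;> simp [h]
    by_cases h2 : b • x = x
    · rcases hFb x h2 with h | h | h
      · simp [h]
      · simp [h]
      · exact absurd h.1 h1
    by_cases h3 : a • b • x = x
    · exact Or.inr (Or.inr (Or.inr (Or.inr (Or.inr (Or.inl ⟨h3, h1⟩)))))
    · exact Or.inr (Or.inr (Or.inr (Or.inr (Or.inr (Or.inr ⟨h1, h2, h3⟩)))))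
  -- finite sets for the three kinds of further points
  obtain ⟨Sc, hSc, hScc⟩ : ∃ S : Finset Ω, (∀ x, x ∈ S ↔ a • x = x ∧ b • x = x) ∧ S.card ≤ 1 := by
    by_cases h : ∃ x : Ω, a • x = x ∧ b • x = x
    · obtain ⟨x, hx⟩ := h
      refine ⟨{x}, fun y => ⟨fun hy => by rw [Finset.mem_singleton.mp hy]; exact hx, fun hy =>
        Finset.mem_singleton.mpr (hpuniq y x hy.1 hy.2 hx.1 hx.2)⟩, by simp⟩
    · push Not at h
      exact ⟨∅, fun y => ⟨fun hy => absurd hy (Finset.notMem_empty y),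
        fun hy => absurd hy.2 (h y hy.1)⟩, by simp⟩
  obtain ⟨Sf, hSf, hSfc⟩ : ∃ S : Finset Ω, (∀ x, x ∈ S ↔ x ∈ Fab) ∧ (S.card = 0 ∨ S.card = 2) := by
    rcases Set.eq_empty_or_nonempty Fab with h | ⟨x, hx⟩
    · exact ⟨∅, fun y => by simp [h], Or.inl rfl⟩
    · have hax : a • x ∈ Fab := ⟨by rw [← hAB x, hx.1], by rw [hA]; exact Ne.symm hx.2⟩
      refine ⟨{x, a • x}, fun y => ⟨fun hy => ?_, fun hy => ?_⟩, Or.inr (Finset.card_pair (Ne.symm hx.2))⟩
      · simp only [Finset.mem_insert, Finset.mem_singleton] at hy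
        rcases hy with rfl | rfl <;> assumption
      · simp only [Finset.mem_insert, Finset.mem_singleton]
        exact hFab x hx y hy
  obtain ⟨Sr, hSr, hSrc⟩ : ∃ S : Finset Ω, (∀ x, x ∈ S ↔ Reg x) ∧ (S.card = 0 ∨ S.card = 4) := by
    by_cases h : ∃ w, Reg w
    · obtain ⟨w, hw⟩ := h
      refine ⟨{w, a • w, b • w, a • b • w}, fun y => ⟨fun hy => ?_, fun hy => ?_⟩, Or.inr ?_⟩
      · obtain ⟨h1, h2, h3⟩ := hw
        simp only [Finset.mem_insert, Finset.mem_singleton] at hy
        rcases hy with rfl | rfl | rfl | rfl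
        · exact ⟨h1, h2, h3⟩
        · refine ⟨fun e => h1 (MulAction.injective a e), fun e => h2 ?_, fun e => h3 ?_⟩
          · rw [← hAB] at e; exact MulAction.injective a e
          · rw [← hAB w] at e; exact MulAction.injective a e
        · refine ⟨fun e => h1 ?_, fun e => h2 (MulAction.injective b e), fun e => h3 ?_⟩
          · rw [hAB] at e; exact MulAction.injective b e
          · rw [hB] at e
            rw [← e, hA]
        · refine ⟨fun e => h1 ?_, fun e => h2 ?_, fun e => h3 ?_⟩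
          · have := MulAction.injective a e
            rw [hAB] at this
            exact MulAction.injective b this
          · rw [← hAB (b • w), hB] at e
            exact (MulAction.injective a e).symm
          · rw [← hAB (b • w), hB, hA] at e
            exact e.symm
      · simp only [Finset.mem_insert, Finset.mem_singleton]
        exact hone w y hw hy
      · obtain ⟨h1, h2, h3⟩ := hw
        rw [Finset.card_insert_of_notMem, Finset.card_insert_of_notMem, Finset.card_pair]
        · exact fun e => h1 (MulAction.injective b ((hAB _).symm.trans e.symm))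
        · simp only [Finset.mem_insert, Finset.mem_singleton, not_or]
          exact ⟨fun e => h3 (by rw [← e, hA]), fun e => h2 (MulAction.injective a e).symm⟩
        · simp only [Finset.mem_insert, Finset.mem_singleton, not_or]
          exact ⟨Ne.symm h1, Ne.symm h2, Ne.symm h3⟩
    · push Not at h
      exact ⟨∅, fun y => by simp [h y], Or.inl rfl⟩
  set P₄ : Finset Ω := {p₁, p₂, p₃, p₄}
  have hP4 : P₄.card = 4 := by
    rw [Finset.card_insert_of_notMem, Finset.card_insert_of_notMem, Finset.card_pair h34] <;>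
      simp [*]
  have hP4v : ∀ x ∈ P₄, (a • x = x ∧ b • x ≠ x) ∨ (a • x ≠ x ∧ b • x = x) := by
    intro x hx
    simp only [P₄, Finset.mem_insert, Finset.mem_singleton] at hx
    rcases hx with rfl | rfl | rfl | rfl
    · exact Or.inl ⟨ha1, hb1 ▸ h12.symm⟩
    · exact Or.inl ⟨ha2, hb2 ▸ h12⟩
    · exact Or.inr ⟨ha3 ▸ h34.symm, hb3⟩
    · exact Or.inr ⟨ha4 ▸ h34, hb4⟩
  set S := ((P₄ ∪ Sc) ∪ Sf) ∪ Sr with hS'
  have hall : ∀ x, x ∈ S := by
    intro x
    simp only [hS', Finset.mem_union, P₄, Finset.mem_insert, Finset.mem_singleton, hSc, hSf, hSr]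
    rcases htype x with h | h | h | h | h | h | h <;> simp [h]
  haveI : Fintype Ω := ⟨S, hall⟩
  have hcard : Fintype.card Ω = 4 + Sc.card + Sf.card + Sr.card := by
    rw [← Finset.card_univ, ← Finset.eq_univ_of_forall hall, hS', Finset.card_union_of_disjoint,
      Finset.card_union_of_disjoint, Finset.card_union_of_disjoint, hP4]
    · rw [Finset.disjoint_left]
      intro x hx hx'
      rw [hSc] at hx'
      rcases hP4v x hx with h | h
      · exact h.2 hx'.2
      · exact h.1 hx'.1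
    · rw [Finset.disjoint_left]
      intro x hx hx'
      rw [hSf] at hx'
      rcases Finset.mem_union.mp hx with h | h
      · rcases hP4v x h with h | h
        · exact hx'.2 h.1
        · exact h.1 (by have := hx'.1; rwa [h.2] at this)
      · exact hx'.2 ((hSc x).mp h).1
    · rw [Finset.disjoint_left]
      intro x hx hx'
      rw [hSr] at hx'
      rcases Finset.mem_union.mp hx with h | h
      · rcases Finset.mem_union.mp h with h | h
        · rcases hP4v x h with h | h
          · exact hx'.1 h.1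
          · exact hx'.2.1 h.2
        · exact hx'.1 ((hSc x).mp h).1
      · exact hx'.2.2 ((hSf x).mp h).1
  refine ⟨inferInstance, ?_, ?_⟩
  · rw [Nat.card_eq_fintype_card, hcard]
    omega
  intro heven
  rw [Nat.card_eq_fintype_card] at heven ⊢
  rw [hcard] at heven ⊢
  rcases hSrc with hr | hr
  · rcases hSfc with hf | hf
    · omega
    · obtain ⟨k, hk⟩ := heven
      omega
  -- one regular orbit and even degree
  exfalso
  obtain ⟨w, hw⟩ : ∃ w, w ∈ Sr := Finset.card_pos.mp (by omega)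
  rw [hSr] at hw
  obtain ⟨t, tt, ta, tb, tw, tbw, tabw⟩ := hswap w hw
  have tb' : t * (a * b) = b * t := by
    rw [← mul_assoc, ta, mul_assoc, tb, ← mul_assoc, ← mul_assoc, haa, one_mul]
  have hf : Sf.card = 2 := by
    refine hSfc.resolve_left fun h0 => ?_
    have hmem : t • p₃ ∈ Sf := by
      rw [hSf]
      refine ⟨?_, ?_⟩
      · rw [← mul_smul, ← mul_smul, ← tb, mul_smul, hb3]
      · rw [← mul_smul, ← ta, mul_smul, ha3]
        exact fun e => h34.symm (MulAction.injective t e)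
    rw [Finset.card_eq_zero] at h0
    rw [h0] at hmem
    exact Finset.notMem_empty _ hmem
  have hc0 : Sc.card = 0 := by
    obtain ⟨k, hk⟩ := heven
    omega
  have hnoc : ∀ x, a • x = x → x = p₁ ∨ x = p₂ := by
    intro x hx
    rcases hFa x hx with h | h | h
    · exact Or.inl h
    · exact Or.inr h
    · rw [← hSc, Finset.card_eq_zero.mp hc0] at h
      exact absurd h (Finset.notMem_empty x)
  obtain ⟨hw1, hw2, hw3⟩ := hw
  have dbw : b • w ≠ a • b • w := fun e => hw1 (MulAction.injective b ((hAB _).symm.trans e.symm))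
  have htp : t • p₁ = p₂ ∧ t • p₂ = p₁ := by
    have hp : ∀ q : Ω, a • q = q → a • t • q = t • q := fun q hq => by
      rw [← mul_smul, ← ta, mul_smul, hq]
    have h1 : t • p₁ = p₂ := by
      refine (hnoc _ (hp _ ha1)).resolve_left fun e1 => ?_
      have e2 : t • p₂ = p₂ := (hnoc _ (hp _ ha2)).resolve_left fun e2 =>
        h12 (MulAction.injective t (e1.trans e2.symm))
      have hne : ∀ q : Ω, a • q = q → q ≠ b • w ∧ q ≠ a • b • w := fun q hq =>
        ⟨fun e => dbw (by rw [← e, hq]), fun e => dbw (by rw [e, hA] at hq; exact hq)⟩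
      have := hsh t p₁ p₂ (b • w) (a • b • w) h12 (hne _ ha1).1 (hne _ ha1).2 (hne _ ha2).1
        (hne _ ha2).2 dbw e1 e2 tbw tabw
      rw [this, one_smul] at tw
      exact hw1 tw.symm
    exact ⟨h1, by rw [← h1, ← mul_smul, tt, one_smul]⟩
  set r := b * t with hr'
  have hr1 : r • p₁ = p₁ := by rw [hr', mul_smul, htp.1, hb2]
  have hr2 : r • p₂ = p₂ := by rw [hr', mul_smul, htp.2, hb1]
  have hrr : r * r = a := by
    rw [hr', show b * t * (b * t) = b * (t * b) * t by simp only [mul_assoc], tb, hab,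
      show b * (b * a * t) * t = (b * b) * a * (t * t) by simp only [mul_assoc], hbb, tt,
      one_mul, mul_one]
  have hn : Fintype.card Ω = 10 := by rw [hcard]; omega
  -- the stabiliser of two points is sharply doubly transitive on eight points
  haveI : Finite G := by
    refine Finite.of_injective (fun g : G => (g • p₁, g • p₂, g • p₃, g • p₄)) fun g h e => ?_
    simp only [Prod.mk.injEq] at e
    exact heq g h p₁ p₂ p₃ p₄ h12 h13 h14 h23 h24 h34 e.1 e.2.1 e.2.2.1 e.2.2.2
  let K : Subgroup G := stabilizer G p₁ ⊓ stabilizer G p₂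
  let Y := {x : Ω // x ≠ p₁ ∧ x ≠ p₂}
  letI : MulAction K Y :=
    { smul := fun g x => ⟨(g : G) • (x : Ω), fun e => x.2.1 (MulAction.injective (g : G) (e.trans g.2.1.symm)),
        fun e => x.2.2 (MulAction.injective (g : G) (e.trans g.2.2.symm))⟩
      one_smul := fun x => Subtype.ext (one_smul G (x : Ω))
      mul_smul := fun g h x => Subtype.ext (mul_smul (g : G) (h : G) (x : Ω)) }
  have hsharp : SharplyTwoTransitive.IsSharp K Y := by
    refine ⟨is_two_pretransitive_iff.mpr fun {u v u' v'} huv huv' => ?_, fun g u v huv hu hv => ?_⟩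
    · obtain ⟨g, g1, g2, g3, g4⟩ := htr p₁ p₂ u.1 v.1 p₁ p₂ u'.1 v'.1 h12 u.2.1.symm v.2.1.symm
        u.2.2.symm v.2.2.symm (fun e => huv (Subtype.ext e)) h12 u'.2.1.symm v'.2.1.symm
        u'.2.2.symm v'.2.2.symm (fun e => huv' (Subtype.ext e))
      exact ⟨⟨g, g1, g2⟩, Subtype.ext g3, Subtype.ext g4⟩
    · exact Subtype.ext (hsh g.1 p₁ p₂ u.1 v.1 h12 u.2.1.symm v.2.1.symm u.2.2.symm v.2.2.symm
        (fun e => huv (Subtype.ext e)) g.2.1 g.2.2 (congrArg Subtype.val hu) (congrArg Subtype.val hv))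
  have hY : Nat.card Y = 8 := by
    rw [Nat.card_eq_fintype_card, Fintype.card_subtype,
      show (Finset.univ.filter fun x : Ω => x ≠ p₁ ∧ x ≠ p₂) = Finset.univ \ {p₁, p₂} by ext; simp,
      Finset.card_sdiff_of_subset (Finset.subset_univ _), Finset.card_pair h12, Finset.card_univ, hn]
  obtain ⟨p, j, M, hp, hj, hpj, -, -, -, hexp, -, -, hmem⟩ :=
    SharplyTwoTransitive.exists_kernel hsharp (by omega)
  have hp2 : p = 2 := (Nat.prime_dvd_prime_iff_eq hp Nat.prime_two).mp (hp.dvd_of_dvd_pow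
    (show p ∣ 2 ^ 3 by rw [show (2 : ℕ) ^ 3 = p ^ j by rw [← hpj, hY]; norm_num]; exact dvd_pow_self p (by omega)))
  let r' : K := ⟨r, hr1, hr2⟩
  have hrM : r' ∈ M := (hmem r').mpr (Or.inr fun x hx => by
    have hx' : r • x.1 = x.1 := congrArg Subtype.val hx
    have hax : a • x.1 = x.1 := by rw [← hrr, mul_smul, hx', hx']
    rcases hnoc _ hax with e | e
    · exact x.2.1 e
    · exact x.2.2 e)
  have := hexp r' hrM
  rw [hp2, pow_two] at this
  apply ha_ne
  rw [← hrr]
  exact congrArg Subtype.val this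

end CfsgLib.SmallGroups.SharplyFour
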