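import Cfsg.Agent.Lib.SmallGroups.FourTransitiveOddCore
import Cfsg.Agent.Lib.SmallGroups.SharplyFourTransitive
import Cfsg.Agent.Lib.SmallGroups.KpAddR
import Cfsg.Agent.Lib.FGS.SmallDegree

/-!
Hall's theorem on four-fold transitive groups with four-point stabilizer of odd order.
-/

set_option autoImplicit false

namespace CfsgLib.SmallGroups.FourOdd

open Equiv Finset
open scoped commutatorElement

theorem seven_contains {β : Type*} [Fintype β] [DecidableEq β] (T : Subgroup (Perm β))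
    (hβ : Fintype.card β = 7) (hT : 840 ≤ Nat.card T) : alternatingGroup β ≤ T := by
  have hc : Nat.card β = 7 := by rw [Nat.card_eq_fintype_card, hβ]
  have hA : Nat.card (alternatingGroup β) = 2520 := by
    haveI : Nontrivial β := Fintype.one_lt_card_iff_nontrivial.1 (by omega)
    rw [nat_card_alternatingGroup, hc]
    decide
  refine le_trans (CfsgLib.FGS.le_of_small_index (H := T ⊓ alternatingGroup β) (by omega) inf_le_right ?_)
    inf_le_left
  rw [Subgroup.inf_relIndex_right, hA]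
  have hi : T.index * Nat.card T = 5040 := by
    rw [Subgroup.index_mul_card, Nat.card_perm, hc]
    decide
  have h6 : T.index ≤ 6 := by
    by_contra h
    have : 7 * 840 ≤ T.index * Nat.card T := Nat.mul_le_mul (by omega) hT
    omega
  have hr : T.relIndex (alternatingGroup β) ≤ 6 := by
    have := Subgroup.relIndex_le_of_le_right (H := T) (K := alternatingGroup β) (L := ⊤) le_top
      (by rw [Subgroup.relIndex_top_right]; exact Subgroup.index_ne_zero_of_finite)
    rw [Subgroup.relIndex_top_right] at this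
    omega
  interval_cases (T.relIndex (alternatingGroup β)) <;> decide

variable {α : Type*} [Fintype α] [DecidableEq α] {G : Subgroup (Perm α)} (hG : Hyp G)

include hG

theorem card_eq {x y z w : α} (h : D4 x y z w)
    (hmt : MulAction.IsMultiplyPretransitive G α 4) :
    Nat.card G = Fintype.card (Fin 4 ↪ α) * Nat.card (fix4 G x y z w) := by
  set e : Fin 4 ↪ α :=
    ⟨![x, y, z, w], CfsgLib.SmallGroups.SharplyFour.injective_four h.xy h.xz h.xw h.yz h.yw h.zw⟩
    with he
  have hidx := Subgroup.index_mul_card (MulAction.stabilizer G e)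
  rw [CfsgLib.SmallGroups.KpAddR.index_stabilizer_of_multiplyPretransitive hmt e,
    Nat.card_eq_fintype_card (α := Fin 4 ↪ α)] at hidx
  rw [← hidx]
  congr 1
  refine Nat.card_congr ?_
  refine
    { toFun := fun g => ⟨(g : G), (g : G).2, ?_, ?_, ?_, ?_⟩
      invFun := fun k => ⟨⟨k, k.2.1⟩, ?_⟩
      left_inv := fun g => rfl
      right_inv := fun k => rfl }
  · exact congrArg (fun f : Fin 4 ↪ α => f 0) g.2
  · exact congrArg (fun f : Fin 4 ↪ α => f 1) g.2
  · exact congrArg (fun f : Fin 4 ↪ α => f 2) g.2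
  · exact congrArg (fun f : Fin 4 ↪ α => f 3) g.2
  · rw [MulAction.mem_stabilizer_iff]
    ext i
    fin_cases i
    · exact k.2.2.1
    · exact k.2.2.2.1
    · exact k.2.2.2.2.1
    · exact k.2.2.2.2.2

/-- The degree is eleven and the four-point stabilizers are trivial. -/
theorem odd_main (hn : 9 ≤ Fintype.card α) (hodd : Fintype.card α % 2 = 1) {p₁ p₂ p₃ p₄ : α}
    (h : D4 p₁ p₂ p₃ p₄) : Fintype.card α = 11 ∧ fix4 G p₁ p₂ p₃ p₄ = ⊥ := by
  classical
  -- the four-group
  obtain ⟨g, hg, g1, g2, g3, g4⟩ := hG.trans h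
    (⟨h.xy, h.xw, h.xz, h.yw, h.yz, h.zw.symm⟩ : D4 p₁ p₂ p₄ p₃)
  obtain ⟨a, ha, haa, ha1, ha2, ha3, ha4⟩ :=
    inv_of hG h hg (by rw [g1, g1]) (by rw [g2, g2]) (by rw [g3, g4]) (by rw [g4, g3])
  rw [g1] at ha1
  rw [g2] at ha2
  rw [g3] at ha3
  rw [g4] at ha4
  obtain ⟨b, hb, hbb, hab, hb1, hb2, hb3, hb4⟩ := exists_pair hG h ha haa ha1 ha2 ha3
  set H := fix4 G p₁ p₂ p₃ p₄ with hH
  have hA := apply_apply haa
  have hB := apply_apply hbb
  have hAB : ∀ x, a (b x) = b (a x) := fun x => by rw [← Perm.mul_apply, hab, Perm.mul_apply]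
  have hA1 : a ≠ 1 := fun e => h.zw (by rw [e] at ha3; exact ha3)
  have hB1 : b ≠ 1 := fun e => h.xy (by rw [e] at hb1; exact hb1)
  have habab : a * b * (a * b) = 1 := by
    calc a * b * (a * b) = a * (b * a) * b := by group
      _ = (a * a) * (b * b) := by rw [← hab]; group
      _ = 1 := by rw [haa, hbb, one_mul]
  have hAB1 : a * b ≠ 1 := fun e => h.xy (by
    have := congrArg (fun g : Perm α => g p₁) e
    simp only [Perm.mul_apply, hb1, ha2, Perm.one_apply] at this
    exact this.symm)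
  -- the stabilizer centralizes `a` and `b`
  have hHa : ∀ k ∈ H, k * a = a * k := fix4_commute hG hn hodd h ha haa ha1 ha2 ha3
  have hHb : ∀ k ∈ H, k * b = b * k := fun k hk =>
    fix4_commute hG hn hodd (⟨h.zw, h.xz.symm, h.yz.symm, h.xw.symm, h.yw.symm, h.xy⟩ : D4 p₃ p₄ p₁ p₂)
      hb hbb hb3 hb4 hb1 k ⟨hk.1, hk.2.2.2.1, hk.2.2.2.2, hk.2.1, hk.2.2.1⟩
  have hHab : ∀ k ∈ H, k * (a * b) = a * b * k := fun k hk => by
    rw [← mul_assoc, hHa k hk, mul_assoc, hHb k hk, mul_assoc]
  -- double transpositions are centralized by the stabilizer of their four points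
  have hdouble : ∀ {x y z w : α}, D4 x y z w → ∀ v ∈ G, v * v = 1 → v x = y → v z = w →
      ∀ k ∈ fix4 G x y z w, k * v = v * k := by
    intro x y z w d v hv hvv hvx hvz k hk
    obtain ⟨f, hf, f1, f2, f3, f4⟩ := hG.trans d h
    have hfi : ∀ {u s : α}, f u = s → f⁻¹ s = u := fun e => Perm.inv_eq_iff_eq.2 e.symm
    have hvy : v y = x := by rw [← hvx, apply_apply hvv]
    have hvw : v w = z := by rw [← hvz, apply_apply hvv]
    have e : f * v * f⁻¹ = a * b := by
      refine (unique_of_comm hG h (G.mul_mem ha hb) (G.mul_mem (G.mul_mem hf hv) (G.inv_mem hf)) habab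
        ?_ ?_ ?_ ?_ ?_ hHab).symm
      · rw [show f * v * f⁻¹ * (f * v * f⁻¹) = f * (v * v) * f⁻¹ by group, hvv, mul_one, mul_inv_cancel]
      all_goals simp only [Perm.mul_apply]
      · rw [hfi f1, hvx, f2, hb1, ha2]
      · rw [hfi f2, hvy, f1, hb2, ha1]
      · rw [hfi f3, hvz, f4, hb3, ha3]
      · rw [hfi f4, hvw, f3, hb4, ha4]
    have hk' : f * k * f⁻¹ ∈ H := by
      obtain ⟨hk0, k1, k2, k3, k4⟩ := hk
      refine ⟨G.mul_mem (G.mul_mem hf hk0) (G.inv_mem hf), ?_, ?_, ?_, ?_⟩ <;>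
        simp only [Perm.mul_apply, hfi f1, hfi f2, hfi f3, hfi f4, k1, k2, k3, k4, f1, f2, f3, f4]
    have h' := hHab _ hk'
    rw [← e] at h'
    calc k * v = f⁻¹ * ((f * k * f⁻¹) * (f * v * f⁻¹)) * f := by group
      _ = f⁻¹ * ((f * v * f⁻¹) * (f * k * f⁻¹)) * f := by rw [h']
      _ = v * k := by group
  obtain ⟨r, r1, r2, r3⟩ := exists_regular hG (by omega) h ha hb haa hbb hab ha1 ha2 ha3 hb1 hb2 hb3 hb4
  have hcommon := common_unique hG h ha haa ha1 ha2 ha3 hb1 hb2
  -- the common fixed point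
  have hFa2 : ({p₁, p₂} : Finset α) ⊆ Fx a := by
    intro v hv
    simp only [Finset.mem_insert, Finset.mem_singleton] at hv
    rcases hv with rfl | rfl <;> exact mem_Fx.2 ‹_›
  obtain ⟨q, hq, hqn⟩ := Finset.exists_mem_notMem_of_card_lt_card
    (s := ({p₁, p₂} : Finset α)) (t := Fx a) (by
      have := Fx_parity haa
      have := Finset.card_le_card hFa2
      have := card_Fx_le hG ha haa hA1
      rw [Finset.card_pair h.xy] at *
      omega)
  simp only [Finset.mem_insert, Finset.mem_singleton, not_or] at hqn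
  obtain ⟨hq1, hq2⟩ := hqn
  have haq := mem_Fx.1 hq
  have hFa : ∀ v, a v = v → v = p₁ ∨ v = p₂ ∨ v = q := by
    intro v hv
    by_contra hc
    push Not at hc
    exact hA1 (eq_one_of_sq hG ⟨h.xy, Ne.symm hc.1, Ne.symm hq1, Ne.symm hc.2.1, Ne.symm hq2, hc.2.2⟩
      ha haa ha1 ha2 hv haq)
  have hbq : b q = q := by
    rcases hFa (b q) (by rw [hAB, haq]) with e | e | e
    · exact absurd (b.injective (e.trans hb2.symm)) hq2
    · exact absurd (b.injective (e.trans hb1.symm)) hq1
    · exact e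
  have hq3 : q ≠ p₃ := fun e => h.zw (by rw [e, ha3] at haq; exact haq.symm)
  have hq4 : q ≠ p₄ := fun e => h.zw (by rw [e, ha4] at haq; exact haq)
  have hFb : ∀ v, b v = v → v = p₃ ∨ v = p₄ ∨ v = q := by
    intro v hv
    by_contra hc
    push Not at hc
    exact hB1 (eq_one_of_sq hG ⟨h.zw, Ne.symm hc.1, Ne.symm hq3, Ne.symm hc.2.1, Ne.symm hq4, hc.2.2⟩
      hb hbb hb3 hb4 hv hbq)
  -- the pair of points fixed by `a * b`
  have dR : D4 r (a r) (b r) (a (b r)) :=
    ⟨Ne.symm r1, Ne.symm r2, Ne.symm r3, fun e => r3 (by rw [← e, hA]),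
      fun e => r2 (a.injective e).symm, fun e => r1 (b.injective ((hAB r).symm.trans e.symm))⟩
  have hFab3 : (Fx (a * b)).card = 3 := by
    obtain ⟨f, hf, f1, f2, f3, f4⟩ := hG.trans dR
      (⟨dR.xw, dR.xy, dR.xz, dR.yw.symm, dR.zw.symm, dR.yz⟩ : D4 r (a (b r)) (a r) (b r))
    have hfi : ∀ {u s : α}, f u = s → f⁻¹ s = u := fun e => Perm.inv_eq_iff_eq.2 e.symm
    obtain ⟨k, -, hk, -⟩ := conj_of_agree hG dR (G.mul_mem ha hb) (G.mul_mem (G.mul_mem hf ha) (G.inv_mem hf))
      habab (by rw [show f * a * f⁻¹ * (f * a * f⁻¹) = f * (a * a) * f⁻¹ by group, haa, mul_one, mul_inv_cancel])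
      (by simp only [Perm.mul_apply]; rw [hfi f1, f2])
      (by simp only [Perm.mul_apply]; rw [hfi f3, show a (b r) = a (b r) from rfl, f4, hAB (a r), hA])
      (by simp only [Perm.mul_apply]; rw [hfi f4, hA, f3, hB])
      (by simp only [Perm.mul_apply]; rw [hfi f2, hA, f1, ← hAB (b r), hB, hA])
    have e : (Fx (a * b)).card = (Fx a).card := by
      rw [← hk, card_conj_Fx, card_conj_Fx]
    rw [e]
    have := Fx_parity haa
    have := Finset.card_le_card hFa2
    have := card_Fx_le hG ha haa hA1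
    rw [Finset.card_pair h.xy] at *
    omega
  have hqab : q ∈ Fx (a * b) := mem_Fx.2 (by rw [Perm.mul_apply, hbq, haq])
  obtain ⟨p₅, p₆, h56, h56e⟩ : ∃ p₅ p₆, p₅ ≠ p₆ ∧ (Fx (a * b)).erase q = {p₅, p₆} :=
    Finset.card_eq_two.1 (by rw [Finset.card_erase_of_mem hqab, hFab3])
  have hFab : ∀ v, a (b v) = v → v = p₅ ∨ v = p₆ ∨ v = q := by
    intro v hv
    by_cases e : v = q
    · exact Or.inr (Or.inr e)
    have hm : v ∈ (Fx (a * b)).erase q := Finset.mem_erase.2 ⟨e, mem_Fx.2 hv⟩
    rw [h56e] at hm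
    simp only [Finset.mem_insert, Finset.mem_singleton] at hm
    tauto
  have h5m : p₅ ≠ q ∧ a (b p₅) = p₅ := by
    have hm : p₅ ∈ (Fx (a * b)).erase q := by rw [h56e]; simp
    exact ⟨(Finset.mem_erase.1 hm).1, mem_Fx.1 (Finset.mem_erase.1 hm).2⟩
  have h6m : p₆ ≠ q ∧ a (b p₆) = p₆ := by
    have hm : p₆ ∈ (Fx (a * b)).erase q := by rw [h56e]; simp
    exact ⟨(Finset.mem_erase.1 hm).1, mem_Fx.1 (Finset.mem_erase.1 hm).2⟩
  -- fixed points of the stabilizer
  let D : Finset α := Finset.univ.filter fun v => ∀ k ∈ H, k v = v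
  have hmemD : ∀ {v}, v ∈ D ↔ ∀ k ∈ H, k v = v := by simp [D]
  have hcomm_app : ∀ {k u : Perm α}, k * u = u * k → ∀ v, k (u v) = u (k v) := fun e v => by
    rw [← Perm.mul_apply, e, Perm.mul_apply]
  have hHq : ∀ k ∈ H, k q = q := by
    intro k hk
    have e1 : a (k q) = k q := by rw [← hcomm_app (hHa k hk), haq]
    have e2 : b (k q) = k q := by rw [← hcomm_app (hHb k hk), hbq]
    exact hcommon _ _ e1 e2 haq hbq
  have hH56 : ∀ k ∈ H, k p₅ = p₅ ∧ k p₆ = p₆ := by
    intro k hk
    have hodd' : Odd (orderOf k) := hG.odd h k hk.1 hk.2.1 hk.2.2.1 hk.2.2.2.1 hk.2.2.2.2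
    have key : ∀ v, v ≠ q → a (b v) = v → k v = p₅ ∨ k v = p₆ := by
      intro v hvq hv
      rcases hFab (k v) (by rw [← hcomm_app (hHb k hk), ← hcomm_app (hHa k hk), hv]) with e | e | e
      · exact Or.inl e
      · exact Or.inr e
      · exact absurd (k.injective (e.trans (hHq k hk).symm)) hvq
    rcases key p₅ h5m.1 h5m.2 with e5 | e5
    · refine ⟨e5, ?_⟩
      rcases key p₆ h6m.1 h6m.2 with e6 | e6
      · exact absurd (k.injective (e6.trans e5.symm)).symm h56
      · exact e6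
    · rcases key p₆ h6m.1 h6m.2 with e6 | e6
      · exact absurd ((odd_swap hodd' (x := p₅) (by rw [e5, e6])).symm.trans e5) h56
      · exact absurd (k.injective (e5.trans e6.symm)) h56
  let S7 : Finset α := {p₁, p₂, p₃, p₄, q, p₅, p₆}
  have h5ne : ∀ v, a (b v) ≠ v → v ≠ p₅ ∧ v ≠ p₆ := fun v hv =>
    ⟨fun e => hv (by rw [e]; exact h5m.2), fun e => hv (by rw [e]; exact h6m.2)⟩
  have hS7 : S7.card = 7 := by
    have k1 := h5ne p₁ (by rw [hb1, ha2]; exact h.xy.symm)
    have k2 := h5ne p₂ (by rw [hb2, ha1]; exact h.xy)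
    have k3 := h5ne p₃ (by rw [hb3, ha3]; exact h.zw.symm)
    have k4 := h5ne p₄ (by rw [hb4, ha4]; exact h.zw)
    simp only [S7]
    rw [Finset.card_insert_of_notMem, Finset.card_insert_of_notMem, Finset.card_insert_of_notMem,
      Finset.card_insert_of_notMem, Finset.card_insert_of_notMem, Finset.card_insert_of_notMem,
      Finset.card_singleton] <;>
      simp [h.xy, h.xz, h.xw, h.yz, h.yw, h.zw, Ne.symm hq1, Ne.symm hq2, Ne.symm hq3, Ne.symm hq4,
        k1.1, k1.2, k2.1, k2.2, k3.1, k3.2, k4.1, k4.2, Ne.symm h5m.1, Ne.symm h6m.1, h56]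
  have hS7D : S7 ⊆ D := by
    intro v hv
    rw [hmemD]
    intro k hk
    simp only [S7, Finset.mem_insert, Finset.mem_singleton] at hv
    rcases hv with rfl | rfl | rfl | rfl | rfl | rfl | rfl
    · exact hk.2.1
    · exact hk.2.2.1
    · exact hk.2.2.2.1
    · exact hk.2.2.2.2
    · exact hHq k hk
    · exact (hH56 k hk).1
    · exact (hH56 k hk).2
  have hstab : ∀ {x y z w}, D4 x y z w → x ∈ D → y ∈ D → z ∈ D → w ∈ D → fix4 G x y z w = H := by
    intro x y z w d hx hy hz hw
    have hle : H ≤ fix4 G x y z w := fun k hk =>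
      ⟨hk.1, hmemD.1 hx k hk, hmemD.1 hy k hk, hmemD.1 hz k hk, hmemD.1 hw k hk⟩
    exact (Subgroup.eq_of_le_of_card_ge hle (card_fix4_eq hG d h).le).symm
  -- the induced group on the fixed points
  let T : Subgroup (Perm D) :=
    { carrier := {σ | ∃ f ∈ G, ∀ d : D, f d = σ d}
      one_mem' := ⟨1, G.one_mem, fun d => rfl⟩
      mul_mem' := fun {σ τ} ⟨f, hf, hfd⟩ ⟨f', hf', hfd'⟩ => ⟨f * f', G.mul_mem hf hf', fun d => by
        rw [Perm.mul_apply, hfd', hfd, Perm.mul_apply]⟩
      inv_mem' := fun {σ} ⟨f, hf, hfd⟩ => ⟨f⁻¹, G.inv_mem hf, fun d => by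
        rw [Perm.inv_eq_iff_eq, hfd, show σ (σ⁻¹ d) = d from σ.apply_symm_apply d]⟩ }
  have hTtr : ∀ (x y z w x' y' z' w' : D), D4 (x : α) y z w → D4 (x' : α) y' z' w' →
      ∃ σ : T, (σ : Perm D) x = x' ∧ (σ : Perm D) y = y' ∧ (σ : Perm D) z = z' ∧ (σ : Perm D) w = w' := by
    intro x y z w x' y' z' w' d d'
    obtain ⟨f, hf, f1, f2, f3, f4⟩ := hG.trans d d'
    have hfi : ∀ {u s : α}, f u = s → f⁻¹ s = u := fun e => Perm.inv_eq_iff_eq.2 e.symm
    have hfD : ∀ v ∈ D, f v ∈ D := by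
      intro v hv
      rw [hmemD]
      intro k hk
      have hk' : k ∈ fix4 G (x' : α) y' z' w' := by rw [hstab d' x'.2 y'.2 z'.2 w'.2]; exact hk
      have hm : f⁻¹ * k * f ∈ H := by
        rw [← hstab d x.2 y.2 z.2 w.2]
        refine ⟨G.mul_mem (G.mul_mem (G.inv_mem hf) hk.1) hf, ?_, ?_, ?_, ?_⟩
        · simp only [Perm.mul_apply, f1, hk'.2.1, hfi f1]
        · simp only [Perm.mul_apply, f2, hk'.2.2.1, hfi f2]
        · simp only [Perm.mul_apply, f3, hk'.2.2.2.1, hfi f3]
        · simp only [Perm.mul_apply, f4, hk'.2.2.2.2, hfi f4]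
      have := hmemD.1 hv _ hm
      simp only [Perm.mul_apply] at this
      exact Perm.inv_eq_iff_eq.1 this
    let σ : Perm D := Equiv.ofBijective (fun v : D => ⟨f v, hfD v v.2⟩)
      (Finite.injective_iff_bijective.1 fun u v e => Subtype.ext (f.injective (congrArg Subtype.val e)))
    exact ⟨⟨σ, f, hf, fun v => rfl⟩, Subtype.ext f1, Subtype.ext f2, Subtype.ext f3, Subtype.ext f4⟩
  have hTfix : ∀ (σ : T) (x y z w : D), D4 (x : α) y z w → (σ : Perm D) x = x → (σ : Perm D) y = y →
      (σ : Perm D) z = z → (σ : Perm D) w = w → σ = 1 := by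
    rintro ⟨σ, f, hf, hfd⟩ x y z w d hx hy hz hw
    have hm : f ∈ H := by
      rw [← hstab d x.2 y.2 z.2 w.2]
      exact ⟨hf, (hfd x).trans (congrArg Subtype.val hx), (hfd y).trans (congrArg Subtype.val hy),
        (hfd z).trans (congrArg Subtype.val hz), (hfd w).trans (congrArg Subtype.val hw)⟩
    refine Subtype.ext (Equiv.ext fun v => Subtype.ext ?_)
    exact ((hfd v).symm.trans (hmemD.1 v.2 f hm))
  have hne : ∀ {x y : D}, x ≠ y → (x : α) ≠ y := fun h' e => h' (Subtype.ext e)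
  have hsharp : CfsgLib.SmallGroups.SharplyFour.IsSharpFour T D :=
    ⟨fun x y z w x' y' z' w' n1 n2 n3 n4 n5 n6 m1 m2 m3 m4 m5 m6 =>
      hTtr x y z w x' y' z' w' ⟨hne n1, hne n2, hne n3, hne n4, hne n5, hne n6⟩
        ⟨hne m1, hne m2, hne m3, hne m4, hne m5, hne m6⟩,
      fun σ x y z w n1 n2 n3 n4 n5 n6 e1 e2 e3 e4 =>
        hTfix σ x y z w ⟨hne n1, hne n2, hne n3, hne n4, hne n5, hne n6⟩ e1 e2 e3 e4⟩
  have hD7 : 7 ≤ D.card := hS7 ▸ Finset.card_le_card hS7D
  have hpD : ∀ {v}, v ∈ S7 → v ∈ D := fun hv => hS7D hv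
  let e₀ : Fin 4 ↪ D := ⟨![⟨p₁, hpD (by simp [S7])⟩, ⟨p₂, hpD (by simp [S7])⟩, ⟨p₃, hpD (by simp [S7])⟩,
      ⟨p₄, hpD (by simp [S7])⟩], CfsgLib.SmallGroups.SharplyFour.injective_four
        (fun e => h.xy (congrArg Subtype.val e)) (fun e => h.xz (congrArg Subtype.val e))
        (fun e => h.xw (congrArg Subtype.val e)) (fun e => h.yz (congrArg Subtype.val e))
        (fun e => h.yw (congrArg Subtype.val e)) (fun e => h.zw (congrArg Subtype.val e))⟩
  obtain ⟨-, hD11, hDev⟩ := CfsgLib.SmallGroups.SharplyFour.tits_bound hsharp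
    (e₀.injective.ne (show (0 : Fin 4) ≠ 1 by decide)) (e₀.injective.ne (show (0 : Fin 4) ≠ 2 by decide))
    (e₀.injective.ne (show (0 : Fin 4) ≠ 3 by decide)) (e₀.injective.ne (show (1 : Fin 4) ≠ 2 by decide))
    (e₀.injective.ne (show (1 : Fin 4) ≠ 3 by decide)) (e₀.injective.ne (show (2 : Fin 4) ≠ 3 by decide))
  have hDc : Nat.card D = D.card := by rw [Nat.card_eq_fintype_card, Fintype.card_coe]
  have hD11' : D.card = 11 := by
    rw [hDc] at hD11 hDev
    by_contra hne'
    have hev : D.card % 2 = 1 := by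
      by_contra hc
      have := hDev (Nat.even_iff.2 (by omega))
      omega
    have hmt : MulAction.IsMultiplyPretransitive T D 4 := ⟨fun e e' => by
      obtain ⟨σ, s1, s2, s3, s4⟩ := hTtr (e 0) (e 1) (e 2) (e 3) (e' 0) (e' 1) (e' 2) (e' 3)
        ⟨hne (e.injective.ne (by decide)), hne (e.injective.ne (by decide)), hne (e.injective.ne (by decide)),
          hne (e.injective.ne (by decide)), hne (e.injective.ne (by decide)), hne (e.injective.ne (by decide))⟩
        ⟨hne (e'.injective.ne (by decide)), hne (e'.injective.ne (by decide)), hne (e'.injective.ne (by decide)),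
          hne (e'.injective.ne (by decide)), hne (e'.injective.ne (by decide)), hne (e'.injective.ne (by decide))⟩
      refine ⟨σ, ?_⟩
      ext i
      fin_cases i
      · exact congrArg Subtype.val s1
      · exact congrArg Subtype.val s2
      · exact congrArg Subtype.val s3
      · exact congrArg Subtype.val s4⟩
    have hDf : Fintype.card D = D.card := Fintype.card_coe D
    have hA : alternatingGroup D ≤ T := by
      have h79 : D.card = 7 ∨ D.card = 9 := by omega
      rcases h79 with e | e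
      · refine seven_contains T (by rw [hDf, e]) ?_
        have hidx := Subgroup.index_mul_card (MulAction.stabilizer T e₀)
        rw [CfsgLib.SmallGroups.KpAddR.index_stabilizer_of_multiplyPretransitive hmt e₀,
          Nat.card_eq_fintype_card (α := Fin 4 ↪ D), Fintype.card_embedding_eq, hDf, e,
          Fintype.card_fin, show Nat.descFactorial 7 4 = 840 from rfl] at hidx
        rw [← hidx]
        exact Nat.le_mul_of_pos_right _ Nat.card_pos
      · exact CfsgLib.SmallGroups.KpAddR.degree_nine hmt (by rw [hDf, e])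
    -- three points outside four given ones
    obtain ⟨s, hs, hsc⟩ := Finset.exists_subset_card_eq
      (s := (Finset.univ : Finset D) \ Finset.univ.map e₀) (n := 3) (by
        rw [Finset.card_sdiff_of_subset (Finset.subset_univ _), Finset.card_map, Finset.card_univ,
          Finset.card_univ, Fintype.card_fin, hDf]
        omega)
    obtain ⟨u₁, u₂, u₃, u12, u13, u23, rfl⟩ := Finset.card_eq_three.1 hsc
    have hout : ∀ u ∈ ({u₁, u₂, u₃} : Finset D), ∀ i, e₀ i ≠ u := fun u hu i e =>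
      (Finset.mem_sdiff.1 (hs hu)).2 (Finset.mem_map.2 ⟨i, Finset.mem_univ i, e⟩)
    have h3c := Perm.isThreeCycle_swap_mul_swap_same u12 u13 u23
    have hmem : Equiv.swap u₁ u₂ * Equiv.swap u₁ u₃ ∈ T := hA h3c.mem_alternatingGroup
    have hfx : ∀ i, (Equiv.swap u₁ u₂ * Equiv.swap u₁ u₃) (e₀ i) = e₀ i := fun i => by
      rw [Perm.mul_apply, Equiv.swap_apply_of_ne_of_ne (hout u₁ (by simp) i) (hout u₃ (by simp) i),
        Equiv.swap_apply_of_ne_of_ne (hout u₁ (by simp) i) (hout u₂ (by simp) i)]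
    have h1 := hTfix ⟨_, hmem⟩ (e₀ 0) (e₀ 1) (e₀ 2) (e₀ 3) h (hfx 0) (hfx 1) (hfx 2) (hfx 3)
    exact h3c.isCycle.ne_one (congrArg Subtype.val h1)
  -- a regular orbit fixed by the stabilizer
  obtain ⟨w, hwD, hw7⟩ := Finset.exists_mem_notMem_of_card_lt_card (s := S7) (t := D) (by omega)
  have hwreg : a w ≠ w ∧ b w ≠ w ∧ a (b w) ≠ w := by
    simp only [S7, Finset.mem_insert, Finset.mem_singleton, not_or] at hw7
    refine ⟨fun e => ?_, fun e => ?_, fun e => ?_⟩
    · rcases hFa w e with e' | e' | e' <;> simp [e'] at hw7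
    · rcases hFb w e with e' | e' | e' <;> simp [e'] at hw7
    · rcases hFab w e with e' | e' | e' <;> simp [e'] at hw7
  obtain ⟨w1, w2, w3⟩ := hwreg
  have hreg4 : ∀ {v}, a v ≠ v → b v ≠ v → a (b v) ≠ v → D4 v (a v) (b v) (a (b v)) :=
    fun {v} v1 v2 v3 => ⟨Ne.symm v1, Ne.symm v2, Ne.symm v3, fun e => v3 (by rw [← e, hA]),
      fun e => v2 (a.injective e).symm, fun e => v1 (b.injective ((hAB v).symm.trans e.symm))⟩
  have haD : ∀ v ∈ D, a v ∈ D := fun v hv => hmemD.2 fun k hk => by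
    rw [hcomm_app (hHa k hk), hmemD.1 hv k hk]
  have hbD : ∀ v ∈ D, b v ∈ D := fun v hv => hmemD.2 fun k hk => by
    rw [hcomm_app (hHb k hk), hmemD.1 hv k hk]
  -- transpositions on the regular orbits
  have hswap : ∀ v, a v ≠ v → b v ≠ v → a (b v) ≠ v → ∃ t ∈ G, t * t = 1 ∧ t * a = a * t ∧
      t * b = a * b * t ∧ t v = a v ∧ t (a v) = v ∧ t (b v) = b v ∧ t (a (b v)) = a (b v) := by
    intro v v1 v2 v3
    have d := hreg4 v1 v2 v3
    obtain ⟨f, hf, f1, f2, f3, f4⟩ := hG.trans d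
      (⟨d.xy.symm, d.yz, d.yw, d.xz, d.xw, d.zw⟩ : D4 (a v) v (b v) (a (b v)))
    obtain ⟨t, ht, htt, hat, t1, t2, t3, t4⟩ := pair_of hG d ha haa hf
      (by rw [f1, f2]) (by rw [f2, f1]) (by rw [f3, f3]) (by rw [f4, f4])
      (Or.inr (Or.inl rfl)) (Or.inl (hA v)) (Or.inr (Or.inr (Or.inr rfl))) (Or.inr (Or.inr (Or.inl (hA _))))
      (by rw [f1, f2, hA]) (by rw [f2, hA, f1]) (by rw [f3, f4]) (by rw [f4, hA, f3])
      (Or.inr (Or.inl f1)) (Or.inl f2) (Or.inr (Or.inr (Or.inl f3))) (Or.inr (Or.inr (Or.inr f4)))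
    rw [f1] at t1
    rw [f2] at t2
    rw [f3] at t3
    rw [f4] at t4
    have hti : t⁻¹ = t := inv_eq_of_mul_eq_one_left htt
    have htbt : t * b * t = a * b := by
      refine (unique_of_comm hG d (G.mul_mem ha hb) (G.mul_mem (G.mul_mem ht hb) ht) habab ?_ ?_ ?_ ?_ ?_
        fun k hk => ?_).symm
      · calc t * b * t * (t * b * t) = t * b * (t * t) * b * t := by group
          _ = 1 := by rw [htt, mul_one, mul_assoc t b b, hbb, mul_one, htt]
      · simp only [Perm.mul_apply]; rw [t1, ← hAB, t4]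
      · simp only [Perm.mul_apply]; rw [t2, t3, ← hAB, hA]
      · simp only [Perm.mul_apply]; rw [t3, hB, t1]
      · simp only [Perm.mul_apply]; rw [t4, hAB v, hB, t2, hA]
      · have := hdouble (⟨d.xw, d.xy, d.xz, d.yw.symm, d.zw.symm, d.yz⟩ : D4 v (a (b v)) (a v) (b v))
          (a * b) (G.mul_mem ha hb) habab rfl (by rw [Perm.mul_apply, ← hAB, hA])
          k ⟨hk.1, hk.2.1, hk.2.2.2.2, hk.2.2.1, hk.2.2.2.1⟩
        exact this
    refine ⟨t, ht, htt, hat.symm, ?_, t1, t2, t3, t4⟩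
    calc t * b = t * b * (t * t) := by rw [htt, mul_one]
      _ = a * b * t := by rw [← htbt]; group
  have hone : ∀ z, a z ≠ z → b z ≠ z → a (b z) ≠ z → z = w ∨ z = a w ∨ z = b w ∨ z = a (b w) := by
    intro z z1 z2 z3
    by_contra hcon
    push Not at hcon
    obtain ⟨n0, n1, n2, n3⟩ := hcon
    obtain ⟨t, ht, htt, hta, htb, tw, taw, tbw, tabw⟩ := hswap w w1 w2 w3
    obtain ⟨u, hu, huu, hua, hub, uz, uaz, ubz, uabz⟩ := hswap z z1 z2 z3
    have dW := hreg4 w1 w2 w3
    have hHt : ∀ k ∈ H, k * t = t * k := fun k hk =>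
      fix4_commute hG hn hodd (⟨dW.zw, dW.xz.symm, dW.yz.symm, dW.xw.symm, dW.yw.symm, dW.xy⟩ :
          D4 (b w) (a (b w)) w (a w)) ht htt tbw tabw tw k
        ⟨hk.1, hmemD.1 (hbD w hwD) k hk, hmemD.1 (haD _ (hbD w hwD)) k hk, hmemD.1 hwD k hk,
          hmemD.1 (haD w hwD) k hk⟩
    have hti : t⁻¹ = t := inv_eq_of_mul_eq_one_left htt
    set c := u * t with hc
    have hcG : c ∈ G := G.mul_mem hu ht
    have hca : c * a = a * c := by rw [hc, mul_assoc, hta, ← mul_assoc, hua, mul_assoc]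
    have hcb : c * b = b * c := by
      calc c * b = u * (t * b) := by rw [hc, mul_assoc]
        _ = u * a * (b * t) := by rw [htb]; group
        _ = a * (u * b) * t := by rw [hua]; group
        _ = a * (a * b * u) * t := by rw [hub]
        _ = (a * a) * b * c := by rw [hc]; group
        _ = b * c := by rw [haa, one_mul]
    -- `c` lies in `⟨a, b⟩ * H`
    have hcq : c q = q := hcommon _ _ (by rw [← hcomm_app hca, haq]) (by rw [← hcomm_app hcb, hbq]) haq hbq
    have hc1 : c p₁ = p₁ ∨ c p₁ = p₂ := by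
      rcases hFa (c p₁) (by rw [← hcomm_app hca, ha1]) with e | e | e
      · exact Or.inl e
      · exact Or.inr e
      · exact absurd (c.injective (e.trans hcq.symm)) (Ne.symm hq1)
    have hc3 : c p₃ = p₃ ∨ c p₃ = p₄ := by
      rcases hFb (c p₃) (by rw [← hcomm_app hcb, hb3]) with e | e | e
      · exact Or.inl e
      · exact Or.inr e
      · exact absurd (c.injective (e.trans hcq.symm)) (Ne.symm hq3)
    have hc2 : c p₂ = b (c p₁) := by rw [← hcomm_app hcb, hb1]
    have hc4 : c p₄ = a (c p₃) := by rw [← hcomm_app hca, ha3]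
    obtain ⟨v, hv, hvH⟩ : ∃ v, (v = 1 ∨ v = a ∨ v = b ∨ v = a * b) ∧ v * c ∈ H := by
      rcases hc1 with e1 | e1 <;> rcases hc3 with e3 | e3
      · refine ⟨1, Or.inl rfl, by rw [one_mul]; exact hcG, ?_, ?_, ?_, ?_⟩ <;>
          simp only [one_mul, e1, hc2, e3, hc4, hb1, ha3]
      · refine ⟨a, Or.inr (Or.inl rfl), G.mul_mem ha hcG, ?_, ?_, ?_, ?_⟩ <;>
          simp only [Perm.mul_apply, e1, hc2, e3, hc4, hb1, ha1, ha2, ha3, ha4]
      · refine ⟨b, Or.inr (Or.inr (Or.inl rfl)), G.mul_mem hb hcG, ?_, ?_, ?_, ?_⟩ <;>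
          simp only [Perm.mul_apply, e1, hc2, e3, hc4, hb1, hb2, hb3, hb4, ha3]
      · refine ⟨a * b, Or.inr (Or.inr (Or.inr rfl)), G.mul_mem (G.mul_mem ha hb) hcG, ?_, ?_, ?_, ?_⟩ <;>
          simp only [Perm.mul_apply, e1, hc2, e3, hc4, hb1, hb2, hb3, hb4, ha1, ha2, ha3, ha4]
    obtain ⟨k, hk, hvk⟩ : ∃ k ∈ H, v * c = k := ⟨_, hvH, rfl⟩
    have hvv : v * v = 1 := by
      rcases hv with rfl | rfl | rfl | rfl
      · rw [one_mul]
      · exact haa
      · exact hbb
      · exact habab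
    have hu_eq : u = v * t * k := by
      calc u = v * v * (u * (t * t)) := by rw [hvv, htt, one_mul, mul_one]
        _ = v * (v * c) * t := by rw [hc]; group
        _ = v * (k * t) := by rw [hvk, mul_assoc]
        _ = v * t * k := by rw [hHt k hk, mul_assoc]
    have hkvt : k * (v * t) = v * t * k := by
      have hkv : k * v = v * k := by
        rcases hv with rfl | rfl | rfl | rfl
        · simp
        · exact hHa k hk
        · exact hHb k hk
        · exact hHab k hk
      rw [← mul_assoc, hkv, mul_assoc, hHt k hk, mul_assoc]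
    have hsqu : v * t * (v * t) * (k * k) = 1 := by
      rw [hu_eq] at huu
      calc v * t * (v * t) * (k * k) = v * t * ((v * t) * k) * k := by group
        _ = v * t * (k * (v * t)) * k := by rw [hkvt]
        _ = 1 := by rw [← huu]; group
    have hk2 : (k * k) p₃ = p₃ := by rw [Perm.mul_apply, hk.2.2.2.1, hk.2.2.2.1]
    have hmove : v * t * (v * t) ≠ a := by
      intro e
      rw [e] at hsqu
      have := congrArg (fun g : Perm α => g p₃) hsqu
      simp only [Perm.mul_apply, Perm.one_apply] at this hk2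
      rw [hk2, ha3] at this
      exact h.zw this.symm
    have hk1 : v * t * (v * t) = 1 → k = 1 := by
      intro e
      rw [e, one_mul] at hsqu
      exact eq_one_of_sq hG h hk.1 hsqu hk.2.1 hk.2.2.1 hk.2.2.2.1 hk.2.2.2.2
    have d1 := hreg4 z1 z2 z3
    rcases hv with e | e | e | e <;> subst v
    · -- `u = t`
      have e0 := hk1 (by rw [one_mul, htt])
      rw [e0, mul_one, one_mul] at hu_eq
      subst hu_eq
      have m0 : b w ≠ b z := fun e => n0 (b.injective e).symm
      have m1 : b w ≠ a (b z) := fun e => n1 (by rw [hAB] at e; rw [b.injective e, hA])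
      have m2 : a (b w) ≠ b z := fun e => n1 (by rw [hAB] at e; exact (b.injective e).symm)
      have m3 : a (b w) ≠ a (b z) := fun e => n0 (b.injective (a.injective e)).symm
      have := eq_one_of_sq hG ⟨dW.zw, m0, m1, m2, m3, d1.zw⟩ hu huu tbw tabw ubz uabz
      rw [this] at tw
      exact w1 tw.symm
    · -- `u = a t`
      have e0 := hk1 (by
        calc a * t * (a * t) = a * (t * a) * t := by group
          _ = (a * a) * (t * t) := by rw [hta]; group
          _ = 1 := by rw [haa, htt, one_mul])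
      rw [e0, mul_one] at hu_eq
      have hfw : u w = w := by rw [hu_eq, Perm.mul_apply, tw, hA]
      have hfaw : u (a w) = a w := by rw [hcomm_app hua, hfw]
      have k0 : w ≠ b z := fun e => n2 (by rw [e, hB])
      have k1 : w ≠ a (b z) := fun e => n3 (by rw [e, hAB z, hB, hA])
      have k2 : a w ≠ b z := fun e => n3 (by rw [hAB, e, hB])
      have k3 : a w ≠ a (b z) := fun e => n2 (by rw [a.injective e, hB])
      have := eq_one_of_sq hG ⟨dW.xy, k0, k1, k2, k3, d1.zw⟩ hu huu hfw hfaw ubz uabz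
      rw [this] at uz
      exact z1 uz.symm
    · apply hmove
      calc b * t * (b * t) = b * (t * b) * t := by group
        _ = b * (a * b * t) * t := by rw [htb]
        _ = (b * a) * b * (t * t) := by group
        _ = a * (b * b) * (t * t) := by rw [← hab]; group
        _ = a := by rw [hbb, htt, mul_one, mul_one]
    · apply hmove
      calc a * b * t * (a * b * t) = a * b * (t * a) * b * t := by group
        _ = a * b * a * (t * b) * t := by rw [hta]; group
        _ = a * b * a * (a * b * t) * t := by rw [htb]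
        _ = a * b * (a * a) * b * (t * t) := by group
        _ = a * (b * b) := by rw [haa, htt]; group
        _ = a := by rw [hbb, mul_one]
  have hall : ∀ v, v ∈ D := by
    intro v
    by_cases v1 : a v = v
    · rcases hFa v v1 with e | e | e <;> exact e ▸ hpD (by simp [S7])
    by_cases v2 : b v = v
    · rcases hFb v v2 with e | e | e <;> exact e ▸ hpD (by simp [S7])
    by_cases v3 : a (b v) = v
    · rcases hFab v v3 with e | e | e <;> exact e ▸ hpD (by simp [S7])
    rcases hone v v1 v2 v3 with e | e | e | e <;> rw [e]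
    · exact hwD
    · exact haD w hwD
    · exact hbD w hwD
    · exact haD _ (hbD w hwD)
  refine ⟨?_, ?_⟩
  · rw [← hD11', Finset.eq_univ_iff_forall.2 hall, Finset.card_univ]
  · exact (Subgroup.eq_bot_iff_forall _).2 fun k hk => Equiv.ext fun v => hmemD.1 (hall v) k hk

end CfsgLib.SmallGroups.FourOdd

namespace CfsgLib.SmallGroups.FourOdd

open Equiv Finset

/-- Hall's theorem. -/
theorem main {α : Type*} [Fintype α] [DecidableEq α] (G : Subgroup (Perm α))
    (hG : MulAction.IsMultiplyPretransitive G α 4) (x : Fin 4 ↪ α)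
    (hodd : Odd (Nat.card (MulAction.stabilizer G x))) :
    ((Fintype.card α = 4 ∨ Fintype.card α = 5) ∧ G = ⊤) ∨
      ((Fintype.card α = 6 ∨ Fintype.card α = 7) ∧ G = alternatingGroup α) ∨
      (Fintype.card α = 11 ∧ Nat.card G = 7920) := by
  have hn4 : 4 ≤ Fintype.card α := by
    simpa using Fintype.card_le_of_embedding x
  have hnc : Nat.card α = Fintype.card α := Nat.card_eq_fintype_card
  have hD : D4 (x 0) (x 1) (x 2) (x 3) :=
    ⟨x.injective.ne (by decide), x.injective.ne (by decide), x.injective.ne (by decide),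
      x.injective.ne (by decide), x.injective.ne (by decide), x.injective.ne (by decide)⟩
  have htrans : ∀ {a b c d a' b' c' d' : α}, D4 a b c d → D4 a' b' c' d' →
      ∃ g ∈ G, g a = a' ∧ g b = b' ∧ g c = c' ∧ g d = d' := by
    intro a b c d a' b' c' d' h h'
    obtain ⟨g, hg⟩ := hG.exists_smul_eq
      ⟨![a, b, c, d], CfsgLib.SmallGroups.SharplyFour.injective_four h.xy h.xz h.xw h.yz h.yw h.zw⟩
      ⟨![a', b', c', d'], CfsgLib.SmallGroups.SharplyFour.injective_four h'.xy h'.xz h'.xw h'.yz h'.yw h'.zw⟩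
    exact ⟨g, g.2, congrArg (fun e : Fin 4 ↪ α => e 0) hg, congrArg (fun e : Fin 4 ↪ α => e 1) hg,
      congrArg (fun e : Fin 4 ↪ α => e 2) hg, congrArg (fun e : Fin 4 ↪ α => e 3) hg⟩
  have hH : Hyp G := by
    refine ⟨htrans, fun {a b c d} h g hg ga gb gc gd => ?_⟩
    obtain ⟨f, hf, f1, f2, f3, f4⟩ := htrans h hD
    have hfi : ∀ {u s : α}, f u = s → f⁻¹ s = u := fun e => Perm.inv_eq_iff_eq.2 e.symm
    let k : G := ⟨f * g * f⁻¹, G.mul_mem (G.mul_mem hf hg) (G.inv_mem hf)⟩
    have hk : k ∈ MulAction.stabilizer G x := by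
      rw [MulAction.mem_stabilizer_iff]
      ext i
      show f (g (f⁻¹ (x i))) = x i
      fin_cases i
      · simp [hfi f1, ga, f1]
      · simp [hfi f2, gb, f2]
      · simp [hfi f3, gc, f3]
      · simp [hfi f4, gd, f4]
    have h1 := Subgroup.orderOf_dvd_natCard _ hk
    rw [← Subgroup.orderOf_coe] at h1
    have h2 : orderOf (f * g * f⁻¹) = orderOf g := by rw [← MulAut.conj_apply, MulEquiv.orderOf_eq]
    exact hodd.of_dvd_nat (h2 ▸ h1)
  have hnotswap : ∀ u v, u ≠ v → 6 ≤ Fintype.card α → Equiv.swap u v ∉ G := by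
    intro u v huv hn hmem
    obtain ⟨s, hs, hsc⟩ := Finset.exists_subset_card_eq (s := (Finset.univ : Finset α) \ {u, v}) (n := 4) (by
      rw [Finset.card_sdiff_of_subset (Finset.subset_univ _), Finset.card_univ, Finset.card_pair huv]
      omega)
    obtain ⟨a, b, c, d, h1, h2, h3, h4, h5, h6, rfl⟩ := Finset.card_eq_four.1 hsc
    have hout : ∀ y ∈ ({a, b, c, d} : Finset α), Equiv.swap u v y = y := fun y hy => by
      have := (Finset.mem_sdiff.1 (hs hy)).2
      simp only [Finset.mem_insert, Finset.mem_singleton, not_or] at this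
      exact Equiv.swap_apply_of_ne_of_ne this.1 this.2
    have := eq_one_of_sq hH ⟨h1, h2, h3, h4, h5, h6⟩ hmem (Equiv.swap_mul_self u v)
      (hout a (by simp)) (hout b (by simp)) (hout c (by simp)) (hout d (by simp))
    exact huv (Equiv.swap_eq_one_iff.1 this)
  have halt : 6 ≤ Fintype.card α → alternatingGroup α ≤ G → G = alternatingGroup α := by
    intro hn hle
    refine le_antisymm (fun g hg => ?_) hle
    by_contra hgA
    obtain ⟨u, v, huv⟩ := Fintype.exists_pair_of_one_lt_card (α := α) (by omega)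
    refine hnotswap u v huv hn ?_
    have hg' : Perm.sign g = -1 := (Int.units_eq_one_or _).resolve_left fun e =>
      hgA (Perm.mem_alternatingGroup.2 e)
    have : g⁻¹ * Equiv.swap u v ∈ alternatingGroup α := by
      rw [Perm.mem_alternatingGroup, map_mul, map_inv, hg', Perm.sign_swap huv]
      rfl
    simpa using G.mul_mem hg (hle this)
  rcases Nat.lt_or_ge (Fintype.card α) 6 with h6 | h6
  · refine Or.inl ⟨by omega, ?_⟩
    haveI := hG
    exact Equiv.Perm.eq_top_of_isMultiplyPretransitive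
      (MulAction.isMultiplyPretransitive_of_le (n := 4) (by omega) (by omega))
  rcases Nat.lt_or_ge (Fintype.card α) 8 with h8 | h8
  · refine Or.inr (Or.inl ⟨by omega, halt h6 ?_⟩)
    rcases (show Fintype.card α = 6 ∨ Fintype.card α = 7 by omega) with e | e
    · refine IsMultiplyPretransitive.alternatingGroup_le α G ?_
      rwa [show Nat.card α - 2 = 4 by omega]
    · refine seven_contains G e ?_
      rw [card_eq hH hD hG, Fintype.card_embedding_eq, e, Fintype.card_fin,
        show Nat.descFactorial 7 4 = 840 from rfl]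
      exact Nat.le_mul_of_pos_right _ Nat.card_pos
  obtain ⟨g, hg, g1, g2, g3, g4⟩ := htrans hD
    (⟨hD.xy, hD.xw, hD.xz, hD.yw, hD.yz, hD.zw.symm⟩ : D4 (x 0) (x 1) (x 3) (x 2))
  obtain ⟨a, ha, haa, ha1, ha2, ha3, -⟩ :=
    inv_of hH hD hg (by rw [g1, g1]) (by rw [g2, g2]) (by rw [g3, g4]) (by rw [g4, g3])
  rcases Nat.mod_two_eq_zero_or_one (Fintype.card α) with hev | hev
  · exact (even_false hH h8 hev hD ha haa (ha1.trans g1) (ha2.trans g2) (ha3.trans g3)).elim
  obtain ⟨h11, hbot⟩ := odd_main hH (by omega) hev hD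
  refine Or.inr (Or.inr ⟨h11, ?_⟩)
  rw [card_eq hH hD hG, hbot, Subgroup.card_bot, mul_one, Fintype.card_embedding_eq, h11, Fintype.card_fin]
  rfl

end CfsgLib.SmallGroups.FourOdd
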