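import Mathlib
import Cfsg.Agent.Lib.SmallGroups.TupleClasses
import Cfsg.Agent.Lib.FGS.FrobeniusCount

/-!
Four-transitive groups in which only the identity fixes five points: the classes of five-tuples
are at most four in number, or five or seven.
-/

set_option autoImplicit false

namespace CfsgLib.SmallGroups.TupleClass

open MulAction Function

variable {G α : Type*} [Group G] [MulAction G α] [Finite α] [Finite G]

/-- Two involutions agree in parity of fixed points. -/
theorem card_fixed_modEq_two {g : G} (hg : g * g = 1) :
    Nat.card α ≡ Nat.card {a : α // g • a = a} [MOD 2] := by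
  have hp : IsPGroup 2 (Subgroup.zpowers g) := by
    rintro ⟨u, hu⟩
    obtain ⟨j, hj⟩ := Subgroup.mem_zpowers_iff.mp hu
    refine ⟨1, Subtype.ext ?_⟩
    show u ^ 2 ^ 1 = 1
    rw [← hj, pow_one, ← zpow_natCast, ← zpow_mul, mul_comm, zpow_mul, zpow_natCast, pow_two,
      hg, one_zpow]
  refine (hp.card_modEq_card_fixedPoints α).trans ?_
  rw [show Nat.card (fixedPoints (Subgroup.zpowers g) α) = Nat.card {a : α // g • a = a} from
    Nat.card_congr (Equiv.subtypeEquivRight fun a => ⟨fun h => h ⟨g, Subgroup.mem_zpowers g⟩,
      fun h u => by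
        obtain ⟨u, hu⟩ := u
        exact mem_stabilizer_iff.mp
          ((Subgroup.zpowers_le.mpr (mem_stabilizer_iff.mpr h) : Subgroup.zpowers g ≤ _) hu)⟩)]

/-- An involutive conjugation on a set of odd size fixes an element. -/
theorem exists_commute_of_odd {S : Set G} (hS : Odd (Nat.card S)) {z : G} (hz : z * z = 1)
    (hinv : ∀ g ∈ S, z * g * z⁻¹ ∈ S) : ∃ g ∈ S, z * g = g * z := by
  cases nonempty_fintype S
  set σ : Equiv.Perm S := Involutive.toPerm (fun g : S => (⟨z * g * z⁻¹, hinv g g.2⟩ : S))
    (fun g => Subtype.ext (show z * (z * (g : G) * z⁻¹) * z⁻¹ = g by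
      rw [show z * (z * (g : G) * z⁻¹) * z⁻¹ = (z * z) * (g : G) * (z * z)⁻¹ by group, hz, one_mul,
        inv_one, mul_one])) with hσ
  haveI := Fact.mk Nat.prime_two
  obtain ⟨a, ha⟩ := Equiv.Perm.exists_fixed_point_of_prime (p := 2) (n := 1)
    (by rw [← Nat.card_eq_fintype_card]
        exact fun h => (Nat.not_even_iff_odd.mpr hS) (even_iff_two_dvd.mpr h))
    (σ := σ) (by
      ext g
      rw [pow_one, pow_two, Equiv.Perm.mul_apply, Equiv.Perm.one_apply]
      show z * (z * (g : G) * z⁻¹) * z⁻¹ = g
      rw [show z * (z * (g : G) * z⁻¹) * z⁻¹ = (z * z) * (g : G) * (z * z)⁻¹ by group, hz, one_mul,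
        inv_one, mul_one])
  refine ⟨a, a.2, ?_⟩
  have h : z * (a : G) * z⁻¹ = a := congrArg Subtype.val ha
  exact mul_inv_eq_iff_eq_mul.mp h

variable (hfree : Semifree G α 4)

include hfree

/-- Five distinct fixed points force the identity. -/
theorem eq_one_of_five {g : G} {a b c d e : α} (hab : a ≠ b) (hac : a ≠ c) (had : a ≠ d)
    (hae : a ≠ e) (hbc : b ≠ c) (hbd : b ≠ d) (hbe : b ≠ e) (hcd : c ≠ d) (hce : c ≠ e)
    (hde : d ≠ e) (h1 : g • a = a) (h2 : g • b = b) (h3 : g • c = c) (h4 : g • d = d)
    (h5 : g • e = e) : g = 1 := by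
  have hinj : Injective ![a, b, c, d, e] := by
    intro i j h
    fin_cases i <;> fin_cases j <;> first
      | rfl
      | exact absurd h hab | exact absurd h hab.symm
      | exact absurd h hac | exact absurd h hac.symm
      | exact absurd h had | exact absurd h had.symm
      | exact absurd h hae | exact absurd h hae.symm
      | exact absurd h hbc | exact absurd h hbc.symm
      | exact absurd h hbd | exact absurd h hbd.symm
      | exact absurd h hbe | exact absurd h hbe.symm
      | exact absurd h hcd | exact absurd h hcd.symm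
      | exact absurd h hce | exact absurd h hce.symm
      | exact absurd h hde | exact absurd h hde.symm
  refine hfree g ⟨_, hinj⟩ ?_
  ext i
  fin_cases i <;> assumption

/-- The classes of five-tuples are few. -/
theorem card_cls_cases (ht : IsMultiplyPretransitive G α 4) (h5 : 5 ≤ Nat.card α) :
    Nat.card (Cls G α 5) ≤ 4 ∨ Nat.card (Cls G α 5) = 5 ∨ Nat.card (Cls G α 5) = 7 := by
  classical
  cases nonempty_fintype α
  cases nonempty_fintype G
  haveI := ht
  obtain ⟨x⟩ := Embedding.nonempty_of_card_le (α := Fin 4) (β := α) (by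
    rw [Fintype.card_fin, ← Nat.card_eq_fintype_card]; omega)
  have hcard := card_cls_mul hfree ht (by omega) x
  set n := Nat.card α with hn
  set N := Nat.card (stabilizer G x) with hN
  have hNpos : 0 < N := Nat.card_pos
  have hsmall : ∀ m, n - 4 ≤ m * N → Nat.card (Cls G α 5) ≤ m := fun m hm => by
    rw [← hcard] at hm
    exact Nat.le_of_mul_le_mul_right hm hNpos
  set a := x 0 with ha
  set b := x 1 with hb
  set c := x 2 with hc
  set d := x 3 with hd
  have hab : a ≠ b := fun h => absurd (x.injective h) (by decide)
  have hac : a ≠ c := fun h => absurd (x.injective h) (by decide)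
  have had : a ≠ d := fun h => absurd (x.injective h) (by decide)
  have hbc : b ≠ c := fun h => absurd (x.injective h) (by decide)
  have hbd : b ≠ d := fun h => absurd (x.injective h) (by decide)
  have hcd : c ≠ d := fun h => absurd (x.injective h) (by decide)
  -- elements realising a given map of four points, and their number
  have hreal : ∀ u v : Fin 4 ↪ α, ∃ g : G, g • u = v := fun u v => exists_smul_eq G u v
  have hfib : ∀ u v : Fin 4 ↪ α, Nat.card {g : G // g • u = v} = N := fun u v => by
    obtain ⟨g₀, rfl⟩ := hreal u v
    rw [card_fibre]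
    obtain ⟨g₁, rfl⟩ := hreal x u
    rw [stabilizer_smul_eq_stabilizer_map_conj, hN]
    exact Subgroup.card_map_of_injective (MulEquiv.injective _)
  have tup : ∀ p q r s : α, p ≠ q → p ≠ r → p ≠ s → q ≠ r → q ≠ s → r ≠ s →
      ∃ u : Fin 4 ↪ α, u 0 = p ∧ u 1 = q ∧ u 2 = r ∧ u 3 = s := by
    intro p q r s h1 h2 h3 h4 h5 h6
    refine ⟨⟨![p, q, r, s], ?_⟩, rfl, rfl, rfl, rfl⟩
    intro i j h
    fin_cases i <;> fin_cases j <;> first
      | rfl
      | exact absurd h h1 | exact absurd h h1.symm
      | exact absurd h h2 | exact absurd h h2.symm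
      | exact absurd h h3 | exact absurd h h3.symm
      | exact absurd h h4 | exact absurd h h4.symm
      | exact absurd h h5 | exact absurd h h5.symm
      | exact absurd h h6 | exact absurd h h6.symm
  have ext4 : ∀ (g : G) (u v : Fin 4 ↪ α), g • u 0 = v 0 → g • u 1 = v 1 → g • u 2 = v 2 →
      g • u 3 = v 3 → g • u = v := by
    intro g u v e0 e1 e2 e3
    ext i
    fin_cases i <;> assumption
  have app : ∀ {g : G} {u v : Fin 4 ↪ α}, g • u = v → ∀ i, g • u i = v i :=
    fun h i => DFunLike.congr_fun h i
  have hfix4 : ∀ g : G, g ≠ 1 → Nat.card {p : α // g • p = p} ≤ 4 :=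
    fun g hg => hfree.card_fixedBy_le hg
  obtain ⟨w, hw0, hw1, hw2, hw3⟩ := tup a b d c hab had hac hbd hbc hcd.symm
  by_cases hNeven : Even N
  · -- an involution fixing exactly four points
    haveI := Fact.mk Nat.prime_two
    obtain ⟨⟨z, hzx⟩, hz2⟩ := exists_prime_orderOf_dvd_card' (G := stabilizer G x) 2
      (even_iff_two_dvd.mp hNeven)
    rw [Subgroup.orderOf_mk] at hz2
    have hzz : z * z = 1 := by rw [← pow_two, ← hz2, pow_orderOf_eq_one]
    have hz1 : z ≠ 1 := fun e => by rw [e, orderOf_one] at hz2; omega
    have hzfix : ∀ i, z • x i = x i := app hzx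
    have hzinv : z⁻¹ = z := inv_eq_of_mul_eq_one_right hzz
    have hsel : ∀ e : α, e ∉ ({a, b, c, d} : Finset α) →
        ∃ g : {g : G // g • x = w}, g.1 • e = e := by
      intro e he
      simp only [Finset.mem_insert, Finset.mem_singleton, not_or] at he
      obtain ⟨hea, heb, hec, hed⟩ := he
      set f := z • e with hf
      have hzf : z • f = e := by rw [hf, ← mul_smul, hzz, one_smul]
      have hfe : f ≠ e := fun h => hz1 (eq_one_of_five hfree hab hac had (Ne.symm hea) hbc hbd
        (Ne.symm heb) hcd (Ne.symm hec) (Ne.symm hed) (hzfix 0) (hzfix 1) (hzfix 2) (hzfix 3) h)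
      have hfa : f ≠ a := fun h => hea (MulAction.injective z (h.trans (hzfix 0).symm))
      have hfb : f ≠ b := fun h => heb (MulAction.injective z (h.trans (hzfix 1).symm))
      obtain ⟨u, hu0, hu1, hu2, hu3⟩ :=
        tup a b e f hab (Ne.symm hea) (Ne.symm hfa) (Ne.symm heb) (Ne.symm hfb) (Ne.symm hfe)
      -- involutions of the stabiliser of `u`
      set S : Set G := {g | g • u = u ∧ g * g = 1 ∧ g ≠ 1} with hS
      have hSodd : Odd (Nat.card S) := by
        have hev : Even (Nat.card (stabilizer G u)) := by
          have := hfib u u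
          rw [show Nat.card (stabilizer G u) = N from this]
          exact hNeven
        have h1 := CfsgLib.FGS.dvd_card_pow_eq_one _ le_rfl (G := stabilizer G u) 2
          (even_iff_two_dvd.mp hev)
        set T := {g : stabilizer G u // g ^ 2 = 1}
        have h2 : Nat.card S + 1 = Nat.card T := by
          have e : Option S ≃ T :=
            { toFun := fun o => o.elim ⟨1, one_pow 2⟩ fun g => ⟨⟨g.1, g.2.1⟩, Subtype.ext (by
                show g.1 ^ 2 = 1
                rw [pow_two]; exact g.2.2.1)⟩
              invFun := fun g => if h : (g.1 : G) = 1 then none else some ⟨g.1, g.1.2, by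
                have := congrArg Subtype.val g.2
                rwa [SubgroupClass.coe_pow, pow_two] at this, h⟩
              left_inv := fun o => by
                rcases o with _ | g
                · simp
                · simp [g.2.2.2]
              right_inv := fun g => by
                by_cases h : (g.1 : G) = 1
                · simp only [h, ↓reduceDIte]
                  exact Subtype.ext (Subtype.ext h.symm)
                · simp only [h, ↓reduceDIte]
                  rfl }
          rw [← Nat.card_congr e, Finite.card_option]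
        obtain ⟨m, hm⟩ := h1
        exact ⟨m - 1, by omega⟩
      have hzu : ∀ i : Fin 4, ∃ j, z • u i = u j ∧ z • u j = u i := by
        intro i
        fin_cases i
        · exact ⟨0, by simp [hu0, hzfix 0, ha]⟩
        · exact ⟨1, by simp [hu1, hzfix 1, hb]⟩
        · exact ⟨3, by simp [hu2, hu3, hzf, ← hf]⟩
        · exact ⟨2, by simp [hu2, hu3, hzf, ← hf]⟩
      obtain ⟨g, ⟨hgu, hgg, hg1⟩, hgz⟩ := exists_commute_of_odd hSodd hzz (by
        rintro g ⟨hgu, hgg, hg1⟩
        refine ⟨?_, ?_, ?_⟩
        · ext i
          obtain ⟨j, hij, hji⟩ := hzu i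
          rw [Embedding.smul_apply, hzinv, mul_smul, mul_smul, hij, app hgu, hji]
        · calc z * g * z⁻¹ * (z * g * z⁻¹) = z * (g * g) * z⁻¹ := by group
            _ = 1 := by rw [hgg, mul_one, mul_inv_cancel]
        · intro h
          apply hg1
          calc g = z⁻¹ * (z * g * z⁻¹) * z := by group
            _ = 1 := by rw [h, mul_one, inv_mul_cancel])
      have hga : g • a = a := by rw [← hu0]; exact app hgu 0
      have hgb : g • b = b := by rw [← hu1]; exact app hgu 1
      have hge : g • e = e := by rw [← hu2]; exact app hgu 2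
      have hgf : g • f = f := by rw [← hu3]; exact app hgu 3
      -- `g` preserves the four fixed points of `z`
      have hpres : ∀ p, z • p = p → p = a ∨ p = b ∨ p = c ∨ p = d := by
        intro p hp
        by_contra hcon
        push Not at hcon
        exact hz1 (eq_one_of_five hfree hab hac had (Ne.symm hcon.1) hbc hbd (Ne.symm hcon.2.1) hcd
          (Ne.symm hcon.2.2.1) (Ne.symm hcon.2.2.2) (hzfix 0) (hzfix 1) (hzfix 2) (hzfix 3) hp)
      have hmove : ∀ p q, z • p = p → p ≠ a → p ≠ b → (p = c ∨ p = d) → (q = c ∨ q = d) → p ≠ q →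
          g • p = q := by
        intro p q hzp hpa hpb hp hq hpq
        have hzgp : z • g • p = g • p := by rw [← mul_smul, hgz, mul_smul, hzp]
        have hne : g • p ≠ p := fun h => hg1 (eq_one_of_five hfree hab (Ne.symm hpa) (Ne.symm hea)
          (Ne.symm hfa) (Ne.symm hpb) (Ne.symm heb) (Ne.symm hfb)
          (by rcases hp with rfl | rfl <;> [exact Ne.symm hec; exact Ne.symm hed])
          (by intro h'; rw [h'] at hzp; exact hfe (hzp.symm.trans hzf))
          (Ne.symm hfe) hga hgb h hge hgf)
        rcases hpres _ hzgp with h | h | h | h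
        · exact absurd (MulAction.injective g (h.trans hga.symm)) hpa
        · exact absurd (MulAction.injective g (h.trans hgb.symm)) hpb
        · rcases hp with rfl | rfl
          · exact absurd h hne
          · rcases hq with rfl | rfl
            · exact h
            · exact absurd rfl hpq
        · rcases hp with rfl | rfl
          · rcases hq with rfl | rfl
            · exact absurd rfl hpq
            · exact h
          · exact absurd h hne
      refine ⟨⟨g, ext4 g x w ?_ ?_ ?_ ?_⟩, hge⟩
      · rw [← ha, hga, hw0]
      · rw [← hb, hgb, hw1]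
      · rw [hw2]
        exact hmove c d (hzfix 2) (Ne.symm hac) (Ne.symm hbc) (Or.inl rfl) (Or.inr rfl) hcd
      · rw [hw3]
        exact hmove d c (hzfix 3) (Ne.symm had) (Ne.symm hbd) (Or.inr rfl) (Or.inl rfl) hcd.symm
    choose sel hsel using hsel
    refine Or.inl ((hsmall 2 ?_).trans (by norm_num))
    have hle : ({a, b, c, d} : Finset α)ᶜ.card ≤ 2 * N := by
      rw [← hfib x w, Nat.card_eq_fintype_card, ← Finset.card_univ]
      rw [← Finset.card_attach]
      refine le_trans (Finset.card_le_mul_card_image _ 2 (f := fun e => sel e.1 (Finset.mem_compl.mp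
        e.2)) ?_) (Nat.mul_le_mul_left 2 (Finset.card_le_univ _))
      intro g _
      have hg1 : g.1 ≠ 1 := fun e => by
        have h := app g.2 2
        rw [e, one_smul, hw2] at h
        exact hcd h
      have h4 := hfix4 g.1 hg1
      rw [Nat.card_eq_fintype_card, Fintype.card_subtype] at h4
      have hsub : ((Finset.univ.filter fun p : α => g.1 • p = p) \ {a, b}).card ≤ 2 := by
        rw [Finset.card_sdiff_of_subset (by
          intro p hp
          simp only [Finset.mem_insert, Finset.mem_singleton] at hp
          simp only [Finset.mem_filter, Finset.mem_univ, true_and]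
          rcases hp with rfl | rfl
          · have := app g.2 0; rwa [hw0] at this
          · have := app g.2 1; rwa [hw1] at this), Finset.card_pair hab]
        omega
      refine le_trans (Finset.card_le_card_of_injOn Subtype.val ?_
        Subtype.val_injective.injOn) hsub
      intro e he
      rw [Finset.coe_filter] at he
      obtain ⟨_, heg⟩ := he
      have hee := hsel e.1 (Finset.mem_compl.mp e.2)
      rw [heg] at hee
      have hen := Finset.mem_compl.mp e.2
      simp only [Finset.mem_insert, Finset.mem_singleton, not_or] at hen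
      simp [hee, hen.1, hen.2.1]
    rw [Finset.card_compl, ← Nat.card_eq_fintype_card] at hle
    have : ({a, b, c, d} : Finset α).card ≤ 4 := Finset.card_le_four
    omega
  · -- `N` is odd
    have hNodd : Odd N := Nat.not_even_iff_odd.mp hNeven
    have hinv3 : ∀ g : G, g * g = 1 → g ≠ 1 → Nat.card {p : α // g • p = p} ≤ 3 := by
      intro g hgg hg1
      by_contra hlt
      obtain ⟨e⟩ := Embedding.nonempty_of_card_le (α := Fin 4) (β := {p : α // g • p = p}) (by
        rw [Fintype.card_fin, ← Nat.card_eq_fintype_card]; omega)
      set u := e.trans (Embedding.subtype _)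
      have hu : g ∈ stabilizer G u := by
        rw [mem_stabilizer_iff]; ext i; exact (e i).2
      have h1 : orderOf g ∣ N := by
        rw [show N = Nat.card (stabilizer G u) from (hfib u u).symm, ← Subgroup.orderOf_mk g hu]
        exact orderOf_dvd_natCard _
      have h2 : orderOf g = 2 := orderOf_eq_prime (by rw [pow_two, hgg]) hg1
      rw [h2] at h1
      exact hNeven (even_iff_two_dvd.mpr h1)
    -- involutions realising a double flip
    have hinvol : ∀ (u v : Fin 4 ↪ α) (g : G), g • u = v → g • v = u →
        (g ^ N) * (g ^ N) = 1 ∧ g ^ N • u = v := by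
      intro u v g huv hvu
      have hgg : g * g ∈ stabilizer G u := by rw [mem_stabilizer_iff, mul_smul, huv, hvu]
      have hord : (g * g) ^ N = 1 := by
        have h1 : (⟨g * g, hgg⟩ : stabilizer G u) ^ N = 1 := by
          rw [show N = Nat.card (stabilizer G u) from (hfib u u).symm]
          exact pow_card_eq_one'
        exact congrArg Subtype.val h1
      refine ⟨by rw [← pow_add, ← two_mul, pow_mul, pow_two, hord], ?_⟩
      obtain ⟨m, hm⟩ := hNodd
      have h2 : (g * g) ^ m • u = u := mem_stabilizer_iff.mp (pow_mem hgg m)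
      rw [hm, pow_succ', pow_mul, pow_two, mul_smul, h2, huv]
    obtain ⟨v, hv0, hv1, hv2, hv3⟩ := tup b a c d hab.symm hbc hbd hac had hcd
    obtain ⟨t, htt, ht⟩ : ∃ t : G, t * t = 1 ∧ t • x = v := by
      obtain ⟨g, hg⟩ := hreal x v
      refine ⟨g ^ N, hinvol x v g hg (ext4 g v x ?_ ?_ ?_ ?_)⟩
      · rw [hv0, ← ha]; have := app hg 1; rwa [← hb, hv1] at this
      · rw [hv1, ← hb]; have := app hg 0; rwa [← ha, hv0] at this
      · rw [hv2, ← hc]; have := app hg 2; rwa [← hc, hv2] at this
      · rw [hv3, ← hd]; have := app hg 3; rwa [← hd, hv3] at this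
    have hta : t • a = b := by have := app ht 0; rwa [← ha, hv0] at this
    have htb : t • b = a := by have := app ht 1; rwa [← hb, hv1] at this
    have htc : t • c = c := by have := app ht 2; rwa [← hc, hv2] at this
    have htd : t • d = d := by have := app ht 3; rwa [← hd, hv3] at this
    have ht1 : t ≠ 1 := fun e => by rw [e, one_smul] at hta; exact hab hta
    have htinv : t⁻¹ = t := inv_eq_of_mul_eq_one_right htt
    set P := Finset.univ.filter fun p : α => t • p = p with hP
    have hPmem : ∀ p, p ∈ P ↔ t • p = p := fun p => by simp [hP]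
    have hP3 : P.card ≤ 3 := by
      have := hinv3 t htt ht1
      rwa [Nat.card_eq_fintype_card, Fintype.card_subtype] at this
    have hPcd : {c, d} ⊆ P := by
      intro p hp
      simp only [Finset.mem_insert, Finset.mem_singleton] at hp
      rw [hPmem]
      rcases hp with rfl | rfl <;> assumption
    have hP2 : 2 ≤ P.card := by
      rw [← Finset.card_pair hcd]; exact Finset.card_le_card hPcd
    have hPpar : n % 2 = P.card % 2 := by
      have := card_fixed_modEq_two (α := α) htt
      rwa [Nat.card_eq_fintype_card (α := {p : α // t • p = p}), Fintype.card_subtype] at this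
    -- the second involution attached to an outer point
    have hsel : ∀ e : α, e ∉ P ∪ {a, b} → ∃ g : G, g * g = 1 ∧ g * t = t * g ∧ g • a = a ∧
        g • b = b ∧ (t * g) • e = e ∧ g ≠ 1 := by
      intro e he
      simp only [Finset.mem_union, Finset.mem_insert, Finset.mem_singleton, not_or, hPmem] at he
      obtain ⟨hte, hea, heb⟩ := he
      set f := t • e with hf
      have htf : t • f = e := by rw [hf, ← mul_smul, htt, one_smul]
      have hfa : f ≠ a := fun h => heb (MulAction.injective t (h.trans htb.symm))
      have hfb : f ≠ b := fun h => hea (MulAction.injective t (h.trans hta.symm))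
      obtain ⟨u, hu0, hu1, hu2, hu3⟩ :=
        tup a b e f hab (Ne.symm hea) (Ne.symm hfa) (Ne.symm heb) (Ne.symm hfb) (Ne.symm hte)
      obtain ⟨u', hu0', hu1', hu2', hu3'⟩ :=
        tup a b f e hab (Ne.symm hfa) (Ne.symm hea) (Ne.symm hfb) (Ne.symm heb) hte
      set S : Set G := {g | g • u = u'}
      have hSodd : Odd (Nat.card S) := by
        have : Nat.card S = N := hfib u u'
        rw [this]; exact hNodd
      obtain ⟨g, hg, hgt⟩ := exists_commute_of_odd hSodd htt (by
        intro g hg
        have h : ∀ i, g • u i = u' i := app hg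
        have h0 := h 0; have h1 := h 1; have h2 := h 2; have h3 := h 3
        rw [hu0, hu0'] at h0; rw [hu1, hu1'] at h1; rw [hu2, hu2'] at h2; rw [hu3, hu3'] at h3
        refine ext4 _ u u' ?_ ?_ ?_ ?_
        · rw [hu0, hu0', htinv, mul_smul, mul_smul, hta, h1, htb]
        · rw [hu1, hu1', htinv, mul_smul, mul_smul, htb, h0, hta]
        · rw [hu2, hu2', htinv, mul_smul, mul_smul, ← hf, h3, ← hf]
        · rw [hu3, hu3', htinv, mul_smul, mul_smul, htf, h2, htf])
      have h : ∀ i, g • u i = u' i := app hg
      have h0 := h 0; have h1 := h 1; have h2 := h 2; have h3 := h 3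
      rw [hu0, hu0'] at h0; rw [hu1, hu1'] at h1; rw [hu2, hu2'] at h2; rw [hu3, hu3'] at h3
      obtain ⟨hgg, hgu⟩ := hinvol u u' g hg (ext4 g u' u (by rw [hu0', hu0, h0])
        (by rw [hu1', hu1, h1]) (by rw [hu2', hu2, h3]) (by rw [hu3', hu3, h2]))
      have hge : g ^ N • e = f := by have := app hgu 2; rwa [hu2, hu2'] at this
      refine ⟨g ^ N, hgg, ((show Commute g t from hgt.symm).pow_left N).eq, ?_, ?_, ?_, ?_⟩
      · have := app hgu 0; rwa [hu0, hu0'] at this
      · have := app hgu 1; rwa [hu1, hu1'] at this
      · rw [mul_smul, hge, htf]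
      · intro e1; rw [e1, one_smul] at hge; exact hte hge.symm
    choose sel hgg hgt hga hgb hge hg1 using hsel
    -- basic facts on such an involution
    have hperm : ∀ g : G, g * t = t * g → ∀ p ∈ P, g • p ∈ P := by
      intro g hgt p hp
      rw [hPmem] at hp ⊢
      rw [← mul_smul, ← hgt, mul_smul, hp]
    have hmoved : ∀ g : G, g * g = 1 → g ≠ 1 → g • a = a → g • b = b →
        ∀ p ∈ P, ∀ q ∈ P, p ≠ q → g • p = p → g • q ≠ q := by
      intro g hgg hg1 hga hgb p hp q hq hpq hgp hgq
      have := hinv3 g hgg hg1
      rw [Nat.card_eq_fintype_card, Fintype.card_subtype] at this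
      have hsub : ({a, b, p, q} : Finset α) ⊆ Finset.univ.filter fun r : α => g • r = r := by
        intro r hr
        simp only [Finset.mem_insert, Finset.mem_singleton] at hr
        simp only [Finset.mem_filter, Finset.mem_univ, true_and]
        rcases hr with rfl | rfl | rfl | rfl <;> assumption
      have hnot : a ∉ P ∧ b ∉ P := by
        rw [hPmem, hPmem, hta, htb]
        exact ⟨hab.symm, hab⟩
      have h4 : ({a, b, p, q} : Finset α).card = 4 := by
        rw [Finset.card_eq_succ]
        refine ⟨a, {b, p, q}, ?_, rfl, ?_⟩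
        · simp only [Finset.mem_insert, Finset.mem_singleton, not_or]
          exact ⟨hab, fun h => hnot.1 (h ▸ hp), fun h => hnot.1 (h ▸ hq)⟩
        · rw [Finset.card_eq_three]
          exact ⟨b, p, q, fun h => hnot.2 (h ▸ hp), fun h => hnot.2 (h ▸ hq), hpq, rfl⟩
      have := Finset.card_le_card hsub
      omega
    have hUcard : (P ∪ {a, b}).card = P.card + 2 := by
      rw [Finset.card_union_of_disjoint, Finset.card_pair hab]
      simp only [Finset.disjoint_insert_right, Finset.disjoint_singleton_right, hPmem, hta, htb]
      exact ⟨hab.symm, hab⟩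
    -- the fixed points of the product with `t`
    have hprod : ∀ g : G, g * g = 1 → g * t = t * g → g • a = a →
        (t * g) ≠ 1 ∧ (t * g) * (t * g) = 1 := by
      intro g hgg hgt hga
      refine ⟨fun h => ?_, ?_⟩
      · have h' : (t * g) • a = (1 : G) • a := by rw [h]
        rw [mul_smul, hga, hta, one_smul] at h'
        exact hab h'.symm
      · calc t * g * (t * g) = t * (g * t) * g := by group
          _ = (t * t) * (g * g) := by rw [hgt]; group
          _ = 1 := by rw [htt, hgg, one_mul]
    rcases Nat.even_or_odd n with hnev | hnodd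
    · -- even degree
      have hPc : P.card = 2 := by
        have : n % 2 = 0 := Nat.even_iff.mp hnev
        omega
      have hPeq : P = {c, d} :=
        (Finset.eq_of_subset_of_card_le hPcd (by rw [hPc, Finset.card_pair hcd])).symm
      have hw : ∀ e (he : e ∉ P ∪ {a, b}), sel e he • x = w := by
        intro e he
        have hp := hperm _ (hgt e he)
        have hcm : c ∈ P := hPcd (by simp)
        have hdm : d ∈ P := hPcd (by simp)
        have hnf : ∀ p q, p ∈ P → q ∈ P → p ≠ q → sel e he • p = q := by
          intro p q hpP hqP hpq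
          by_contra hne
          have hpq' : P = {p, q} := (Finset.eq_of_subset_of_card_le
            (Finset.insert_subset hpP (Finset.singleton_subset_iff.mpr hqP))
            (by rw [Finset.card_pair hpq, hPc])).symm
          have h2 := hp p hpP
          have h2' := hp q hqP
          rw [hpq', Finset.mem_insert, Finset.mem_singleton] at h2 h2'
          have h1 : sel e he • p = p := h2.resolve_right hne
          have h3 : sel e he • q = q := h2'.resolve_left fun h =>
            hpq (MulAction.injective (sel e he) (h1.trans h.symm))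
          exact hmoved _ (hgg e he) (hg1 e he) (hga e he) (hgb e he) p hpP q hqP hpq h1 h3
        refine ext4 _ x w ?_ ?_ ?_ ?_
        · rw [← ha, hw0, hga]
        · rw [← hb, hw1, hgb]
        · rw [← hc, hw2, hnf c d hcm hdm hcd]
        · rw [← hd, hw3, hnf d c hdm hcm hcd.symm]
      refine Or.inl ((hsmall 2 ?_).trans (by norm_num))
      have hle : (P ∪ {a, b})ᶜ.card ≤ 2 * N := by
        rw [← hfib x w, Nat.card_eq_fintype_card, ← Finset.card_univ, ← Finset.card_attach]
        refine le_trans (Finset.card_le_mul_card_image _ 2 (f := fun e =>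
          (⟨sel e.1 (Finset.mem_compl.mp e.2), hw _ _⟩ : {g : G // g • x = w})) ?_)
          (Nat.mul_le_mul_left 2 (Finset.card_le_univ _))
        intro g hg
        simp only [Finset.mem_image] at hg
        obtain ⟨e₀, -, he₀⟩ := hg
        have he' : sel e₀.1 (Finset.mem_compl.mp e₀.2) = g.1 := congrArg Subtype.val he₀
        obtain ⟨hk1, hk2⟩ := hprod _ (hgg _ (Finset.mem_compl.mp e₀.2))
          (hgt _ (Finset.mem_compl.mp e₀.2)) (hga _ (Finset.mem_compl.mp e₀.2))
        rw [he'] at hk1 hk2
        have h3 := hinv3 _ hk2 hk1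
        have hpar := card_fixed_modEq_two (α := α) hk2
        rw [Nat.card_eq_fintype_card, Fintype.card_subtype] at h3
        rw [Nat.card_eq_fintype_card (α := {p : α // (t * g.1) • p = p}), Fintype.card_subtype,
          Nat.ModEq, ← hn] at hpar
        have : n % 2 = 0 := Nat.even_iff.mp hnev
        refine le_trans (Finset.card_le_card_of_injOn (t := Finset.univ.filter
          fun p : α => (t * g.1) • p = p) Subtype.val ?_ Subtype.val_injective.injOn) (by omega)
        intro e he
        rw [Finset.coe_filter] at he
        obtain ⟨-, heg⟩ := he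
        have := hge e.1 (Finset.mem_compl.mp e.2)
        rw [show sel e.1 (Finset.mem_compl.mp e.2) = g.1 from congrArg Subtype.val heg] at this
        simpa using this
      rw [Finset.card_compl, ← Nat.card_eq_fintype_card, hUcard, hPc] at hle
      omega
    · -- odd degree
      have hPc : P.card = 3 := by
        have : n % 2 = 1 := Nat.odd_iff.mp hnodd
        omega
      -- each such involution fixes exactly one point of `P`, and is determined by it
      have hcen : ∀ e (he : e ∉ P ∪ {a, b}), ∃ p : P, sel e he • p.1 = p.1 := by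
        intro e he
        set g := sel e he
        let σ : Equiv.Perm P := Involutive.toPerm
          (fun p : P => (⟨g • p.1, hperm g (hgt e he) p p.2⟩ : P))
          (fun p => Subtype.ext (show g • g • p.1 = p.1 by rw [← mul_smul, hgg e he, one_smul]))
        haveI := Fact.mk Nat.prime_two
        obtain ⟨p, hp⟩ := Equiv.Perm.exists_fixed_point_of_prime (p := 2) (n := 1) (σ := σ)
          (by rw [Fintype.card_coe, hPc]; decide) (by
            ext p
            rw [pow_one, pow_two, Equiv.Perm.mul_apply]
            show g • g • (p : α) = p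
            rw [← mul_smul, hgg e he, one_smul])
        exact ⟨p, congrArg Subtype.val hp⟩
      choose cen hcen using hcen
      have hle : (P ∪ {a, b})ᶜ.card ≤ 2 * P.card := by
        rw [← Fintype.card_coe P, ← Finset.card_univ (α := P), ← Finset.card_attach]
        refine le_trans (Finset.card_le_mul_card_image _ 2 (f := fun e =>
          cen e.1 (Finset.mem_compl.mp e.2)) ?_) (Nat.mul_le_mul_left 2 (Finset.card_le_univ _))
        intro p hp
        simp only [Finset.mem_image] at hp
        obtain ⟨e₀, -, he₀⟩ := hp
        set g := sel e₀.1 (Finset.mem_compl.mp e₀.2) with hg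
        have hgp : g • p.1 = p.1 := by rw [← he₀]; exact hcen _ _
        obtain ⟨hk1, hk2⟩ := hprod g (hgg _ _) (hgt _ _) (hga _ _)
        have h3 := hinv3 _ hk2 hk1
        rw [Nat.card_eq_fintype_card, Fintype.card_subtype] at h3
        have hpk : p.1 ∈ Finset.univ.filter fun r : α => (t * g) • r = r := by
          simp only [Finset.mem_filter, Finset.mem_univ, true_and]
          rw [mul_smul, hgp, (hPmem _).mp p.2]
        refine le_trans (Finset.card_le_card_of_injOn (t := (Finset.univ.filter
          fun r : α => (t * g) • r = r).erase p.1) Subtype.val ?_ Subtype.val_injective.injOn)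
          (by rw [Finset.card_erase_of_mem hpk]; omega)
        intro e he
        rw [Finset.coe_filter] at he
        obtain ⟨-, hep⟩ := he
        set g' := sel e.1 (Finset.mem_compl.mp e.2) with hg'
        have hg'p : g' • p.1 = p.1 := by rw [← hep]; exact hcen _ _
        -- both involutions interchange the other two points of `P`
        obtain ⟨q, r, hqr, hqrP⟩ : ∃ q r, q ≠ r ∧ P.erase p.1 = {q, r} :=
          Finset.card_eq_two.mp (by rw [Finset.card_erase_of_mem p.2, hPc])
        have hq : q ≠ p.1 ∧ q ∈ P := Finset.mem_erase.mp (by rw [hqrP]; simp)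
        have hr : r ≠ p.1 ∧ r ∈ P := Finset.mem_erase.mp (by rw [hqrP]; simp)
        have hswap : ∀ h : G, h * h = 1 → h ≠ 1 → h * t = t * h → h • a = a → h • b = b →
            h • p.1 = p.1 → h • q = r ∧ h • r = q := by
          intro h hh h1 ht' ha' hb' hp'
          have hne := hmoved h hh h1 ha' hb' p.1 p.2
          have hqm : h • q ∈ P.erase p.1 := Finset.mem_erase.mpr
            ⟨fun e' => hq.1 (MulAction.injective h (e'.trans hp'.symm)), hperm h ht' q hq.2⟩
          rw [hqrP, Finset.mem_insert, Finset.mem_singleton] at hqm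
          have hqr' := hqm.resolve_left (hne q hq.2 (Ne.symm hq.1) hp')
          exact ⟨hqr', by rw [← hqr', ← mul_smul, hh, one_smul]⟩
        obtain ⟨hq1, hr1⟩ := hswap g (hgg _ _) (hg1 _ _) (hgt _ _) (hga _ _) (hgb _ _) hgp
        obtain ⟨hq2, hr2⟩ := hswap g' (hgg _ _) (hg1 _ _) (hgt _ _) (hga _ _) (hgb _ _) hg'p
        have hinv : g⁻¹ = g := inv_eq_of_mul_eq_one_right (hgg _ _)
        have haP : ∀ s ∈ P, a ≠ s ∧ b ≠ s := fun s hs => by
          rw [hPmem] at hs
          exact ⟨fun e' => hab (by rw [← e', hta] at hs; exact hs.symm),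
            fun e' => hab (by rw [← e', htb] at hs; exact hs)⟩
        have heq : g⁻¹ * g' = 1 := eq_one_of_five hfree hab (haP _ p.2).1 (haP _ hq.2).1
          (haP _ hr.2).1 (haP _ p.2).2 (haP _ hq.2).2 (haP _ hr.2).2 (Ne.symm hq.1)
          (Ne.symm hr.1) hqr (by rw [hinv, mul_smul, hga, hga])
          (by rw [hinv, mul_smul, hgb, hgb]) (by rw [hinv, mul_smul, hg'p, hgp])
          (by rw [hinv, mul_smul, hq2, hr1]) (by rw [hinv, mul_smul, hr2, hq1])
        have heq' : g = g' := inv_mul_eq_one.mp heq
        have hen := Finset.mem_compl.mp e.2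
        simp only [Finset.mem_union, not_or] at hen
        simp only [Finset.coe_erase, Set.mem_sdiff, Finset.mem_coe, Finset.mem_filter,
          Finset.mem_univ, true_and, Set.mem_singleton_iff]
        refine ⟨?_, fun h => hen.1 (h ▸ p.2)⟩
        rw [heq']
        exact hge _ _
      rw [Finset.card_compl, ← Nat.card_eq_fintype_card, hUcard, hPc] at hle
      have hn11 : n ≤ 11 := by omega
      obtain ⟨m, hm⟩ := hNodd
      obtain ⟨l, hl⟩ := hnodd
      set K := Nat.card (Cls G α 5) with hK
      have hK7 : K ≤ 7 := by
        have : K ≤ K * N := Nat.le_mul_of_pos_right K hNpos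
        omega
      have hKodd : K ≠ 6 := fun h => by
        rw [h] at hcard; omega
      omega

end CfsgLib.SmallGroups.TupleClass
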