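import Mathlib

/-!
A criterion for multiple transitivity: it is enough to move one coordinate of a tuple to any free
point while fixing the others.
-/

set_option autoImplicit false

namespace CfsgLib.SmallGroups

open Function

theorem isMultiplyPretransitive_of_step {G α : Type*} [Group G] [Fintype α] [MulAction G α] {k : ℕ}
    (hk : k < Fintype.card α)
    (hstep : ∀ (x : Fin k ↪ α) (i : Fin k) (b : α), b ∉ Set.range x →
      ∃ g : G, g • x i = b ∧ ∀ j, j ≠ i → g • x j = x j) :
    MulAction.IsMultiplyPretransitive G α k := by
  classical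
  rw [MulAction.isMultiplyPretransitive_iff]
  -- induct on the number of coordinates to be moved
  suffices h : ∀ (d : ℕ) (x y : Fin k ↪ α), (Finset.univ.filter fun i => x i ≠ y i).card ≤ d →
      ∃ g : G, ∀ i, g • x i = y i by
    intro x y
    obtain ⟨g, hg⟩ := h _ x y le_rfl
    exact ⟨g, Embedding.ext hg⟩
  intro d
  induction d with
  | zero =>
    intro x y h
    refine ⟨1, fun i => ?_⟩
    by_contra hne
    rw [one_smul] at hne
    have : i ∈ Finset.univ.filter fun i => x i ≠ y i := Finset.mem_filter.mpr ⟨Finset.mem_univ _, hne⟩
    rw [Nat.le_zero, Finset.card_eq_zero] at h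
    rw [h] at this
    exact absurd this (Finset.notMem_empty _)
  | succ d ih =>
    intro x y h
    by_cases hall : ∀ i, x i = y i
    · exact ⟨1, fun i => by rw [one_smul]; exact hall i⟩
    push Not at hall
    obtain ⟨i, hi⟩ := hall
    -- an element moving coordinate `i` to its target and keeping the coordinates already right
    obtain ⟨g, hgi, hgj⟩ : ∃ g : G, g • x i = y i ∧ ∀ j, x j = y j → g • x j = x j := by
      by_cases hy : y i ∈ Set.range x
      · obtain ⟨j, hj⟩ := hy
        have hji : j ≠ i := fun e => hi (e ▸ hj)
        have hjy : x j ≠ y j := fun e => hji (y.injective (e.symm.trans hj))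
        obtain ⟨e, he⟩ : ∃ e, e ∉ Set.range x := by
          by_contra hs
          push Not at hs
          have := Fintype.card_le_of_surjective x hs
          rw [Fintype.card_fin] at this
          omega
        obtain ⟨g₁, h1, h1'⟩ := hstep x j e he
        set x' : Fin k ↪ α := x.trans (MulAction.toPerm g₁).toEmbedding with hx'
        have hx'v : ∀ l, x' l = g₁ • x l := fun l => rfl
        have hfree : y i ∉ Set.range x' := by
          rintro ⟨l, hl⟩
          rw [hx'v] at hl
          rcases eq_or_ne l j with rfl | hlj
          · rw [h1] at hl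
            exact he ⟨_, hj.trans hl.symm⟩
          · rw [h1' l hlj, ← hj] at hl
            exact hlj (x.injective hl)
        obtain ⟨g₂, h2, h2'⟩ := hstep x' i (y i) hfree
        refine ⟨g₂ * g₁, by rw [mul_smul]; exact h2, fun l hl => ?_⟩
        have hlj : l ≠ j := fun e => hjy (e ▸ hl)
        have hli : l ≠ i := fun e => hi (e ▸ hl)
        have := h2' l hli
        rw [hx'v, h1' l hlj] at this
        rw [mul_smul, h1' l hlj]
        exact this
      · obtain ⟨g, h1, h1'⟩ := hstep x i (y i) hy
        exact ⟨g, h1, fun l hl => h1' l fun e => hi (e ▸ hl)⟩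
    have hlt : (Finset.univ.filter fun l => (x.trans (MulAction.toPerm g).toEmbedding) l ≠ y l) ⊂
        Finset.univ.filter fun l => x l ≠ y l := by
      refine ⟨fun l hl => ?_, fun hsub => ?_⟩
      · rw [Finset.mem_filter] at hl ⊢
        exact ⟨hl.1, fun e => hl.2 ((hgj l e).trans e)⟩
      · have := hsub (Finset.mem_filter.mpr ⟨Finset.mem_univ i, hi⟩)
        exact (Finset.mem_filter.mp this).2 hgi
    obtain ⟨g', hg'⟩ := ih (x.trans (MulAction.toPerm g).toEmbedding) y (by
      have := Finset.card_lt_card hlt
      omega)
    exact ⟨g' * g, fun l => by rw [mul_smul]; exact hg' l⟩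

end CfsgLib.SmallGroups
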