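import Mathlib
import Cfsg.Agent.Lib.SmallGroups.FourTransitiveSemifree
import Cfsg.Agent.Lib.SmallGroups.AltStabilizer
import Cfsg.Agent.Lib.SmallGroups.Pretransitive

/-!
In a `k`-transitive group of degree above `k ≥ 4` some class of `(k + 1)`-tuples is fixed by the
alternating group on the coordinates. The proof goes down to the fixed points of maximal
`p`-subgroups until only the identity fixes `k + 1` points.
-/

set_option autoImplicit false

namespace CfsgLib.SmallGroups.TupleClass

open MulAction Function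

universe u

/-- Some class is fixed by all even coordinate permutations. -/
def HasEvenClass {α : Type u} (G : Subgroup (Equiv.Perm α)) (k : ℕ) : Prop :=
  ∃ c : Cls G α (k + 1), ∀ σ ∈ alternatingGroup (Fin (k + 1)), σ • c = c

/-- An invariant subset with the group induced on it by a subgroup. -/
theorem exists_induced {α : Type u} {G : Subgroup (Equiv.Perm α)} (H : Subgroup G) (F : Set α)
    (hF : ∀ g ∈ H, ∀ x, g • x ∈ F ↔ x ∈ F) :
    ∃ (Gb : Subgroup (Equiv.Perm F)),
      (∀ σ ∈ Gb, ∃ g ∈ H, ∀ x : F, (σ x : α) = g • (x : α)) ∧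
      (∀ g ∈ H, ∃ σ ∈ Gb, ∀ x : F, (σ x : α) = g • (x : α)) := by
  let f : H →* Equiv.Perm F :=
    { toFun := fun g => ((g : G) : Equiv.Perm α).subtypePerm (p := fun x => x ∈ F) (hF g g.2)
      map_one' := Equiv.ext fun x => Subtype.ext rfl
      map_mul' := fun g h => Equiv.ext fun x => Subtype.ext rfl }
  refine ⟨f.range, ?_, ?_⟩
  · rintro σ ⟨g, rfl⟩
    exact ⟨g, g.2, fun x => rfl⟩
  · intro g hg
    exact ⟨f ⟨g, hg⟩, ⟨_, rfl⟩, fun x => rfl⟩

/-- Transitivity on one fewer coordinate classes gives an even class. -/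
theorem card_filter_fixed {k : ℕ} {σ : Equiv.Perm (Fin (k + 1))} (S : Finset (Fin (k + 1)))
    (h : ∀ i ∉ S, σ i = i) : k + 1 - S.card ≤ Nat.card {i : Fin (k + 1) // σ i = i} := by
  rw [Nat.card_eq_fintype_card, Fintype.card_subtype]
  refine le_trans (le_of_eq ?_) (Finset.card_le_card (s := Sᶜ) fun i hi => by
    simp only [Finset.mem_filter, Finset.mem_univ, true_and]
    exact h i (Finset.mem_compl.mp hi))
  rw [Finset.card_compl, Fintype.card_fin]

/-- A class whose stabiliser contains the even permutations fixing `0` is fixed by all even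
permutations, if only the identity fixes `k + 1` points. -/
theorem fixed_of_fixed_stabilizer {G α : Type*} [Group G] [MulAction G α] [Finite α] [Finite G]
    {k : ℕ} (hk : 4 ≤ k) (hfree : Semifree G α k) (ht : IsMultiplyPretransitive G α k)
    (hn : k ≤ Nat.card α) (c : Cls G α (k + 1))
    (hc : ∀ σ ∈ alternatingGroup (Fin (k + 1)), σ 0 = 0 → σ • c = c) :
    ∀ σ ∈ alternatingGroup (Fin (k + 1)), σ • c = c := by
  classical
  set H := stabilizer (Equiv.Perm (Fin (k + 1))) c with hH
  by_cases hmv : ∃ π ∈ H, π 0 ≠ 0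
  · obtain ⟨π, hπ, hπ0⟩ := hmv
    exact fun σ hσ => AltStab.alternating_le_of_moves (by rw [Fintype.card_fin]; omega)
      (fun σ hσ h0 => mem_stabilizer_iff.mpr (hc σ hσ h0)) hπ hπ0 hσ
  push Not at hmv
  exfalso
  set i₁ : Fin (k + 1) := ⟨1, by omega⟩ with hi₁
  set i₂ : Fin (k + 1) := ⟨2, by omega⟩ with hi₂
  set i₃ : Fin (k + 1) := ⟨3, by omega⟩ with hi₃
  have h01 : (0 : Fin (k + 1)) ≠ i₁ := by simp [hi₁, Fin.ext_iff]
  have h02 : (0 : Fin (k + 1)) ≠ i₂ := by simp [hi₂, Fin.ext_iff]
  have h03 : (0 : Fin (k + 1)) ≠ i₃ := by simp [hi₃, Fin.ext_iff]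
  have h12 : i₁ ≠ i₂ := by simp [hi₁, hi₂, Fin.ext_iff]
  have h13 : i₁ ≠ i₃ := by simp [hi₁, hi₃, Fin.ext_iff]
  have h23 : i₂ ≠ i₃ := by simp [hi₂, hi₃, Fin.ext_iff]
  set τ := Equiv.swap i₁ i₂ with hτ
  have hτ0 : τ 0 = 0 := Equiv.swap_apply_of_ne_of_ne h01 h02
  set s : Fin (k + 1) → Equiv.Perm (Fin (k + 1)) := fun i => Equiv.swap 0 i with hs
  -- the translates of `c` by the transpositions `(0 i)` differ
  have hsep : ∀ i j, ∀ π : Equiv.Perm (Fin (k + 1)), π 0 = 0 →
      (s i * π) • c = s j • c → i = j ∧ π • c = c := by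
    intro i j π hπ0 h
    have hmem : (s j)⁻¹ * (s i * π) ∈ H := by
      rw [hH, mem_stabilizer_iff, mul_smul, inv_smul_eq_iff]; exact h
    have h0 := hmv _ hmem
    simp only [hs, Equiv.swap_inv, Equiv.Perm.mul_apply, hπ0, Equiv.swap_apply_left] at h0
    have hij : i = j := by
      rcases eq_or_ne i j with e | e
      · exact e
      · exfalso
        rcases eq_or_ne i 0 with e' | e'
        · rw [e', Equiv.swap_apply_left] at h0
          exact e (e'.trans h0.symm)
        · rw [Equiv.swap_apply_of_ne_of_ne e' e] at h0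
          exact e' h0
    refine ⟨hij, ?_⟩
    subst hij
    rw [hH, mem_stabilizer_iff, inv_mul_cancel_left] at hmem
    exact hmem
  -- conjugation by `(0 i)` for `i` outside the support
  have hcomm : ∀ (σ : Equiv.Perm (Fin (k + 1))) (i : Fin (k + 1)), σ 0 = 0 → σ i = i →
      σ * s i = s i * σ := by
    intro σ i h0 hi
    exact mul_inv_eq_iff_eq_mul.mp (by rw [hs, ← Equiv.swap_apply_apply, h0, hi])
  by_cases hτH : τ • c = c
  · -- transposition
    have hb := card_fixed_add_card_le hfree ht hn hτ0 (by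
      intro e
      have h := Equiv.congr_fun e i₁
      rw [hτ, Equiv.swap_apply_left] at h
      exact h12 h.symm)
    have h2 := card_filter_fixed (σ := τ) {i₁, i₂} (fun i hi => by
      simp only [Finset.mem_insert, Finset.mem_singleton, not_or] at hi
      exact Equiv.swap_apply_of_ne_of_ne hi.1 hi.2)
    rw [Finset.card_pair h12] at h2
    set I := (Finset.univ : Finset (Fin (k + 1))) \ {i₁, i₂}
    have h3 : k + 1 - 2 ≤ Nat.card {d : Cls G α (k + 1) // τ • d = d} := by
      have hI : I.card = k + 1 - 2 := by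
        rw [Finset.card_sdiff_of_subset (Finset.subset_univ _), Finset.card_pair h12,
          Finset.card_univ, Fintype.card_fin]
      rw [← hI, ← Fintype.card_coe, ← Nat.card_eq_fintype_card]
      refine Nat.card_le_card_of_injective (fun i => ⟨s i.1 • c, ?_⟩) fun i j e => ?_
      · have hi := i.2
        simp only [I, Finset.mem_sdiff, Finset.mem_insert, Finset.mem_singleton, not_or] at hi
        rw [← mul_smul, hcomm τ i.1 hτ0 (Equiv.swap_apply_of_ne_of_ne hi.2.1 hi.2.2), mul_smul, hτH]
      · refine Subtype.ext (hsep i.1 j.1 1 rfl ?_).1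
        rw [mul_one]
        exact congrArg Subtype.val e
    omega
  · -- three-cycle
    set σ := Equiv.swap i₁ i₂ * Equiv.swap i₂ i₃ with hσ
    have hσA : σ ∈ alternatingGroup (Fin (k + 1)) := by
      rw [Equiv.Perm.mem_alternatingGroup, hσ, map_mul, Equiv.Perm.sign_swap h12,
        Equiv.Perm.sign_swap h23]
      rfl
    have hσfix : ∀ i, i ∉ ({i₁, i₂, i₃} : Finset (Fin (k + 1))) → σ i = i := by
      intro i hi
      simp only [Finset.mem_insert, Finset.mem_singleton, not_or] at hi
      rw [hσ, Equiv.Perm.mul_apply, Equiv.swap_apply_of_ne_of_ne hi.2.1 hi.2.2,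
        Equiv.swap_apply_of_ne_of_ne hi.1 hi.2.1]
    have hσ0 : σ 0 = 0 := hσfix 0 (by simp [h01, h02, h03])
    have hb := card_fixed_add_card_le hfree ht hn hσ0 (by
      intro e
      have h := Equiv.congr_fun e i₃
      rw [hσ, Equiv.Perm.mul_apply, Equiv.swap_apply_right, Equiv.swap_apply_right] at h
      exact h13 h)
    have h2 := card_filter_fixed (σ := σ) {i₁, i₂, i₃} hσfix
    have hc3 : ({i₁, i₂, i₃} : Finset (Fin (k + 1))).card = 3 :=
      Finset.card_eq_three.mpr ⟨_, _, _, h12, h13, h23, rfl⟩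
    rw [hc3] at h2
    set I := (Finset.univ : Finset (Fin (k + 1))) \ {i₁, i₂, i₃}
    have h3 : 2 * (k + 1 - 3) ≤ Nat.card {d : Cls G α (k + 1) // σ • d = d} := by
      have hI : I.card = k + 1 - 3 := by
        rw [Finset.card_sdiff_of_subset (Finset.subset_univ _), hc3, Finset.card_univ,
          Fintype.card_fin]
      rw [← hI, ← Fintype.card_coe, ← Fintype.card_bool, ← Fintype.card_prod,
        ← Nat.card_eq_fintype_card]
      refine Nat.card_le_card_of_injective
        (fun p => ⟨(s p.2.1 * bif p.1 then τ else 1) • c, ?_⟩) ?_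
      · have hi := p.2.2
        simp only [I, Finset.mem_sdiff] at hi
        rw [← mul_smul σ, ← mul_assoc, hcomm σ p.2.1 hσ0 (hσfix _ hi.2), mul_assoc,
          mul_smul (s _), mul_smul σ, mul_smul (s _)]
        congr 1
        have hfix : σ • c = c := hc σ hσA hσ0
        rcases p.1 with _ | _
        · simpa using hfix
        · have h' : (τ⁻¹ * σ * τ) • c = c := by
            refine hc _ ?_ (by
              rw [Equiv.Perm.mul_apply, Equiv.Perm.mul_apply, hτ0, hσ0]
              exact (Equiv.symm_apply_eq _).mpr hτ0.symm)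
            have := (alternatingGroup.normal (α := Fin (k + 1))).conj_mem σ hσA τ⁻¹
            rwa [inv_inv] at this
          show σ • τ • c = τ • c
          rw [mul_smul, mul_smul, inv_smul_eq_iff] at h'
          exact h'
      · rintro ⟨b, i⟩ ⟨b', j⟩ e
        have e' : (s i.1 * bif b then τ else 1) • c = (s j.1 * bif b' then τ else 1) • c :=
          congrArg Subtype.val e
        have hτ2 : τ * τ = 1 := Equiv.swap_mul_self _ _
        rcases b with _ | _ <;> rcases b' with _ | _ <;> simp only [cond_true, cond_false] at e'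
        · rw [mul_one (s j.1)] at e'
          exact Prod.ext rfl (Subtype.ext (hsep _ _ 1 rfl e').1)
        · rw [mul_one (s i.1)] at e'
          exact absurd (hsep _ _ τ hτ0 e'.symm).2 hτH
        · rw [mul_one (s j.1)] at e'
          exact absurd (hsep _ _ τ hτ0 e').2 hτH
        · have h1 : (s i.1 * τ * τ) • c = (s j.1 * τ * τ) • c ∨ i.1 = j.1 := by
            refine Or.inr ?_
            have hmem : (s j.1 * τ)⁻¹ * (s i.1 * τ) ∈ H := by
              rw [hH, mem_stabilizer_iff, mul_smul, inv_smul_eq_iff]; exact e'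
            have h0 := hmv _ hmem
            rw [mul_inv_rev, hτ, Equiv.swap_inv, hs, Equiv.swap_inv] at h0
            simp only [Equiv.Perm.mul_apply] at h0
            rw [← hτ, hτ0, Equiv.swap_apply_left] at h0
            have h0' := congrArg τ h0
            rw [hτ0, ← Equiv.Perm.mul_apply, hτ2, Equiv.Perm.one_apply] at h0'
            rcases eq_or_ne i.1 j.1 with e | e
            · exact e
            · exfalso
              rcases eq_or_ne i.1 0 with e'' | e''
              · rw [e'', Equiv.swap_apply_left] at h0'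
                exact e (e''.trans h0'.symm)
              · rw [Equiv.swap_apply_of_ne_of_ne e'' e] at h0'
                exact e'' h0'
          rcases h1 with h1 | h1
          · rw [mul_assoc, mul_assoc, hτ2] at h1
            rw [mul_one (s j.1)] at h1
            exact Prod.ext rfl (Subtype.ext (hsep _ _ 1 rfl h1).1)
          · exact Prod.ext rfl (Subtype.ext h1)
    omega

/-- A maximal `p`-subgroup fixing `k + 1` points, above a given one: its fixed points carry a
`k`-transitive group. -/
theorem exists_maximal_fixed {α : Type u} [Fintype α] {G : Subgroup (Equiv.Perm α)} {k : ℕ}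
    (hk : k < Fintype.card α) (ht : IsMultiplyPretransitive G α k) (p : ℕ) [hp' : Fact p.Prime]
    (Q₀ : Subgroup G) (hQ₀p : IsPGroup p Q₀) (hQ₀ne : Q₀ ≠ ⊥)
    (hQ₀k : k < Nat.card {a : α // ∀ q ∈ Q₀, q • a = a}) :
    ∃ (Q : Subgroup G) (H : Subgroup G) (F : Set α), Q₀ ≤ Q ∧ IsPGroup p Q ∧
      F = {a | ∀ q ∈ Q, q • a = a} ∧
      (∀ g ∈ H, ∀ x, g • x ∈ F ↔ x ∈ F) ∧ k < Nat.card F ∧
      Nat.card F < Fintype.card α ∧
      ∀ x y : Fin k ↪ F, ∃ g ∈ H, ∀ i, g • (x i : α) = (y i : α) := by
  classical
  haveI := ht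
  have hp := hp'.out
  obtain ⟨g₀, hg₀Q, hg₀ne⟩ := (Subgroup.bot_or_exists_ne_one Q₀).resolve_left hQ₀ne
  -- a maximal `p`-subgroup fixing `k + 1` points
  let P : Subgroup G → Prop := fun Q =>
    IsPGroup p Q ∧ k < Nat.card {a : α // ∀ q ∈ Q, q • a = a}
  obtain ⟨Q, hQ, hQmax⟩ := (Set.toFinite {Q : Subgroup G | Q₀ ≤ Q ∧ P Q}).exists_maximal
    ⟨_, le_rfl, hQ₀p, hQ₀k⟩
  obtain ⟨hQ0, hQp, hQk⟩ := hQ
  set F : Set α := {a | ∀ q ∈ Q, q • a = a}
  set H := Subgroup.normalizer (Q : Set G)
  have hF : ∀ g ∈ H, ∀ x, g • x ∈ F ↔ x ∈ F := by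
    intro g hg x
    constructor
    · intro h q hq
      have h1 := h (g * q * g⁻¹) ((Subgroup.mem_normalizer_iff.mp hg q).mp hq)
      rw [mul_smul, mul_smul, inv_smul_smul] at h1
      exact MulAction.injective g h1
    · intro h q hq
      have hmem : g⁻¹ * q * g ∈ Q := by
        rw [Subgroup.mem_normalizer_iff.mp hg]
        rwa [show g * (g⁻¹ * q * g) * g⁻¹ = q by group]
      have h1 := h _ hmem
      rw [mul_smul, mul_smul, inv_smul_eq_iff] at h1
      exact h1
  have hFn : Nat.card F < Fintype.card α := by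
    obtain ⟨a, ha⟩ : ∃ a, a ∉ F := by
      by_contra hall
      push Not at hall
      exact hg₀ne (Subtype.ext (Equiv.ext fun a => hall a g₀ (hQ0 hg₀Q)))
    rw [Nat.card_coe_set_eq, ← Nat.card_eq_fintype_card]
    exact Set.ncard_lt_card (Set.ne_univ_iff_exists_notMem _ |>.mpr ⟨a, ha⟩)
  refine ⟨Q, H, F, hQ0, hQp, rfl, hF, hQk, hFn, ?_⟩
  by_cases hW : ∃ x : Fin k ↪ F, ∀ S : Subgroup G, IsPGroup p S → Q ≤ S →
      S ≤ stabilizer G (x.trans (Embedding.subtype _)) → S = Q
  · -- `Q` is a Sylow subgroup of the stabiliser of some tuple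
    obtain ⟨x₀, hx₀⟩ := hW
    suffices hx : ∀ y : Fin k ↪ F, ∃ g ∈ H, ∀ i, g • (x₀ i : α) = (y i : α) by
      intro x y
      obtain ⟨g, hg, hgx⟩ := hx x
      obtain ⟨g', hg', hgy⟩ := hx y
      exact ⟨g' * g⁻¹, H.mul_mem hg' (H.inv_mem hg), fun i => by
        rw [mul_smul, ← hgx, inv_smul_smul, hgy]⟩
    intro y
    set X := x₀.trans (Embedding.subtype _)
    set Y := y.trans (Embedding.subtype _)
    obtain ⟨g, hg⟩ := exists_smul_eq G X Y
    have hle : ∀ Z : Fin k ↪ F, Q ≤ stabilizer G (Z.trans (Embedding.subtype _)) := fun Z q hq => by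
      rw [mem_stabilizer_iff]; ext i; exact (Z i).2 q hq
    -- `Q` as a Sylow subgroup of the stabiliser
    set S := stabilizer G X with hS
    set Q₁ := Q.subgroupOf S with hQ₁
    obtain ⟨P₁, hP₁⟩ := (hQp.comap_of_injective S.subtype S.subtype_injective :
      IsPGroup p Q₁).exists_le_sylow
    have hP₁Q : (P₁ : Subgroup S) = Q₁ := by
      have h := hx₀ ((P₁ : Subgroup S).map S.subtype) (P₁.isPGroup'.map _)
        (fun q hq => ⟨⟨q, hle x₀ hq⟩, hP₁ hq, rfl⟩) (Subgroup.map_subtype_le _)
      rw [hQ₁, ← h, Subgroup.subgroupOf, Subgroup.comap_map_eq_self_of_injective S.subtype_injective]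
    -- the conjugate of `Q` back from `y`
    set c := MulAut.conj g⁻¹
    have hcm : ∀ q ∈ Q, g⁻¹ * q * g ∈ S := fun q hq => by
      refine mem_stabilizer_iff.mpr ?_
      rw [mul_smul, mul_smul]
      exact inv_smul_eq_iff.mpr
        ((congrArg (q • ·) hg).trans ((mem_stabilizer_iff.mp (hle y hq)).trans hg.symm))
    set Q₂ := (Q.map c.toMonoidHom).subgroupOf S
    obtain ⟨P₂, hP₂⟩ := ((hQp.map c.toMonoidHom).comap_of_injective S.subtype S.subtype_injective :
      IsPGroup p Q₂).exists_le_sylow
    obtain ⟨h, hh⟩ := exists_smul_eq S P₂ P₁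
    refine ⟨g * (h : G)⁻¹, ?_, fun i => ?_⟩
    · have key : ∀ q ∈ Q, (g * (h : G)⁻¹)⁻¹ * q * (g * (h : G)⁻¹) ∈ Q := by
        intro q hq
        have h1 : (⟨g⁻¹ * q * g, hcm q hq⟩ : S) ∈ (P₂ : Subgroup S) :=
          hP₂ ⟨q, hq, by simp [c]⟩
        have h2 : h * ⟨g⁻¹ * q * g, hcm q hq⟩ * h⁻¹ ∈ (P₁ : Subgroup S) := by
          rw [← hh, Sylow.coe_subgroup_smul]
          exact Subgroup.smul_mem_pointwise_smul _ (MulAut.conj h) _ h1
        rw [hP₁Q, hQ₁, Subgroup.mem_subgroupOf] at h2
        have : (g * (h : G)⁻¹)⁻¹ * q * (g * (h : G)⁻¹) = (h : G) * (g⁻¹ * q * g) * (h : G)⁻¹ := by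
          group
        rw [this]
        simpa using h2
      refine inv_mem_iff.mp (show (g * (h : G)⁻¹)⁻¹ ∈ H from Subgroup.mem_normalizer_fintype ?_)
      intro q hq
      have := key q hq
      simpa using this
    · have h1 : (h : G) • X = X := h.2
      have h2 : (h : G) • (x₀ i : α) = x₀ i := DFunLike.congr_fun h1 i
      rw [mul_smul, inv_smul_eq_iff.mpr h2.symm]
      exact DFunLike.congr_fun hg i
  · -- every tuple has an element of `H` fixing exactly its points
    push Not at hW
    have hu : ∀ x : Fin k ↪ F, ∃ u ∈ H, IsPGroup p (Subgroup.zpowers u) ∧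
        (∀ i, u • (x i : α) = x i) ∧ ∀ b : F, b ∉ Set.range x → u • (b : α) ≠ b := by
      intro x
      obtain ⟨S, hSp, hQS, hSx, hne⟩ := hW x
      set Q' := Q.subgroupOf S
      haveI : Group.IsNilpotent S := hSp.isNilpotent
      have hlt : Q' < ⊤ := lt_top_iff_ne_top.mpr fun e => hne (le_antisymm
        (Subgroup.subgroupOf_eq_top.mp e) hQS)
      have hgt := Group.normalizerCondition_of_isNilpotent Q' hlt
      obtain ⟨⟨u, huS⟩, huN, huQ⟩ := SetLike.exists_of_lt hgt
      have huH : u ∈ H := Subgroup.mem_normalizer_fintype fun q hq => by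
        have := (Subgroup.mem_normalizer_iff.mp huN ⟨q, hQS hq⟩).mp hq
        exact this
      refine ⟨u, huH, hSp.to_le (Subgroup.zpowers_le.mpr huS),
        fun i => DFunLike.congr_fun (mem_stabilizer_iff.mp (hSx huS)) i, fun b hb hub => ?_⟩
      set Qu := Q ⊔ Subgroup.zpowers u with hQ'
      have hQ'S : Qu ≤ S := sup_le hQS (Subgroup.zpowers_le.mpr huS)
      have hmem : Qu ≤ Q := by
        refine hQmax ⟨hQ0.trans le_sup_left, hSp.to_le hQ'S, ?_⟩ le_sup_left
        refine Nat.lt_of_lt_of_le (Nat.lt_succ_self _) ?_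
        show k + 1 ≤ _
        rw [← Nat.card_fin k, ← Finite.card_option]
        refine Nat.card_le_card_of_injective (fun o => o.elim ⟨b, ?_⟩ fun i => ⟨x i, ?_⟩) ?_
        · intro q hq
          have hb' : Qu ≤ stabilizer G (b : α) := sup_le (fun q hq => b.2 q hq)
            (Subgroup.zpowers_le.mpr hub)
          exact hb' hq
        · intro q hq
          exact DFunLike.congr_fun (mem_stabilizer_iff.mp (hSx (hQ'S hq))) i
        · rintro (_ | i) (_ | j) e
          · rfl
          · have e' : (b : α) = x j := congrArg (fun z : {a : α // ∀ q ∈ Qu, q • a = a} => (z : α)) e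
            exact absurd ⟨j, Subtype.ext e'.symm⟩ hb
          · have e' : (x i : α) = b := congrArg (fun z : {a : α // ∀ q ∈ Qu, q • a = a} => (z : α)) e
            exact absurd ⟨i, Subtype.ext e'⟩ hb
          · have e' : (x i : α) = x j := congrArg (fun z : {a : α // ∀ q ∈ Qu, q • a = a} => (z : α)) e
            exact congrArg some (x.injective (Subtype.ext e'))
      exact huQ (hmem ((le_sup_right : Subgroup.zpowers u ≤ Qu) (Subgroup.mem_zpowers u)))
    let act : MulAction H F :=
      { smul := fun g a => ⟨(g : G) • (a : α), (hF g g.2 a).mpr a.2⟩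
        one_smul := fun a => Subtype.ext (one_smul G (a : α))
        mul_smul := fun g g' a => Subtype.ext (mul_smul (g : G) (g' : G) (a : α)) }
    letI := act
    have htF : IsMultiplyPretransitive H F k := by
      refine CfsgLib.SmallGroups.isMultiplyPretransitive_of_step
        (by rw [← Nat.card_eq_fintype_card]; exact hQk) fun x i b hb => ?_
      set K : Subgroup H := ⨅ j ∈ ({j | j ≠ i} : Set (Fin k)), stabilizer H (x j)
      have hK : ∀ g : H, g ∈ K ↔ ∀ j, j ≠ i → g • x j = x j := fun g => by
        simp [K, Subgroup.mem_iInf]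
      suffices h : b ∈ orbit K (x i) by
        obtain ⟨g, hg⟩ := h
        exact ⟨g.1, hg, (hK g.1).mp g.2⟩
      by_contra hbO
      set O := orbit K (x i)
      -- for a free point `c`, an element fixing exactly `c` outside the other coordinates
      have hone : ∀ c : F, (∀ j, j ≠ i → c ≠ x j) → ∃ u : H, u ∈ K ∧
          IsPGroup p (Subgroup.zpowers u) ∧ u • c = c ∧
          ∀ d : F, (∀ j, j ≠ i → d ≠ x j) → u • d = d → d = c := by
        intro c hc
        have hinj : Injective (Function.update x i c) := by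
          intro j l e
          by_cases hj : j = i <;> by_cases hl : l = i <;>
            simp [Function.update_of_ne, hj, hl] at e
          · rw [hj, hl]
          · exact absurd e (hc l hl)
          · exact absurd e.symm (hc j hj)
          · exact e
        obtain ⟨u, huH, hup, hufix, humove⟩ := hu ⟨_, hinj⟩
        refine ⟨⟨u, huH⟩, (hK _).mpr fun j hj => ?_, ?_, ?_, ?_⟩
        · refine Subtype.ext ?_
          have := hufix j
          simp [Function.update_of_ne hj] at this
          exact this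
        · have := hup.comap_of_injective H.subtype H.subtype_injective
          refine this.to_le (Subgroup.zpowers_le.mpr ?_)
          exact Subgroup.mem_zpowers u
        · refine Subtype.ext ?_
          have := hufix i
          simp at this
          exact this
        · intro d hd hdu
          by_contra hne
          refine humove d ?_ (congrArg Subtype.val hdu)
          rintro ⟨j, hj⟩
          by_cases hji : j = i
          · subst hji
            simp at hj
            exact hne hj.symm
          · simp [Function.update_of_ne hji] at hj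
            exact hd j hji hj.symm
      have hOfree : ∀ d ∈ O, ∀ j, j ≠ i → d ≠ x j := by
        rintro d ⟨g, rfl⟩ j hj e
        have h1 := (hK g.1).mp g.2 j hj
        exact hj (x.injective (MulAction.injective g.1 (h1.trans (show x j = g.1 • x i from e.symm))))
      -- counting fixed points on the orbit
      have hcount : ∀ u : H, u ∈ K → IsPGroup p (Subgroup.zpowers u) →
          Nat.card O ≡ Nat.card {d : O // u • d.1 = d.1} [MOD p] := by
        intro u hu hup
        let aO : MulAction (Subgroup.zpowers u) O :=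
          { smul := fun z d => ⟨(z : H) • d.1, by
              obtain ⟨g, hg⟩ := d.2
              exact ⟨⟨z.1, Subgroup.zpowers_le.mpr hu z.2⟩ * g, (mul_smul _ g (x i)).trans (congrArg _ hg)⟩⟩
            one_smul := fun d => Subtype.ext (one_smul H d.1)
            mul_smul := fun z z' d => Subtype.ext (mul_smul (z : H) (z' : H) d.1) }
        refine (hup.card_modEq_card_fixedPoints O).trans ?_
        rw [show Nat.card (fixedPoints (Subgroup.zpowers u) O) =
          Nat.card {d : O // u • d.1 = d.1} from Nat.card_congr (Equiv.subtypeEquivRight fun d =>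
            ⟨fun h => congrArg Subtype.val (h ⟨u, Subgroup.mem_zpowers u⟩), fun h z => Subtype.ext
              (mem_stabilizer_iff.mp ((Subgroup.zpowers_le.mpr (mem_stabilizer_iff.mpr h) :
                Subgroup.zpowers u ≤ _) z.2))⟩)]
      obtain ⟨u₁, hu₁, hp₁, hf₁, hm₁⟩ := hone (x i) (fun j hj e => hj (x.injective e.symm))
      have h1 : Nat.card {d : O // u₁ • d.1 = d.1} = 1 := by
        rw [Nat.card_eq_one_iff_unique]
        refine ⟨⟨fun d d' => Subtype.ext (Subtype.ext ?_)⟩, ⟨⟨⟨x i, mem_orbit_self _⟩, hf₁⟩⟩⟩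
        rw [hm₁ _ (hOfree _ d.1.2) d.2, hm₁ _ (hOfree _ d'.1.2) d'.2]
      obtain ⟨u₂, hu₂, hp₂, -, hm₂⟩ := hone b (fun j _ e => hb ⟨j, e.symm⟩)
      have h2 : Nat.card {d : O // u₂ • d.1 = d.1} = 0 := by
        rw [Nat.card_eq_zero]
        exact Or.inl ⟨fun d => hbO (hm₂ _ (hOfree _ d.1.2) d.2 ▸ d.1.2)⟩
      have h3 := (hcount u₁ hu₁ hp₁).symm.trans (hcount u₂ hu₂ hp₂)
      rw [h1, h2, Nat.modEq_zero_iff_dvd, Nat.dvd_one] at h3
      exact hp.ne_one h3
    rw [isMultiplyPretransitive_iff] at htF
    intro x y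
    obtain ⟨g, hg⟩ := htF x y
    exact ⟨g, g.2, fun i => congrArg Subtype.val (DFunLike.congr_fun hg i)⟩

/-- The fixed points of a maximal `p`-subgroup carry a `k`-transitive group. -/
theorem exists_fixed_set {α : Type u} [Fintype α] {G : Subgroup (Equiv.Perm α)} {k : ℕ}
    (hk : k < Fintype.card α) (ht : IsMultiplyPretransitive G α k) (hnf : ¬ Semifree G α k) :
    ∃ (H : Subgroup G) (F : Set α), (∀ g ∈ H, ∀ x, g • x ∈ F ↔ x ∈ F) ∧ k < Nat.card F ∧
      Nat.card F < Fintype.card α ∧
      ∀ x y : Fin k ↪ F, ∃ g ∈ H, ∀ i, g • (x i : α) = (y i : α) := by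
  classical
  obtain ⟨g, t, hgt, hg1⟩ : ∃ (g : G) (t : Fin (k + 1) ↪ α), g • t = t ∧ g ≠ 1 := by
    by_contra h
    push Not at h
    exact hnf h
  have hord : orderOf g ≠ 1 := fun e => hg1 (orderOf_eq_one_iff.mp e)
  obtain ⟨p, hp, hpd⟩ := Nat.exists_prime_and_dvd hord
  haveI := Fact.mk hp
  set g₀ := g ^ (orderOf g / p)
  have hg₀ : orderOf g₀ = p := orderOf_pow_orderOf_div (orderOf_pos g).ne' hpd
  have hg₀t : g₀ • t = t := mem_stabilizer_iff.mp (pow_mem (mem_stabilizer_iff.mpr hgt) _)
  obtain ⟨Q, H, F, -, -, -, h⟩ := exists_maximal_fixed hk ht p (Subgroup.zpowers g₀)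
    (IsPGroup.of_card (n := 1) (by rw [Nat.card_zpowers, hg₀, pow_one]))
    (by
      rw [Subgroup.zpowers_ne_bot]
      intro e
      rw [e, orderOf_one] at hg₀
      exact hp.ne_one hg₀.symm)
    (by
      refine lt_of_lt_of_le (Nat.lt_succ_self k) ?_
      show k + 1 ≤ _
      rw [← Nat.card_fin (k + 1)]
      refine Nat.card_le_card_of_injective (fun i => ⟨t i, fun q hq => ?_⟩)
        (fun i j e => t.injective (congrArg Subtype.val e))
      have hq' : q ∈ stabilizer G t := Subgroup.zpowers_le.mpr (mem_stabilizer_iff.mpr hg₀t) hq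
      exact DFunLike.congr_fun (mem_stabilizer_iff.mp hq') i)
  exact ⟨H, F, h⟩

theorem hasEvenClass_aux : ∀ (n : ℕ) {α : Type u} [Fintype α], Fintype.card α = n →
    ∀ (G : Subgroup (Equiv.Perm α)) (k : ℕ), 4 ≤ k → k < n → IsMultiplyPretransitive G α k →
    HasEvenClass G k := by
  intro n
  induction n using Nat.strong_induction_on with
  | _ n ih =>
    intro α _ hα G k hk hkn ht
    classical
    haveI := ht
    by_cases hfree : Semifree G α k
    · obtain ⟨x⟩ := Embedding.nonempty_of_card_le (α := Fin (k + 1)) (β := α) (by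
        rw [Fintype.card_fin]; omega)
      rcases Nat.eq_or_lt_of_le hk with hk4 | hk5
      · subst hk4
        have h5 : 5 ≤ Nat.card α := by rw [Nat.card_eq_fintype_card]; omega
        haveI : Nonempty (Cls G α 5) := ⟨cls G x⟩
        refine AltStab.exists_fixed ?_
        rcases card_cls_cases hfree ht h5 with h | h | h
        · exact Or.inl h
        · refine Or.inr (Or.inr ⟨h, Equiv.swap 1 2, Equiv.Perm.sign_swap (by decide),
            Equiv.swap_mul_self _ _, ?_⟩)
          have hb := card_fixed_add_card_le hfree ht (by omega)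
            (σ := Equiv.swap (1 : Fin 5) 2) (Equiv.swap_apply_of_ne_of_ne (by decide) (by decide))
            (by decide)
          have h2 : Nat.card {i : Fin (4 + 1) // Equiv.swap (1 : Fin (4 + 1)) 2 i = i} = 3 := by
            rw [Nat.card_eq_fintype_card]; decide
          omega
        · exact Or.inr (Or.inl h)
      · -- use a point stabiliser
        set a := x 0
        set F : Set α := {a}ᶜ
        obtain ⟨Gb, hdown, hup⟩ := exists_induced (stabilizer G a) F (fun g hg y => by
          simp only [F, Set.mem_compl_iff, Set.mem_singleton_iff]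
          exact not_congr ⟨fun e => MulAction.injective g (e.trans hg.symm),
            fun e => by rw [e]; exact hg⟩)
        have hFcard : Fintype.card F = n - 1 := by
          rw [Fintype.card_compl_set, Set.card_singleton, hα]
        have htF : IsMultiplyPretransitive Gb F (k - 1) := by
          rw [isMultiplyPretransitive_iff]
          intro u v
          have hcons : ∀ u : Fin (k - 1) ↪ F, Injective (Fin.cons a fun i => (u i : α) :
              Fin (k - 1 + 1) → α) := fun u => Fin.cons_injective_iff.mpr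
            ⟨by rintro ⟨i, hi⟩; exact (u i).2 hi, Subtype.val_injective.comp u.injective⟩
          haveI : IsMultiplyPretransitive G α (k - 1 + 1) := by
            rwa [show k - 1 + 1 = k by omega]
          obtain ⟨g, hg⟩ := exists_smul_eq G (⟨_, hcons u⟩ : Fin (k - 1 + 1) ↪ α) ⟨_, hcons v⟩
          have hg0 : g • a = a := DFunLike.congr_fun hg 0
          obtain ⟨σ, hσ, hσv⟩ := hup g hg0
          refine ⟨⟨σ, hσ⟩, ?_⟩
          ext i
          exact (hσv (u i)).trans (DFunLike.congr_fun hg i.succ)
        obtain ⟨c, hc⟩ := ih (n - 1) (by omega) hFcard Gb (k - 1) (by omega) (by omega) htF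
        obtain ⟨t, rfl⟩ := cls_surjective c
        obtain ⟨l, hl⟩ : ∃ l, k = l + 1 := ⟨k - 1, by omega⟩
        subst hl
        have hinj : Injective (Fin.cons a fun i => (t i : α) : Fin (l + 1 + 1) → α) :=
          Fin.cons_injective_iff.mpr ⟨by rintro ⟨i, hi⟩; exact (t i).2 hi,
            Subtype.val_injective.comp t.injective⟩
        set T : Fin (l + 1 + 1) ↪ α := ⟨_, hinj⟩
        refine ⟨cls G T, fixed_of_fixed_stabilizer (by omega) hfree ht
          (by rw [Nat.card_eq_fintype_card]; omega) _ fun σ hσ h0 => ?_⟩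
        set π := (Equiv.Perm.decomposeFin σ).2
        have hσπ : σ = Equiv.Perm.decomposeFin.symm (0, π) := by
          rw [Equiv.eq_symm_apply]
          refine Prod.ext ?_ rfl
          have h1 : Equiv.Perm.decomposeFin.symm (Equiv.Perm.decomposeFin σ) 0 =
              (Equiv.Perm.decomposeFin σ).1 := by
            generalize Equiv.Perm.decomposeFin σ = z
            obtain ⟨z₁, z₂⟩ := z
            exact Equiv.Perm.decomposeFin_symm_apply_zero z₁ z₂
          rw [Equiv.symm_apply_apply, h0] at h1
          exact h1.symm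
        have hπ : π ∈ alternatingGroup (Fin (l + 1)) := by
          rw [Equiv.Perm.mem_alternatingGroup] at hσ ⊢
          rwa [hσπ, Equiv.Perm.decomposeFin.symm_sign, if_pos rfl, one_mul] at hσ
        obtain ⟨m, hm⟩ := smul_cls_eq_self_iff.mp (hc π hπ)
        obtain ⟨g, hg, hgv⟩ := hdown m.1 m.2
        refine smul_cls_eq_self_iff.mpr ⟨g, fun i => ?_⟩
        induction i using Fin.cases with
        | zero => rw [h0]; exact hg
        | succ j =>
          rw [hσπ, Equiv.Perm.decomposeFin_symm_apply_succ, Equiv.swap_self, Equiv.refl_apply]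
          exact (hgv (t j)).symm.trans (congrArg Subtype.val (hm j))
    · obtain ⟨H, F, hF, hkF, hFn, htr⟩ := exists_fixed_set (by omega) ht hfree
      obtain ⟨Gb, hdown, hup⟩ := exists_induced H F hF
      have htF : IsMultiplyPretransitive Gb F k := by
        rw [isMultiplyPretransitive_iff]
        intro u v
        obtain ⟨g, hg, huv⟩ := htr u v
        obtain ⟨σ, hσ, hσv⟩ := hup g hg
        refine ⟨⟨σ, hσ⟩, ?_⟩
        ext i
        exact (hσv (u i)).trans (huv i)
      rw [Nat.card_eq_fintype_card] at hkF hFn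
      obtain ⟨c, hc⟩ := ih _ (by omega) rfl Gb k hk hkF htF
      obtain ⟨t, rfl⟩ := cls_surjective c
      refine ⟨cls G (t.trans (Embedding.subtype _)), fun σ hσ => smul_cls_eq_self_iff.mpr ?_⟩
      obtain ⟨m, hm⟩ := smul_cls_eq_self_iff.mp (hc σ hσ)
      obtain ⟨g, -, hgv⟩ := hdown m.1 m.2
      exact ⟨g, fun i => (hgv (t i)).symm.trans (congrArg Subtype.val (hm i))⟩

/-- A `k`-transitive group of degree above `k ≥ 4` induces all even permutations on some
`(k + 1)`-set. -/
theorem exists_even_set {α : Type u} [Fintype α] [DecidableEq α] (G : Subgroup (Equiv.Perm α))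
    {k : ℕ} (hk : 4 ≤ k) (hkn : k < Fintype.card α) (ht : IsMultiplyPretransitive G α k) :
    ∃ Δ : Finset α, Δ.card = k + 1 ∧ ∀ σ : Equiv.Perm Δ, σ ∈ alternatingGroup Δ →
      ∃ g ∈ G, ∀ x : Δ, g (x : α) = σ x := by
  obtain ⟨c, hc⟩ := hasEvenClass_aux _ rfl G k hk hkn ht
  obtain ⟨t, rfl⟩ := cls_surjective c
  refine ⟨Finset.univ.map t, by rw [Finset.card_map, Finset.card_univ, Fintype.card_fin],
    fun σ hσ => ?_⟩
  let e : Fin (k + 1) ≃ (Finset.univ.map t : Finset α) :=
    Equiv.ofBijective (fun i => ⟨t i, Finset.mem_map_of_mem t (Finset.mem_univ i)⟩)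
      ⟨fun i j h => t.injective (congrArg Subtype.val h), fun y => by
        obtain ⟨i, -, hi⟩ := Finset.mem_map.mp y.2
        exact ⟨i, Subtype.ext hi⟩⟩
  have hπ : e.symm.permCongr σ ∈ alternatingGroup (Fin (k + 1)) := by
    rw [Equiv.Perm.mem_alternatingGroup, Equiv.Perm.sign_permCongr]
    exact Equiv.Perm.mem_alternatingGroup.mp hσ
  obtain ⟨g, hg⟩ := smul_cls_eq_self_iff.mp (hc _ hπ)
  refine ⟨g.1, g.2, fun y => ?_⟩
  obtain ⟨i, rfl⟩ := e.surjective y
  have h := hg i
  rw [Equiv.permCongr_apply, Equiv.symm_symm] at h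
  exact h.trans (congrArg Subtype.val (e.apply_symm_apply (σ (e i))))

end CfsgLib.SmallGroups.TupleClass
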