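import Cfsg.Agent.Lib.Solvable.FrobeniusTheorem
import Mathlib

/-!
Three-halves transitive groups are primitive or have trivial two-point stabilisers; in particular
simple ones are primitive.
-/

set_option autoImplicit false

namespace CfsgLib.SmallGroups.HalfTransitive

open MulAction Pointwise

variable {N Ω : Type*} [Group N] [MulAction N Ω] [Finite N] [Finite Ω]

omit [Finite N] in
/-- A set invariant under a group with all orbits in it of size `d` has size divisible by `d`. -/
theorem dvd_ncard {H : Subgroup N} {U : Set Ω} (hU : ∀ h : H, ∀ x ∈ U, h • x ∈ U) {d : ℕ}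
    (hd : ∀ x ∈ U, (orbit H x).ncard = d) : d ∣ U.ncard := by
  classical
  induction hn : U.ncard using Nat.strong_induction_on generalizing U with
  | _ n ih =>
    rcases U.eq_empty_or_nonempty with rfl | ⟨x, hx⟩
    · simp at hn; subst hn; exact dvd_zero d
    · have hsub : orbit H x ⊆ U := by rintro _ ⟨h, rfl⟩; exact hU h x hx
      have hc := Set.ncard_sdiff_add_ncard_of_subset hsub (Set.toFinite U)
      have hpos : 0 < (orbit H x).ncard := (Set.ncard_pos (Set.toFinite _)).mpr ⟨x, mem_orbit_self x⟩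
      have h2 : d ∣ (U \ orbit H x).ncard := ih _ (by omega) (U := U \ orbit H x) (fun h y hy => ⟨hU h y hy.1, fun h' => hy.2
        (by
          have : h⁻¹ • h • y ∈ orbit H x := mem_orbit_of_mem_orbit _ h'
          rwa [inv_smul_smul] at this)⟩) (fun y hy => hd y hy.1) rfl
      rw [hd x hx] at hc
      rw [← hn, ← hc]
      exact dvd_add h2 (dvd_refl d)

omit [Finite N] [Finite Ω] in
theorem ncard_orbit_stabilizer (a b : Ω) :
    (orbit (stabilizer N a) b).ncard = (stabilizer N b).relIndex (stabilizer N a) := by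
  rw [← index_stabilizer]
  rfl

variable [IsPretransitive N Ω] {d : ℕ}
  (hhalf : ∀ a b : Ω, a ≠ b → (stabilizer N b).relIndex (stabilizer N a) = d)
  {B : Set Ω} (hB : IsBlock N B)

include hhalf hB

theorem inf_eq {a b : Ω} (ha : a ∈ B) (hb : b ∉ B) :
    stabilizer N B ⊓ stabilizer N b = stabilizer N a ⊓ stabilizer N b := by
  classical
  set S := stabilizer N B with hS
  set A := stabilizer N a with hA
  set T := stabilizer N b with hT
  have hAS : A ≤ S := hB.stabilizer_le ha
  have hle : A ⊓ T ≤ S ⊓ T := inf_le_inf_right T hAS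
  have hab : a ≠ b := fun e => hb (e ▸ ha)
  have hd : (A ⊓ T).relIndex T = d := by
    rw [Subgroup.inf_relIndex_right]
    exact hhalf b a hab.symm
  have hdpos : d ≠ 0 := by
    rw [← hd]
    exact Subgroup.index_ne_zero_of_finite
  -- `d` divides `|B| - 1`
  have hd1 : d ∣ (B \ {a}).ncard := by
    refine dvd_ncard (H := A) (U := B \ {a}) (fun h x hx => ⟨?_, ?_⟩) fun x hx => ?_
    · have : (h : N) • x ∈ (h : N) • B := Set.smul_mem_smul_set hx.1
      rwa [mem_stabilizer_iff.mp (hAS h.2)] at this
    · intro e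
      exact hx.2 (MulAction.injective (h : N) ((Set.mem_singleton_iff.mp e).trans
        (mem_stabilizer_iff.mp h.2).symm))
    · rw [ncard_orbit_stabilizer]
      exact hhalf a x (fun e => hx.2 e.symm)
  -- the union of the blocks in the orbit of `B` under `T`
  set q := (S ⊓ T).relIndex T with hq
  have hqd : d ∣ B.ncard * q := by
    let F : (Σ C : orbit T B, (C : Set Ω)) → Ω := fun y => (y.2 : Ω)
    have hblock : ∀ C : orbit T B, ∃ g : T, (C : Set Ω) = (g : N) • B := fun C => by
      obtain ⟨g, hg⟩ := C.2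
      exact ⟨g, hg.symm⟩
    have hFinj : Function.Injective F := by
      rintro ⟨C, x, hx⟩ ⟨C', x', hx'⟩ (e : x = x')
      subst e
      obtain ⟨g, hg⟩ := hblock C
      obtain ⟨g', hg'⟩ := hblock C'
      have hCC : C = C' := by
        refine Subtype.ext ?_
        rw [hg] at hx ⊢
        rw [hg'] at hx' ⊢
        exact hB.smul_eq_smul_of_nonempty ⟨x, hx, hx'⟩
      subst hCC
      rfl
    have hcard : (Set.range F).ncard = B.ncard * q := by
      haveI : Fintype (orbit T B) := Fintype.ofFinite _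
      rw [Set.ncard_range_of_injective hFinj, Nat.card_sigma,
        Finset.sum_congr rfl (fun (C : orbit T B) _ => (show Nat.card (C : Set Ω) = B.ncard by
          obtain ⟨g, hg⟩ := hblock C
          rw [Nat.card_coe_set_eq, hg, ← Set.image_smul,
            Set.ncard_image_of_injective _ (MulAction.injective _)])),
        Finset.sum_const, Finset.card_univ, smul_eq_mul, mul_comm, ← Nat.card_eq_fintype_card,
        Nat.card_coe_set_eq, ← index_stabilizer, hq, Subgroup.inf_relIndex_right]
      rfl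
    rw [← hcard]
    refine dvd_ncard (H := T) ?_ ?_
    · rintro h _ ⟨⟨C, x, hx⟩, rfl⟩
      exact ⟨⟨⟨(h : N) • (C : Set Ω), mem_orbit_of_mem_orbit h C.2⟩,
        ⟨(h : N) • x, Set.smul_mem_smul_set hx⟩⟩, rfl⟩
    · rintro _ ⟨⟨C, x, hx⟩, rfl⟩
      rw [ncard_orbit_stabilizer]
      refine hhalf b x fun e => hb ?_
      obtain ⟨g, hg⟩ := hblock C
      rw [hg] at hx
      obtain ⟨y, hy, hxy⟩ := hx
      have hyb : y = b := MulAction.injective (g : N)
        ((hxy.trans e.symm).trans (mem_stabilizer_iff.mp g.2).symm)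
      exact hyb ▸ hy
  have hcop : Nat.Coprime d B.ncard := by
    rw [Set.ncard_sdiff_singleton_of_mem ha] at hd1
    have hpos : 0 < B.ncard := (Set.ncard_pos (Set.toFinite B)).mpr ⟨a, ha⟩
    refine Nat.coprime_of_dvd fun r hr h1 h2 => hr.one_lt.ne' ?_
    exact Nat.dvd_one.mp ((Nat.dvd_add_right (h1.trans hd1)).mp
      (show r ∣ B.ncard - 1 + 1 by rwa [Nat.sub_add_cancel hpos]))
  have hdq : d ∣ q := hcop.dvd_of_dvd_mul_left hqd
  have hmul : (A ⊓ T).relIndex (S ⊓ T) * q = d := by
    rw [hq, Subgroup.relIndex_mul_relIndex _ _ _ hle inf_le_right, hd]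
  have hq0 : 0 < q := Nat.pos_of_ne_zero Subgroup.index_ne_zero_of_finite
  have h1 : (A ⊓ T).relIndex (S ⊓ T) = 1 := by
    have h2 := Nat.le_of_dvd hq0 hdq
    rcases Nat.eq_zero_or_pos ((A ⊓ T).relIndex (S ⊓ T)) with h | h
    · rw [h, zero_mul] at hmul; omega
    · nlinarith
  exact le_antisymm (Subgroup.relIndex_eq_one.mp h1) hle

/-- Two-point stabilisers are trivial in an imprimitive three-halves transitive group. -/
theorem two_point_trivial [FaithfulSMul N Ω] {a a' : Ω} (ha : a ∈ B) (ha' : a' ∈ B)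
    (hne : a ≠ a') {b : Ω} (hb : b ∉ B) (x : Ω) (hx : x ≠ a) :
    stabilizer N a ⊓ stabilizer N x = ⊥ := by
  have key : ∀ c ∈ B, c ≠ a → ∀ b, b ∉ B →
      stabilizer N a ⊓ stabilizer N b = stabilizer N a ⊓ stabilizer N c := by
    intro c hc hca b hb
    have hle : stabilizer N a ⊓ stabilizer N b ≤ stabilizer N a ⊓ stabilizer N c := by
      intro g hg
      have h := inf_eq hhalf hB ha hb
      rw [← h, inf_eq hhalf hB hc hb] at hg
      refine ⟨?_, hg.1⟩
      have h2 : g ∈ stabilizer N B ⊓ stabilizer N b := by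
        rw [inf_eq hhalf hB hc hb]; exact hg
      rw [h] at h2
      exact h2.1
    refine le_antisymm hle (Subgroup.relIndex_eq_one.mp ?_)
    have h1 := Subgroup.relIndex_mul_relIndex _ _ (stabilizer N a) hle inf_le_left
    rw [Subgroup.inf_relIndex_left, Subgroup.inf_relIndex_left, hhalf a c hca.symm,
      hhalf a b (fun e => hb (e ▸ ha))] at h1
    have hd0 : 0 < d := by
      rw [← hhalf a c hca.symm]
      exact Nat.pos_of_ne_zero Subgroup.index_ne_zero_of_finite
    exact Nat.eq_of_mul_eq_mul_right hd0 (by rw [h1, one_mul])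
  have hK : stabilizer N a ⊓ stabilizer N a' = ⊥ := by
    rw [eq_bot_iff]
    intro g hg
    refine Subgroup.mem_bot.mpr (eq_of_smul_eq_smul (α := Ω) fun y => ?_)
    rw [one_smul]
    by_cases hy : y ∈ B
    · by_cases hya : y = a
      · rw [hya]; exact hg.1
      · rw [← key a' ha' hne.symm b hb, key y hy hya b hb] at hg
        exact hg.2
    · rw [← key a' ha' hne.symm y hy] at hg
      exact hg.2
  by_cases hxB : x ∈ B
  · rw [← key x hxB hx b hb, key a' ha' hne.symm b hb, hK]
  · rw [key a' ha' hne.symm x hxB, hK]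

omit hhalf hB in
/-- A simple three-halves transitive group with non-trivial point stabilisers is primitive. -/
theorem isPreprimitive_of_simple [IsSimpleGroup N] [FaithfulSMul N Ω]
    (hhalf : ∀ a b : Ω, a ≠ b → (stabilizer N b).relIndex (stabilizer N a) = d)
    (hstab : ∀ a : Ω, stabilizer N a ≠ ⊥) : IsPreprimitive N Ω := by
  refine ⟨fun {B} hB => ?_⟩
  by_contra hnt
  rw [IsTrivialBlock, not_or, Set.not_subsingleton_iff] at hnt
  have h2 : ∃ b, b ∉ B := (Set.ne_univ_iff_exists_notMem B).mp hnt.2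
  replace hnt := And.intro hnt.1 h2
  obtain ⟨⟨a, ha, a', ha', hne⟩, b, hb⟩ := hnt
  set A := stabilizer N a with hA
  have hAt : A ≠ ⊤ := fun e => by
    obtain ⟨g, hg⟩ := exists_smul_eq N a b
    have : g ∈ A := e ▸ Subgroup.mem_top g
    exact hb ((mem_stabilizer_iff.mp this).symm.trans hg ▸ ha)
  have hF : Cfsg.IsFrobeniusComplement A := by
    refine ⟨hstab a, hAt, fun g hg => ?_⟩
    rw [eq_bot_iff]
    intro x hx
    have hga : g • a ≠ a := hg
    rw [← two_point_trivial hhalf hB ha ha' hne hb _ hga]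
    refine ⟨hx.1, ?_⟩
    obtain ⟨y, hy, hyx⟩ := hx.2
    subst hyx
    show (g * y * g⁻¹) • g • a = g • a
    rw [mul_smul, inv_smul_smul, mul_smul, mem_stabilizer_iff.mp hy]
  obtain ⟨K, -, hKn, hK⟩ := CfsgLib.Solvable.frobenius_theorem hF
  rcases hKn.eq_bot_or_eq_top with h | h
  · exact hAt (Subgroup.isComplement'_bot_left.mp (h ▸ hK))
  · exact hstab a (Subgroup.isComplement'_top_left.mp (h ▸ hK))

end CfsgLib.SmallGroups.HalfTransitive
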