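import Mathlib
import Cfsg.Agent.Lib.SmallGroups.FacetSums

/-!
From `t`-transitive and homogeneous on `(t + 1)`- and `(t + 2)`-sets: the three configurations
(orientation, apex, pairing) that obstruct `(t + 1)`-transitivity for `t ≤ 3`.
-/

set_option autoImplicit false

open scoped Pointwise

namespace CfsgLib.SmallGroups.TupleClass

open MulAction Function Finset

variable {G α : Type*} [Group G] [MulAction G α] [Fintype α] [DecidableEq α]

theorem orientation_arith {t M q : ℕ} (ht1 : 1 ≤ t) (ht3 : t ≤ 3) (hM : t + 3 ≤ M)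
    (hq : q ≤ t + 2)
    (h : (M : ℤ) * ((((t + 2 : ℕ) : ℤ) - 2 * q) * (((t + 2 : ℕ) : ℤ) - 2 * q) - ((t + 2 : ℕ) : ℤ)) =
      ((t + 2 : ℕ) : ℤ) * (((t + 2 : ℕ) : ℤ) - 1)) : False := by
  interval_cases t <;> interval_cases q <;> norm_num at h <;> omega

/-- An alternating invariant sign on classes is impossible in small cases. -/
theorem no_orientation {t : ℕ} (ht1 : 1 ≤ t) (ht3 : t ≤ 3) [IsMultiplyPretransitive G α t]
    (hom : Homogeneous.IsHom G α (t + 2)) (hn : 2 * (t + 2) ≤ Fintype.card α)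
    (ε : Cls G α (t + 1) → ℤ)
    (hε : ∀ (σ : Equiv.Perm (Fin (t + 1))) d, ε (σ • d) = (Equiv.Perm.sign σ : ℤ) * ε d)
    (hε1 : ∀ d, ε d * ε d = 1) : False := by
  have hsq : ∀ {m : ℕ} (σ : Equiv.Perm (Fin m)),
      (Equiv.Perm.sign σ : ℤ) * Equiv.Perm.sign σ = 1 := fun σ => by
    rw [← Units.val_mul, Int.units_mul_self, Units.val_one]
  set b : Fin (t + 2) → (Fin (t + 2) ↪ α) → ℤ := fun i φ =>
    (Equiv.Perm.sign (Equiv.swap 0 i) : ℤ) * ε (facetCls G φ (Equiv.swap 0 i)) with hb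
  have hkey : ∀ (π : Equiv.Perm (Fin (t + 2))) φ,
      (Equiv.Perm.sign π : ℤ) * ε (facetCls G φ π) = b (π 0) φ := by
    intro π φ
    obtain ⟨ρ, hρ⟩ := exists_ext0 (π := Equiv.swap 0 (π 0)) (π' := π) (by simp)
    conv_lhs => rw [hρ]
    rw [facetCls_mul_ext0, hε, map_mul, sign_ext0, Units.val_mul, Equiv.Perm.sign_inv, hb]
    linear_combination (Equiv.Perm.sign (Equiv.swap 0 (π 0)) : ℤ) *
      ε (facetCls G φ (Equiv.swap 0 (π 0))) * hsq ρ
  have hequiv : ∀ (σ : Equiv.Perm (Fin (t + 2))) i φ,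
      b i (σ.toEmbedding.trans φ) = (Equiv.Perm.sign σ : ℤ) * b (σ i) φ := by
    intro σ i φ
    have h := hkey (σ * Equiv.swap 0 i) φ
    rw [Equiv.Perm.mul_apply, Equiv.swap_apply_left, map_mul, Units.val_mul] at h
    rw [← h, hb]
    simp only [facetCls_trans]
    linear_combination (-(Equiv.Perm.sign (Equiv.swap 0 i) : ℤ)) *
      ε (facetCls G φ (σ * Equiv.swap 0 i)) * hsq σ
  set F : Fin (t + 2) → Fin (t + 2) → (Fin (t + 2) ↪ α) → ℤ := fun i j φ => b i φ * b j φ with hF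
  have hFσ : ∀ (σ : Equiv.Perm (Fin (t + 2))) i j φ,
      F i j (σ.toEmbedding.trans φ) = F (σ i) (σ j) φ := by
    intro σ i j φ
    simp only [hF, hequiv]
    linear_combination b (σ i) φ * b (σ j) φ * hsq σ
  have hFG : ∀ (g : G) i j φ, F i j (g • φ) = F i j φ := by
    intro g i j φ
    simp only [hF, hb, facetCls_smul]
  have hdiag : ∀ i φ, F i i φ = 1 := by
    intro i φ
    simp only [hF, hb]
    linear_combination (ε (facetCls G φ (Equiv.swap 0 i)) * ε (facetCls G φ (Equiv.swap 0 i))) *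
      hsq (Equiv.swap 0 i) + hε1 (facetCls G φ (Equiv.swap 0 i))
  obtain ⟨φ₀⟩ := Embedding.nonempty_of_card_le (α := Fin (t + 2)) (β := α) (by
    rw [Fintype.card_fin]; omega)
  set D := ∑ i, b i φ₀ with hD
  have hS : ∀ φ, ∑ i, ∑ j, F i j φ = D * D := by
    intro φ
    rw [offdiag_const hom F hFσ hFG φ₀ φ, hD, Finset.sum_mul_sum]
  -- the signs over a fixed tail sum to zero
  have htail : ∀ T T' : Fin t ↪ α, ∑ u ∈ fib T, ε (cls G u) = ∑ u ∈ fib T', ε (cls G u) := by
    intro T T'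
    obtain ⟨g, rfl⟩ := exists_smul_eq G T T'
    refine Finset.sum_nbij' (fun u => g • u) (fun u => g⁻¹ • u) ?_ ?_ ?_ ?_ ?_
    · intro u hu
      simp only [mem_coe, mem_fib] at hu ⊢
      rw [← hu]; rfl
    · intro u hu
      simp only [mem_coe, mem_fib] at hu ⊢
      rw [← inv_smul_smul g T, ← hu]; rfl
    · intro u _; exact inv_smul_smul g u
    · intro u _; exact smul_inv_smul g u
    · intro u _; exact congrArg ε (cls_eq_iff.mpr ⟨g⁻¹, inv_smul_smul g u⟩)
  have hzero : ∀ T : Fin t ↪ α, ∑ u ∈ fib T, ε (cls G u) = 0 := by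
    intro T
    obtain ⟨t', rfl⟩ : ∃ t', t = t' + 1 := ⟨t - 1, by omega⟩
    set w : Equiv.Perm (Fin (t' + 1 + 1)) := Equiv.swap 0 1 with hw
    let e : (Fin (t' + 1 + 1) ↪ α) ≃ (Fin (t' + 1 + 1) ↪ α) :=
      { toFun := fun u => w.toEmbedding.trans u
        invFun := fun u => w.toEmbedding.trans u
        left_inv := fun u => by ext l; simp [hw]
        right_inv := fun u => by ext l; simp [hw] }
    have htot : ∑ u : Fin (t' + 1 + 1) ↪ α, ε (cls G u) = 0 := by
      have h := Fintype.sum_equiv e (fun u => ε (cls G (w.toEmbedding.trans u)))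
        (fun u => ε (cls G u)) (fun u => rfl)
      have h2 : ∀ u : Fin (t' + 1 + 1) ↪ α,
          ε (cls G (w.toEmbedding.trans u)) = - ε (cls G u) := by
        intro u
        have h3 : cls G (w.toEmbedding.trans u) = w • cls G u := by
          rw [smul_cls, hw, Equiv.swap_inv]
        rw [h3, hε, hw, Equiv.Perm.sign_swap (by simp [Fin.ext_iff])]
        simp
      simp only [h2, Finset.sum_neg_distrib] at h
      linarith
    rw [← Finset.sum_fiberwise univ (fun u : Fin (t' + 1 + 1) ↪ α => tail u)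
      (fun u => ε (cls G u))] at htot
    change ∑ T' : Fin (t' + 1) ↪ α, ∑ u ∈ fib T', ε (cls G u) = 0 at htot
    rw [Finset.sum_congr rfl (g := fun _ => ∑ u ∈ fib T, ε (cls G u))
      fun T' _ => htail T' T] at htot
    rw [Finset.sum_const, smul_eq_zero] at htot
    exact htot.resolve_left (Finset.card_ne_zero.mpr ⟨T, mem_univ T⟩)
  -- the mixed sum
  have hmix : ∑ φ : Fin (t + 2) ↪ α, F ⟨0, by omega⟩ ⟨1, by omega⟩ φ =
      (Fintype.card (Fin t ↪ α) : ℤ) * ((Fintype.card α - t : ℕ) : ℤ) := by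
    have h01 : ∀ φ : Fin (t + 2) ↪ α, F ⟨0, by omega⟩ ⟨1, by omega⟩ φ =
        - (ε (facetCls G φ 1) * ε (facetCls G φ (Equiv.swap 0 1))) := by
      intro φ
      have h0 := hkey 1 φ
      have h1 := hkey (Equiv.swap 0 1) φ
      simp only [Equiv.Perm.one_apply, map_one, Units.val_one, one_mul, Equiv.swap_apply_left] at h0 h1
      rw [Equiv.Perm.sign_swap (by simp [Fin.ext_iff])] at h1
      show b (⟨0, _⟩ : Fin (t + 2)) φ * b ⟨1, _⟩ φ = _
      rw [show (⟨0, by omega⟩ : Fin (t + 2)) = 0 from rfl,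
        show (⟨1, by omega⟩ : Fin (t + 2)) = 1 from rfl, ← h0, ← h1]
      simp
    rw [Finset.sum_congr rfl fun φ _ => h01 φ, Finset.sum_neg_distrib,
      pair_sum (G := G) (fun c d => ε c * ε d)]
    simp only [← Finset.mul_sum, ← Finset.sum_mul, hzero, mul_zero, zero_sub, hε1,
      Finset.sum_const, card_fib, nsmul_eq_mul, mul_one, mul_neg, neg_neg, Finset.card_univ]
  have htot := sum_offdiag (by omega : 2 ≤ t + 2) F hFσ (fun i φ ψ => by rw [hdiag, hdiag]) φ₀
  rw [Finset.sum_congr rfl fun φ _ => hS φ, Finset.sum_const, Finset.card_univ, nsmul_eq_mul,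
    hmix, Finset.sum_congr rfl fun i _ => hdiag i φ₀, Finset.sum_const, Finset.card_univ,
    Fintype.card_fin, nsmul_eq_mul, mul_one, card_tuples (t := t + 1), card_tuples (t := t)] at htot
  set M := Fintype.card α - (t + 1) with hM
  have hMt : Fintype.card α - t = M + 1 := by omega
  rw [hMt] at htot
  have hTpos : (0 : ℤ) < Fintype.card (Fin t ↪ α) := by
    exact_mod_cast Fintype.card_pos_iff.mpr ⟨(Fin.castLEEmb (by omega)).trans φ₀⟩
  set N : ℤ := ((t + 2 : ℕ) : ℤ) with hN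
  have hmain : (M : ℤ) * (D * D - N) = N * (N - 1) := by
    have hpos : (0 : ℤ) < (Fintype.card (Fin t ↪ α) : ℤ) * ((M + 1 : ℕ) : ℤ) :=
      mul_pos hTpos (by exact_mod_cast Nat.succ_pos M)
    refine mul_left_cancel₀ hpos.ne' ?_
    linear_combination htot
  -- parity and size of `D`
  have hDb : ∀ i, b i φ₀ = 1 ∨ b i φ₀ = -1 := fun i =>
    mul_self_eq_one_iff.mp (hdiag i φ₀)
  obtain ⟨q, hq, hDq⟩ : ∃ q : ℕ, q ≤ t + 2 ∧ D = N - 2 * q := by
    refine ⟨(univ.filter fun i => b i φ₀ = -1).card, ?_, ?_⟩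
    · exact (Finset.card_le_univ _).trans_eq (Fintype.card_fin _)
    · have hN1 : N = ∑ _i : Fin (t + 2), (1 : ℤ) := by simp [hN]
      rw [hD, hN1]
      simp only [Finset.card_filter, Nat.cast_sum, Finset.mul_sum, ← Finset.sum_sub_distrib]
      refine Finset.sum_congr rfl fun i _ => ?_
      rcases hDb i with h | h <;> simp [h]
  exact orientation_arith ht1 ht3 (show t + 3 ≤ M by omega) hq (by rwa [hDq, hN] at hmain)

theorem apex_mod_four : ∀ f : Fin 4 → Fin 4, (∀ i, f i ≠ i) →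
    (∀ i, f ((Equiv.swap (0 : Fin 4) 1 * Equiv.swap (2 : Fin 4) 3) i) =
      (Equiv.swap (0 : Fin 4) 1 * Equiv.swap (2 : Fin 4) 3) (f i)) →
    (∑ i, ∑ j, if i ≠ j ∧ f i = f j then 1 else 0 : ℕ) % 4 = 0 := by
  decide +kernel

theorem succ_eq_swap_succ {t : ℕ} (a b : Fin (t + 1)) :
    a.succ = Equiv.swap 0 1 b.succ ↔ a = b ∧ a ≠ 0 := by
  induction b using Fin.cases with
  | zero =>
    rw [show (Fin.succ 0 : Fin (t + 2)) = 1 from rfl, Equiv.swap_apply_right]
    exact ⟨fun h => absurd h (Fin.succ_ne_zero a), fun h => absurd h.1 h.2⟩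
  | succ j =>
    rw [Equiv.swap_apply_of_ne_of_ne (Fin.succ_ne_zero _) (by simp [Fin.ext_iff])]
    refine ⟨fun h => ?_, fun h => by rw [h.1]⟩
    rw [Fin.succ_injective _ h]
    exact ⟨rfl, Fin.succ_ne_zero j⟩

/-- The pair sum of a position function. -/
theorem position_pair_sum {t : ℕ} (ht1 : 1 ≤ t) [IsMultiplyPretransitive G α t]
    (V : Cls G α (t + 1) → Fin (t + 1))
    (hV : ∀ (σ : Equiv.Perm (Fin t)) d, V (ext0 σ • d) = ext0 σ (V d)) (T₀ : Fin t ↪ α) :
    ∑ φ : Fin (t + 2) ↪ α, (if V (facetCls G φ 1) = V (facetCls G φ (Equiv.swap 0 1)) ∧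
        V (facetCls G φ 1) ≠ 0 then (1 : ℤ) else 0) =
      (Fintype.card (Fin t ↪ α) : ℤ) * ((t : ℤ) * ((fibCount V (Fin.succ ⟨0, by omega⟩) T₀ : ℤ) *
        ((fibCount V (Fin.succ ⟨0, by omega⟩) T₀ : ℤ) - 1))) := by
  set a := fibCount V (Fin.succ ⟨0, by omega⟩) T₀ with ha
  rw [pair_sum (G := G) (fun c d => if V c = V d ∧ V c ≠ 0 then (1 : ℤ) else 0)]
  rw [Finset.sum_congr rfl (g := fun _ => (t : ℤ) * ((a : ℤ) * ((a : ℤ) - 1))) fun T _ => ?_]
  · rw [Finset.sum_const, Finset.card_univ, nsmul_eq_mul]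
  have hcount : ∀ l : Fin t, fibCount V l.succ T = a := fun l => by
    rw [fibCount_succ_eq V hV l ⟨0, by omega⟩ T, fibCount_const V _ T T₀]
  have hdecomp : ∀ c : Cls G α (t + 1), ∀ d : Cls G α (t + 1),
      (if V c = V d ∧ V c ≠ 0 then (1 : ℤ) else 0) =
        ∑ l : Fin t, (if V c = l.succ then (1 : ℤ) else 0) * if V d = l.succ then 1 else 0 := by
    intro c d
    by_cases h0 : V c = 0
    · rw [if_neg (fun h => h.2 h0), Finset.sum_eq_zero fun l _ => ?_]
      rw [if_neg (fun h => Fin.succ_ne_zero l (h.symm.trans h0)), zero_mul]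
    · obtain ⟨l, hl⟩ := Fin.exists_succ_eq.mpr h0
      rw [Finset.sum_eq_single l]
      · simp [← hl, eq_comm]
      · intro l' _ hne
        rw [if_neg (fun h => hne (Fin.succ_injective _ (h.symm.trans hl.symm))), zero_mul]
      · simp
  have hsum : ∀ l : Fin t, ∑ u ∈ fib T, (if V (cls G u) = l.succ then (1 : ℤ) else 0) = a := by
    intro l
    rw [Finset.sum_boole]
    exact_mod_cast hcount l
  have h1 : ∑ u ∈ fib T, ∑ v ∈ fib T,
      (if V (cls G u) = V (cls G v) ∧ V (cls G u) ≠ 0 then (1 : ℤ) else 0) = t * ((a : ℤ) * a) := by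
    simp only [hdecomp]
    rw [Finset.sum_congr rfl fun u _ => Finset.sum_comm, Finset.sum_comm,
      Finset.sum_congr rfl fun l _ => show _ = (a : ℤ) * a by
        rw [← Finset.sum_mul_sum, hsum l]]
    simp
  have h2 : ∑ u ∈ fib T,
      (if V (cls G u) = V (cls G u) ∧ V (cls G u) ≠ 0 then (1 : ℤ) else 0) = t * (a : ℤ) := by
    rw [Finset.sum_congr rfl fun u _ => hdecomp (cls G u) (cls G u),
      Finset.sum_comm, Finset.sum_congr rfl fun l _ => show _ = (a : ℤ) by
      rw [← hsum l]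
      exact Finset.sum_congr rfl fun u _ => by split_ifs <;> simp]
    simp
  rw [h1, h2]
  ring

/-- No invariant apex on triples. -/
theorem no_apex [IsMultiplyPretransitive G α 2] (hom : Homogeneous.IsHom G α 4)
    (hn : 8 ≤ Fintype.card α) (A : Cls G α 3 → Fin 3)
    (hA : ∀ (σ : Equiv.Perm (Fin 3)) d, A (σ • d) = σ (A d)) (φ₁ : Fin 4 ↪ α) (g₁ : G)
    (hφ₁ : g₁ • φ₁ =
      (Equiv.swap (0 : Fin 4) 1 * Equiv.swap (2 : Fin 4) 3).toEmbedding.trans φ₁) : False := by
  set f : Fin 4 → (Fin 4 ↪ α) → Fin 4 := fun i φ =>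
    Equiv.swap 0 i (A (facetCls G φ (Equiv.swap 0 i))).succ with hf
  have hkey : ∀ (π : Equiv.Perm (Fin 4)) φ,
      π (A (facetCls G φ π)).succ = f (π 0) φ := by
    intro π φ
    obtain ⟨ρ, hρ⟩ := exists_ext0 (π := Equiv.swap 0 (π 0)) (π' := π) (by simp)
    conv_lhs => rw [hρ]
    rw [facetCls_mul_ext0, hA, Equiv.Perm.mul_apply, ext0_succ, hf]
    simp
  have hequiv : ∀ (σ : Equiv.Perm (Fin 4)) i φ,
      σ (f i (σ.toEmbedding.trans φ)) = f (σ i) φ := by
    intro σ i φ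
    have h := hkey (σ * Equiv.swap 0 i) φ
    rw [Equiv.Perm.mul_apply σ, Equiv.Perm.mul_apply σ, Equiv.swap_apply_left] at h
    exact h
  have hne : ∀ i φ, f i φ ≠ i := by
    intro i φ h
    have h' : Equiv.swap 0 i (A (facetCls G φ (Equiv.swap 0 i))).succ = Equiv.swap 0 i 0 := by
      rw [Equiv.swap_apply_left]; exact h
    exact Fin.succ_ne_zero _ ((Equiv.swap (0 : Fin 4) i).injective h')
  have hfG : ∀ (g : G) i φ, f i (g • φ) = f i φ := fun g i φ => by simp only [hf, facetCls_smul]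
  set F : Fin 4 → Fin 4 → (Fin 4 ↪ α) → ℤ := fun i j φ =>
    if i ≠ j ∧ f i φ = f j φ then 1 else 0 with hF
  have hFσ : ∀ (σ : Equiv.Perm (Fin 4)) i j φ,
      F i j (σ.toEmbedding.trans φ) = F (σ i) (σ j) φ := by
    intro σ i j φ
    simp only [hF, ← hequiv]
    exact if_congr (and_congr (not_congr σ.injective.eq_iff.symm) σ.injective.eq_iff.symm) rfl rfl
  have hFG : ∀ (g : G) i j φ, F i j (g • φ) = F i j φ := fun g i j φ => by simp only [hF, hfG]
  have hS : ∀ φ, ∑ i, ∑ j, F i j φ = ∑ i, ∑ j, F i j φ₁ := offdiag_const hom F hFσ hFG φ₁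
  obtain ⟨s, hs⟩ : ∃ s : ℕ, s = ∑ i, ∑ j, if i ≠ j ∧ f i φ₁ = f j φ₁ then 1 else 0 := ⟨_, rfl⟩
  have hs4 : s % 4 = 0 := by
    rw [hs]
    refine apex_mod_four (fun i => f i φ₁) (fun i => hne i φ₁) fun i => ?_
    set z := Equiv.swap (0 : Fin 4) 1 * Equiv.swap (2 : Fin 4) 3 with hz
    have h := hequiv z i φ₁
    rw [← hφ₁, hfG] at h
    exact h.symm
  have hsF : ∑ i, ∑ j, F i j φ₁ = (s : ℤ) := by
    rw [hs]; simp only [hF]; push_cast; rfl
  have htot := sum_offdiag (by norm_num : 2 ≤ 4) F hFσ (fun i φ ψ => by simp [hF]) φ₁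
  obtain ⟨T₀⟩ := Embedding.nonempty_of_card_le (α := Fin 2) (β := α) (by
    rw [Fintype.card_fin]; omega)
  have hAext : ∀ (σ : Equiv.Perm (Fin 2)) d, A (ext0 σ • d) = ext0 σ (A d) := fun σ d => hA _ d
  have hF01 : ∀ φ : Fin 4 ↪ α, F ⟨0, by omega⟩ ⟨1, by omega⟩ φ =
      if A (facetCls G φ 1) = A (facetCls G φ (Equiv.swap 0 1)) ∧ A (facetCls G φ 1) ≠ 0
      then (1 : ℤ) else 0 := by
    intro φ
    simp only [hF]
    refine if_congr ?_ rfl rfl
    have h0 : f 0 φ = (A (facetCls G φ 1)).succ := (hkey 1 φ).symm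
    have h1 : f 1 φ = Equiv.swap 0 1 (A (facetCls G φ (Equiv.swap 0 1))).succ :=
      (hkey (Equiv.swap 0 1) φ).symm.trans (by rfl)
    show ((0 : Fin 4) ≠ 1 ∧ f 0 φ = f 1 φ) ↔ _
    rw [h0, h1, succ_eq_swap_succ]
    simp
  rw [Finset.sum_congr rfl fun φ _ => hS φ, hsF, Finset.sum_const, Finset.card_univ, nsmul_eq_mul,
    Finset.sum_congr rfl fun φ _ => hF01 φ, position_pair_sum (by norm_num) A hAext T₀,
    Finset.sum_eq_zero fun i _ => show F i i φ₁ = 0 by simp [hF], mul_zero, zero_add,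
    card_tuples (t := 3), card_tuples (t := 2)] at htot
  -- the three classes over a pair have equal sizes
  set a := fibCount A (Fin.succ (⟨0, by omega⟩ : Fin 2)) T₀ with ha
  set c := fibCount A 0 T₀ with hc
  have hsum : c + 2 * a = Fintype.card α - 2 := by
    have key : (fib T₀).card = fibCount A 0 T₀ + fibCount A 1 T₀ + fibCount A 2 T₀ := by
      rw [Finset.card_eq_sum_card_fiberwise (f := fun u => A (cls G u))
        (t := (univ : Finset (Fin 3))) (fun u _ => mem_univ _), Fin.sum_univ_three]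
      rfl
    have h1 : fibCount A (2 : Fin 3) T₀ = a :=
      fibCount_succ_eq A hAext 1 ⟨0, by omega⟩ T₀
    have h0 : fibCount A (1 : Fin 3) T₀ = a := rfl
    rw [card_fib, h0, h1] at key
    omega
  have hca : c = a := by
    have hall : ∀ x : Fin 3, (univ.filter fun u : Fin 3 ↪ α => A (cls G u) = x).card =
        Fintype.card (Fin 2 ↪ α) * fibCount A x T₀ := by
      intro x
      rw [Finset.card_eq_sum_card_fiberwise (f := fun u : Fin 3 ↪ α => tail u)
        (t := (univ : Finset (Fin 2 ↪ α))) (fun u _ => mem_univ _),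
        Finset.sum_congr rfl (g := fun _ => fibCount A x T₀) fun T _ => ?_, Finset.sum_const,
        Finset.card_univ, smul_eq_mul]
      rw [← fibCount_const A x T T₀, fibCount, fib, Finset.filter_filter, Finset.filter_filter]
      exact congrArg Finset.card (Finset.filter_congr fun u _ => and_comm)
    have heq : (univ.filter fun u : Fin 3 ↪ α => A (cls G u) = 0).card =
        (univ.filter fun u : Fin 3 ↪ α => A (cls G u) = 1).card := by
      refine card_nbij' (fun u => (Equiv.swap (0 : Fin 3) 1).toEmbedding.trans u)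
        (fun u => (Equiv.swap (0 : Fin 3) 1).toEmbedding.trans u) ?_ ?_ ?_ ?_
      · intro u hu
        simp only [coe_filter, Set.mem_ofPred_eq, mem_univ, true_and] at hu ⊢
        have := hA (Equiv.swap 0 1) (cls G u)
        rw [smul_cls, Equiv.swap_inv, hu] at this
        rw [this]; rfl
      · intro u hu
        simp only [coe_filter, Set.mem_ofPred_eq, mem_univ, true_and] at hu ⊢
        have := hA (Equiv.swap 0 1) (cls G u)
        rw [smul_cls, Equiv.swap_inv, hu] at this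
        rw [this]; rfl
      · intro u _; ext l; simp
      · intro u _; ext l; simp
    rw [hall, hall] at heq
    have h01 : fibCount A (1 : Fin 3) T₀ = a := rfl
    rw [h01] at heq
    exact Nat.eq_of_mul_eq_mul_left
      (Fintype.card_pos_iff.mpr ⟨T₀⟩) heq
  have hTpos : (0 : ℤ) < Fintype.card (Fin 2 ↪ α) := by
    exact_mod_cast Fintype.card_pos_iff.mpr ⟨T₀⟩
  have hmain : (s : ℤ) * (3 * a) * (3 * a - 1) = 12 * (2 * ((a : ℤ) * ((a : ℤ) - 1))) := by
    refine mul_left_cancel₀ hTpos.ne' ?_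
    have e2 : ((Fintype.card α - 2 : ℕ) : ℤ) = 3 * a := by
      rw [show Fintype.card α - 2 = 3 * a by omega]; push_cast; ring
    have e3 : ((Fintype.card α - (2 + 1) : ℕ) : ℤ) = 3 * a - 1 := by
      rw [show Fintype.card α - (2 + 1) = 3 * a - 1 by omega, Nat.cast_sub (by omega)]; push_cast; ring
    rw [e2, e3] at htot
    linear_combination htot
  have ha2 : 2 ≤ a := by omega
  have hlt : s < 3 := by
    by_contra hh
    have h1 : (3 : ℤ) ≤ s := by exact_mod_cast Nat.le_of_not_lt hh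
    have h2 : (2 : ℤ) ≤ a := by exact_mod_cast ha2
    nlinarith [mul_nonneg (sub_nonneg.mpr h1)
      (mul_nonneg (show (0 : ℤ) ≤ 3 * a by omega) (show (0 : ℤ) ≤ 3 * a - 1 by omega))]
  obtain rfl : s = 0 := by omega
  have h2 : (2 : ℤ) ≤ a := by exact_mod_cast ha2
  norm_num at hmain
  rcases hmain with h | h <;> omega

end CfsgLib.SmallGroups.TupleClass
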