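import Mathlib
import Cfsg.Agent.Lib.SmallGroups.HomogeneousStep

/-!
An invariant pairing on four-sets in a 3-transitive, 5-homogeneous group of degree at least 10
forces degree 24 and no transposition on a 5-set.
-/

set_option autoImplicit false

open scoped Pointwise

namespace CfsgLib.SmallGroups.TupleClass

open MulAction Function Finset

theorem stable_pairing : ∀ Z : Equiv.Perm (Fin 5), ∀ i : Fin 5,
    Z i = i → (∀ k, k ≠ i → Z k ≠ k) → (∀ k, Z (Z k) = k) →
    (∀ k, Z (Equiv.swap (3 : Fin 5) 4 k) = Equiv.swap (3 : Fin 5) 4 (Z k)) → i.val < 3 →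
    ∀ j : Fin 5, j.val < 3 → j ≠ i → (Z j).val < 3 ∧ Z j ≠ i ∧ Z j ≠ j := by
  decide +kernel

theorem third_unique : ∀ i j a b : Fin 5, i.val < 3 → j.val < 3 → i ≠ j →
    a.val < 3 → a ≠ i → a ≠ j → b.val < 3 → b ≠ j → b ≠ i → a = b := by
  decide +kernel

variable {G α : Type*} [Group G] [MulAction G α] [Fintype α] [DecidableEq α]

/-- The consequences of an invariant pairing of four-sets. -/
theorem pairing_consequences [IsMultiplyPretransitive G α 3] (hom : Homogeneous.IsHom G α 5)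
    (hn : 10 ≤ Fintype.card α) (P : Cls G α 4 → Equiv.Perm (Fin 4))
    (hP : ∀ (σ : Equiv.Perm (Fin 4)) d, P (σ • d) = σ * P d * σ⁻¹)
    (hPfree : ∀ d i, P d i ≠ i) (hPinv : ∀ d, P d * P d = 1) :
    Fintype.card α = 24 ∧ ∀ (g : G) (φ : Fin 5 ↪ α),
      g • φ ≠ (Equiv.swap (3 : Fin 5) 4).toEmbedding.trans φ := by
  set Z : Fin 5 → (Fin 5 ↪ α) → Equiv.Perm (Fin 5) := fun i φ =>
    Equiv.swap 0 i * ext0 (P (facetCls G φ (Equiv.swap 0 i))) * (Equiv.swap 0 i)⁻¹ with hZ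
  have hkey : ∀ (π : Equiv.Perm (Fin 5)) φ,
      π * ext0 (P (facetCls G φ π)) * π⁻¹ = Z (π 0) φ := by
    intro π φ
    obtain ⟨ρ, hρ⟩ := exists_ext0 (π := Equiv.swap 0 (π 0)) (π' := π) (by simp)
    conv_lhs => rw [hρ]
    rw [facetCls_mul_ext0, hP, hZ, ext0_mul, ext0_mul, inv_inv, ext0_inv]
    group
  have hequiv : ∀ (σ : Equiv.Perm (Fin 5)) i φ j,
      σ (Z i (σ.toEmbedding.trans φ) j) = Z (σ i) φ (σ j) := by
    intro σ i φ j
    have h := hkey (σ * Equiv.swap 0 i) φ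
    rw [Equiv.Perm.mul_apply, Equiv.swap_apply_left] at h
    rw [← h]
    simp only [hZ, facetCls_trans, mul_inv_rev, Equiv.Perm.mul_apply, Equiv.swap_inv]
    rw [show σ⁻¹ (σ j) = j from σ.symm_apply_apply j]
  have hZG : ∀ (g : G) i φ, Z i (g • φ) = Z i φ := fun g i φ => by simp only [hZ, facetCls_smul]
  have hZfix : ∀ i φ, Z i φ i = i := fun i φ => by simp [hZ]
  have hZfree : ∀ i φ k, k ≠ i → Z i φ k ≠ k := by
    intro i φ k hk
    obtain ⟨m, hm⟩ := Fin.exists_succ_eq.mpr (show Equiv.swap 0 i k ≠ 0 by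
      intro e
      exact hk ((Equiv.swap (0 : Fin 5) i).injective (e.trans (Equiv.swap_apply_right 0 i).symm)))
    intro e
    simp only [hZ, Equiv.Perm.mul_apply, Equiv.swap_inv, ← hm, ext0_succ] at e
    have := congrArg (Equiv.swap (0 : Fin 5) i) e
    rw [Equiv.swap_apply_self, ← hm] at this
    exact hPfree _ m (Fin.succ_injective _ this)
  have hZinv : ∀ i φ k, Z i φ (Z i φ k) = k := by
    intro i φ k
    rw [← Equiv.Perm.mul_apply]
    have : Z i φ * Z i φ = 1 := by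
      have h1 : ext0 (1 : Equiv.Perm (Fin 4)) = 1 := by
        ext l
        induction l using Fin.cases <;> simp
      simp only [hZ]
      calc _ = Equiv.swap 0 i * (ext0 (P (facetCls G φ (Equiv.swap 0 i))) *
            ext0 (P (facetCls G φ (Equiv.swap 0 i)))) * (Equiv.swap 0 i)⁻¹ := by group
        _ = 1 := by rw [← ext0_mul, hPinv, h1, mul_one, mul_inv_cancel]
    rw [this, Equiv.Perm.one_apply]
  set F : Fin 5 → Fin 5 → (Fin 5 ↪ α) → ℤ := fun i j φ =>
    if i ≠ j ∧ Z i φ j = Z j φ i then 1 else 0 with hF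
  have hFσ : ∀ (σ : Equiv.Perm (Fin 5)) i j φ,
      F i j (σ.toEmbedding.trans φ) = F (σ i) (σ j) φ := by
    intro σ i j φ
    simp only [hF, ← hequiv]
    exact if_congr (and_congr (not_congr σ.injective.eq_iff.symm) σ.injective.eq_iff.symm) rfl rfl
  have hFG : ∀ (g : G) i j φ, F i j (g • φ) = F i j φ := fun g i j φ => by simp only [hF, hZG]
  obtain ⟨φ₀⟩ := Embedding.nonempty_of_card_le (α := Fin 5) (β := α) (by
    rw [Fintype.card_fin]; omega)
  set s := ∑ i, ∑ j, F i j φ₀ with hs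
  have hS : ∀ φ, ∑ i, ∑ j, F i j φ = s := offdiag_const hom F hFσ hFG φ₀
  have hFd : ∀ i φ, F i i φ = 0 := fun i φ => by simp [hF]
  have hFsymm : ∀ i j, F i j φ₀ = F j i φ₀ := fun i j => by
    simp only [hF]
    exact if_congr ⟨fun h => ⟨h.1.symm, h.2.symm⟩, fun h => ⟨h.1.symm, h.2.symm⟩⟩ rfl rfl
  have heven : ∃ A : ℤ, s = 2 * A := by
    refine ⟨F 0 1 φ₀ + F 0 2 φ₀ + F 0 3 φ₀ + F 0 4 φ₀ + F 1 2 φ₀ + F 1 3 φ₀ + F 1 4 φ₀ +
      F 2 3 φ₀ + F 2 4 φ₀ + F 3 4 φ₀, ?_⟩
    rw [hs]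
    simp only [Fin.sum_univ_five, hFd]
    rw [hFsymm 1 0, hFsymm 2 0, hFsymm 2 1, hFsymm 3 0, hFsymm 3 1, hFsymm 3 2, hFsymm 4 0,
      hFsymm 4 1, hFsymm 4 2, hFsymm 4 3]
    ring
  have hs0 : 0 ≤ s := by
    rw [hs]
    refine Finset.sum_nonneg fun i _ => Finset.sum_nonneg fun j _ => ?_
    simp only [hF]; split_ifs <;> norm_num
  -- the classes over a triple
  have hVext : ∀ (σ : Equiv.Perm (Fin 3)) d,
      (fun d => P d 0) (ext0 σ • d) = ext0 σ ((fun d => P d 0) d) := by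
    intro σ d
    simp only [hP, Equiv.Perm.mul_apply]
    congr 1
  obtain ⟨T₀⟩ := Embedding.nonempty_of_card_le (α := Fin 3) (β := α) (by
    rw [Fintype.card_fin]; omega)
  set a := fibCount (fun d : Cls G α 4 => P d 0) (Fin.succ (⟨0, by omega⟩ : Fin 3)) T₀ with ha
  have hsum : Fintype.card α - 3 = 3 * a := by
    have key : (fib T₀).card = fibCount (fun d : Cls G α 4 => P d 0) 0 T₀ +
        fibCount (fun d : Cls G α 4 => P d 0) 1 T₀ + fibCount (fun d : Cls G α 4 => P d 0) 2 T₀ +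
        fibCount (fun d : Cls G α 4 => P d 0) 3 T₀ := by
      rw [Finset.card_eq_sum_card_fiberwise (f := fun u => P (cls G u) 0)
        (t := (univ : Finset (Fin 4))) (fun u _ => mem_univ _), Fin.sum_univ_four]
      rfl
    have h0 : fibCount (fun d : Cls G α 4 => P d 0) 0 T₀ = 0 := by
      rw [fibCount, Finset.card_eq_zero, Finset.filter_eq_empty_iff]
      exact fun u _ => hPfree _ 0
    have hall : ∀ l : Fin 3, fibCount (fun d : Cls G α 4 => P d 0) l.succ T₀ = a := fun l =>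
      fibCount_succ_eq _ hVext l ⟨0, by omega⟩ T₀
    have h1 := hall 0
    have h2 := hall 1
    have h3 := hall 2
    rw [show (Fin.succ (0 : Fin 3) : Fin 4) = 1 from rfl] at h1
    rw [show (Fin.succ (1 : Fin 3) : Fin 4) = 2 from rfl] at h2
    rw [show (Fin.succ (2 : Fin 3) : Fin 4) = 3 from rfl] at h3
    rw [card_fib, h0, h1, h2, h3] at key
    omega
  have hF01 : ∀ φ : Fin 5 ↪ α, F ⟨0, by omega⟩ ⟨1, by omega⟩ φ =
      if (fun d => P d 0) (facetCls G φ 1) = (fun d => P d 0) (facetCls G φ (Equiv.swap 0 1)) ∧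
        (fun d => P d 0) (facetCls G φ 1) ≠ 0 then (1 : ℤ) else 0 := by
    intro φ
    simp only [hF]
    refine if_congr ?_ rfl rfl
    have h0 : Z 0 φ 1 = (P (facetCls G φ 1) 0).succ := by
      have h := hkey 1 φ
      rw [Equiv.Perm.one_apply] at h
      rw [← h]
      simp only [inv_one, mul_one, one_mul]
      exact ext0_succ _ 0
    have h1 : Z 1 φ 0 = Equiv.swap 0 1 (P (facetCls G φ (Equiv.swap 0 1)) 0).succ := by
      have h := hkey (Equiv.swap 0 1) φ
      rw [Equiv.swap_apply_left] at h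
      rw [← h, Equiv.Perm.mul_apply, Equiv.Perm.mul_apply, Equiv.swap_inv, Equiv.swap_apply_left]
      exact congrArg _ (ext0_succ _ 0)
    show ((0 : Fin 5) ≠ 1 ∧ Z 0 φ 1 = Z 1 φ 0) ↔ _
    rw [h0, h1, succ_eq_swap_succ]
    simp
  have htot := sum_offdiag (by norm_num : 2 ≤ 5) F hFσ (fun i φ ψ => by rw [hFd, hFd]) φ₀
  rw [Finset.sum_congr rfl fun φ _ => hS φ, Finset.sum_const, Finset.card_univ, nsmul_eq_mul,
    Finset.sum_congr rfl fun φ _ => hF01 φ,
    position_pair_sum (by norm_num) (fun d => P d 0) hVext T₀,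
    Finset.sum_eq_zero fun i _ => hFd i φ₀, mul_zero, zero_add,
    card_tuples (t := 4), card_tuples (t := 3)] at htot
  have hTpos : (0 : ℤ) < Fintype.card (Fin 3 ↪ α) := by
    exact_mod_cast Fintype.card_pos_iff.mpr ⟨T₀⟩
  have ha3 : (3 : ℤ) ≤ a := by exact_mod_cast (show 3 ≤ a by omega)
  have hmain : s * (3 * (a : ℤ) - 1) = 20 * ((a : ℤ) - 1) := by
    have hne : (Fintype.card (Fin 3 ↪ α) : ℤ) * (3 * a) ≠ 0 := by positivity
    refine mul_left_cancel₀ hne ?_
    have e2 : ((Fintype.card α - 3 : ℕ) : ℤ) = 3 * a := by rw [hsum]; push_cast; ring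
    have e3 : ((Fintype.card α - (3 + 1) : ℕ) : ℤ) = 3 * a - 1 := by
      rw [show Fintype.card α - (3 + 1) = 3 * a - 1 by omega, Nat.cast_sub (by omega)]; push_cast; ring
    rw [e2, e3] at htot
    linear_combination htot
  obtain ⟨A, hA⟩ := heven
  have hA4 : A < 4 := by
    by_contra hh
    have h8 : (8 : ℤ) ≤ s := by omega
    nlinarith [mul_le_mul_of_nonneg_right h8 (show (0 : ℤ) ≤ 3 * a - 1 by omega)]
  have hA0 : 0 ≤ A := by omega
  have hres : A = 3 ∧ (a : ℤ) = 7 := by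
    rw [hA] at hmain
    have h4 : A = 0 ∨ A = 1 ∨ A = 2 ∨ A = 3 := by omega
    rcases h4 with h | h | h | h <;> rw [h] at hmain <;> omega
  refine ⟨by omega, fun g φ hg => ?_⟩
  -- a transposition gives at least eight agreements
  set w := Equiv.swap (3 : Fin 5) 4 with hw
  have hww : ∀ k, w (w k) = k := fun k => Equiv.swap_apply_self _ _ k
  have hwZ : ∀ i k, w (Z i φ k) = Z (w i) φ (w k) := by
    intro i k
    have h := hequiv w i φ k
    rw [← hg, hZG] at h
    exact h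
  have h8 : ∀ i j : Fin 5, i ≠ j ∧ ((i.val < 3 ∧ j.val < 3) ∨ (3 ≤ i.val ∧ 3 ≤ j.val)) →
      F i j φ = 1 := by
    rintro i j ⟨hij, hc⟩
    simp only [hF]
    refine if_pos ⟨hij, ?_⟩
    rcases hc with ⟨hi, hj⟩ | ⟨hi, hj⟩
    · have hwfix : ∀ l : Fin 5, l.val < 3 → w l = l := fun l hl =>
        Equiv.swap_apply_of_ne_of_ne (fun e => by rw [e] at hl; norm_num at hl)
          (fun e => by rw [e] at hl; norm_num at hl)
      have hst : ∀ l : Fin 5, l.val < 3 → ∀ k : Fin 5, k.val < 3 → k ≠ l →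
          (Z l φ k).val < 3 ∧ Z l φ k ≠ l ∧ Z l φ k ≠ k := fun l hl =>
        stable_pairing (Z l φ) l (hZfix l φ) (hZfree l φ) (hZinv l φ)
          (fun k => by rw [← hw, hwZ l k, hwfix l hl]) hl
      obtain ⟨a1, a2, a3⟩ := hst i hi j hj hij.symm
      obtain ⟨b1, b2, b3⟩ := hst j hj i hi hij
      exact third_unique i j _ _ hi hj hij a1 a2 a3 b1 b2 b3
    · have hij' : w i = j ∧ w j = i := by
        have key : ∀ i j : Fin 5, i ≠ j → 3 ≤ i.val → 3 ≤ j.val →
            Equiv.swap (3 : Fin 5) 4 i = j ∧ Equiv.swap (3 : Fin 5) 4 j = i := by decide +kernel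
        exact key i j hij hi hj
      have h := hwZ i j
      rw [hij'.1, hij'.2] at h
      rw [← h]
      refine (Equiv.swap_apply_of_ne_of_ne ?_ ?_).symm
      all_goals
        intro e
        have key : ∀ i j l : Fin 5, i ≠ j → 3 ≤ i.val → 3 ≤ j.val → 3 ≤ l.val → l = i ∨ l = j := by
          decide +kernel
        rcases key i j (Z i φ j) hij hi hj (by rw [e]; norm_num) with h' | h'
        · exact hij.symm ((Z i φ).injective (h'.trans (hZfix i φ).symm))
        · exact hZfree i φ j hij.symm h'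
  have hge : ∑ i : Fin 5, ∑ j : Fin 5,
      (if i ≠ j ∧ ((i.val < 3 ∧ j.val < 3) ∨ (3 ≤ i.val ∧ 3 ≤ j.val)) then (1 : ℤ) else 0) ≤
      ∑ i, ∑ j, F i j φ := by
    refine Finset.sum_le_sum fun i _ => Finset.sum_le_sum fun j _ => ?_
    split_ifs with h
    · rw [h8 i j h]
    · simp only [hF]; split_ifs <;> norm_num
  rw [hS φ, hA, hres.1] at hge
  simp only [Fin.sum_univ_five, Fin.isValue] at hge
  norm_num [Fin.ext_iff] at hge

end CfsgLib.SmallGroups.TupleClass
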