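import Cfsg.Agent.Lib.SmallGroups.KpAddR

/-!
Main argument for permutation groups of degree `kp + r` that are `(r + 1)`-fold transitive.
-/

set_option autoImplicit false

namespace CfsgLib.SmallGroups.KpAddR

open MulAction Equiv Finset
open scoped commutatorElement

variable {α : Type*} [Fintype α] [DecidableEq α]

/-- `g` induces `σ` on the points `x i`. -/
def Maps {r : ℕ} (x : Fin r ↪ α) (g : Perm α) (σ : Perm (Fin r)) : Prop := ∀ i, g (x i) = x (σ i)

theorem Maps.mul {r : ℕ} {x : Fin r ↪ α} {g h : Perm α} {σ τ : Perm (Fin r)} (hg : Maps x g σ)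
    (hh : Maps x h τ) : Maps x (g * h) (σ * τ) := fun i => by
  rw [Perm.mul_apply, hh i, hg (τ i), Perm.mul_apply]

theorem Maps.inv {r : ℕ} {x : Fin r ↪ α} {g : Perm α} {σ : Perm (Fin r)} (hg : Maps x g σ) :
    Maps x g⁻¹ σ⁻¹ := fun i => by
  have h := hg (σ⁻¹ i)
  rw [show σ (σ⁻¹ i) = i from σ.apply_symm_apply i] at h
  rw [← h]
  exact g.symm_apply_apply _

theorem Maps.comm {r : ℕ} {x : Fin r ↪ α} {g h : Perm α} {σ τ : Perm (Fin r)} (hg : Maps x g σ)
    (hh : Maps x h τ) : Maps x ⁅g, h⁆ ⁅σ, τ⁆ := by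
  rw [commutatorElement_def, commutatorElement_def]
  exact ((hg.mul hh).mul hg.inv).mul hh.inv

theorem Maps.pow {r : ℕ} {x : Fin r ↪ α} {g : Perm α} {σ : Perm (Fin r)} (hg : Maps x g σ) :
    ∀ n : ℕ, Maps x (g ^ n) (σ ^ n)
  | 0 => fun i => by simp
  | n + 1 => by rw [pow_succ, pow_succ]; exact (Maps.pow hg n).mul hg

theorem Maps.ne_one {r : ℕ} {x : Fin r ↪ α} {g : Perm α} {σ : Perm (Fin r)} (hg : Maps x g σ)
    (hσ : σ ≠ 1) : g ≠ 1 := fun e => hσ (Equiv.ext fun i => x.injective (by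
  rw [← hg i, e]; rfl))

theorem Maps.one {r : ℕ} (x : Fin r ↪ α) : Maps x 1 1 := fun _ => rfl

theorem Maps.unique {r : ℕ} {x : Fin r ↪ α} {g : Perm α} {σ τ : Perm (Fin r)} (h₁ : Maps x g σ)
    (h₂ : Maps x g τ) : σ = τ := Equiv.ext fun i => x.injective ((h₁ i).symm.trans (h₂ i))

theorem perm_small_comm {k : ℕ} (hk : k ≤ 2) (a b : Perm (Fin k)) : ⁅a, b⁆ = 1 := by
  rw [commutatorElement_def]
  interval_cases k <;> revert a b <;> decide

theorem perm_three_derived {k : ℕ} (hk : k ≤ 3) (a b c d : Perm (Fin k)) : ⁅⁅a, b⁆, ⁅c, d⁆⁆ = 1 := by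
  have h3 : ∀ a b c d : Perm (Fin 3), ⁅⁅a, b⁆, ⁅c, d⁆⁆ = 1 := by
    have hc : ∀ a b : Perm (Fin 3), a * b * a⁻¹ * b⁻¹ ∈
        ({1, finRotate 3, finRotate 3 * finRotate 3} : Finset (Perm (Fin 3))) := by decide
    intro a b c d
    rw [commutatorElement_eq_one_iff_mul_comm]
    have h₁ := hc a b
    have h₂ := hc c d
    rw [← commutatorElement_def] at h₁ h₂
    simp only [Finset.mem_insert, Finset.mem_singleton] at h₁ h₂
    rcases h₁ with e | e | e <;> rcases h₂ with e' | e' | e' <;> rw [e, e'] <;> simp [mul_assoc]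
  rcases Nat.lt_or_ge k 3 with h | h
  · rw [perm_small_comm (by omega) a b, commutatorElement_one_left]
  · obtain rfl : k = 3 := by omega
    exact h3 a b c d

section Main

variable {G : Subgroup (Perm α)} {p r : ℕ} [hp : Fact p.Prime] {x : Fin r ↪ α} {R : Subgroup (Perm α)}
  (hR : IsPGroup p R) (hD : Data G p r x R)

/-- The orbit of a point. -/
def O (R : Subgroup (Perm α)) (y : α) : Set α := {z | ∃ u ∈ R, u y = z}

omit [Fintype α] [DecidableEq α] in
theorem O_eq {y z : α} (hz : z ∈ O R y) : O R z = O R y := by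
  obtain ⟨u, hu, rfl⟩ := hz
  ext w
  constructor
  · rintro ⟨v, hv, rfl⟩
    exact ⟨v * u, mul_mem hv hu, rfl⟩
  · rintro ⟨v, hv, rfl⟩
    exact ⟨v * u⁻¹, mul_mem hv (inv_mem hu), by simp⟩

omit [Fintype α] [DecidableEq α] in
theorem O_self (y : α) : y ∈ O R y := ⟨1, one_mem _, rfl⟩

include hD in
theorem O_compl {y z : α} (hy : y ∉ Set.range x) (hz : z ∈ O R y) : z ∉ Set.range x := by
  obtain ⟨u, hu, rfl⟩ := hz
  rintro ⟨i, hi⟩
  exact hy ⟨i, u.injective ((hD.fix u hu i).trans hi)⟩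

include hR hD in
theorem orbit_zpowers {u : Perm α} (hu : u ∈ R) {y : α} (hy : y ∉ Set.range x) (hne : u y ≠ y) :
    orbit (Subgroup.zpowers u) y = O R y := by
  have hsub : orbit (Subgroup.zpowers u) y ⊆ O R y := by
    rintro _ ⟨⟨v, hv⟩, rfl⟩
    exact ⟨v, (Subgroup.zpowers_le.2 hu) hv, rfl⟩
  refine Set.eq_of_subset_of_ncard_le hsub ?_ (Set.toFinite _)
  obtain ⟨j, hj⟩ := (hR.to_le (Subgroup.zpowers_le.2 hu)).card_orbit y
  rw [Nat.card_coe_set_eq] at hj
  rw [show (O R y).ncard = p from hD.orbit y hy, hj]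
  refine Nat.le_self_pow ?_ p
  rintro rfl
  obtain ⟨a, ha⟩ := Set.ncard_eq_one.1 (hj.trans (pow_zero p))
  have h1 : y ∈ orbit (Subgroup.zpowers u) y := mem_orbit_self y
  have h2 : u y ∈ orbit (Subgroup.zpowers u) y := ⟨⟨u, Subgroup.mem_zpowers u⟩, rfl⟩
  rw [ha, Set.mem_singleton_iff] at h1 h2
  exact hne (h2.trans h1.symm)

include hR hD in
theorem exists_zpow {u : Perm α} (hu : u ∈ R) {y z : α} (hy : y ∉ Set.range x) (hne : u y ≠ y)
    (hz : z ∈ O R y) : ∃ i : ℤ, (u ^ i) y = z := by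
  rw [← orbit_zpowers hR hD hu hy hne] at hz
  obtain ⟨⟨v, i, rfl⟩, hv⟩ := hz
  exact ⟨i, hv⟩

include hR hD in
theorem fix_spreads {u : Perm α} (hu : u ∈ R) {y : α} (hy : y ∉ Set.range x) (he : u y = y) :
    ∀ z ∈ O R y, u z = z := by
  intro z hz
  by_contra hne
  obtain ⟨i, hi⟩ := exists_zpow hR hD hu (O_compl hD hy hz) hne (O_eq hz ▸ O_self y)
  have h2 := Perm.zpow_apply_eq_self_of_apply_eq_self he i
  have : z = y := (u ^ i).injective (hi.trans h2.symm)
  exact hne (this ▸ he)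

include hR hD in
theorem R_comm {u v : Perm α} (hu : u ∈ R) (hv : v ∈ R) : u * v = v * u := by
  refine Equiv.ext fun y => ?_
  by_cases hy : y ∈ Set.range x
  · obtain ⟨i, rfl⟩ := hy
    simp [hD.fix u hu i, hD.fix v hv i]
  · show u (v y) = v (u y)
    by_cases he : u y = y
    · rw [he, fix_spreads hR hD hu hy he (v y) ⟨v, hv, rfl⟩]
    · obtain ⟨i, hi⟩ := exists_zpow hR hD hu hy he ⟨v, hv, rfl⟩
      have hw : (u ^ i)⁻¹ * v ∈ R := mul_mem (inv_mem (zpow_mem hu i)) hv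
      have h1 := fix_spreads hR hD hw hy (by
        rw [Perm.mul_apply, ← hi]; exact (u ^ i).symm_apply_apply y) (u y) ⟨u, hu, rfl⟩
      rw [Perm.mul_apply] at h1
      have h2 : v (u y) = (u ^ i) (u y) := (Equiv.symm_apply_eq _).1 h1
      rw [h2, ← hi, ← Perm.mul_apply, ← Perm.mul_apply,
        (Commute.refl u).zpow_right i |>.eq]

include hR hD in
theorem pow_prime_fix {u : Perm α} (hu : u ∈ R) {y : α} (hy : y ∉ Set.range x) : (u ^ p) y = y := by
  by_cases he : u y = y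
  · exact Perm.pow_apply_eq_self_of_apply_eq_self he p
  · have hidx : (stabilizer (Subgroup.zpowers u) y).index = p := by
      rw [index_stabilizer, orbit_zpowers hR hD hu hy he]
      exact hD.orbit y hy
    haveI : (stabilizer (Subgroup.zpowers u) y).Normal := Subgroup.normal_of_isMulCommutative _
    have := Subgroup.pow_index_mem (stabilizer (Subgroup.zpowers u) y) ⟨u, Subgroup.mem_zpowers u⟩
    rw [hidx] at this
    exact this

include hR hD in
theorem pow_prime_eq_one {u : Perm α} (hu : u ∈ R) : u ^ p = 1 := by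
  refine Equiv.ext fun y => ?_
  by_cases hy : y ∈ Set.range x
  · obtain ⟨i, rfl⟩ := hy
    exact Perm.pow_apply_eq_self_of_apply_eq_self (hD.fix u hu i) p
  · exact pow_prime_fix hR hD hu hy

/-- The elements of `G` normalizing `R`. -/
def Nm (G R : Subgroup (Perm α)) : Subgroup (Perm α) := G ⊓ Subgroup.normalizer (R : Set (Perm α))

omit [Fintype α] [DecidableEq α] in
theorem image_O {g : Perm α} (hg : g ∈ Nm G R) (y : α) : g '' O R y = O R (g y) := by
  have hn := Subgroup.mem_normalizer_iff.1 hg.2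
  ext z
  constructor
  · rintro ⟨_, ⟨u, hu, rfl⟩, rfl⟩
    exact ⟨g * u * g⁻¹, (hn u).1 hu, by simp⟩
  · rintro ⟨u, hu, rfl⟩
    refine ⟨g⁻¹ (u (g y)), ⟨g⁻¹ * u * g, (hn _).2 ?_, rfl⟩, by simp⟩
    rwa [show g * (g⁻¹ * u * g) * g⁻¹ = u by group]

include hD in
theorem Nm_compl {g : Perm α} (hg : g ∈ Nm G R) {y : α} (hy : y ∉ Set.range x) : g y ∉ Set.range x := by
  rintro ⟨i, hi⟩
  have h1 := hD.orbit y hy
  have h2 : O R (g y) = {g y} := by
    ext z
    refine ⟨?_, fun hz => hz ▸ O_self _⟩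
    rintro ⟨u, hu, rfl⟩
    rw [← hi, hD.fix u hu i]; rfl
  have h3 := congrArg Set.ncard (image_O hg y)
  rw [Set.ncard_image_of_injective _ g.injective, h2, Set.ncard_singleton] at h3
  exact hp.out.ne_one (h1.symm.trans h3)

/-- The set of orbits outside the fixed points. -/
abbrev Orbs (x : Fin r ↪ α) (R : Subgroup (Perm α)) : Type _ :=
  {S : Set α // ∃ y ∉ Set.range x, S = O R y}

noncomputable instance (x : Fin r ↪ α) (R : Subgroup (Perm α)) : Fintype (Orbs x R) :=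
  Fintype.ofFinite {S : Set α // ∃ y ∉ Set.range x, S = O R y}

include hD in
theorem card_orbs {k : ℕ} (hn : Fintype.card α = k * p + r) : Fintype.card (Orbs x R) = k := by
  classical
  let f : {y : α // y ∉ Set.range x} → Orbs x R := fun y => ⟨O R y, y, y.2, rfl⟩
  have hfib : ∀ S : Orbs x R, (Finset.univ.filter fun y => f y = S).card = p := by
    rintro ⟨S, y₀, hy₀, rfl⟩
    have h1 := hD.orbit y₀ hy₀
    rw [← h1, ← Set.ncard_coe_finset]
    refine Set.ncard_congr (fun y _ => (y : α)) ?_ ?_ ?_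
    · intro y hy
      have hyS : O R (y : α) = O R y₀ := congrArg Subtype.val (Finset.mem_filter.1 hy).2
      show (y : α) ∈ O R y₀
      rw [← hyS]
      exact O_self _
    · exact fun a b _ _ e => Subtype.ext e
    · intro z hz
      refine ⟨⟨z, O_compl hD hy₀ hz⟩, ?_, rfl⟩
      simp only [Finset.coe_filter, Finset.mem_univ, true_and, Set.mem_setOf_eq]
      exact Subtype.ext (O_eq hz)
  have h := Finset.card_eq_sum_card_fiberwise (f := f) (s := Finset.univ) (t := Finset.univ)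
    (fun _ _ => Finset.mem_univ _)
  rw [Finset.sum_congr rfl fun S _ => hfib S, Finset.sum_const, smul_eq_mul, Finset.card_univ,
    Finset.card_univ] at h
  have hc : Fintype.card {y : α // y ∉ Set.range x} = k * p := by
    rw [Fintype.card_subtype_compl, hn]
    have : Fintype.card {y : α // y ∈ Set.range x} = r := by
      rw [← Nat.card_eq_fintype_card]
      exact (Nat.card_range_of_injective x.injective).trans (Nat.card_fin r)
    omega
  rw [hc] at h
  exact (Nat.eq_of_mul_eq_mul_right hp.out.pos h).symm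

/-- The action on the orbits. -/
noncomputable def orbHom : Nm G R →* Perm (Orbs x R) where
  toFun g :=
    { toFun := fun S => ⟨(g : Perm α) '' S.1, by
        obtain ⟨y, hy, e⟩ := S.2
        exact ⟨(g : Perm α) y, Nm_compl hD g.2 hy, by rw [e, image_O g.2]⟩⟩
      invFun := fun S => ⟨((g⁻¹ : Nm G R) : Perm α) '' S.1, by
        obtain ⟨y, hy, e⟩ := S.2
        exact ⟨((g⁻¹ : Nm G R) : Perm α) y, Nm_compl hD (g⁻¹).2 hy, by rw [e, image_O (g⁻¹).2]⟩⟩
      left_inv := fun S => Subtype.ext (by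
        show ((g⁻¹ : Nm G R) : Perm α) '' ((g : Perm α) '' S.1) = S.1
        rw [Set.image_image]; simp)
      right_inv := fun S => Subtype.ext (by
        show (g : Perm α) '' (((g⁻¹ : Nm G R) : Perm α) '' S.1) = S.1
        rw [Set.image_image]; simp) }
  map_one' := Equiv.ext fun S => Subtype.ext (Set.image_id _)
  map_mul' g h := Equiv.ext fun S => Subtype.ext (by
    show ((g * h : Nm G R) : Perm α) '' S.1 = (g : Perm α) '' ((h : Perm α) '' S.1)
    rw [Set.image_image]; rfl)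

theorem ker_orbHom {g : Nm G R} (hg : orbHom hD g = 1) {y : α} (hy : y ∉ Set.range x) :
    (g : Perm α) y ∈ O R y := by
  have h1 := congrArg Subtype.val
    (congrArg (fun π : Perm (Orbs x R) => π ⟨O R y, y, hy, rfl⟩) hg)
  have h2 : (g : Perm α) '' O R y = O R y := h1
  exact h2 ▸ ⟨y, O_self y, rfl⟩

include hR hD in
/-- An element fixing the orbit of `y` acts on it by a power map. -/
theorem exists_powOn {g : Perm α} (hg : g ∈ Nm G R) {y : α} (hy : y ∉ Set.range x) (hgy : g y ∈ O R y) :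
    ∃ a : ℤ, ∀ v ∈ R, ∀ z ∈ O R y, (g * v * g⁻¹) z = (v ^ a) z := by
  obtain ⟨z₁, hz₁, hne⟩ : ∃ z₁ ∈ O R y, z₁ ≠ y := by
    refine Set.exists_ne_of_one_lt_ncard ?_ y
    rw [show (O R y).ncard = p from hD.orbit y hy]
    exact hp.out.one_lt
  obtain ⟨u, hu, rfl⟩ := hz₁
  have himg : g '' O R y = O R y := by rw [image_O hg, O_eq hgy]
  have hinv : ∀ z ∈ O R y, g⁻¹ z ∈ O R y := fun z hz => by
    rw [← himg] at hz
    obtain ⟨w, hw, rfl⟩ := hz
    simpa using hw
  have hstable : ∀ v ∈ R, ∀ z ∈ O R y, v z ∈ O R y := fun v hv z hz => O_eq hz ▸ ⟨v, hv, rfl⟩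
  have hcj : g * u * g⁻¹ ∈ R := (Subgroup.mem_normalizer_iff.1 hg.2 u).1 hu
  obtain ⟨a, ha⟩ := exists_zpow hR hD hu hy hne ⟨_, hcj, rfl⟩
  have hag : ∀ z ∈ O R y, (g * u * g⁻¹) z = (u ^ a) z := by
    intro z hz
    have h1 := fix_spreads hR hD (mul_mem (inv_mem (zpow_mem hu a)) hcj) hy (by
      rw [Perm.mul_apply, ← ha]; exact (u ^ a).symm_apply_apply y) z hz
    rw [Perm.mul_apply] at h1
    exact (Equiv.symm_apply_eq _).1 h1
  refine ⟨a, fun v hv z hz => ?_⟩
  obtain ⟨i, hi⟩ := exists_zpow hR hD hu hy hne ⟨v, hv, rfl⟩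
  have hvu : ∀ z ∈ O R y, v z = (u ^ i) z := by
    intro z hz
    have h1 := fix_spreads hR hD (mul_mem (inv_mem (zpow_mem hu i)) hv) hy (by
      rw [Perm.mul_apply, ← hi]; exact (u ^ i).symm_apply_apply y) z hz
    rw [Perm.mul_apply] at h1
    exact (Equiv.symm_apply_eq _).1 h1
  have hiter : ∀ (w w' : Perm α), w' ∈ R → (∀ z ∈ O R y, w z = w' z) →
      ∀ (n : ℤ), ∀ z ∈ O R y, (w ^ n) z = (w' ^ n) z := by
    intro w w' hw' hagree n
    induction n using Int.induction_on with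
    | zero => simp
    | succ n ih =>
      intro z hz
      rw [zpow_add_one, zpow_add_one, Perm.mul_apply, Perm.mul_apply, hagree z hz]
      exact ih _ (hstable w' hw' z hz)
    | pred n ih =>
      intro z hz
      rw [zpow_sub_one, zpow_sub_one, Perm.mul_apply, Perm.mul_apply]
      have hb : w'⁻¹ z ∈ O R y := hstable _ (inv_mem hw') z hz
      have e : w⁻¹ z = w'⁻¹ z := by
        rw [Perm.inv_eq_iff_eq, hagree _ hb]
        exact (w'.apply_symm_apply z).symm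
      rw [e]
      exact ih _ hb
  calc (g * v * g⁻¹) z = g (v (g⁻¹ z)) := rfl
    _ = g ((u ^ i) (g⁻¹ z)) := by rw [hvu _ (hinv z hz)]
    _ = ((g * u * g⁻¹) ^ i) z := by rw [conj_zpow]; rfl
    _ = ((u ^ a) ^ i) z := hiter _ _ (zpow_mem hu a) hag i z hz
    _ = ((u ^ i) ^ a) z := by rw [← zpow_mul, ← zpow_mul, mul_comm]
    _ = (v ^ a) z := (hiter v _ (zpow_mem hu i) hvu a z hz).symm

include hR hD in
theorem conj_comm {g h : Nm G R} (hg : orbHom hD g = 1) (hh : orbHom hD h = 1) {u : Perm α}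
    (hu : u ∈ R) : (g * h : Perm α) * u * ((g : Perm α) * h)⁻¹ = (h * g : Perm α) * u * ((h : Perm α) * g)⁻¹ := by
  have hgR : ∀ v ∈ R, (g : Perm α) * v * (g : Perm α)⁻¹ ∈ R := fun v hv =>
    (Subgroup.mem_normalizer_iff.1 g.2.2 v).1 hv
  have hhR : ∀ v ∈ R, (h : Perm α) * v * (h : Perm α)⁻¹ ∈ R := fun v hv =>
    (Subgroup.mem_normalizer_iff.1 h.2.2 v).1 hv
  have e : ∀ a b : Perm α, a * b * u * (a * b)⁻¹ = a * (b * u * b⁻¹) * a⁻¹ := fun a b => by group
  rw [e, e]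
  refine Equiv.ext fun y => ?_
  by_cases hy : y ∈ Set.range x
  · obtain ⟨i, rfl⟩ := hy
    rw [hD.fix _ (hgR _ (hhR u hu)) i, hD.fix _ (hhR _ (hgR u hu)) i]
  · obtain ⟨a, ha⟩ := exists_powOn hR hD g.2 hy (ker_orbHom hD hg hy)
    obtain ⟨b, hb⟩ := exists_powOn hR hD h.2 hy (ker_orbHom hD hh hy)
    rw [ha _ (hhR u hu) y (O_self y), conj_zpow, hb _ (zpow_mem hu a) y (O_self y),
      hb _ (hgR u hu) y (O_self y), conj_zpow, ha _ (zpow_mem hu b) y (O_self y),
      ← zpow_mul, ← zpow_mul, mul_comm]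

include hR hD in
theorem pow_prime_trans {c : Nm G R} (hc : orbHom hD c = 1)
    (hcu : ∀ u ∈ R, (c : Perm α) * u = u * c) {y : α} (hy : y ∉ Set.range x) :
    ((c : Perm α) ^ p) y = y := by
  obtain ⟨u, hu, huy⟩ := ker_orbHom hD hc hy
  have : ∀ n : ℕ, ((c : Perm α) ^ n) y = (u ^ n) y := by
    intro n
    induction n with
    | zero => rfl
    | succ n ih =>
      rw [pow_succ' (c : Perm α), Perm.mul_apply, ih, ← Perm.mul_apply,
        (Commute.pow_right (hcu u hu) n).eq, Perm.mul_apply, ← huy, ← Perm.mul_apply, ← pow_succ]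
  rw [this, pow_prime_fix hR hD hu hy]

include hR hD in
theorem commutator_trans {c d : Nm G R} (hc : orbHom hD c = 1) (hd : orbHom hD d = 1)
    (hcu : ∀ u ∈ R, (c : Perm α) * u = u * c) (hdu : ∀ u ∈ R, (d : Perm α) * u = u * d)
    {y : α} (hy : y ∉ Set.range x) : ⁅(c : Perm α), (d : Perm α)⁆ y = y := by
  have key : ∀ z, z ∉ Set.range x →
      (c : Perm α) ((d : Perm α) z) = (d : Perm α) ((c : Perm α) z) := by
    intro z hz
    obtain ⟨u, hu, huz⟩ := ker_orbHom hD hc hz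
    obtain ⟨v, hv, hvz⟩ := ker_orbHom hD hd hz
    calc (c : Perm α) ((d : Perm α) z) = ((c : Perm α) * v) z := by rw [Perm.mul_apply, hvz]
      _ = (v * u) z := by rw [hcu v hv, Perm.mul_apply, Perm.mul_apply, huz]
      _ = (u * v) z := by rw [R_comm hR hD hu hv]
      _ = ((d : Perm α) * u) z := by rw [hdu u hu, Perm.mul_apply, Perm.mul_apply, hvz]
      _ = (d : Perm α) ((c : Perm α) z) := by rw [Perm.mul_apply, huz]
  have hy1 : (c : Perm α)⁻¹ ((d : Perm α)⁻¹ y) ∉ Set.range x :=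
    Nm_compl hD (inv_mem c.2) (Nm_compl hD (inv_mem d.2) hy)
  have := key _ hy1
  simp only [commutatorElement_def, Perm.mul_apply]
  rw [this]
  simp

/-- No non-trivial element of `R` moves a single orbit. -/
def NoSingle (x : Fin r ↪ α) (R : Subgroup (Perm α)) : Prop :=
  ∀ u ∈ R, ∀ y, y ∉ Set.range x → (∀ z, z ∉ Set.range x → z ∉ O R y → u z = z) → u = 1

include hR hD in
theorem alternating_of_single (hprim : IsPreprimitive G α) (hn5 : 5 ≤ Fintype.card α)
    (hpn : p + 3 ≤ Fintype.card α) (h : ¬ NoSingle x R) : alternatingGroup α ≤ G := by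
  classical
  rw [NoSingle] at h
  push Not at h
  obtain ⟨u, hu, y, hy, hfix, hu1⟩ := h
  have hsupp : u.support ⊆ (O R y).toFinset := by
    intro z hz
    rw [Set.mem_toFinset]
    by_contra hzO
    by_cases hzx : z ∈ Set.range x
    · obtain ⟨i, rfl⟩ := hzx
      exact Perm.mem_support.1 hz (hD.fix u hu i)
    · exact Perm.mem_support.1 hz (hfix z hzx hzO)
  have hcard : (O R y).toFinset.card = p := by
    rw [← Set.ncard_eq_toFinset_card']; exact hD.orbit y hy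
  have hle := Finset.card_le_card hsupp
  rw [hcard] at hle
  have ho : orderOf u = p := orderOf_eq_prime (pow_prime_eq_one hR hD hu) hu1
  obtain ⟨j, hj⟩ := Perm.cycleType_prime_order (σ := u) (by rw [ho]; exact hp.out)
  rw [ho] at hj
  have hsum := u.sum_cycleType
  rw [hj, Multiset.sum_replicate, smul_eq_mul] at hsum
  have hj0 : j = 0 := by
    by_contra hne
    have : 2 * p ≤ (j + 1) * p := Nat.mul_le_mul_right p (by omega)
    have := hp.out.pos
    omega
  subst hj0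
  have hc : u.IsCycle := by
    rw [← Perm.card_cycleType_eq_one, hj, Multiset.card_replicate]
  exact Cfsg.Agent.S0713.result G hprim hp.out hn5 hpn hc (by omega) (hD.le hu)

include hR hD in
/-- For at most three orbits an element fixing all orbits acts on `R` as a power map. -/
theorem universal_power (hS : Fintype.card (Orbs x R) ≤ 3) (hNS : NoSingle x R) {g : Nm G R}
    (hg : orbHom hD g = 1) :
    ∃ a : ℤ, ∀ v ∈ R, (g : Perm α) * v * (g : Perm α)⁻¹ = v ^ a := by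
  classical
  by_cases hR1 : ∀ v ∈ R, v = 1
  · exact ⟨0, fun v hv => by rw [hR1 v hv]; simp⟩
  push Not at hR1
  obtain ⟨v₀, hv₀, hv₀1⟩ := hR1
  have hgR : ∀ v ∈ R, (g : Perm α) * v * (g : Perm α)⁻¹ ∈ R := fun v hv =>
    (Subgroup.mem_normalizer_iff.1 g.2.2 v).1 hv
  have hd : ∀ (a : ℤ) (v : Perm α), v ∈ R → ∀ z, ((g : Perm α) * v * (g : Perm α)⁻¹) z = (v ^ a) z →
      ((v ^ a)⁻¹ * ((g : Perm α) * v * (g : Perm α)⁻¹)) z = z := by
    intro a v _ z e
    rw [Perm.mul_apply, e]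
    exact (v ^ a).symm_apply_apply z
  have hdR : ∀ (a : ℤ) (v : Perm α), v ∈ R → (v ^ a)⁻¹ * ((g : Perm α) * v * (g : Perm α)⁻¹) ∈ R :=
    fun a v hv => mul_mem (inv_mem (zpow_mem hv a)) (hgR v hv)
  by_cases hinj : ∃ y, y ∉ Set.range x ∧ ∀ u ∈ R, u y = y → u = 1
  · obtain ⟨y, hy, hy'⟩ := hinj
    obtain ⟨a, ha⟩ := exists_powOn hR hD g.2 hy (ker_orbHom hD hg hy)
    exact ⟨a, fun v hv => (inv_mul_eq_one.1
      (hy' _ (hdR a v hv) (hd a v hv y (ha v hv y (O_self y))))).symm⟩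
  push Not at hinj
  obtain ⟨y₂', hy₂', -⟩ : ∃ y, y ∉ Set.range x ∧ v₀ y ≠ y := by
    by_contra hc
    push Not at hc
    refine hv₀1 (Equiv.ext fun z => ?_)
    by_cases hz : z ∈ Set.range x
    · obtain ⟨i, rfl⟩ := hz; exact hD.fix v₀ hv₀ i
    · exact hc z hz
  obtain ⟨u, hu, hu1, hne⟩ := hinj y₂' hy₂'
  -- rename: `u` fixes `y₁`
  let y₁ := y₂'
  have hy₁ : y₁ ∉ Set.range x := hy₂'
  have huy₁ : u y₁ = y₁ := hu1
  obtain ⟨y₂, hy₂, hmv₂⟩ : ∃ y, y ∉ Set.range x ∧ u y ≠ y := by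
    by_contra hc
    push Not at hc
    refine hne (Equiv.ext fun z => ?_)
    by_cases hz : z ∈ Set.range x
    · obtain ⟨i, rfl⟩ := hz; exact hD.fix u hu i
    · exact hc z hz
  obtain ⟨y₃, hy₃, hy₃O, hmv₃⟩ : ∃ y, y ∉ Set.range x ∧ y ∉ O R y₂ ∧ u y ≠ y := by
    by_contra hc
    push Not at hc
    exact hne (hNS u hu y₂ hy₂ hc)
  have hfix₁ := fix_spreads hR hD hu hy₁ huy₁
  have h12 : y₂ ∉ O R y₁ := fun h => hmv₂ (hfix₁ _ h)
  have h13 : y₃ ∉ O R y₁ := fun h => hmv₃ (hfix₁ _ h)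
  have hall : ∀ z, z ∉ Set.range x → z ∈ O R y₁ ∨ z ∈ O R y₂ ∨ z ∈ O R y₃ := by
    intro z hz
    by_contra hc
    push Not at hc
    let s : Finset (Orbs x R) :=
      {⟨O R y₁, y₁, hy₁, rfl⟩, ⟨O R y₂, y₂, hy₂, rfl⟩, ⟨O R y₃, y₃, hy₃, rfl⟩, ⟨O R z, z, hz, rfl⟩}
    have hne' : ∀ {a b : α} (_ : b ∉ O R a) (ha : a ∉ Set.range x) (hb : b ∉ Set.range x),
        (⟨O R a, a, ha, rfl⟩ : Orbs x R) ≠ ⟨O R b, b, hb, rfl⟩ := fun {a b} hab _ _ e => by
      have e' : O R a = O R b := congrArg Subtype.val e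
      exact hab (e' ▸ O_self b)
    have : s.card = 4 := by
      dsimp only [s]
      rw [Finset.card_insert_of_notMem, Finset.card_insert_of_notMem, Finset.card_insert_of_notMem,
        Finset.card_singleton] <;>
        simp only [Finset.mem_insert, Finset.mem_singleton, not_or]
      · exact hne' hc.2.2 hy₃ hz
      · exact ⟨hne' hy₃O hy₂ hy₃, hne' hc.2.1 hy₂ hz⟩
      · exact ⟨hne' h12 hy₁ hy₂, hne' h13 hy₁ hy₃, hne' hc.1 hy₁ hz⟩
    have := Finset.card_le_univ s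
    omega
  obtain ⟨a, ha⟩ := exists_powOn hR hD g.2 hy₂ (ker_orbHom hD hg hy₂)
  obtain ⟨b, hb⟩ := exists_powOn hR hD g.2 hy₁ (ker_orbHom hD hg hy₁)
  obtain ⟨c, hc⟩ := exists_powOn hR hD g.2 hy₃ (ker_orbHom hD hg hy₃)
  have hu3 : (g : Perm α) * u * (g : Perm α)⁻¹ = u ^ a := by
    refine (inv_mul_eq_one.1 (hNS _ (hdR a u hu) y₃ hy₃ fun z hz hz3 => ?_)).symm
    refine hd a u hu z ?_
    rcases hall z hz with h | h | h
    · rw [hb u hu z h, Perm.zpow_apply_eq_self_of_apply_eq_self (hfix₁ z h),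
        Perm.zpow_apply_eq_self_of_apply_eq_self (hfix₁ z h)]
    · exact ha u hu z h
    · exact absurd h hz3
  have hc3 : ∀ v ∈ R, ∀ z ∈ O R y₃, ((g : Perm α) * v * (g : Perm α)⁻¹) z = (v ^ a) z := by
    intro v hv z hz
    obtain ⟨i, hi⟩ := exists_zpow hR hD hu hy₃ hmv₃ ⟨v, hv, rfl⟩
    have e1 := fix_spreads hR hD (mul_mem (inv_mem (zpow_mem hu i)) hv) hy₃ (by
      rw [Perm.mul_apply, ← hi]; exact (u ^ i).symm_apply_apply y₃)
    set w := (u ^ i)⁻¹ * v with hw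
    have hwR : w ∈ R := mul_mem (inv_mem (zpow_mem hu i)) hv
    have hv' : v = u ^ i * w := by rw [hw, mul_inv_cancel_left]
    have hcm : Commute (u ^ i) w := R_comm hR hD (zpow_mem hu i) hwR
    have ecj : (g : Perm α) * v * (g : Perm α)⁻¹ =
        ((g : Perm α) * u ^ i * (g : Perm α)⁻¹) * ((g : Perm α) * w * (g : Perm α)⁻¹) := by
      rw [hv']; group
    rw [ecj, Perm.mul_apply, hc w hwR z hz,
      Perm.zpow_apply_eq_self_of_apply_eq_self (e1 z hz), ← conj_zpow, hu3, hv', hcm.mul_zpow,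
      Perm.mul_apply, Perm.zpow_apply_eq_self_of_apply_eq_self (e1 z hz), ← zpow_mul, ← zpow_mul,
      mul_comm]
  refine ⟨a, fun v hv => (inv_mul_eq_one.1 (hNS _ (hdR a v hv) y₁ hy₁ fun z hz hz1 => ?_)).symm⟩
  refine hd a v hv z ?_
  rcases hall z hz with h | h | h
  · exact absurd h hz1
  · exact ha v hv z h
  · exact hc3 v hv z h

include hD in
theorem exists_lift (σ : Perm (Fin r)) : ∃ g : Nm G R, Maps x (g : Perm α) σ := by
  obtain ⟨g, hg, hgn, hgm⟩ := hD.trans σ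
  exact ⟨⟨g, hg, Subgroup.mem_normalizer_iff.2 hgn⟩, hgm⟩

theorem support_le_of_fix {h : Perm α} {σ : Perm (Fin r)} (hm : Maps x h σ)
    (hfix : ∀ y, y ∉ Set.range x → h y = y) : h.support.card ≤ σ.support.card := by
  rw [← Finset.card_map x]
  refine Finset.card_le_card fun y hy => ?_
  by_cases hyx : y ∈ Set.range x
  · obtain ⟨i, rfl⟩ := hyx
    rw [Finset.mem_map]
    refine ⟨i, Perm.mem_support.2 fun e => Perm.mem_support.1 hy ?_, rfl⟩
    rw [hm i, e]
  · exact absurd (hfix y hyx) (Perm.mem_support.1 hy)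

theorem pow_ne_one_of_prime_order {H : Type*} [Group H] {σ : H} {q : ℕ} (hq : q.Prime)
    (hσ : orderOf σ = q) (hqp : q ≠ p) : σ ^ p ≠ 1 := fun h => by
  have hd := orderOf_dvd_of_pow_eq_one h
  rw [hσ] at hd
  exact hqp ((Nat.prime_dvd_prime_iff_eq hq hp.out).1 hd)

include hR hD in
/-- The argument for few orbits. -/
theorem few_orbits (hS : Fintype.card (Orbs x R) ≤ 3) (hNS : NoSingle x R) {g₀ : Nm G R}
    (hg₀ : orbHom hD g₀ = 1) {σ τ : Perm (Fin r)} (hm : Maps x (g₀ : Perm α) σ)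
    (hne : ⁅τ, σ⁆ ^ p ≠ 1) :
    ∃ h ∈ G, h ≠ 1 ∧ h.support.card ≤ r := by
  obtain ⟨n, hn⟩ := exists_lift hD τ
  obtain ⟨a, ha⟩ := universal_power hR hD hS hNS hg₀
  have hc1 : orbHom hD ⁅n, g₀⁆ = 1 := by rw [map_commutatorElement, hg₀, commutatorElement_one_right]
  have hcu : ∀ u ∈ R, (⁅n, g₀⁆ : Nm G R).1 * u = u * (⁅n, g₀⁆ : Nm G R).1 := by
    intro u hu
    have hn' := Subgroup.mem_normalizer_iff.1 n.2.2
    have hv : (n : Perm α)⁻¹ * u * (n : Perm α) ∈ R := (hn' _).2 (by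
      rwa [show (n : Perm α) * ((n : Perm α)⁻¹ * u * n) * (n : Perm α)⁻¹ = u by group])
    have e2 := ha _ hv
    have e3 : (n : Perm α) * (g₀ : Perm α) * (n : Perm α)⁻¹ * u * ((n : Perm α) * g₀ * (n : Perm α)⁻¹)⁻¹
        = u ^ a := by
      calc (n : Perm α) * (g₀ : Perm α) * (n : Perm α)⁻¹ * u * ((n : Perm α) * g₀ * (n : Perm α)⁻¹)⁻¹
          = (n : Perm α) * ((g₀ : Perm α) * ((n : Perm α)⁻¹ * u * n) * (g₀ : Perm α)⁻¹) * (n : Perm α)⁻¹ := by
            group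
        _ = (n : Perm α) * (((n : Perm α)⁻¹ * u * n) ^ a) * (n : Perm α)⁻¹ := by rw [e2]
        _ = ((n : Perm α) * ((n : Perm α)⁻¹ * u * n) * (n : Perm α)⁻¹) ^ a := (conj_zpow).symm
        _ = u ^ a := by rw [show (n : Perm α) * ((n : Perm α)⁻¹ * u * n) * (n : Perm α)⁻¹ = u by group]
    -- the commutator is a quotient of two elements inducing the same power map
    have hw : (g₀ : Perm α)⁻¹ * u * g₀ ∈ R := (Subgroup.mem_normalizer_iff.1 g₀.2.2 _).2 (by
      rwa [show (g₀ : Perm α) * ((g₀ : Perm α)⁻¹ * u * g₀) * (g₀ : Perm α)⁻¹ = u by group])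
    have e4 : ∀ v ∈ R, ((n : Perm α) * g₀ * (n : Perm α)⁻¹) * v * ((n : Perm α) * g₀ * (n : Perm α)⁻¹)⁻¹ =
        v ^ a := by
      intro v hv'
      have hv2 : (n : Perm α)⁻¹ * v * (n : Perm α) ∈ R := (hn' _).2 (by
        rwa [show (n : Perm α) * ((n : Perm α)⁻¹ * v * n) * (n : Perm α)⁻¹ = v by group])
      calc (n : Perm α) * (g₀ : Perm α) * (n : Perm α)⁻¹ * v * ((n : Perm α) * g₀ * (n : Perm α)⁻¹)⁻¹
          = (n : Perm α) * ((g₀ : Perm α) * ((n : Perm α)⁻¹ * v * n) * (g₀ : Perm α)⁻¹) * (n : Perm α)⁻¹ := by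
            group
        _ = (n : Perm α) * (((n : Perm α)⁻¹ * v * n) ^ a) * (n : Perm α)⁻¹ := by rw [ha _ hv2]
        _ = ((n : Perm α) * ((n : Perm α)⁻¹ * v * n) * (n : Perm α)⁻¹) ^ a := (conj_zpow).symm
        _ = v ^ a := by rw [show (n : Perm α) * ((n : Perm α)⁻¹ * v * n) * (n : Perm α)⁻¹ = v by group]
    have e5 := e4 _ hw
    have e6 := ha _ hw
    rw [show (g₀ : Perm α) * ((g₀ : Perm α)⁻¹ * u * g₀) * (g₀ : Perm α)⁻¹ = u by group] at e6
    rw [← e6] at e5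
    have e7 : (⁅n, g₀⁆ : Nm G R).1 = (n : Perm α) * g₀ * (n : Perm α)⁻¹ * (g₀ : Perm α)⁻¹ := rfl
    rw [e7, ← mul_inv_eq_iff_eq_mul]
    conv_rhs => rw [← e5]
    group
  have hmc : Maps x (⁅n, g₀⁆ : Nm G R).1 ⁅τ, σ⁆ := hn.comm hm
  refine ⟨(⁅n, g₀⁆ : Nm G R).1 ^ p, pow_mem (⁅n, g₀⁆ : Nm G R).2.1 p, (hmc.pow p).ne_one hne, ?_⟩
  refine le_trans (support_le_of_fix (hmc.pow p) fun y hy => pow_prime_trans hR hD hc1 hcu hy) ?_
  exact le_trans (Finset.card_le_univ _) (by rw [Fintype.card_fin])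

include hR hD in
/-- The argument for at least five fixed points. -/
theorem many_points {k : ℕ} (hS : Fintype.card (Orbs x R) = k) (hkr : k < r) (hr : 5 ≤ r) :
    ∃ h ∈ G, h ≠ 1 ∧ h.support.card ≤ 3 := by
  classical
  let M : Subgroup (Perm (Fin r)) :=
    { carrier := {σ | ∃ g : Nm G R, orbHom hD g = 1 ∧ Maps x (g : Perm α) σ}
      one_mem' := ⟨1, map_one _, Maps.one x⟩
      mul_mem' := fun {σ τ} ⟨g, hg, hm⟩ ⟨h, hh, hm'⟩ => ⟨g * h, by rw [map_mul, hg, hh, mul_one], hm.mul hm'⟩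
      inv_mem' := fun {σ} ⟨g, hg, hm⟩ => ⟨g⁻¹, by rw [map_inv, hg, inv_one], hm.inv⟩ }
  haveI : M.Normal := ⟨fun σ ⟨g, hg, hm⟩ τ => by
    obtain ⟨n, hn⟩ := exists_lift hD τ
    exact ⟨n * g * n⁻¹, by rw [map_mul, map_mul, hg, map_inv, mul_one, mul_inv_cancel],
      (hn.mul hm).mul hn.inv⟩⟩
  have hnt : Nontrivial M := by
    rw [Subgroup.nontrivial_iff_ne_bot]
    intro hbot
    choose l hl using fun σ => exists_lift hD σ
    have hinj : Function.Injective fun σ => orbHom hD (l σ) := by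
      intro σ τ e
      dsimp only at e
      have hmem : σ⁻¹ * τ ∈ M := ⟨(l σ)⁻¹ * l τ, by
        rw [map_mul, map_inv, e, inv_mul_cancel], (hl σ).inv.mul (hl τ)⟩
      rw [hbot, Subgroup.mem_bot, inv_mul_eq_one] at hmem
      exact hmem
    have := Fintype.card_le_of_injective _ hinj
    rw [Fintype.card_perm, Fintype.card_perm, hS, Fintype.card_fin] at this
    rcases Nat.eq_zero_or_pos k with hk0 | hk0
    · rw [hk0, Nat.factorial_zero] at this
      have := Nat.factorial_le hr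
      norm_num [Nat.factorial] at this ⊢
      omega
    · exact absurd ((Nat.factorial_lt hk0).2 hkr) (not_lt.2 this)
  have hA : alternatingGroup (Fin r) ≤ M :=
    Perm.alternatingGroup_le_of_normal (by rw [Nat.card_fin]; exact hr) hnt
  let e := Equiv.ofInjective (Fin.castLE hr) (Fin.castLE_injective hr)
  let ι : Perm (Fin 5) →* Perm (Fin r) := Perm.extendDomainHom e
  let c₁ : Perm (Fin 5) := Equiv.swap 0 2 * Equiv.swap 2 3
  let c₂ : Perm (Fin 5) := Equiv.swap 2 3 * Equiv.swap 3 4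
  let c₃ : Perm (Fin 5) := Equiv.swap 0 1 * Equiv.swap 1 4
  let c₄ : Perm (Fin 5) := Equiv.swap 0 3 * Equiv.swap 3 4
  have hfin : Perm.sign c₁ = 1 ∧ Perm.sign c₂ = 1 ∧ Perm.sign c₃ = 1 ∧ Perm.sign c₄ = 1 ∧
      ((c₁ * c₂ * c₁⁻¹ * c₂⁻¹) * (c₃ * c₄ * c₃⁻¹ * c₄⁻¹) * (c₁ * c₂ * c₁⁻¹ * c₂⁻¹)⁻¹ *
        (c₃ * c₄ * c₃⁻¹ * c₄⁻¹)⁻¹).support.card = 3 := by decide +kernel
  obtain ⟨hs1, hs2, hs3, hs4, hs5⟩ := hfin
  have hmem : ∀ c : Perm (Fin 5), Perm.sign c = 1 → ι c ∈ M := fun c hc => hA (by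
    rw [Perm.mem_alternatingGroup]
    exact (Perm.sign_extendDomain c e).trans hc)
  obtain ⟨g₁, hg₁, hm₁⟩ := hmem c₁ hs1
  obtain ⟨g₂, hg₂, hm₂⟩ := hmem c₂ hs2
  obtain ⟨g₃, hg₃, hm₃⟩ := hmem c₃ hs3
  obtain ⟨g₄, hg₄, hm₄⟩ := hmem c₄ hs4
  have hC : ∀ g h : Nm G R, orbHom hD g = 1 → orbHom hD h = 1 →
      ∀ u ∈ R, (⁅g, h⁆ : Nm G R).1 * u = u * (⁅g, h⁆ : Nm G R).1 := by
    intro g h hg hh u hu
    have hv : ((h : Perm α) * g)⁻¹ * u * ((h : Perm α) * g) ∈ R := by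
      refine (Subgroup.mem_normalizer_iff.1 (h * g).2.2 _).2 ?_
      show ((h : Perm α) * g) * _ * ((h : Perm α) * g)⁻¹ ∈ R
      rwa [show ((h : Perm α) * g) * (((h : Perm α) * g)⁻¹ * u * ((h : Perm α) * g)) *
        ((h : Perm α) * g)⁻¹ = u by group]
    have e1 := conj_comm hR hD hg hh hv
    rw [show ((h : Perm α) * g) * (((h : Perm α) * g)⁻¹ * u * ((h : Perm α) * g)) *
      ((h : Perm α) * g)⁻¹ = u by group] at e1
    have e7 : (⁅g, h⁆ : Nm G R).1 = (g : Perm α) * h * (g : Perm α)⁻¹ * (h : Perm α)⁻¹ := rfl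
    rw [e7, ← mul_inv_eq_iff_eq_mul]
    conv_rhs => rw [← e1]
    group
  have hk1 : ∀ g h : Nm G R, orbHom hD g = 1 → orbHom hD h = 1 → orbHom hD ⁅g, h⁆ = 1 := fun g h hg hh => by
    rw [map_commutatorElement, hg, hh, commutatorElement_one_left]
  have hm := (hm₁.comm hm₂).comm (hm₃.comm hm₄)
  have hσ : ⁅⁅ι c₁, ι c₂⁆, ⁅ι c₃, ι c₄⁆⁆.support.card = 3 := by
    rw [← map_commutatorElement ι, ← map_commutatorElement ι, ← map_commutatorElement ι]
    refine (Perm.card_support_extend_domain e).trans ?_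
    simpa only [commutatorElement_def] using hs5
  refine ⟨⁅(⁅g₁, g₂⁆ : Nm G R).1, (⁅g₃, g₄⁆ : Nm G R).1⁆,
    (⁅⁅g₁, g₂⁆, ⁅g₃, g₄⁆⁆ : Nm G R).2.1, hm.ne_one (fun h1 => ?_), ?_⟩
  · rw [h1, Perm.support_one] at hσ
    simp at hσ
  · refine le_trans (support_le_of_fix hm fun y hy => ?_) hσ.le
    exact commutator_trans hR hD (hk1 _ _ hg₁ hg₂) (hk1 _ _ hg₃ hg₄) (hC _ _ hg₁ hg₂) (hC _ _ hg₃ hg₄) hy

end Main

/-- The theorem. -/
theorem main (G : Subgroup (Perm α)) {k p r : ℕ} (hp : p.Prime) (hn : Fintype.card α = k * p + r)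
    (hk : 1 ≤ k) (hpk : k < p) (hrk : k < r) (hex : ¬ (k = 1 ∧ r = 2))
    (hG : IsMultiplyPretransitive G α (r + 1)) : alternatingGroup α ≤ G := by
  classical
  haveI : Fact p.Prime := ⟨hp⟩
  have hr3 : 3 ≤ r := by
    by_contra h
    exact hex ⟨by omega, by omega⟩
  have hp2 := hp.two_le
  have hle : r + 1 ≤ Fintype.card α := by
    have : 1 ≤ k * p := Nat.mul_pos hk hp.pos
    omega
  rcases Nat.lt_or_ge (k * p) 4 with hsmall | hbig
  · haveI := hG
    exact IsMultiplyPretransitive.alternatingGroup_le α G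
      (isMultiplyPretransitive_of_le (n := r + 1) (by rw [Nat.card_eq_fintype_card]; omega)
        (by rw [Nat.card_eq_fintype_card]; omega))
  have hG4 : IsMultiplyPretransitive G α 4 := by
    haveI := hG
    exact isMultiplyPretransitive_of_le (n := r + 1) (by omega) (by rw [Nat.card_eq_fintype_card]; omega)
  have hprim := isPreprimitive_of_isMultiplyPretransitive hG4 (by norm_num) (by omega)
  obtain ⟨x, R, hR, hD⟩ := exists_data hn hk hpk hG
  by_cases hNS : NoSingle x R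
  swap
  · refine alternating_of_single hR hD hprim (by omega) ?_ hNS
    have : p ≤ k * p := Nat.le_mul_of_pos_left p hk
    omega
  have hS := card_orbs hD hn
  rcases Nat.lt_or_ge r 5 with hr5 | hr5
  · have hr34 : r = 3 ∨ r = 4 := by omega
    rcases hr34 with rfl | rfl
    · -- three fixed points
      by_cases hp3 : p = 3
      · subst hp3
        exact degree_nine hG4 (by rw [hn]; interval_cases k <;> omega)
      obtain ⟨n₁, hn₁⟩ := exists_lift hD (Equiv.swap (0 : Fin 3) 1)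
      obtain ⟨n₂, hn₂⟩ := exists_lift hD (Equiv.swap (1 : Fin 3) 2)
      have hk' : orbHom hD ⁅n₁, n₂⁆ = 1 := by
        rw [map_commutatorElement]
        apply (Fintype.equivFinOfCardEq hS).permCongrHom.injective
        rw [map_commutatorElement, map_one]
        exact perm_small_comm (by omega) _ _
      have hne : (⁅Equiv.swap (0 : Fin 3) 1, ⁅Equiv.swap (0 : Fin 3) 1, Equiv.swap (1 : Fin 3) 2⁆⁆) ^ p ≠ 1 := by
        refine pow_ne_one_of_prime_order (q := 3) (by norm_num) (orderOf_eq_prime ?_ ?_) (Ne.symm hp3) <;>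
          simp only [commutatorElement_def] <;> decide +kernel
      obtain ⟨h, hh, h1, hs⟩ :=
        few_orbits hR hD (by omega) hNS hk' (hn₁.comm hn₂) (τ := Equiv.swap (0 : Fin 3) 1) hne
      exact alternatingGroup_le_of_small_support hprim hh h1 hs
    · -- four fixed points
      have hp2' : p ≠ 2 := fun e => by subst e; omega
      have h8 : 8 ≤ Fintype.card α := by omega
      obtain ⟨n₁, hn₁⟩ := exists_lift hD (Equiv.swap (0 : Fin 4) 1)
      obtain ⟨n₂, hn₂⟩ := exists_lift hD (Equiv.swap (1 : Fin 4) 2)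
      obtain ⟨n₃, hn₃⟩ := exists_lift hD (Equiv.swap (1 : Fin 4) 3)
      have hk' : orbHom hD ⁅⁅n₁, n₂⁆, ⁅n₁, n₃⁆⁆ = 1 := by
        rw [map_commutatorElement, map_commutatorElement, map_commutatorElement]
        apply (Fintype.equivFinOfCardEq hS).permCongrHom.injective
        rw [map_commutatorElement, map_commutatorElement, map_commutatorElement, map_one]
        exact perm_three_derived (by omega) _ _ _ _
      have hne : (⁅(Equiv.swap (0 : Fin 4) 1 * Equiv.swap (1 : Fin 4) 2),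
          ⁅⁅Equiv.swap (0 : Fin 4) 1, Equiv.swap (1 : Fin 4) 2⁆,
            ⁅Equiv.swap (0 : Fin 4) 1, Equiv.swap (1 : Fin 4) 3⁆⁆⁆) ^ p ≠ 1 := by
        refine pow_ne_one_of_prime_order (q := 2) (by norm_num) (orderOf_eq_prime ?_ ?_) (Ne.symm hp2') <;>
          simp only [commutatorElement_def] <;> decide +kernel
      obtain ⟨h, hh, h1, hs⟩ :=
        few_orbits hR hD (by omega) hNS hk' ((hn₁.comm hn₂).comm (hn₁.comm hn₃)) hne
      exact alternating_le_of_five hG4 h8 hh h1 (by omega)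
  · obtain ⟨h, hh, h1, hs⟩ := many_points hR hD hS hrk hr5
    exact alternatingGroup_le_of_small_support hprim hh h1 hs

end CfsgLib.SmallGroups.KpAddR
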