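import Cfsg.Agent.Lib.SmallGroups.LinearRegular
import Cfsg.Agent.Lib.Solvable.UniqueSubgroup
import Cfsg.Agent.S0688
import Cfsg.Agent.S0689
import Mathlib

/-!
Normal subgroups of linear groups regular on non-zero vectors: the dimension in the exceptional
case, centralisers of irreducible subgroups, nilpotent normal subgroups of class two.
-/

set_option autoImplicit false

namespace CfsgLib.SmallGroups.LinearRegular

open scoped commutatorElement

variable {p : ℕ} [Fact p.Prime] {V : Type*} [AddCommGroup V] [Module (ZMod p) V] [Finite V]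
  {H : Subgroup (V ≃ₗ[ZMod p] V)}

/-- Without an irreducible cyclic normal subgroup the dimension is two. -/
theorem finrank_eq_two (hreg : ∀ v w : V, v ≠ 0 → w ≠ 0 → ∃! h : H, (h : V ≃ₗ[ZMod p] V) v = w)
    (hI : ∀ A : Subgroup H, A.Normal → IsCyclic A → ∃ W : Submodule (ZMod p) V,
      W ≠ ⊥ ∧ W ≠ ⊤ ∧ ∀ a ∈ A, ∀ v ∈ W, ((a : H) : V ≃ₗ[ZMod p] V) v ∈ W) :
    Module.finrank (ZMod p) V = 2 := by
  have hp : p.Prime := Fact.out
  have hV : Nat.card V = p ^ Module.finrank (ZMod p) V := by
    rw [Module.natCard_eq_pow_finrank (K := ZMod p) (V := V), Nat.card_zmod]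
  have key : ∀ q : ℕ, q.Prime → Nat.card V = q ^ 2 → Module.finrank (ZMod p) V = 2 := by
    intro q hq h
    rw [hV] at h
    have h0 : Module.finrank (ZMod p) V ≠ 0 := fun e => by
      rw [e, pow_zero] at h
      exact absurd h.symm (Nat.one_lt_pow two_ne_zero hq.one_lt).ne'
    have hpq : p = q :=
      (Nat.prime_dvd_prime_iff_eq hp hq).mp (hp.dvd_of_dvd_pow (h ▸ dvd_pow_self p h0))
    subst hpq
    exact Nat.pow_right_injective hp.two_le h
  by_cases hsolv : Group.IsSolvable H
  · rcases Cfsg.Agent.S0688.result H hreg hI hsolv with h | h | h | h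
    · exact key 5 (by norm_num) (by omega)
    · exact key 7 (by norm_num) (by omega)
    · exact key 11 (by norm_num) (by omega)
    · exact key 23 (by norm_num) (by omega)
  · rcases Cfsg.Agent.S0689.result H hreg hsolv with ⟨h, -⟩ | ⟨h, -⟩ | ⟨h, -⟩
    · exact key 11 (by norm_num) (by omega)
    · exact key 29 (by norm_num) (by omega)
    · exact key 59 (by norm_num) (by omega)

variable (hreg : ∀ v w : V, v ≠ 0 → w ≠ 0 → ∃! h : H, (h : V ≃ₗ[ZMod p] V) v = w)

include hreg

/-- Commutative subgroups are cyclic. -/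
theorem isCyclic_of_comm [Nontrivial V] (A : Subgroup H) (hA : IsMulCommutative A) : IsCyclic A := by
  obtain ⟨W, hW, hmin⟩ := wellFounded_lt.has_min
    {W : Submodule (ZMod p) V | W ≠ ⊥ ∧ Inv A W} ⟨⊤, top_ne_bot, fun _ _ _ _ => trivial⟩
  refine isCyclic_of_minimal hreg A hA W hW.1 hW.2 fun W' hle hW'A => ?_
  by_cases h0 : W' = ⊥
  · exact Or.inl h0
  · exact Or.inr ((eq_or_lt_of_le hle).resolve_right fun hlt => hmin W' ⟨h0, hW'A⟩ hlt)

omit hreg in
/-- The centraliser of an irreducible subgroup is commutative. -/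
theorem centralizer_comm [Nontrivial V] (M : Subgroup H)
    (hirr : ∀ W : Submodule (ZMod p) V, Inv M W → W = ⊥ ∨ W = ⊤) :
    IsMulCommutative (Subgroup.centralizer (M : Set H)) := by
  classical
  let ρ : H →* Module.End (ZMod p) V :=
    { toFun := fun x => ((x : V ≃ₗ[ZMod p] V)).toLinearMap
      map_one' := LinearMap.ext fun v => rfl
      map_mul' := fun x y => LinearMap.ext fun v => rfl }
  have hinj : Function.Injective ρ := fun x y h =>
    Subtype.ext (LinearEquiv.toLinearMap_injective h)
  let S : Subalgebra (ZMod p) (Module.End (ZMod p) V) :=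
    Subalgebra.centralizer (ZMod p) (ρ '' (M : Set H))
  haveI : Nontrivial S := ⟨⟨0, 1, fun h => zero_ne_one (α := Module.End (ZMod p) V)
    (congrArg Subtype.val h)⟩⟩
  haveI : Finite (Module.End (ZMod p) V) := Finite.of_injective _ DFunLike.coe_injective
  haveI : NoZeroDivisors S := ⟨fun {r r'} h => by
    by_contra hne
    push Not at hne
    have hker : LinearMap.ker (r : Module.End (ZMod p) V) = ⊥ := by
      refine (hirr _ ?_).resolve_right fun ht => hne.1 (Subtype.ext (LinearMap.ker_eq_top.mp ht))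
      intro a ha v hv
      show (r : Module.End (ZMod p) V) ((ρ a) v) = 0
      have hc := LinearMap.congr_fun (r.2 (ρ a) ⟨a, ha, rfl⟩) v
      simp only [Module.End.mul_apply] at hc
      rw [← hc, show (r : Module.End (ZMod p) V) v = 0 from hv, map_zero]
    refine hne.2 (Subtype.ext (LinearMap.ext fun v => ?_))
    have h1 : (r' : Module.End (ZMod p) V) v ∈ LinearMap.ker (r : Module.End (ZMod p) V) :=
      LinearMap.congr_fun (congrArg Subtype.val h) v
    rw [hker, Submodule.mem_bot] at h1
    exact h1⟩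
  haveI : IsDomain S := NoZeroDivisors.to_isDomain S
  have hmemS : ∀ x ∈ Subgroup.centralizer (M : Set H), ρ x ∈ S := fun x hx => by
    rintro _ ⟨a, ha, rfl⟩
    rw [← map_mul, ← map_mul, Subgroup.mem_centralizer_iff.mp hx a ha]
  refine ⟨⟨fun x y => Subtype.ext (hinj ?_)⟩⟩
  rw [Subgroup.coe_mul, Subgroup.coe_mul, map_mul, map_mul]
  exact congrArg Subtype.val
    ((Finite.isDomain_to_isField S).mul_comm ⟨ρ x, hmemS x x.2⟩ ⟨ρ y, hmemS y y.2⟩)

/-- In dimension two a non-abelian subgroup is irreducible. -/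
theorem irreducible_of_nonabelian (h2 : Module.finrank (ZMod p) V = 2) (N : Subgroup H)
    (hN : ¬ IsMulCommutative N) (W : Submodule (ZMod p) V) (hW : Inv N W) : W = ⊥ ∨ W = ⊤ := by
  by_contra hne
  push Not at hne
  have h1 : Module.finrank (ZMod p) W = 1 := by
    have := Submodule.finrank_lt hne.2
    have h0 : Module.finrank (ZMod p) W ≠ 0 := fun h => hne.1 (Submodule.finrank_eq_zero.mp h)
    omega
  obtain ⟨w, hw0, hspan⟩ := finrank_eq_one_iff'.mp h1
  refine hN ⟨⟨fun x y => ?_⟩⟩
  choose c hc using fun n : N =>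
    hspan ⟨((n : H) : V ≃ₗ[ZMod p] V) w, hW n n.2 w w.2⟩
  have hval : ∀ n : N, ((n : H) : V ≃ₗ[ZMod p] V) w = c n • (w : V) := fun n =>
    (congrArg Subtype.val (hc n)).symm
  have hw : (w : V) ≠ 0 := fun h => hw0 (Subtype.ext h)
  refine Subtype.ext ((hreg w _ hw ?_).unique rfl ?_).symm
  · exact fun h0 => hw (((((y * x : N) : H) : V ≃ₗ[ZMod p] V)).map_eq_zero_iff.mp h0)
  · simp only [Subgroup.coe_mul, LinearEquiv.mul_apply, hval, map_smul, smul_smul, mul_comm]

/-- A non-abelian subgroup of class two all of whose non-abelian characteristic subgroups are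
everything is quaternion of order eight. -/
theorem quaternion_of_class_two [Nontrivial V] (N : Subgroup H) [hNn : N.Normal]
    (hN : ¬ IsMulCommutative N) (hclass : ∀ x y z : N, ⁅x, y⁆ * z = z * ⁅x, y⁆)
    (hmin : ∀ M : Subgroup H, M.Normal → M ≤ N → ¬ IsMulCommutative M → M = N) :
    Nonempty (N ≃* QuaternionGroup 2) := by
  classical
  haveI : Finite (V ≃ₗ[ZMod p] V) := Finite.of_injective _ DFunLike.coe_injective
  haveI := Fact.mk Nat.prime_two
  have hnil : Group.IsNilpotent N := by
    have : IsMulCommutative (N ⧸ Subgroup.center N) := ⟨⟨fun q r => by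
      induction q using QuotientGroup.induction_on with | H x =>
      induction r using QuotientGroup.induction_on with | H y =>
      rw [← QuotientGroup.mk_mul, ← QuotientGroup.mk_mul, QuotientGroup.eq, Subgroup.mem_center_iff]
      intro z
      have h := hclass y⁻¹ x⁻¹ z
      rw [commutatorElement_def, inv_inv, inv_inv] at h
      rw [show (x * y)⁻¹ * (y * x) = y⁻¹ * x⁻¹ * y * x by group]
      exact h.symm⟩⟩
    refine Group.of_quotient_center_nilpotent ?_
    letI : CommGroup (N ⧸ Subgroup.center N) :=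
      { (inferInstance : Group (N ⧸ Subgroup.center N)) with mul_comm := mul_comm' }
    exact CommGroup.isNilpotent
  -- the subgroups of prime order are unique
  have huniq : ∀ (r : ℕ), r.Prime → ∀ R : Subgroup H, IsPGroup r R →
      ∀ x y : R, orderOf x = r → orderOf y = r → x ∈ Subgroup.zpowers y := by
    intro r hr R hR x y hx hy
    haveI := Fact.mk hr
    haveI : Nontrivial R := ⟨⟨x, 1, fun h => by rw [h, orderOf_one] at hx; exact hr.ne_one hx.symm⟩⟩
    haveI := hR.center_nontrivial
    obtain ⟨z, hz⟩ := exists_ne (1 : Subgroup.center R)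
    -- two commuting elements of order `r`
    have key : ∀ u v : R, u * v = v * u → orderOf u = r → orderOf v = r →
        u ∈ Subgroup.zpowers v := by
      intro u v huv hu hv
      let B : Subgroup H := Subgroup.closure {(u : H), (v : H)}
      haveI hB : IsMulCommutative B := Subgroup.isMulCommutative_closure (by
        intro a ha b hb
        rcases ha with rfl | ha <;> rcases hb with rfl | hb
        · rfl
        · rw [Set.mem_singleton_iff] at hb; subst hb; exact congrArg Subtype.val huv
        · rw [Set.mem_singleton_iff] at ha; subst ha; exact (congrArg Subtype.val huv).symm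
        · rw [Set.mem_singleton_iff] at ha hb; subst ha; subst hb; rfl)
      haveI := isCyclic_of_comm hreg B hB
      have huB : (u : H) ∈ B := Subgroup.subset_closure (Set.mem_insert _ _)
      have hvB : (v : H) ∈ B := Subgroup.subset_closure (Set.mem_insert_of_mem _ rfl)
      have h := CfsgLib.Solvable.mem_zpowers_of_isCyclic (x := (⟨u, huB⟩ : B)) (y := (⟨v, hvB⟩ : B))
        (by simp only [Subgroup.orderOf_mk, Subgroup.orderOf_coe, hu, hv])
      obtain ⟨i, hi⟩ := Subgroup.mem_zpowers_iff.mp h
      refine Subgroup.mem_zpowers_iff.mpr ⟨i, Subtype.ext ?_⟩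
      rw [Subgroup.coe_zpow]
      exact congrArg (fun q : B => (q : H)) hi
    obtain ⟨k, hk⟩ := hR (z : R)
    obtain ⟨j, -, hj⟩ := (Nat.dvd_prime_pow hr).mp (orderOf_dvd_of_pow_eq_one hk)
    have hj0 : j ≠ 0 := fun h => by
      rw [h, pow_zero, orderOf_eq_one_iff] at hj
      exact hz (Subtype.ext hj)
    set w := (z : R) ^ (orderOf (z : R) / r) with hw
    have hwo : orderOf w = r :=
      orderOf_pow_orderOf_div (orderOf_pos (z : R)).ne' (hj ▸ dvd_pow_self r hj0)
    have hwc : ∀ g : R, g * w = w * g := fun g => by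
      have h : Commute g (z : R) := Subgroup.mem_center_iff.mp z.2 g
      exact (h.pow_right _).eq
    have hxw := key x w (hwc x) hx hwo
    have hwy := key w y (hwc y).symm hwo hy
    exact (Subgroup.zpowers_le.mpr hwy) hxw
  have hdis : ∀ (r : ℕ), r.Prime → ∀ P : Subgroup N, IsPGroup r P →
      IsCyclic P ∨ r = 2 ∧ ∃ n : ℕ, Nonempty (P ≃* QuaternionGroup (2 ^ n)) := by
    intro r hr P hP
    haveI := Fact.mk hr
    refine CfsgLib.Solvable.isCyclic_or_quaternion hP fun x y hx hy => ?_
    let e := P.equivMapOfInjective _ N.subtype_injective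
    have h := huniq r hr _ (hP.map N.subtype) (e x) (e y) (by rw [MulEquiv.orderOf_eq, hx])
      (by rw [MulEquiv.orderOf_eq, hy])
    obtain ⟨i, hi⟩ := Subgroup.mem_zpowers_iff.mp h
    exact Subgroup.mem_zpowers_iff.mpr ⟨i, e.injective (by rw [map_zpow, hi])⟩
  obtain ⟨T⟩ : Nonempty (Sylow 2 N) := inferInstance
  have hsyl : ∀ (r : ℕ) (_ : Fact r.Prime) (P : Sylow r N), (P : Subgroup N).Normal :=
    (Group.isNilpotent_of_finite_tfae.out 0 3 rfl rfl).mp hnil
  have hTnc : ¬ IsMulCommutative (T : Subgroup N) := by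
    intro hT
    refine hN ⟨⟨fun x y => ?_⟩⟩
    let e := Sylow.directProductOfNormal (G := N) fun {r hr P} => hsyl r hr P
    refine e.symm.injective ?_
    rw [map_mul, map_mul]
    funext q P
    simp only [Pi.mul_apply]
    haveI := Fact.mk (Nat.prime_of_mem_primeFactors q.2)
    rcases hdis q (Nat.prime_of_mem_primeFactors q.2) _ P.2 with h | ⟨h2, -⟩
    · letI := h.commGroup
      exact mul_comm _ _
    · obtain ⟨q, hq⟩ := q
      change q = 2 at h2
      subst h2
      letI := Sylow.unique_of_normal T (hsyl 2 inferInstance T)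
      have hPT : P = T := Subsingleton.elim P T
      exact (show IsMulCommutative (P : Subgroup N) from hPT ▸ hT).is_comm.comm _ _
  haveI := hsyl 2 inferInstance T
  haveI : (T : Subgroup N).Characteristic := Sylow.characteristic_of_normal T inferInstance
  have hTtop : (T : Subgroup N).map N.subtype = N := by
    refine hmin _ inferInstance (Subgroup.map_subtype_le _) fun hc => hTnc ⟨⟨fun x y => ?_⟩⟩
    refine ((T : Subgroup N).equivMapOfInjective _ N.subtype_injective).injective ?_
    rw [map_mul, map_mul]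
    exact hc.is_comm.comm _ _
  rcases hdis 2 Nat.prime_two _ T.2 with h | ⟨-, k, ⟨e⟩⟩
  · exfalso
    letI := h.commGroup
    exact hTnc ⟨⟨mul_comm⟩⟩
  have hTtop' : (T : Subgroup N) = ⊤ := by
    apply Subgroup.map_injective N.subtype_injective
    rw [hTtop, ← MonoidHom.range_eq_map, Subgroup.range_subtype]
  let φ : N ≃* QuaternionGroup (2 ^ k) :=
    (Subgroup.topEquiv.symm.trans (MulEquiv.subgroupCongr hTtop'.symm)).trans e
  rcases (by omega : k = 0 ∨ k = 1 ∨ 2 ≤ k) with hk | hk | hk
  · subst hk
    have hdec : ∀ x y : QuaternionGroup (2 ^ 0), x * y = y * x := by decide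
    exact absurd ⟨⟨fun x y => φ.injective (by rw [map_mul, map_mul, hdec])⟩⟩ hN
  · subst hk
    exact ⟨φ⟩
  · exfalso
    have hcl : ∀ u v : N, u * v * u⁻¹ * v = v * (u * v * u⁻¹) := by
      intro u v
      have h := hclass u v v
      rw [commutatorElement_def, inv_mul_cancel_right] at h
      calc u * v * u⁻¹ * v = v * (u * v * u⁻¹ * v⁻¹) * v := by rw [← h]
        _ = v * (u * v * u⁻¹) := by group
    have h := congrArg φ (hcl (φ.symm (.a 1)) (φ.symm (.xa 0)))
    have hinv : (QuaternionGroup.a 1 : QuaternionGroup (2 ^ k))⁻¹ = QuaternionGroup.a (-1) :=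
      inv_eq_of_mul_eq_one_right (by
        rw [QuaternionGroup.a_mul_a, add_neg_cancel, QuaternionGroup.a_zero])
    simp only [map_mul, map_inv, MulEquiv.apply_symm_apply, hinv, QuaternionGroup.a_mul_xa,
      QuaternionGroup.xa_mul_a, QuaternionGroup.xa_mul_xa, QuaternionGroup.a.injEq] at h
    have h4 : ((4 : ℕ) : ZMod (2 * 2 ^ k)) = 0 := by
      push_cast
      linear_combination h
    rw [ZMod.natCast_eq_zero_iff] at h4
    have h5 : 2 ^ 2 ≤ 2 ^ k := Nat.pow_le_pow_right (by norm_num) hk
    have h6 := Nat.le_of_dvd (by norm_num) h4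
    omega

end CfsgLib.SmallGroups.LinearRegular
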