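import Mathlib

/-!
Normal subgroups of multiply primitive actions: a nontrivial normal subgroup that is not
semiregular is as transitive as the group is primitive, unless the group is the symmetric group.
-/

set_option autoImplicit false

namespace CfsgLib.SmallGroups

open Function MulAction SubMulAction

universe u v

/-- In a faithful primitive action a nontrivial normal subgroup is transitive. -/
theorem isPretransitive_of_normal_ne_bot {G : Type u} {α : Type v} [Group G] [MulAction G α]
    [FaithfulSMul G α] [IsPreprimitive G α] {H : Subgroup G} [H.Normal] (hH : H ≠ ⊥) :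
    IsPretransitive H α := by
  refine IsQuasiPreprimitive.isPretransitive_of_normal fun h => hH ?_
  rw [Subgroup.eq_bot_iff_forall]
  intro g hg
  refine eq_of_smul_eq_smul fun x : α => ?_
  have := Set.eq_univ_iff_forall.mp h x
  rw [MulAction.mem_fixedPoints] at this
  rw [one_smul]
  exact this ⟨g, hg⟩

/-- Transitivity of a subgroup together with multiple transitivity of its point stabiliser. -/
theorem isMultiplyPretransitive_succ_of_stabilizer {G : Type u} {α : Type v} [Group G]
    [MulAction G α] {H : Subgroup G} [IsPretransitive H α] {a : α} {k : ℕ}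
    (h : IsMultiplyPretransitive (H.subgroupOf (stabilizer G a)) (ofStabilizer G a) k) :
    IsMultiplyPretransitive H α (k + 1) := by
  rw [isMultiplyPretransitive_iff] at h ⊢
  intro x y
  obtain ⟨g, hg⟩ := exists_smul_eq H (x 0) a
  obtain ⟨g', hg'⟩ := exists_smul_eq H (y 0) a
  have hne : ∀ (z : Fin (k + 1) ↪ α) (u : H), u • z 0 = a → ∀ i : Fin k,
      u • z i.succ ∈ ofStabilizer G a := by
    intro z u hu i
    rw [mem_ofStabilizer_iff, ← hu]
    exact fun e => Fin.succ_ne_zero i (z.injective (MulAction.injective u e))
  set x' : Fin k ↪ ofStabilizer G a := ⟨fun i => ⟨g • x i.succ, hne x g hg i⟩, fun i j e =>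
    Fin.succ_injective _ (x.injective (MulAction.injective g (congrArg Subtype.val e)))⟩ with hx'
  set y' : Fin k ↪ ofStabilizer G a := ⟨fun i => ⟨g' • y i.succ, hne y g' hg' i⟩, fun i j e =>
    Fin.succ_injective _ (y.injective (MulAction.injective g' (congrArg Subtype.val e)))⟩ with hy'
  obtain ⟨m, hm⟩ := h x' y'
  refine ⟨g'⁻¹ * ⟨((m : stabilizer G a) : G), Subgroup.mem_subgroupOf.mp m.2⟩ * g, ?_⟩
  ext i
  rw [Embedding.smul_apply, mul_smul, mul_smul, inv_smul_eq_iff]
  induction i using Fin.cases with
  | zero =>
    rw [hg, hg', Subgroup.smul_def]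
    exact (m : stabilizer G a).2
  | succ i =>
    exact congrArg Subtype.val (DFunLike.congr_fun hm i)

/-- The action of a point stabiliser on the other points is faithful. -/
theorem faithfulSMul_ofStabilizer {G : Type u} {α : Type v} [Group G] [MulAction G α]
    [FaithfulSMul G α] (a : α) : FaithfulSMul (stabilizer G a) (ofStabilizer G a) := by
  refine ⟨fun {m₁ m₂} h => Subtype.ext (eq_of_smul_eq_smul fun x : α => ?_)⟩
  by_cases hx : x = a
  · rw [hx, mem_stabilizer_iff.mp m₁.2, mem_stabilizer_iff.mp m₂.2]
  · exact congrArg Subtype.val (h ⟨x, hx⟩)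

/-- If the point stabiliser induces every permutation of the other points, then the group
induces every permutation. -/
theorem toPerm_surjective_of_stabilizer {G : Type u} {α : Type v} [Group G] [MulAction G α]
    [IsPretransitive G α] {a : α}
    (h : Surjective (MulAction.toPerm : stabilizer G a → Equiv.Perm (ofStabilizer G a))) :
    Surjective (MulAction.toPerm : G → Equiv.Perm α) := by
  intro σ
  obtain ⟨g, hg⟩ := exists_smul_eq G a (σ a)
  set τ : Equiv.Perm α := (MulAction.toPerm g)⁻¹ * σ with hτ
  have hτv : ∀ x, τ x = g⁻¹ • σ x := fun x => rfl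
  have hτa : τ a = a := by rw [hτv, ← hg, inv_smul_smul]
  have hmem : ∀ x, τ x ∈ ofStabilizer G a ↔ x ∈ ofStabilizer G a := by
    intro x
    rw [mem_ofStabilizer_iff, mem_ofStabilizer_iff]
    exact not_congr ⟨fun e => τ.injective (e.trans hτa.symm), fun e => by rw [e, hτa]⟩
  obtain ⟨m, hm⟩ := h (τ.subtypePerm (p := fun x => x ∈ ofStabilizer G a) hmem)
  refine ⟨g * m, Equiv.ext fun x => ?_⟩
  rw [MulAction.toPerm_apply, mul_smul]
  suffices ((m : G) • x) = τ x by rw [this, hτv, smul_inv_smul]
  by_cases hx : x = a
  · rw [hx, hτa]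
    exact m.2
  · exact congrArg Subtype.val (Equiv.congr_fun hm ⟨x, hx⟩)

/-- A multiply transitive action of degree at most one more induces every permutation. -/
theorem toPerm_surjective_of_isMultiplyPretransitive {G : Type u} {α : Type v} [Group G]
    [MulAction G α] [Finite α] (h : IsMultiplyPretransitive G α (Nat.card α - 1)) :
    Surjective (MulAction.toPerm : G → Equiv.Perm α) := by
  have hr : IsMultiplyPretransitive (MulAction.toPermHom G α).range α (Nat.card α - 1) := by
    rw [isMultiplyPretransitive_iff] at h ⊢
    intro x y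
    obtain ⟨g, hg⟩ := h x y
    exact ⟨⟨MulAction.toPermHom G α g, g, rfl⟩, hg⟩
  have := Equiv.Perm.eq_top_of_isMultiplyPretransitive hr
  exact MonoidHom.range_eq_top.mp this

/-- The inductive statement: a nontrivial, non-semiregular normal subgroup of a `k`-primitive
faithful action, not inducing the full symmetric group, is `k`-transitive. -/
theorem isMultiplyPretransitive_of_normal :
    ∀ (k : ℕ) {G : Type u} {α : Type v} [Group G] [MulAction G α] [FaithfulSMul G α] [Finite α],
      k ≤ Nat.card α → IsMultiplyPreprimitive G α k →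
      ¬ Surjective (MulAction.toPerm : G → Equiv.Perm α) →
      ∀ H : Subgroup G, H.Normal → H ≠ ⊥ → (∃ a : α, stabilizer H a ≠ ⊥) →
        IsMultiplyPretransitive H α k := by
  intro k
  induction k with
  | zero => intros; exact is_zero_pretransitive
  | succ k ih =>
    intro G α _ _ _ _ hcard hG hsurj H hHn hH hnr
    haveI := hHn
    haveI : IsPreprimitive G α := (is_one_preprimitive_iff G α).mp
      (isMultiplyPreprimitive_of_le G α hG (Nat.succ_le_succ (Nat.zero_le k))
        (by rw [ENat.card_eq_coe_natCard]; exact_mod_cast hcard))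
    haveI : IsPretransitive H α := isPretransitive_of_normal_ne_bot hH
    obtain ⟨a₀, ha₀⟩ := hnr
    rcases Nat.eq_zero_or_pos k with rfl | hk
    · exact is_one_pretransitive_iff.mpr inferInstance
    have hrest : ∀ a : α, k ≤ Nat.card (ofStabilizer G a) := fun a => by
      have := nat_card_ofStabilizer_add_one_eq (G := G) a
      omega
    have hprim : ∀ a : α, IsMultiplyPreprimitive (stabilizer G a) (ofStabilizer G a) k := fun a =>
      haveI : IsMultiplyPreprimitive G α k.succ := hG
      isMultiplyPreprimitive_ofStabilizer G α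
    -- the stabilisers in `H` are nontrivial
    have hHa : ∀ a : α, H.subgroupOf (stabilizer G a) ≠ ⊥ := by
      intro a he
      obtain ⟨g, hg⟩ := exists_smul_eq H a a₀
      apply ha₀
      rw [Subgroup.eq_bot_iff_forall]
      intro u hu
      have hua : ((g⁻¹ * u * g : H) : G) ∈ stabilizer G a := by
        show (g⁻¹ * u * g : H) • a = a
        rw [mul_smul, mul_smul, hg, mem_stabilizer_iff.mp hu, ← hg, inv_smul_smul]
      have h1 : (⟨_, hua⟩ : stabilizer G a) = 1 :=
        Subgroup.eq_bot_iff_forall _ |>.mp he _ (Subgroup.mem_subgroupOf.mpr (g⁻¹ * u * g : H).2)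
      have h3 : ((g⁻¹ * u * g : H) : G) = 1 := congrArg Subtype.val h1
      have h2 : g⁻¹ * u * g = 1 := Subtype.ext h3
      calc u = g * (g⁻¹ * u * g) * g⁻¹ := by group
        _ = 1 := by rw [h2, mul_one, mul_inv_cancel]
    by_cases hA : ∃ (a : α) (b : ofStabilizer G a),
        stabilizer (H.subgroupOf (stabilizer G a)) b ≠ ⊥
    · obtain ⟨a, hb⟩ := hA
      haveI := faithfulSMul_ofStabilizer (G := G) a
      exact isMultiplyPretransitive_succ_of_stabilizer
        (ih (hrest a) (hprim a) (fun h => hsurj (toPerm_surjective_of_stabilizer h))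
          (H.subgroupOf (stabilizer G a)) inferInstance (hHa a) hb)
    push Not at hA
    -- every stabiliser in `H` is semiregular on the other points
    have hsemi : ∀ g ∈ H, ∀ a b : α, b ≠ a → g • a = a → g • b = b → g = 1 := by
      intro g hg a b hba ha hb
      have hmem : (⟨⟨g, ha⟩, Subgroup.mem_subgroupOf.mpr hg⟩ : H.subgroupOf (stabilizer G a)) ∈
          stabilizer (H.subgroupOf (stabilizer G a)) (⟨b, hba⟩ : ofStabilizer G a) :=
        Subtype.ext hb
      rw [hA a ⟨b, hba⟩, Subgroup.mem_bot] at hmem
      exact congrArg (fun z : H.subgroupOf (stabilizer G a) => ((z : stabilizer G a) : G)) hmem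
    have htrans : ∀ a : α,
        IsPretransitive (H.subgroupOf (stabilizer G a)) (ofStabilizer G a) := by
      intro a
      haveI := faithfulSMul_ofStabilizer (G := G) a
      haveI : IsPreprimitive (stabilizer G a) (ofStabilizer G a) :=
        (is_one_preprimitive_iff _ _).mp (isMultiplyPreprimitive_of_le _ _ (hprim a) hk
          (by rw [ENat.card_eq_coe_natCard]; exact_mod_cast hrest a))
      exact isPretransitive_of_normal_ne_bot (hHa a)
    rcases Nat.eq_or_lt_of_le hk with hk1 | hk2
    · subst hk1
      exact isMultiplyPretransitive_succ_of_stabilizer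
        (a := a₀) (is_one_pretransitive_iff.mpr (htrans a₀))
    exfalso
    -- small degree forces the symmetric group
    have h5 : 5 ≤ Nat.card α := by
      by_contra hlt
      refine hsurj (toPerm_surjective_of_isMultiplyPretransitive ?_)
      haveI : IsMultiplyPretransitive G α (k + 1) := hG.isMultiplyPretransitive
      exact isMultiplyPretransitive_of_le (n := k + 1) (by omega) hcard
    -- every element of `H` fixing a point squares to one
    have hexp : ∀ a : α, ∀ g ∈ H, g • a = a → g * g = 1 := by
      intro a g hg hga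
      by_cases hg1 : g = 1
      · rw [hg1, one_mul]
      haveI : Nontrivial α := Finite.one_lt_card_iff_nontrivial.mp (by omega)
      obtain ⟨b, hba⟩ := exists_ne a
      let a' : ofStabilizer G a := ⟨b, hba⟩
      haveI : IsMultiplyPreprimitive (stabilizer G a) (ofStabilizer G a) (Nat.succ 1) :=
        isMultiplyPreprimitive_of_le _ _ (hprim a) hk2
          (by rw [ENat.card_eq_coe_natCard]; exact_mod_cast hrest a)
      haveI : IsPretransitive (stabilizer G a) (ofStabilizer G a) :=
        ⟨fun x y => (htrans a).exists_smul_eq x y |>.elim fun m hm => ⟨m, hm⟩⟩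
      haveI : IsPreprimitive (stabilizer (stabilizer G a) a')
          (ofStabilizer (stabilizer G a) a') :=
        (is_one_preprimitive_iff _ _).mp
          (isMultiplyPreprimitive_ofStabilizer (stabilizer G a) (ofStabilizer G a))
      have hga' : g⁻¹ • a = a := inv_smul_eq_iff.mpr hga.symm
      set c₁ := g • b with hc₁
      set c₂ := g⁻¹ • b with hc₂
      have hc₁a : c₁ ≠ a := fun e => hba (MulAction.injective g (e.trans hga.symm))
      have hc₁b : c₁ ≠ b := fun e => hg1 (hsemi g hg a b hba hga e)
      let B : Set (ofStabilizer (stabilizer G a) a') :=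
        {x | ((x : ofStabilizer G a) : α) = c₁ ∨ ((x : ofStabilizer G a) : α) = c₂}
      have hB : IsBlock (stabilizer (stabilizer G a) a') B := by
        rw [isBlock_iff_smul_eq_of_mem]
        intro m x hx hmx
        set h : G := ((m : stabilizer G a) : G) with hh
        have hha : h • a = a := (m : stabilizer G a).2
        have hhb : h • b = b := congrArg Subtype.val m.2
        have hha' : h⁻¹ • a = a := inv_smul_eq_iff.mpr hha.symm
        have hhb' : h⁻¹ • b = b := inv_smul_eq_iff.mpr hhb.symm
        have hconj : ∀ u : G, (h * u * h⁻¹) • b = h • u • b := fun u => by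
          rw [mul_smul, mul_smul, hhb']
        -- equal images of `b` under elements of `H` fixing `a` come from equal elements
        have huniq : ∀ u ∈ H, ∀ w ∈ H, u • a = a → w • a = a → u • b = w • b → u = w := by
          intro u hu w hw hua hwa huw
          refine (inv_mul_eq_one.mp ?_).symm
          exact hsemi _ (H.mul_mem (H.inv_mem hw) hu) a b hba
            (by rw [mul_smul, hua, inv_smul_eq_iff.mpr hwa.symm])
            (by rw [mul_smul, huw, inv_smul_smul])
        have hgH : h * g * h⁻¹ ∈ H := hHn.conj_mem g hg h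
        have hga2 : (h * g * h⁻¹) • a = a := by rw [mul_smul, mul_smul, hha', hga, hha]
        have hga3 : (h * g * h⁻¹)⁻¹ • a = a := inv_smul_eq_iff.mpr hga2.symm
        have hhc₁ : h • c₁ = (h * g * h⁻¹) • b := (hconj g).symm
        have hhc₂ : h • c₂ = (h * g * h⁻¹)⁻¹ • b := by
          rw [show (h * g * h⁻¹)⁻¹ = h * g⁻¹ * h⁻¹ by group, hconj]
        have key : h * g * h⁻¹ = g ∨ h * g * h⁻¹ = g⁻¹ := by
          rcases hx with hx | hx <;> rcases hmx with hmx | hmx <;>
            (change h • ((x : ofStabilizer G a) : α) = _ at hmx; rw [hx] at hmx)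
          · exact Or.inl (huniq _ hgH _ hg hga2 hga (hhc₁.symm.trans hmx))
          · exact Or.inr (huniq _ hgH _ (H.inv_mem hg) hga2 hga' (hhc₁.symm.trans hmx))
          · exact Or.inr (inv_eq_iff_eq_inv.mp
              (huniq _ (H.inv_mem hgH) _ hg hga3 hga (hhc₂.symm.trans hmx)))
          · exact Or.inl (inv_injective
              (huniq _ (H.inv_mem hgH) _ (H.inv_mem hg) hga3 hga' (hhc₂.symm.trans hmx)))
        refine Set.eq_of_subset_of_ncard_le ?_ (le_of_eq ?_) (Set.toFinite _)
        · rintro _ ⟨y, hy, rfl⟩
          change h • ((y : ofStabilizer G a) : α) = c₁ ∨ h • ((y : ofStabilizer G a) : α) = c₂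
          rcases hy with hy | hy <;> rw [hy] <;> rcases key with hkey | hkey
          · exact Or.inl (by rw [hhc₁, hkey])
          · exact Or.inr (by rw [hhc₁, hkey])
          · exact Or.inr (by rw [hhc₂, hkey])
          · exact Or.inl (by rw [hhc₂, hkey, inv_inv])
        · rw [← Set.image_smul, Set.ncard_image_of_injective _ (MulAction.injective m)]
      rcases IsPreprimitive.isTrivialBlock_of_isBlock hB with hs | hu
      · -- `c₁ = c₂`
        have hc₂a : c₂ ≠ a := fun e => hba (MulAction.injective g⁻¹ (e.trans hga'.symm))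
        have hc₂b : c₂ ≠ b := fun e => hc₁b (by
          calc c₁ = g • c₂ := by rw [e]
            _ = b := smul_inv_smul g b)
        have hh : c₁ = c₂ := congrArg (fun z : ofStabilizer (stabilizer G a) a' =>
          ((z : ofStabilizer G a) : α))
          (hs (x := ⟨⟨c₁, hc₁a⟩, fun e => hc₁b (congrArg Subtype.val e)⟩) (Or.inl rfl)
            (y := ⟨⟨c₂, hc₂a⟩, fun e => hc₂b (congrArg Subtype.val e)⟩) (Or.inr rfl))
        refine hsemi _ (H.mul_mem hg hg) a b hba (by rw [mul_smul, hga, hga]) ?_
        rw [mul_smul, ← hc₁, hh, hc₂, smul_inv_smul]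
      · -- at most four points
        exfalso
        classical
        cases nonempty_fintype α
        have hsub : (Finset.univ : Finset α) ⊆ {a, b, c₁, c₂} := by
          intro x _
          simp only [Finset.mem_insert, Finset.mem_singleton]
          by_cases hxa : x = a
          · exact Or.inl hxa
          by_cases hxb : x = b
          · exact Or.inr (Or.inl hxb)
          rcases Set.eq_univ_iff_forall.mp hu
            ⟨⟨x, hxa⟩, fun e => hxb (congrArg Subtype.val e)⟩ with h | h
          · exact Or.inr (Or.inr (Or.inl h))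
          · exact Or.inr (Or.inr (Or.inr h))
        have hle := (Finset.card_le_card hsub).trans Finset.card_le_four
        rw [Finset.card_univ, ← Nat.card_eq_fintype_card] at hle
        omega
    cases nonempty_fintype α
    obtain ⟨e⟩ := Embedding.nonempty_of_card_le (α := Fin 4) (β := α) (by
      rw [Fintype.card_fin, ← Nat.card_eq_fintype_card]; omega)
    have swap : ∀ a x y : α, x ≠ a → y ≠ a →
        ∃ u ∈ H, u • a = a ∧ u • x = y ∧ u • y = x := by
      intro a x y hx hy
      obtain ⟨⟨⟨u, hua⟩, hu⟩, huxy⟩ := (htrans a).exists_smul_eq ⟨x, hx⟩ ⟨y, hy⟩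
      have hxy : u • x = y := congrArg Subtype.val huxy
      have h2 : (u * u) • x = x := by
        rw [hexp a u (Subgroup.mem_subgroupOf.mp hu) hua, one_smul]
      exact ⟨u, Subgroup.mem_subgroupOf.mp hu, hua, hxy, by rw [← hxy, ← mul_smul, h2]⟩
    have hne : ∀ i j : Fin 4, i ≠ j → e i ≠ e j := fun i j h => fun c => h (e.injective c)
    obtain ⟨u, hu, hua, hux, huy⟩ :=
      swap (e 2) (e 0) (e 1) (hne _ _ (by decide)) (hne _ _ (by decide))
    obtain ⟨w, hw, hwa, hwx, hwy⟩ :=
      swap (e 3) (e 0) (e 1) (hne _ _ (by decide)) (hne _ _ (by decide))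
    have huw : w⁻¹ * u = 1 := by
      refine hsemi _ (H.mul_mem (H.inv_mem hw) hu) (e 0) (e 1) (hne _ _ (by decide)) ?_ ?_
      · rw [mul_smul, hux, ← hwx, inv_smul_smul]
      · rw [mul_smul, huy, ← hwy, inv_smul_smul]
    rw [inv_mul_eq_one.mp huw] at hwa
    have := hsemi u hu (e 2) (e 3) (hne _ _ (by decide)) hua hwa
    rw [this, one_smul] at hux
    exact hne 0 1 (by decide) hux

end CfsgLib.SmallGroups
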