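import Mathlib
import Cfsg.Agent.Lib.SmallGroups.GenerousSet
import Cfsg.Agent.Lib.Solvable.CoprimeAction

/-!
A `t`-transitive group, `t ≥ 4`, in which no odd permutation is induced on any `(t + 1)`-set has
degree at most `t + 2`.
-/

set_option autoImplicit false

open scoped Pointwise

namespace CfsgLib.SmallGroups.TupleClass

open MulAction Function

universe u

/-- No odd permutation is induced on a `k`-set. -/
def NoOdd (G α : Type*) [Group G] [MulAction G α] (k : ℕ) : Prop :=
  ∀ (g : G) (t : Fin k ↪ α) (σ : Equiv.Perm (Fin k)),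
    (∀ i, g • t i = t (σ i)) → Equiv.Perm.sign σ = 1

section Core

variable {G α : Type*} [Group G] [MulAction G α] [Finite α] [Finite G]

omit [Finite G] [Finite α] in
theorem tuple4 {p q r s : α} (h1 : p ≠ q) (h2 : p ≠ r) (h3 : p ≠ s) (h4 : q ≠ r) (h5 : q ≠ s)
    (h6 : r ≠ s) : ∃ u : Fin 4 ↪ α, u 0 = p ∧ u 1 = q ∧ u 2 = r ∧ u 3 = s := by
  refine ⟨⟨![p, q, r, s], ?_⟩, rfl, rfl, rfl, rfl⟩
  intro i j h
  fin_cases i <;> fin_cases j <;> first
    | rfl
    | exact absurd h h1 | exact absurd h h1.symm
    | exact absurd h h2 | exact absurd h h2.symm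
    | exact absurd h h3 | exact absurd h h3.symm
    | exact absurd h h4 | exact absurd h h4.symm
    | exact absurd h h5 | exact absurd h h5.symm
    | exact absurd h h6 | exact absurd h h6.symm

omit [Finite G] [Finite α] in
theorem ext_tuple4 (g : G) (u v : Fin 4 ↪ α) (e0 : g • u 0 = v 0) (e1 : g • u 1 = v 1)
    (e2 : g • u 2 = v 2) (e3 : g • u 3 = v 3) : g • u = v := by
  ext i
  fin_cases i <;> assumption

omit [Finite G] [Finite α] in
/-- No element interchanges two points fixing three others. -/
theorem NoOdd.no_swap (hno : NoOdd G α 5) {g : G} {c d : α} (e : Fin 3 ↪ α) (hcd : c ≠ d)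
    (hc : ∀ i, e i ≠ c) (hd : ∀ i, e i ≠ d) (h1 : g • c = d) (h2 : g • d = c)
    (h3 : ∀ i, g • e i = e i) : False := by
  have hinj : Injective (Fin.cons c (Fin.cons d e : Fin 4 → α) : Fin 5 → α) := by
    refine Fin.cons_injective_iff.mpr ⟨?_, Fin.cons_injective_iff.mpr ⟨?_, e.injective⟩⟩
    · rintro ⟨i, hi⟩
      induction i using Fin.cases with
      | zero => exact hcd hi.symm
      | succ j => exact hc j hi
    · rintro ⟨i, hi⟩; exact hd i hi
  have h := hno g ⟨_, hinj⟩ (Equiv.swap 0 1) (fun i => by
    show g • (Fin.cons c (Fin.cons d e : Fin 4 → α) : Fin 5 → α) i = _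
    induction i using Fin.cases with
    | zero => rw [Equiv.swap_apply_left]; exact h1
    | succ j =>
      induction j using Fin.cases with
      | zero => rw [show (Fin.succ 0 : Fin 5) = 1 from rfl, Equiv.swap_apply_right]; exact h2
      | succ l =>
        rw [Equiv.swap_apply_of_ne_of_ne (a := (0 : Fin 5)) (b := 1) (Fin.succ_ne_zero _)
          (fun h => Fin.succ_ne_zero l
            (Fin.succ_injective _ (h.trans (rfl : (1 : Fin 5) = Fin.succ 0))))]
        exact h3 l)
  rw [Equiv.Perm.sign_swap (by decide)] at h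
  exact absurd h (by decide)

/-- An involution fixes at most two points. -/
theorem NoOdd.card_fixed_le_two [FaithfulSMul G α] (hno : NoOdd G α 5) {g : G} (hg : g * g = 1)
    (hg1 : g ≠ 1) : Nat.card {a : α // g • a = a} ≤ 2 := by
  by_contra hlt
  cases nonempty_fintype α
  classical
  obtain ⟨e⟩ := Embedding.nonempty_of_card_le (α := Fin 3) (β := {a : α // g • a = a}) (by
    rw [Fintype.card_fin, ← Nat.card_eq_fintype_card]; omega)
  obtain ⟨c, hc⟩ : ∃ c : α, g • c ≠ c := by
    by_contra hall
    push Not at hall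
    exact hg1 (eq_of_smul_eq_smul fun a : α => by rw [one_smul]; exact hall a)
  refine hno.no_swap (g := g) (c := c) (d := g • c) (e.trans (Embedding.subtype _)) hc.symm
    (fun i h => ?_) (fun i h => ?_) rfl (by rw [← mul_smul, hg, one_smul]) fun i => (e i).2
  · have := (e i).2
    rw [show ((e i : α)) = c from h] at this
    exact hc this
  · have := (e i).2
    rw [show ((e i : α)) = g • c from h, ← mul_smul, hg, one_smul] at this
    exact hc this.symm

variable (hno : NoOdd G α 5) [FaithfulSMul G α] [IsMultiplyPretransitive G α 4]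

include hno

theorem odd_card_stabilizer (x : Fin 4 ↪ α) : Odd (Nat.card (stabilizer G x)) := by
  rw [← Nat.not_even_iff_odd]
  intro hev
  haveI := Fact.mk Nat.prime_two
  obtain ⟨⟨z, hz⟩, hz2⟩ := exists_prime_orderOf_dvd_card' (G := stabilizer G x) 2
    (even_iff_two_dvd.mp hev)
  rw [Subgroup.orderOf_mk] at hz2
  have h1 : z * z = 1 := by rw [← pow_two, ← hz2, pow_orderOf_eq_one]
  have h2 : z ≠ 1 := fun e => by rw [e, orderOf_one] at hz2; omega
  have h3 : Nat.card (Fin 4) ≤ Nat.card {a : α // z • a = a} :=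
    Nat.card_le_card_of_injective (fun i => ⟨x i, DFunLike.congr_fun (mem_stabilizer_iff.mp hz) i⟩)
      fun i j e => x.injective (congrArg Subtype.val e)
  have := hno.card_fixed_le_two h1 h2
  rw [Nat.card_fin] at h3
  omega

omit hno [FaithfulSMul G α] in
theorem card_stabilizer_eq (x u : Fin 4 ↪ α) :
    Nat.card (stabilizer G u) = Nat.card (stabilizer G x) := by
  obtain ⟨g, rfl⟩ := exists_smul_eq G x u
  rw [stabilizer_smul_eq_stabilizer_map_conj]
  exact Subgroup.card_map_of_injective (MulEquiv.injective _)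

theorem exists_involution (u v : Fin 4 ↪ α) {g : G} (huv : g • u = v) (hvu : g • v = u) :
    (g ^ Nat.card (stabilizer G u)) * (g ^ Nat.card (stabilizer G u)) = 1 ∧
      g ^ Nat.card (stabilizer G u) • u = v := by
  have hgg : g * g ∈ stabilizer G u := by rw [mem_stabilizer_iff, mul_smul, huv, hvu]
  set N := Nat.card (stabilizer G u) with hN
  have hord : (g * g) ^ N = 1 :=
    congrArg Subtype.val (pow_card_eq_one' (x := (⟨g * g, hgg⟩ : stabilizer G u)))
  refine ⟨by rw [← pow_add, ← two_mul, pow_mul, pow_two, hord], ?_⟩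
  obtain ⟨m, hm⟩ := odd_card_stabilizer hno u
  have h2 : (g * g) ^ m • u = u := mem_stabilizer_iff.mp (pow_mem hgg m)
  rw [hN, hm, pow_succ', pow_mul, pow_two, mul_smul, h2, huv]

/-- The configuration attached to an involution `τ = (a b)(c)(d)…`: for an outer point `e` an
involution commuting with `τ`, fixing `a, b`, interchanging `c, d` and mapping `e` to `τ e`. -/
theorem exists_partner {x : Fin 4 ↪ α} {τ : G} (hττ : τ * τ = 1) (h0 : τ • x 0 = x 1)
    (h1 : τ • x 1 = x 0) (h2 : τ • x 2 = x 2) (h3 : τ • x 3 = x 3) {e : α}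
    (he : ∀ i, e ≠ x i) :
    ∃ g : G, g * g = 1 ∧ g * τ = τ * g ∧ g • x 0 = x 0 ∧ g • x 1 = x 1 ∧ g • x 2 = x 3 ∧
      g • x 3 = x 2 ∧ g • e = τ • e ∧ τ • e ≠ e := by
  classical
  cases nonempty_fintype α
  cases nonempty_fintype G
  have hxne : ∀ i j : Fin 4, i ≠ j → x i ≠ x j := fun i j hij h => hij (x.injective h)
  have hτ1 : τ ≠ 1 := fun h => by rw [h, one_smul] at h0; exact hxne 0 1 (by decide) h0
  have hfix : ∀ p, τ • p = p → p = x 2 ∨ p = x 3 := by
    intro p hp
    by_contra hcon
    push Not at hcon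
    have hle := hno.card_fixed_le_two hττ hτ1
    rw [Nat.card_eq_fintype_card, Fintype.card_subtype] at hle
    have hsub : ({p, x 2, x 3} : Finset α) ⊆ Finset.univ.filter fun q : α => τ • q = q := by
      intro q hq
      simp only [Finset.mem_insert, Finset.mem_singleton] at hq
      simp only [Finset.mem_filter, Finset.mem_univ, true_and]
      rcases hq with rfl | rfl | rfl <;> assumption
    have h3' : ({p, x 2, x 3} : Finset α).card = 3 :=
      Finset.card_eq_three.mpr ⟨_, _, _, hcon.1, hcon.2, hxne 2 3 (by decide), rfl⟩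
    have := Finset.card_le_card hsub
    omega
  have hte : τ • e ≠ e := fun h => (hfix e h).elim (he 2) (he 3)
  set f := τ • e with hf
  have htf : τ • f = e := by rw [hf, ← mul_smul, hττ, one_smul]
  have hfa : f ≠ x 0 := fun h => he 1 (MulAction.injective τ (h.trans h1.symm))
  have hfb : f ≠ x 1 := fun h => he 0 (MulAction.injective τ (h.trans h0.symm))
  have hab := hxne 0 1 (by decide)
  obtain ⟨u, hu0, hu1, hu2, hu3⟩ :=
    tuple4 hab (Ne.symm (he 0)) (Ne.symm hfa) (Ne.symm (he 1)) (Ne.symm hfb) hte.symm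
  obtain ⟨u', hu0', hu1', hu2', hu3'⟩ :=
    tuple4 hab (Ne.symm hfa) (Ne.symm (he 0)) (Ne.symm hfb) (Ne.symm (he 1)) hte
  set S : Set G := {g | g • u = u'}
  have hτinv : τ⁻¹ = τ := inv_eq_of_mul_eq_one_right hττ
  have hSodd : Odd (Nat.card S) := by
    obtain ⟨g₀, hg₀⟩ := exists_smul_eq G u u'
    have : Nat.card S = Nat.card (stabilizer G u) := by
      subst hg₀
      exact card_fibre u g₀
    rw [this]
    exact odd_card_stabilizer hno u
  have app : ∀ {g : G} {u v : Fin 4 ↪ α}, g • u = v → ∀ i, g • u i = v i :=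
    fun h i => DFunLike.congr_fun h i
  obtain ⟨g, hg, hgt⟩ := exists_commute_of_odd hSodd hττ (by
    intro g hg
    have g0 := app hg 0; have g1 := app hg 1; have g2 := app hg 2; have g3 := app hg 3
    rw [hu0, hu0'] at g0; rw [hu1, hu1'] at g1; rw [hu2, hu2'] at g2; rw [hu3, hu3'] at g3
    refine ext_tuple4 _ u u' ?_ ?_ ?_ ?_
    · rw [hu0, hu0', hτinv, mul_smul, mul_smul, h0, g1, h1]
    · rw [hu1, hu1', hτinv, mul_smul, mul_smul, h1, g0, h0]
    · rw [hu2, hu2', hτinv, mul_smul, mul_smul, ← hf, g3, ← hf]
    · rw [hu3, hu3', hτinv, mul_smul, mul_smul, htf, g2, htf])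
  have g0 := app hg 0; have g1 := app hg 1; have g2 := app hg 2; have g3 := app hg 3
  rw [hu0, hu0'] at g0; rw [hu1, hu1'] at g1; rw [hu2, hu2'] at g2; rw [hu3, hu3'] at g3
  obtain ⟨hgg, hgu⟩ := exists_involution hno u u' hg (ext_tuple4 g u' u (by rw [hu0', hu0, g0])
    (by rw [hu1', hu1, g1]) (by rw [hu2', hu2, g3]) (by rw [hu3', hu3, g2]))
  set h := g ^ Nat.card (stabilizer G u) with hh
  have k0 : h • x 0 = x 0 := by have := app hgu 0; rwa [hu0, hu0'] at this
  have k1 : h • x 1 = x 1 := by have := app hgu 1; rwa [hu1, hu1'] at this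
  have ke : h • e = f := by have := app hgu 2; rwa [hu2, hu2'] at this
  have hcomm : h * τ = τ * h := ((show Commute g τ from hgt.symm).pow_left _).eq
  have hh1 : h ≠ 1 := fun e1 => by rw [e1, one_smul] at ke; exact hte ke.symm
  have hperm : ∀ i : Fin 4, τ • x i = x i → h • x i = x 2 ∨ h • x i = x 3 := fun i hi =>
    hfix _ (by rw [← mul_smul, ← hcomm, mul_smul, hi])
  have hno3 : ∀ i : Fin 4, i ≠ 0 → i ≠ 1 → h • x i ≠ x i := by
    intro i i0 i1 hi
    have hle := hno.card_fixed_le_two hgg hh1
    rw [Nat.card_eq_fintype_card, Fintype.card_subtype] at hle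
    have hsub : ({x 0, x 1, x i} : Finset α) ⊆ Finset.univ.filter fun q : α => h • q = q := by
      intro q hq
      simp only [Finset.mem_insert, Finset.mem_singleton] at hq
      simp only [Finset.mem_filter, Finset.mem_univ, true_and]
      rcases hq with rfl | rfl | rfl <;> assumption
    have h3' : ({x 0, x 1, x i} : Finset α).card = 3 :=
      Finset.card_eq_three.mpr ⟨_, _, _, hab, hxne 0 i i0.symm, hxne 1 i i1.symm, rfl⟩
    have := Finset.card_le_card hsub
    omega
  refine ⟨h, hgg, hcomm, k0, k1, ?_, ?_, ke, hte⟩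
  · exact (hperm 2 h2).resolve_left (hno3 2 (by decide) (by decide))
  · exact (hperm 3 h3).resolve_right (hno3 3 (by decide) (by decide))

/-- The centraliser of `τ` in the stabiliser of the four points. -/
def cen (τ : G) (x : Fin 4 ↪ α) : Subgroup G := stabilizer G x ⊓ Subgroup.centralizer {τ}

theorem orbit_facts {x : Fin 4 ↪ α} {τ : G} (hττ : τ * τ = 1) (h0 : τ • x 0 = x 1)
    (h1 : τ • x 1 = x 0) (h2 : τ • x 2 = x 2) (h3 : τ • x 3 = x 3) {e : α}
    (he : ∀ i, e ≠ x i) :
    (∀ e' : α, (∀ i, e' ≠ x i) → ∃ k ∈ cen τ x, k • e = e' ∨ k • e = τ • e') ∧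
      (∀ h : stabilizer G x, (h : G) • e ≠ τ • e) ∧
      ∀ e' : α, e' ∈ orbit (stabilizer G x) e → ∃ k ∈ cen τ x, k • e = e' := by
  classical
  cases nonempty_fintype α
  have app : ∀ {g : G} {u v : Fin 4 ↪ α}, g • u = v → ∀ i, g • u i = v i :=
    fun h i => DFunLike.congr_fun h i
  have hxne : ∀ i j : Fin 4, i ≠ j → x i ≠ x j := fun i j hij h => hij (x.injective h)
  have hpart2 : ∀ h : stabilizer G x, (h : G) • e ≠ τ • e := by
    intro h he'
    have hh : ∀ i, (h : G) • x i = x i := app h.2
    have hinj : Injective ![x 2, x 3, e] := by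
      intro i j hij
      fin_cases i <;> fin_cases j <;> first
        | rfl
        | exact absurd hij (hxne 2 3 (by decide))
        | exact absurd hij (hxne 3 2 (by decide))
        | exact absurd hij (he 2)
        | exact absurd hij.symm (he 2)
        | exact absurd hij (he 3)
        | exact absurd hij.symm (he 3)
    refine hno.no_swap (g := τ * h) (c := x 0) (d := x 1) ⟨_, hinj⟩ (hxne 0 1 (by decide)) ?_ ?_
      (by rw [mul_smul, hh, h0]) (by rw [mul_smul, hh, h1]) ?_
    · intro i
      fin_cases i
      · exact hxne 2 0 (by decide)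
      · exact hxne 3 0 (by decide)
      · exact he 0
    · intro i
      fin_cases i
      · exact hxne 2 1 (by decide)
      · exact hxne 3 1 (by decide)
      · exact he 1
    · intro i
      fin_cases i
      · show (τ * (h : G)) • x 2 = x 2
        rw [mul_smul, hh, h2]
      · show (τ * (h : G)) • x 3 = x 3
        rw [mul_smul, hh, h3]
      · show (τ * (h : G)) • e = e
        rw [mul_smul, he', ← mul_smul, hττ, one_smul]
  obtain ⟨α₀, ha, hat, ha0, ha1, ha2, ha3, hae, hte⟩ :=
    exists_partner hno hττ h0 h1 h2 h3 he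
  have hpart1 : ∀ e' : α, (∀ i, e' ≠ x i) → ∃ k ∈ cen τ x, k • e = e' ∨ k • e = τ • e' := by
    intro e' he'
    obtain ⟨α₁, hb, hbt, hb0, hb1, hb2, hb3, hbe, hte'⟩ :=
      exists_partner hno hττ h0 h1 h2 h3 he'
    set u := α₀ * α₁ with hu
    have hux : u ∈ stabilizer G x := mem_stabilizer_iff.mpr (ext_tuple4 _ x x
      (by rw [hu, mul_smul, hb0, ha0]) (by rw [hu, mul_smul, hb1, ha1])
      (by rw [hu, mul_smul, hb2, ha3]) (by rw [hu, mul_smul, hb3, ha2]))
    have huc : u ∈ Subgroup.centralizer ({τ} : Set G) := by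
      rw [Subgroup.mem_centralizer_singleton_iff, hu]
      calc α₀ * α₁ * τ = α₀ * (α₁ * τ) := mul_assoc _ _ _
        _ = α₀ * τ * α₁ := by rw [hbt, mul_assoc]
        _ = τ * (α₀ * α₁) := by rw [hat, mul_assoc]
    obtain ⟨l, hl⟩ : Odd (orderOf u) := by
      refine (odd_card_stabilizer hno x).of_dvd_nat ?_
      rw [← Subgroup.orderOf_mk u hux]
      exact orderOf_dvd_natCard _
    set k := u ^ l with hk
    refine ⟨k, ⟨pow_mem hux l, pow_mem huc l⟩, ?_⟩
    -- `k` conjugates `α₀` to `α₁`
    have hflip : α₀ * u ^ l * α₀ = (u ^ l)⁻¹ := by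
      have h1' : α₀ * u * α₀⁻¹ = u⁻¹ := by
        rw [hu, mul_inv_rev, inv_eq_of_mul_eq_one_right ha, inv_eq_of_mul_eq_one_right hb,
          ← mul_assoc, ha, one_mul]
      rw [← inv_pow, ← h1', conj_pow, inv_eq_of_mul_eq_one_right ha]
    have hconj : α₁ * k = k * α₀ := by
      have h2' : α₁ = α₀ * u := by rw [hu, ← mul_assoc, ha, one_mul]
      have h3' : u * u ^ l * u ^ l = 1 := by
        have := pow_orderOf_eq_one u
        rwa [hl, pow_succ', two_mul, pow_add, ← mul_assoc] at this
      have h4' : (u ^ l)⁻¹ = u * u ^ l := (eq_inv_of_mul_eq_one_left h3').symm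
      calc α₁ * k = α₀ * (u * u ^ l) := by rw [hk, h2', mul_assoc]
        _ = α₀ * (u ^ l)⁻¹ := by rw [h4']
        _ = α₀ * (α₀ * u ^ l * α₀) := by rw [hflip]
        _ = k * α₀ := by rw [hk, ← mul_assoc, ← mul_assoc, ha, one_mul]
    have hkτ : k * τ = τ * k := Subgroup.mem_centralizer_singleton_iff.mp (pow_mem huc l)
    have hkfix : (τ * α₁) • k • e = k • e := by
      rw [← mul_smul, mul_assoc, hconj, ← mul_assoc, ← hkτ, mul_assoc, mul_smul, mul_smul τ α₀ e,
        hae, ← mul_smul τ τ e, hττ, one_smul]
    -- the fixed points of `τ α₁`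
    have hβ2 : (τ * α₁) * (τ * α₁) = 1 := by
      calc τ * α₁ * (τ * α₁) = τ * (α₁ * τ) * α₁ := by group
        _ = (τ * τ) * (α₁ * α₁) := by rw [hbt]; group
        _ = 1 := by rw [hττ, hb, one_mul]
    have hβ1 : τ * α₁ ≠ 1 := fun h => by
      have h' : (τ * α₁) • x 0 = (1 : G) • x 0 := by rw [h]
      rw [mul_smul, hb0, h0, one_smul] at h'
      exact hxne 1 0 (by decide) h'
    by_contra hcon
    push Not at hcon
    have hle := hno.card_fixed_le_two hβ2 hβ1
    rw [Nat.card_eq_fintype_card, Fintype.card_subtype] at hle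
    have hfe : (τ * α₁) • e' = e' := by rw [mul_smul, hbe, ← mul_smul, hττ, one_smul]
    have hff : (τ * α₁) • τ • e' = τ • e' := by
      rw [← mul_smul, mul_assoc, hbt, ← mul_assoc, hττ, one_mul, hbe]
    have hsub : ({k • e, e', τ • e'} : Finset α) ⊆
        Finset.univ.filter fun q : α => (τ * α₁) • q = q := by
      intro q hq
      simp only [Finset.mem_insert, Finset.mem_singleton] at hq
      simp only [Finset.mem_filter, Finset.mem_univ, true_and]
      rcases hq with rfl | rfl | rfl <;> assumption
    have h3' : ({k • e, e', τ • e'} : Finset α).card = 3 :=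
      Finset.card_eq_three.mpr ⟨_, _, _, hcon.1, hcon.2, Ne.symm hte', rfl⟩
    have := Finset.card_le_card hsub
    omega
  refine ⟨hpart1, hpart2, ?_⟩
  rintro _ ⟨h, rfl⟩
  have he' : ∀ i, (h : G) • e ≠ x i := fun i hi => he i
    (MulAction.injective (h : G) (hi.trans (app h.2 i).symm))
  obtain ⟨k, hk, hke | hke⟩ := hpart1 _ he'
  · exact ⟨k, hk, hke⟩
  · exfalso
    have hkx : k • x = x := hk.1
    have hkτ : k * τ = τ * k := Subgroup.mem_centralizer_singleton_iff.mp hk.2
    -- then an element of the stabiliser maps `e` to `τ e`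
    refine hpart2 ⟨(k : G)⁻¹ * h, mem_stabilizer_iff.mpr (by
      rw [mul_smul, show (h : G) • x = x from h.2, inv_smul_eq_iff, hkx])⟩ ?_
    show ((k : G)⁻¹ * h) • e = τ • e
    rw [mul_smul, inv_smul_eq_iff, ← mul_smul, hkτ, mul_smul, hke, ← mul_smul τ τ, hττ, one_smul]

end Core

/-- The four-transitive case. -/
theorem card_le_six : ∀ (n : ℕ) {α : Type u} [Fintype α], Fintype.card α = n →
    ∀ G : Subgroup (Equiv.Perm α), IsMultiplyPretransitive G α 4 → NoOdd G α 5 → n ≤ 6 := by
  intro n
  induction n using Nat.strong_induction_on with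
  | _ n ih =>
    intro α _ hα G ht hno
    by_contra hn
    classical
    haveI := ht
    haveI : FaithfulSMul G α := ⟨fun {g₁ g₂} h => Subtype.ext (Equiv.ext h)⟩
    have hnc : Nat.card α = n := by rw [Nat.card_eq_fintype_card, hα]
    obtain ⟨x⟩ := Embedding.nonempty_of_card_le (α := Fin 4) (β := α) (by
      rw [Fintype.card_fin]; omega)
    have app : ∀ {g : G} {u v : Fin 4 ↪ α}, g • u = v → ∀ i, g • u i = v i :=
      fun h i => DFunLike.congr_fun h i
    have hxne : ∀ i j : Fin 4, i ≠ j → x i ≠ x j := fun i j hij h => hij (x.injective h)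
    -- the involution `τ`
    obtain ⟨v, hv0, hv1, hv2, hv3⟩ := tuple4 (hxne 1 0 (by decide)) (hxne 1 2 (by decide))
      (hxne 1 3 (by decide)) (hxne 0 2 (by decide)) (hxne 0 3 (by decide)) (hxne 2 3 (by decide))
    obtain ⟨τ, hττ, hτ⟩ : ∃ τ : G, τ * τ = 1 ∧ τ • x = v := by
      obtain ⟨g, hg⟩ := exists_smul_eq G x v
      refine ⟨_, exists_involution hno x v hg (ext_tuple4 g v x ?_ ?_ ?_ ?_)⟩
      · rw [hv0]; have := app hg 1; rwa [hv1] at this
      · rw [hv1]; have := app hg 0; rwa [hv0] at this
      · rw [hv2]; have := app hg 2; rwa [hv2] at this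
      · rw [hv3]; have := app hg 3; rwa [hv3] at this
    have h0 : τ • x 0 = x 1 := by rw [app hτ 0, hv0]
    have h1 : τ • x 1 = x 0 := by rw [app hτ 1, hv1]
    have h2 : τ • x 2 = x 2 := by rw [app hτ 2, hv2]
    have h3 : τ • x 3 = x 3 := by rw [app hτ 3, hv3]
    obtain ⟨e, he'⟩ : ∃ e, e ∉ Set.range x := by
      by_contra h
      push Not at h
      have := Fintype.card_le_of_surjective x h
      rw [Fintype.card_fin] at this
      omega
    have he : ∀ i, e ≠ x i := fun i h => he' ⟨i, h.symm⟩
    obtain ⟨hcov, hdisj, hKtr⟩ := orbit_facts hno hττ h0 h1 h2 h3 he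
    set N := stabilizer G x with hN
    set f := τ • e with hf
    set O := orbit N e
    set O' := orbit N f
    have hNx : ∀ (h : N) (i : Fin 4), (h : G) • x i = x i := fun h i => app h.2 i
    have hfo : ∀ i, f ≠ x i := fun i h => by
      have hh : τ • f = e := by rw [hf, ← mul_smul, hττ, one_smul]
      rw [h] at hh
      fin_cases i
      · exact he 1 (hh.symm.trans h0)
      · exact he 0 (hh.symm.trans h1)
      · exact he 2 (hh.symm.trans h2)
      · exact he 3 (hh.symm.trans h3)
    have hτN : ∀ h : N, τ * h * τ⁻¹ ∈ N := by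
      intro h
      have hinv : τ⁻¹ = τ := inv_eq_of_mul_eq_one_right hττ
      refine mem_stabilizer_iff.mpr (ext_tuple4 _ x x ?_ ?_ ?_ ?_) <;>
        rw [hinv, mul_smul, mul_smul]
      · rw [h0, hNx, h1]
      · rw [h1, hNx, h0]
      · rw [h2, hNx, h2]
      · rw [h3, hNx, h3]
    have hτO : ∀ a : α, τ • a ∈ O' ↔ a ∈ O := by
      have hinv : τ⁻¹ = τ := inv_eq_of_mul_eq_one_right hττ
      intro a
      constructor
      · rintro ⟨h, hh⟩
        refine ⟨⟨_, hτN h⟩, ?_⟩
        show (τ * (h : G) * τ⁻¹) • e = a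
        rw [hinv, mul_smul, mul_smul, ← hf, show (h : G) • f = τ • a from hh, ← mul_smul, hττ,
          one_smul]
      · rintro ⟨h, rfl⟩
        refine ⟨⟨_, hτN h⟩, ?_⟩
        show (τ * (h : G) * τ⁻¹) • f = τ • ((h : G) • e)
        rw [hinv, mul_smul, mul_smul, hf, ← mul_smul τ τ, hττ, one_smul]
    have hcases : ∀ a : α, (∀ i, a ≠ x i) → a ∈ O ∨ a ∈ O' := by
      intro a ha
      obtain ⟨k, hk, hka | hka⟩ := hcov a ha
      · exact Or.inl ⟨⟨k, hk.1⟩, hka⟩
      · right
        refine ⟨⟨k, hk.1⟩, ?_⟩
        show k • f = a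
        have hkτ : k * τ = τ * k := Subgroup.mem_centralizer_singleton_iff.mp hk.2
        rw [hf, ← mul_smul, hkτ, mul_smul, hka, ← mul_smul, hττ, one_smul]
    have hOO' : Disjoint O O' := by
      rw [Set.disjoint_left]
      rintro a hae haf
      rw [← orbit_eq_iff] at hae haf
      have : f ∈ O := by
        show f ∈ orbit N e
        rw [← hae, haf]
        exact mem_orbit_self f
      obtain ⟨h, hh⟩ := this
      exact hdisj h hh
    set m := Nat.card O with hm
    have hO' : Nat.card O' = m := by
      refine (Nat.card_congr ((MulAction.toPerm τ).subtypeEquiv (fun a => ?_))).symm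
      exact (hτO a).symm
    -- the degree
    have hn2 : n = 4 + 2 * m := by
      have hU : (Set.univ : Set α) = Set.range x ∪ (O ∪ O') := by
        symm
        rw [Set.eq_univ_iff_forall]
        intro a
        by_cases ha : a ∈ Set.range x
        · exact Or.inl ha
        · exact Or.inr (hcases a fun i h => ha ⟨i, h.symm⟩)
      have hd : Disjoint (Set.range x) (O ∪ O') := by
        rw [Set.disjoint_left]
        rintro _ ⟨i, rfl⟩ hor
        rcases hor with ⟨h, hh⟩ | ⟨h, hh⟩
        · exact he i (MulAction.injective (h : G) (hh.trans (hNx h i).symm))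
        · exact hfo i (MulAction.injective (h : G) (hh.trans (hNx h i).symm))
      have h4 := congrArg Set.ncard hU
      rw [Set.ncard_univ, Set.ncard_union_eq hd, Set.ncard_union_eq hOO', hnc,
        Set.ncard_range_of_injective x.injective, Nat.card_fin, ← Nat.card_coe_set_eq O,
        ← Nat.card_coe_set_eq O', hO'] at h4
      omega
    -- five-point stabilisers
    set M := Nat.card (stabilizer N e) with hM
    have hNm : Nat.card N = m * M := by
      rw [hm, hM, Nat.card_coe_set_eq, ← index_stabilizer, mul_comm, Subgroup.card_mul_index]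
    have hfive : ∀ y : Fin 5 ↪ α, Nat.card (stabilizer G y) = M := by
      intro y
      obtain ⟨g, hg⟩ := exists_smul_eq G (Fin.castSuccEmb.trans y) x
      have hc : Nat.card (stabilizer G y) = Nat.card (stabilizer G (g • y)) := by
        exact ((congrArg (fun S : Subgroup G => Nat.card S)
          (stabilizer_smul_eq_stabilizer_map_conj g y)).trans
          (Subgroup.card_map_of_injective (MulEquiv.injective _))).symm
      set a := g • y (Fin.last 4) with ha
      have hga : ∀ i : Fin 4, g • y i.castSucc = x i := app hg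
      have hax : ∀ i, a ≠ x i := fun i h => by
        rw [← hga i, ha] at h
        exact (Fin.castSucc_lt_last i).ne (y.injective (MulAction.injective g h)).symm
      have heq : Nat.card (stabilizer G (g • y)) = Nat.card (stabilizer N a) := by
        refine Nat.card_congr
          { toFun := fun z => ⟨⟨z.1, mem_stabilizer_iff.mpr ?_⟩, ?_⟩
            invFun := fun z => ⟨z.1.1, mem_stabilizer_iff.mpr ?_⟩
            left_inv := fun z => Subtype.ext rfl
            right_inv := fun z => Subtype.ext (Subtype.ext rfl) }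
        · ext i
          show z.1 • x i = x i
          rw [← hga i]
          exact DFunLike.congr_fun z.2 i.castSucc
        · exact DFunLike.congr_fun z.2 (Fin.last 4)
        · ext i
          show z.1.1 • (g • y i) = g • y i
          induction i using Fin.lastCases with
          | last => exact z.2
          | cast j => rw [hga j]; exact hNx z.1 j
      have hcard : Nat.card (orbit N a) * Nat.card (stabilizer N a) = Nat.card N := by
        rw [Nat.card_coe_set_eq, ← index_stabilizer, mul_comm, Subgroup.card_mul_index]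
      have horb : Nat.card (orbit N a) = m := by
        rcases hcases a hax with h | h
        · rw [orbit_eq_iff.mpr h]
        · rw [orbit_eq_iff.mpr h]; exact hO'
      rw [horb, hNm] at hcard
      rw [hc, heq]
      exact Nat.eq_of_mul_eq_mul_left (by omega) hcard
    -- a prime dividing `m`
    obtain ⟨p, hp, hpm⟩ := Nat.exists_prime_and_dvd (show m ≠ 1 by omega)
    haveI := Fact.mk hp
    have hNodd := odd_card_stabilizer hno x
    have hp2 : p ≠ 2 := fun h => by
      subst h
      have : 2 ∣ Nat.card N := hNm ▸ dvd_mul_of_dvd_left hpm M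
      exact (Nat.not_even_iff_odd.mpr hNodd) (even_iff_two_dvd.mpr this)
    -- the five-point tuple through `e`
    have hyinj : Injective (Fin.snoc x e : Fin 5 → α) :=
      Fin.snoc_injective_iff.mpr ⟨x.injective, he'⟩
    set y : Fin 5 ↪ α := ⟨_, hyinj⟩
    have hpM : ¬ p ∣ M := by
      intro hdvd
      set S := stabilizer G y with hS
      obtain ⟨P⟩ := (inferInstance : Nonempty (Sylow p S))
      set Q₀ := (P : Subgroup S).map S.subtype with hQ₀
      have hQ₀p : IsPGroup p Q₀ := P.isPGroup'.map _
      have hQ₀c : Nat.card Q₀ = p ^ M.factorization p := by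
        rw [hQ₀, Subgroup.card_map_of_injective S.subtype_injective, P.card_eq_multiplicity,
          hfive y]
      have hMpos : M ≠ 0 := Nat.card_pos.ne'
      have hQ₀ne : Q₀ ≠ ⊥ := by
        intro h
        rw [h, Subgroup.card_bot] at hQ₀c
        have := (hp.dvd_iff_one_le_factorization hMpos).mp hdvd
        have h' : 1 < p ^ M.factorization p := Nat.one_lt_pow (by omega) hp.one_lt
        omega
      have hQ₀k : 4 < Nat.card {a : α // ∀ q ∈ Q₀, q • a = a} := by
        refine lt_of_lt_of_le (Nat.lt_succ_self 4) ?_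
        show 5 ≤ _
        rw [← Nat.card_fin 5]
        refine Nat.card_le_card_of_injective (fun i => ⟨y i, fun q hq => ?_⟩)
          (fun i j h => y.injective (congrArg Subtype.val h))
        exact DFunLike.congr_fun (Subgroup.map_subtype_le _ hq : q ∈ stabilizer G y) i
      obtain ⟨Q, H, F, hQ0Q, hQp, hFdef, hF, hFk, hFn, htr⟩ :=
        exists_maximal_fixed (by omega) ht p Q₀ hQ₀p hQ₀ne hQ₀k
      -- `Q = Q₀`
      have hQeq : Q = Q₀ := by
        obtain ⟨z⟩ := Embedding.nonempty_of_card_le (α := Fin 5) (β := F) (by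
          rw [Fintype.card_fin, ← Nat.card_eq_fintype_card]; omega)
        have hle : Q ≤ stabilizer G (z.trans (Embedding.subtype _)) := fun q hq =>
          mem_stabilizer_iff.mpr (by
            ext i
            have h' : ((z i : α)) ∈ {a : α | ∀ q ∈ Q, q • a = a} := hFdef ▸ (z i).2
            exact h' q hq)
        refine (Subgroup.eq_of_le_of_card_ge hQ0Q ?_).symm
        obtain ⟨j, hj⟩ := hQp.exists_card_eq
        have hdv := Subgroup.card_dvd_of_le hle
        rw [hj, hfive] at hdv
        rw [hj, hQ₀c]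
        exact Nat.pow_le_pow_right hp.pos ((hp.pow_dvd_iff_le_factorization hMpos).mp hdv)
      -- the induced group
      obtain ⟨Gb, hdown, hup⟩ := exists_induced H F hF
      have htF : IsMultiplyPretransitive Gb F 4 := by
        rw [isMultiplyPretransitive_iff]
        intro u w
        obtain ⟨g, hg, huw⟩ := htr u w
        obtain ⟨σ, hσ, hσv⟩ := hup g hg
        refine ⟨⟨σ, hσ⟩, ?_⟩
        ext i
        exact (hσv (u i)).trans (huw i)
      have hnoF : NoOdd Gb F 5 := by
        intro g t σ hσ
        obtain ⟨g', -, hgv⟩ := hdown g.1 g.2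
        exact hno g' (t.trans (Embedding.subtype _)) σ fun i =>
          (hgv (t i)).symm.trans (congrArg Subtype.val (hσ i))
      have hF6 : Nat.card F ≤ 6 := by
        rw [Nat.card_eq_fintype_card]
        exact ih _ (by rw [← Nat.card_eq_fintype_card]; omega) rfl Gb htF hnoF
      have hF5 : Nat.card F ≠ 5 := by
        intro h5
        obtain ⟨z⟩ := Embedding.nonempty_of_card_le (α := Fin 5) (β := F) (by
          rw [Fintype.card_fin, ← Nat.card_eq_fintype_card]; omega)
        have hzs : Surjective z := (z.injective.bijective_of_nat_card_le (by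
          rw [h5, Nat.card_fin])).2
        set u : Fin 4 ↪ F := Fin.castSuccEmb.trans z
        set σ : Equiv.Perm (Fin 5) := Equiv.swap 0 1
        obtain ⟨g, hg, hgu⟩ := htr u
          ((Fin.castSuccEmb.trans σ.toEmbedding).trans z)
        have hall : ∀ i, g • (z i : α) = (z (σ i) : α) := by
          intro i
          induction i using Fin.lastCases with
          | cast j => exact hgu j
          | last =>
            obtain ⟨i, hi⟩ := hzs ⟨g • (z (Fin.last 4) : α), (hF g hg _).mpr (z (Fin.last 4)).2⟩
            have hi' : (z i : α) = g • (z (Fin.last 4) : α) := congrArg Subtype.val hi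
            have : i = Fin.last 4 := by
              by_contra hne
              have hσne : σ⁻¹ i ≠ Fin.last 4 := by
                intro h
                apply hne
                have := congrArg σ h
                rw [← Equiv.Perm.mul_apply, mul_inv_cancel, Equiv.Perm.one_apply] at this
                rw [this]; rfl
              obtain ⟨j, hj⟩ := Fin.exists_castSucc_eq.mpr hσne
              have h := hgu j
              simp only [u, Embedding.trans_apply, Fin.coe_castSuccEmb, Equiv.toEmbedding_apply,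
                hj] at h
              rw [← Equiv.Perm.mul_apply, mul_inv_cancel, Equiv.Perm.one_apply, hi'] at h
              exact hσne (z.injective (Subtype.ext (MulAction.injective g h)))
            rw [this] at hi'
            rw [show σ (Fin.last 4) = Fin.last 4 by decide, ← hi']
        have := hno g (z.trans (Embedding.subtype _)) σ hall
        rw [Equiv.Perm.sign_swap (by decide)] at this
        exact absurd this (by decide)
      have hF6' : Nat.card F = 6 := by omega
      -- the congruence
      have hmod := hQp.card_modEq_card_fixedPoints α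
      have hfix : Nat.card (fixedPoints Q α) = Nat.card F := by
        subst hFdef
        exact Nat.card_congr (Equiv.subtypeEquivRight fun a =>
          ⟨fun h q hq => h ⟨q, hq⟩, fun h q => h q.1 q.2⟩)
      rw [hnc, hfix, hF6'] at hmod
      have hpd : p ∣ n - 6 := (Nat.modEq_iff_dvd' (by omega)).mp hmod.symm
      have h2m : p ∣ 2 := by
        have hd : p ∣ 2 * m - (n - 6) := Nat.dvd_sub (dvd_mul_of_dvd_right hpm 2) hpd
        rwa [show 2 * m - (n - 6) = 2 by omega] at hd
      exact hp2 ((Nat.prime_dvd_prime_iff_eq hp Nat.prime_two).mp h2m)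
    -- the second involution and the two centralisers
    obtain ⟨α₀, ha, hat, ha0, ha1, ha2, ha3, hae, hte⟩ :=
      exists_partner hno hττ h0 h1 h2 h3 he
    obtain ⟨x', hx0, hx1, hx2, hx3⟩ := tuple4 (hxne 2 3 (by decide)) (hxne 2 0 (by decide))
      (hxne 2 1 (by decide)) (hxne 3 0 (by decide)) (hxne 3 1 (by decide)) (hxne 0 1 (by decide))
    have hsame : stabilizer G x' = N := by
      ext g
      constructor
      · intro h
        have := app h
        refine mem_stabilizer_iff.mpr (ext_tuple4 g x x ?_ ?_ ?_ ?_)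
        · rw [← hx2]; exact this 2
        · rw [← hx3]; exact this 3
        · rw [← hx0]; exact this 0
        · rw [← hx1]; exact this 1
      · intro h
        have := app h
        refine mem_stabilizer_iff.mpr (ext_tuple4 g x' x' ?_ ?_ ?_ ?_)
        · rw [hx0]; exact this 2
        · rw [hx1]; exact this 3
        · rw [hx2]; exact this 0
        · rw [hx3]; exact this 1
    obtain ⟨-, -, hK'tr⟩ := orbit_facts hno (x := x') ha (by rw [hx0, hx1, ha2])
      (by rw [hx0, hx1, ha3]) (by rw [hx2, ha0]) (by rw [hx3, ha1]) (e := e) (fun i => by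
        fin_cases i
        · exact fun h => he 2 (h.trans hx0)
        · exact fun h => he 3 (h.trans hx1)
        · exact fun h => he 0 (h.trans hx2)
        · exact fun h => he 1 (h.trans hx3))
    have hK'tr' : ∀ a ∈ O, ∃ k ∈ N ⊓ Subgroup.centralizer ({α₀} : Set G), k • e = a := by
      rintro _ ⟨h, rfl⟩
      obtain ⟨k, hk, hke⟩ := hK'tr ((h : G) • e)
        ⟨⟨h, (SetLike.ext_iff.mp hsame (h : G)).mpr h.2⟩, rfl⟩
      exact ⟨k, ⟨(SetLike.ext_iff.mp hsame k).mp hk.1, hk.2⟩, hke⟩
    set K := cen τ x with hK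
    set K' := N ⊓ Subgroup.centralizer ({α₀} : Set G) with hK'
    have hsylowcard : ∀ L : Subgroup G, L ≤ N → (∀ a ∈ O, ∃ k ∈ L, k • e = a) →
        (Nat.card L).factorization p = (Nat.card N).factorization p := by
      intro L hL hLtr
      have horb : orbit L e = O := by
        ext a
        constructor
        · rintro ⟨k, rfl⟩; exact ⟨⟨k, hL k.2⟩, rfl⟩
        · intro ha
          obtain ⟨k, hk, hka⟩ := hLtr a ha
          exact ⟨⟨k, hk⟩, hka⟩
      have hLc : Nat.card L = m * Nat.card (stabilizer L e) := by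
        rw [hm, Nat.card_coe_set_eq, ← horb, ← index_stabilizer, mul_comm,
          Subgroup.card_mul_index]
      have hdv : Nat.card (stabilizer L e) ∣ M := by
        let φ : stabilizer L e →* stabilizer N e :=
          { toFun := fun z => ⟨⟨z.1.1, hL z.1.2⟩, z.2⟩
            map_one' := rfl
            map_mul' := fun _ _ => rfl }
        exact Subgroup.card_dvd_of_injective φ fun z w h => Subtype.ext (Subtype.ext
          (congrArg (fun t : stabilizer N e => ((t : N) : G)) h))
      have hnd : ¬ p ∣ Nat.card (stabilizer L e) := fun h => hpM (h.trans hdv)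
      rw [hLc, hNm, Nat.factorization_mul (by omega) Nat.card_pos.ne',
        Nat.factorization_mul (by omega) Nat.card_pos.ne', Finsupp.add_apply, Finsupp.add_apply,
        Nat.factorization_eq_zero_of_not_dvd hnd, Nat.factorization_eq_zero_of_not_dvd hpM]
    have hKN : K ≤ N := inf_le_left
    have hK'N : K' ≤ N := inf_le_left
    have hvK := hsylowcard K hKN hKtr
    have hvK' := hsylowcard K' hK'N hK'tr'
    have happ : ∀ g ∈ N, ∀ i, g • x i = x i := fun g hg => app hg
    have hainv : α₀⁻¹ = α₀ := inv_eq_of_mul_eq_one_right ha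
    have haN : ∀ g ∈ N, α₀ * g * α₀⁻¹ ∈ N := by
      intro g hg
      have := happ g hg
      refine mem_stabilizer_iff.mpr (ext_tuple4 _ x x ?_ ?_ ?_ ?_) <;>
        rw [hainv, mul_smul, mul_smul]
      · rw [ha0, this, ha0]
      · rw [ha1, this, ha1]
      · rw [ha2, this, ha3]
      · rw [ha3, this, ha2]
    set A := Subgroup.zpowers α₀ with hA
    have hnorm : ∀ L : Subgroup G, (∀ g ∈ L, α₀ * g * α₀⁻¹ ∈ L) →
        A ≤ Subgroup.normalizer (L : Set G) := fun L hL => by
      rw [hA, Subgroup.zpowers_le]
      exact Subgroup.mem_normalizer_fintype hL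
    have hAK : A ≤ Subgroup.normalizer (K : Set G) := hnorm K (by
      rintro g ⟨hgN, hgc⟩
      refine ⟨haN g hgN, ?_⟩
      refine Subgroup.mem_centralizer_singleton_iff.mpr ?_
      rw [hainv]
      have hgc' : g * τ = τ * g := Subgroup.mem_centralizer_singleton_iff.mp hgc
      calc α₀ * g * α₀ * τ = α₀ * (g * τ) * α₀ := by
            rw [mul_assoc (α₀ * g), hat]; group
        _ = α₀ * (τ * g) * α₀ := by rw [hgc']
        _ = τ * (α₀ * g * α₀) := by rw [← mul_assoc α₀ τ g, hat]; group)
    have hAN : A ≤ Subgroup.normalizer (N : Set G) := hnorm N haN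
    have hAc : Nat.card A ∣ 2 := by
      rw [hA, Nat.card_zpowers]
      exact orderOf_dvd_of_pow_eq_one (by rw [pow_two, ha])
    have hcopN : (Nat.card A).Coprime (Nat.card N) :=
      ((Nat.coprime_two_left).mpr hNodd).coprime_dvd_left hAc
    have hsol : Group.IsSolvable A ∨ Group.IsSolvable N := Or.inl (by
      letI : CommGroup A := IsCyclic.commGroup
      infer_instance)
    have hsolK : Group.IsSolvable A ∨ Group.IsSolvable K := Or.inl (by
      letI : CommGroup A := IsCyclic.commGroup
      infer_instance)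
    obtain ⟨P, hP⟩ := CfsgLib.Solvable.exists_invariant_sylow A K hAK
      (hcopN.coprime_dvd_right (Subgroup.card_dvd_of_le hKN)) hsolK p
    obtain ⟨R⟩ := (inferInstance : Nonempty (Sylow p K'))
    set P₁ := (P : Subgroup K).map K.subtype with hP₁
    set R₁ := (R : Subgroup K').map K'.subtype with hR₁
    have hP₁K : P₁ ≤ K := Subgroup.map_subtype_le _
    have hR₁K : R₁ ≤ K' := Subgroup.map_subtype_le _
    have hP₁c : Nat.card P₁ = p ^ (Nat.card N).factorization p := by
      rw [hP₁, Subgroup.card_map_of_injective K.subtype_injective, P.card_eq_multiplicity, hvK]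
    have hR₁c : Nat.card R₁ = p ^ (Nat.card N).factorization p := by
      rw [hR₁, Subgroup.card_map_of_injective K'.subtype_injective, R.card_eq_multiplicity, hvK']
    have hsub : ∀ L : Subgroup G, L ≤ N → Nat.card L = p ^ (Nat.card N).factorization p →
        ∃ S : Sylow p N, (S : Subgroup N).map N.subtype = L := by
      intro L hL hc
      refine ⟨Sylow.ofCard (L.subgroupOf N) ?_, ?_⟩
      · rw [Nat.card_congr (Subgroup.subgroupOfEquivOfLe hL).toEquiv, hc]
      · exact (Subgroup.map_subgroupOf_eq_of_le hL)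
    obtain ⟨SP, hSP⟩ := hsub P₁ (hP₁K.trans hKN) hP₁c
    obtain ⟨SR, hSR⟩ := hsub R₁ (hR₁K.trans hK'N) hR₁c
    have hR₁com : ∀ r ∈ R₁, r * α₀ = α₀ * r := fun r hr =>
      Subgroup.mem_centralizer_singleton_iff.mp (hR₁K hr).2
    have hAR : A ≤ Subgroup.normalizer ((SR : Subgroup N).map N.subtype : Set G) := by
      rw [hSR]
      exact hnorm R₁ fun r hr => by
        rw [← hR₁com r hr, mul_inv_cancel_right]; exact hr
    obtain ⟨c, hc, hcPR⟩ := CfsgLib.Solvable.exists_centralizer_conj_sylow A N hAN hcopN hsol SP SR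
      (by rw [hSP]; exact hP) hAR
    rw [hSP, hSR] at hcPR
    -- hence a Sylow subgroup of `K` fixes `e`
    have hcα : c * α₀ = α₀ * c :=
      (Subgroup.mem_centralizer_iff.mp hc.2 α₀ (Subgroup.mem_zpowers α₀)).symm
    have hPfix : P₁ ≤ stabilizer G y := by
      intro q hq
      have hqR : c * q * c⁻¹ ∈ R₁ := by
        rw [← hcPR]
        exact Subgroup.smul_mem_pointwise_smul q (MulAut.conj c) P₁ hq
      have hqα : q * α₀ = α₀ * q := by
        have h' := hR₁com _ hqR
        have hci : c⁻¹ * α₀ = α₀ * c⁻¹ := by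
          calc c⁻¹ * α₀ = c⁻¹ * (α₀ * c) * c⁻¹ := by group
            _ = c⁻¹ * (c * α₀) * c⁻¹ := by rw [hcα]
            _ = α₀ * c⁻¹ := by group
        calc q * α₀ = c⁻¹ * (c * q * c⁻¹ * α₀) * c := by
              rw [mul_assoc (c * q) c⁻¹ α₀, hci]; group
          _ = c⁻¹ * (α₀ * (c * q * c⁻¹)) * c := by rw [h']
          _ = (c⁻¹ * α₀) * c * q := by group
          _ = α₀ * q := by rw [hci]; group
      have hqN : q ∈ N := hKN (hP₁K hq)
      have hqτ : q * τ = τ * q := Subgroup.mem_centralizer_singleton_iff.mp (hP₁K hq).2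
      obtain ⟨β, hβ⟩ : ∃ β, β = τ * α₀ := ⟨_, rfl⟩
      have hβ2 : β * β = 1 := by
        rw [hβ]
        calc τ * α₀ * (τ * α₀) = τ * (α₀ * τ) * α₀ := by group
          _ = (τ * τ) * (α₀ * α₀) := by rw [hat]; group
          _ = 1 := by rw [hττ, ha, one_mul]
      have hβ1 : β ≠ 1 := fun h => by
        have h' : β • x 0 = (1 : G) • x 0 := by rw [h]
        rw [hβ, mul_smul, ha0, h0, one_smul] at h'
        exact hxne 1 0 (by decide) h'
      have hβe : β • e = e := by rw [hβ, mul_smul, hae, ← mul_smul, hττ, one_smul]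
      have hβf : β • f = f := by
        rw [hβ, hf, ← mul_smul, mul_assoc, hat, ← mul_assoc, hττ, one_mul, hae]
      have hβq : β • q • e = q • e := by
        rw [← mul_smul, hβ, mul_assoc, ← hqα, ← mul_assoc, ← hqτ, mul_assoc, mul_smul, ← hβ, hβe]
      have hqe : q • e = e := by
        by_contra hne
        have hqf : q • e ≠ f := fun h => hdisj ⟨q, hqN⟩ h
        have hle := hno.card_fixed_le_two hβ2 hβ1
        rw [Nat.card_eq_fintype_card, Fintype.card_subtype] at hle
        have hsub' : ({q • e, e, f} : Finset α) ⊆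
            Finset.univ.filter fun r : α => β • r = r := by
          intro r hr
          simp only [Finset.mem_insert, Finset.mem_singleton] at hr
          simp only [Finset.mem_filter, Finset.mem_univ, true_and]
          rcases hr with rfl | rfl | rfl <;> assumption
        have h3' : ({q • e, e, f} : Finset α).card = 3 :=
          Finset.card_eq_three.mpr ⟨_, _, _, hne, hqf, Ne.symm hte, rfl⟩
        have := Finset.card_le_card hsub'
        omega
      refine mem_stabilizer_iff.mpr ?_
      ext i
      show q • y i = y i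
      induction i using Fin.lastCases with
      | last =>
        have : y (Fin.last 4) = e := Fin.snoc_last (α := fun _ => α) e x
        rw [this, hqe]
      | cast j =>
        have : y j.castSucc = x j := Fin.snoc_castSucc (α := fun _ => α) e x j
        rw [this, happ q hqN]
    have hdv := Subgroup.card_dvd_of_le hPfix
    rw [hP₁c, hfive] at hdv
    have hpos : 1 ≤ (Nat.card N).factorization p :=
      (hp.dvd_iff_one_le_factorization Nat.card_pos.ne').mp (hNm ▸ dvd_mul_of_dvd_left hpm M)
    exact hpM (dvd_trans (dvd_pow_self p (by omega)) hdv)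

/-- No odd permutation on any `(t + 1)`-set bounds the degree. -/
theorem card_le_of_noOdd : ∀ (t : ℕ) {α : Type u} [Fintype α] (G : Subgroup (Equiv.Perm α)),
    IsMultiplyPretransitive G α t → 4 ≤ t → NoOdd G α (t + 1) → Fintype.card α ≤ t + 2 := by
  intro t
  induction t with
  | zero => intro α _ G _ h; omega
  | succ t ih =>
    intro α _ G ht h4 hno
    rcases Nat.eq_or_lt_of_le h4 with h | h5
    · obtain rfl : t = 3 := by omega
      exact card_le_six _ rfl G ht hno
    by_contra hn
    classical
    haveI := ht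
    obtain ⟨a⟩ : Nonempty α := Fintype.card_pos_iff.mp (by omega)
    set F : Set α := {a}ᶜ
    obtain ⟨Gb, hdown, hup⟩ := exists_induced (stabilizer G a) F (fun g hg z => by
      simp only [F, Set.mem_compl_iff, Set.mem_singleton_iff]
      exact not_congr ⟨fun e => MulAction.injective g (e.trans hg.symm),
        fun e => by rw [e]; exact hg⟩)
    have hcons : ∀ {k : ℕ} (u : Fin k ↪ F), Injective (Fin.cons a fun i => (u i : α) :
        Fin (k + 1) → α) := fun u => Fin.cons_injective_iff.mpr
      ⟨by rintro ⟨i, hi⟩; exact (u i).2 hi, Subtype.val_injective.comp u.injective⟩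
    have htF : IsMultiplyPretransitive Gb F t := by
      rw [isMultiplyPretransitive_iff]
      intro u v
      obtain ⟨g, hg⟩ := exists_smul_eq G (⟨_, hcons u⟩ : Fin (t + 1) ↪ α) ⟨_, hcons v⟩
      have hg0 : g • a = a := DFunLike.congr_fun hg 0
      obtain ⟨σ, hσ, hσv⟩ := hup g hg0
      refine ⟨⟨σ, hσ⟩, ?_⟩
      ext i
      exact (hσv (u i)).trans (DFunLike.congr_fun hg i.succ)
    have hnoF : NoOdd Gb F (t + 1) := by
      intro g u σ hσ
      obtain ⟨g', hg', hgv⟩ := hdown g.1 g.2
      have hs := hno g' ⟨_, hcons u⟩ (Equiv.Perm.decomposeFin.symm (0, σ)) (fun i => by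
        induction i using Fin.cases with
        | zero => rw [Equiv.Perm.decomposeFin_symm_apply_zero]; exact hg'
        | succ j =>
          rw [Equiv.Perm.decomposeFin_symm_apply_succ, Equiv.swap_self, Equiv.refl_apply]
          exact (hgv (u j)).symm.trans (congrArg Subtype.val (hσ j)))
      rwa [Equiv.Perm.decomposeFin.symm_sign, if_pos rfl, one_mul] at hs
    have hFcard : Fintype.card F = Fintype.card α - 1 := by
      rw [Fintype.card_compl_set, Set.card_singleton]
    have := ih Gb htF (by omega) hnoF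
    omega

end CfsgLib.SmallGroups.TupleClass
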