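import Mathlib
import Cfsg.Agent.Lib.SmallGroups.HomogeneousPairing
import Cfsg.Agent.Lib.SmallGroups.NoOddSet
import Cfsg.Agent.Lib.SmallGroups.MultiplyPrimitiveNormal
import Cfsg.Agent.Lib.SmallGroups.PrimeTransitiveSylow
import Cfsg.Agent.S0675

/-!
The Livingstone–Wagner theorem: homogeneity below half the degree gives transitivity.
-/

set_option autoImplicit false

open scoped Pointwise

namespace CfsgLib.SmallGroups.TupleClass

open MulAction Function

universe u

set_option synthInstance.maxSize 4000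
set_option synthInstance.maxHeartbeats 400000

theorem a3_of_free : ∀ c : Equiv.Perm (Fin 3), (∀ i, c i ≠ i) →
    ∀ σ : Equiv.Perm (Fin 3), Equiv.Perm.sign σ = 1 → σ = 1 ∨ σ = c ∨ σ = c * c := by
  decide +kernel

theorem free_of_two : ∀ a b : Equiv.Perm (Fin 3), a ≠ 1 → b ≠ 1 → (∃ i, a i = i) →
    (∃ i, b i = i) → a ≠ b → ∀ i, (a * b) i ≠ i := by
  decide +kernel

theorem a4_of_three : ∀ z : Equiv.Perm (Fin 4), (∀ i, z i ≠ i) → z * z = 1 →
    ∀ c : Equiv.Perm (Fin 4), c * c * c = 1 → c ≠ 1 →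
    ∀ σ : Equiv.Perm (Fin 4), Equiv.Perm.sign σ = 1 →
      σ = 1 ∨ σ = c ∨ σ = c * c ∨ σ = z ∨ σ = c * z * c⁻¹ ∨ σ = c⁻¹ * z * c ∨
      σ = c * z ∨ σ = z * c ∨ σ = c * c * z ∨ σ = z * (c * c) ∨ σ = c * z * c ∨
      σ = c * c * z * (c * c) := by
  decide +kernel

theorem card_double_four :
    Fintype.card {z : Equiv.Perm (Fin 4) // (∀ i, z i ≠ i) ∧ z * z = 1} = 3 := by
  decide +kernel

/-- In degree 24 a 3-transitive, 4-homogeneous group induces a transposition on some 5-set. -/
theorem no_twenty_four {α : Type u} [Fintype α] [DecidableEq α] (G : Subgroup (Equiv.Perm α))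
    (hn : Fintype.card α = 24) (ht : IsMultiplyPretransitive G α 3)
    (hom : Homogeneous.IsHom G α 4)
    (hns : ∀ (g : G) (φ : Fin 5 ↪ α),
      g • φ ≠ (Equiv.swap (3 : Fin 5) 4).toEmbedding.trans φ) : False := by
  haveI := ht
  haveI : FaithfulSMul G α := ⟨fun {g₁ g₂} h => Subtype.ext (Equiv.ext h)⟩
  have hnc : Nat.card α = 24 := by rw [Nat.card_eq_fintype_card, hn]
  haveI h2 : IsMultiplyPretransitive G α 2 :=
    MulAction.isMultiplyPretransitive_of_le (n := 3) (by norm_num) (by omega)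
  haveI : IsPretransitive G α :=
    (MulAction.is_one_pretransitive_iff).mp
      (MulAction.isMultiplyPretransitive_of_le (n := 3) (by norm_num) (by omega))
  -- involutions fix at most two points
  have hle2 : ∀ g : G, g * g = 1 → g ≠ 1 → Nat.card {a : α // g • a = a} ≤ 2 := by
    intro g hg hg1
    by_contra hlt
    obtain ⟨e⟩ := Embedding.nonempty_of_card_le (α := Fin 3) (β := {a : α // g • a = a}) (by
      rw [Fintype.card_fin, ← Nat.card_eq_fintype_card]; omega)
    obtain ⟨c, hc⟩ : ∃ c : α, g • c ≠ c := by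
      by_contra hall
      push Not at hall
      exact hg1 (eq_of_smul_eq_smul fun a : α => by rw [one_smul]; exact hall a)
    have hne : ∀ i, (e i : α) ≠ c ∧ (e i : α) ≠ g • c := by
      intro i
      refine ⟨fun h => ?_, fun h => ?_⟩
      · have := (e i).2
        rw [h] at this
        exact hc this
      · have := (e i).2
        rw [h, ← mul_smul, hg, one_smul] at this
        exact hc this.symm
    have hinj : Injective ![(e 0 : α), e 1, e 2, c, g • c] := by
      have he : ∀ i j, i ≠ j → (e i : α) ≠ e j := fun i j h h' => h (e.injective (Subtype.ext h'))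
      intro i j h
      fin_cases i <;> fin_cases j <;> first
        | rfl
        | exact absurd h (he _ _ (by decide))
        | exact absurd h (hne _).1 | exact absurd h.symm (hne _).1
        | exact absurd h (hne _).2 | exact absurd h.symm (hne _).2
        | exact absurd h.symm hc | exact absurd h hc
    refine hns g ⟨_, hinj⟩ ?_
    ext i
    fin_cases i
    · exact (e 0).2
    · exact (e 1).2
    · exact (e 2).2
    · rfl
    · show g • g • c = c
      rw [← mul_smul, hg, one_smul]
  obtain ⟨a⟩ : Nonempty α := Fintype.card_pos_iff.mp (by omega)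
  set F : Set α := {a}ᶜ with hFdef
  have hFcard : Fintype.card F = 23 := by
    rw [Fintype.card_compl_set, Set.card_singleton, hn]
  set L : Subgroup G := stabilizer G a ⊓ (Equiv.Perm.sign.comp G.subtype).ker with hL
  -- `L` has no involution
  have hLodd : Odd (Nat.card L) := by
    rw [← Nat.not_even_iff_odd]
    intro hev
    haveI := Fact.mk Nat.prime_two
    obtain ⟨⟨z, hza, hzs⟩, hz2⟩ := exists_prime_orderOf_dvd_card' (G := L) 2
      (even_iff_two_dvd.mp hev)
    rw [← Subgroup.orderOf_coe] at hz2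
    change orderOf z = 2 at hz2
    have hzz : z * z = 1 := by rw [← pow_two, ← hz2, pow_orderOf_eq_one]
    have hz1 : z ≠ 1 := fun e => by rw [e, orderOf_one] at hz2; omega
    have hle := hle2 z hzz hz1
    have hpar := card_fixed_modEq_two (α := α) hzz
    have hpos : 0 < Nat.card {b : α // z • b = b} := Nat.card_pos_iff.mpr ⟨⟨⟨a, hza⟩⟩, inferInstance⟩
    rw [hnc, Nat.ModEq] at hpar
    have hfix : Nat.card {b : α // z • b = b} = 2 := by omega
    set q : Equiv.Perm α := (z : Equiv.Perm α) with hq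
    have hsupp : q.support.card = 22 := by
      have : (Finset.univ.filter fun b : α => z • b = b) = q.supportᶜ := by
        ext b; simp [hq, Subgroup.smul_def]
      rw [Nat.card_eq_fintype_card, Fintype.card_subtype, this, Finset.card_compl, hn] at hfix
      have := Finset.card_le_univ q.support
      omega
    have hq2 : orderOf q = 2 := by rw [hq, Subgroup.orderOf_coe, hz2]
    obtain ⟨r, hr⟩ := Equiv.Perm.cycleType_prime_order (by rw [hq2]; exact Nat.prime_two)
    rw [hq2] at hr
    have hsum := Equiv.Perm.sum_cycleType q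
    have hsgn := Equiv.Perm.sign_of_cycleType q
    rw [hr] at hsum hsgn
    simp only [Multiset.sum_replicate, smul_eq_mul, Multiset.card_replicate] at hsum hsgn
    rw [hsupp] at hsum
    obtain rfl : r = 10 := by omega
    rw [show Equiv.Perm.sign q = 1 from hzs] at hsgn
    norm_num at hsgn
  -- an element of order seven in `L`
  have h7 : 7 ∣ Nat.card G := by
    have htr : IsPretransitive G (Set.powersetCard α 4) := Homogeneous.isPretransitive_of_isHom hom
    obtain ⟨s⟩ : Nonempty (Set.powersetCard α 4) := by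
      obtain ⟨e⟩ := Embedding.nonempty_of_card_le (α := Fin 4) (β := α) (by
        rw [Fintype.card_fin]; omega)
      exact ⟨⟨Finset.univ.map e, by show _ = _; simp⟩⟩
    have h1 := Subgroup.index_dvd_card (stabilizer G s)
    rw [index_stabilizer_of_transitive, Set.powersetCard.card, hnc] at h1
    exact dvd_trans (by rw [Nat.choose_eq_descFactorial_div_factorial]; norm_num [Nat.descFactorial, Nat.factorial]) h1
  have h7a : 7 ∣ Nat.card (stabilizer G a) := by
    have h := Subgroup.card_mul_index (stabilizer G a)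
    rw [index_stabilizer_of_transitive, hnc] at h
    rw [← h] at h7
    exact (Nat.Coprime.dvd_of_dvd_mul_right (by norm_num) h7)
  haveI := Fact.mk (by norm_num : Nat.Prime 7)
  obtain ⟨⟨g, hga⟩, hg7⟩ := exists_prime_orderOf_dvd_card' (G := stabilizer G a) 7 h7a
  rw [Subgroup.orderOf_mk] at hg7
  have hgs : Equiv.Perm.sign (g : Equiv.Perm α) = 1 := by
    have h : Equiv.Perm.sign (g : Equiv.Perm α) ^ 7 = 1 := by
      rw [← map_pow, ← SubgroupClass.coe_pow, ← hg7, pow_orderOf_eq_one]; simp
    rcases Int.units_eq_one_or (Equiv.Perm.sign (g : Equiv.Perm α)) with h' | h'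
    · exact h'
    · rw [h'] at h; exact absurd h (by decide)
  have hgL : g ∈ L := ⟨hga, hgs⟩
  -- `L` is transitive on the other points
  haveI := faithfulSMul_ofStabilizer (G := G) a
  haveI : IsMultiplyPretransitive (stabilizer G a) (SubMulAction.ofStabilizer G a) 2 :=
    SubMulAction.ofStabilizer.isMultiplyPretransitive.mp (show IsMultiplyPretransitive G α (Nat.succ 2) from ht)
  haveI : IsPreprimitive (stabilizer G a) (SubMulAction.ofStabilizer G a) :=
    MulAction.isPreprimitive_of_is_two_pretransitive inferInstance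
  have hL1 : L.subgroupOf (stabilizer G a) ≠ ⊥ := by
    intro h
    have hm : (⟨g, hga⟩ : stabilizer G a) ∈ L.subgroupOf (stabilizer G a) := hgL
    rw [h, Subgroup.mem_bot] at hm
    have : g = 1 := congrArg Subtype.val hm
    rw [this, orderOf_one] at hg7
    omega
  haveI : (L.subgroupOf (stabilizer G a)).Normal := by
    refine ⟨fun x hx y => ⟨(y * x * y⁻¹).2, ?_⟩⟩
    exact ((Equiv.Perm.sign.comp G.subtype).normal_ker).conj_mem _ (Subgroup.mem_subgroupOf.mp hx).2 y.1
  have hLtr := CfsgLib.SmallGroups.isPretransitive_of_normal_ne_bot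
    (α := SubMulAction.ofStabilizer G a) hL1
  have hLinv : ∀ l ∈ L, ∀ z, l • z ∈ F ↔ z ∈ F := fun l hl z => by
    simp only [hFdef, Set.mem_compl_iff, Set.mem_singleton_iff]
    exact not_congr ⟨fun e => MulAction.injective l (e.trans hl.1.symm),
      fun e => by rw [e]; exact hl.1⟩
  obtain ⟨Lb, hdown, hup⟩ := exists_induced L F hLinv
  haveI hLbtr : IsPretransitive Lb F := by
    refine ⟨fun x y => ?_⟩
    obtain ⟨l, hl⟩ := hLtr.exists_smul_eq ⟨x.1, x.2⟩ ⟨y.1, y.2⟩
    obtain ⟨σ, hσ, hσv⟩ := hup ((l : stabilizer G a) : G) (Subgroup.mem_subgroupOf.mp l.2)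
    exact ⟨⟨σ, hσ⟩, Subtype.ext ((hσv x).trans (congrArg Subtype.val hl))⟩
  -- the induced group has odd order
  have hdet : ∀ l ∈ L, ∀ l' ∈ L, (∀ x : F, l • (x : α) = l' • (x : α)) → l = l' := by
    intro l hl l' hl' h
    refine eq_of_smul_eq_smul fun b : α => ?_
    by_cases hb : b = a
    · rw [hb, hl.1, hl'.1]
    · exact h ⟨b, hb⟩
  have hLbodd : Odd (Nat.card Lb) := by
    refine hLodd.of_dvd_nat (dvd_of_eq (Nat.card_eq_of_bijective (fun σ : Lb =>
      (⟨(hdown σ.1 σ.2).choose, (hdown σ.1 σ.2).choose_spec.1⟩ : L)) ⟨?_, ?_⟩))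
    · intro σ σ' e
      refine Subtype.ext (Equiv.ext fun x => Subtype.ext ?_)
      have e' : (hdown σ.1 σ.2).choose = (hdown σ'.1 σ'.2).choose := congrArg Subtype.val e
      rw [(hdown σ.1 σ.2).choose_spec.2 x, (hdown σ'.1 σ'.2).choose_spec.2 x, e']
    · rintro ⟨l, hl⟩
      obtain ⟨σ, hσ, hσv⟩ := hup l hl
      refine ⟨⟨σ, hσ⟩, Subtype.ext (hdet _ (hdown σ hσ).choose_spec.1 l hl fun x => ?_)⟩
      rw [← (hdown σ hσ).choose_spec.2 x, hσv x]
  haveI := Fact.mk (by norm_num : Nat.Prime 23)
  have hsol : Group.IsSolvable Lb := by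
    rcases Cfsg.Agent.S0675.result (α := F) (by rw [hFcard]; norm_num) Lb with h | h
    · exact h
    exfalso
    haveI := h
    obtain ⟨e⟩ := Embedding.nonempty_of_card_le (α := Fin 2) (β := F) (by
      rw [Fintype.card_fin, hFcard]; norm_num)
    obtain ⟨m, hm⟩ := exists_smul_eq Lb e ((Equiv.swap (0 : Fin 2) 1).toEmbedding.trans e)
    have h0 : m • e 0 = e 1 := DFunLike.congr_fun hm 0
    have h1 : m • e 1 = e 0 := DFunLike.congr_fun hm 1
    obtain ⟨l, hl⟩ := hLbodd.of_dvd_nat (orderOf_dvd_natCard m)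
    have hmm : m * m ∈ stabilizer Lb (e 0) := by rw [mem_stabilizer_iff, mul_smul, h0, h1]
    have hk : (m * m) ^ l • e 0 = e 0 := mem_stabilizer_iff.mp (pow_mem hmm l)
    have hp := pow_orderOf_eq_one m
    rw [hl, pow_succ', pow_mul, pow_two] at hp
    have h' : (m * (m * m) ^ l) • e 0 = e 0 := by rw [hp, one_smul]
    rw [mul_smul, hk, h0] at h'
    exact absurd (e.injective h') (by decide)
  obtain ⟨σ, -, hσ, hnorm⟩ := le_normalizer_of_isSolvable (p := 23) hFcard Lb hsol
  obtain ⟨τ, hτ, hτv⟩ := hup g hgL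
  have hτ7 : τ ^ 7 = 1 := by
    have key : ∀ (k : ℕ) (x : F), ((τ ^ k) x : α) = g ^ k • (x : α) := by
      intro k
      induction k with
      | zero => intro x; simp
      | succ k ih => intro x; rw [pow_succ', Equiv.Perm.mul_apply, hτv, ih, pow_succ', mul_smul]
    refine Equiv.ext fun x => Subtype.ext ?_
    rw [key, ← hg7, pow_orderOf_eq_one, one_smul]
    rfl
  have hτ1 : τ ≠ 1 := by
    intro e
    have : g = 1 := hdet g hgL 1 L.one_mem fun x => by rw [← hτv x, e, one_smul]; rfl
    rw [this, orderOf_one] at hg7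
    omega
  -- but the normaliser of a 23-cycle has no element of order seven
  set P := Subgroup.zpowers σ with hP
  have hPc : Nat.card P = 23 := by rw [hP, Nat.card_zpowers, hσ]
  haveI : IsCyclic P := isCyclic_of_prime_card hPc
  have hτN : τ ∈ Subgroup.normalizer (P : Set (Equiv.Perm F)) := hnorm hτ
  set ψ := P.normalizerMonoidHom ⟨τ, hτN⟩
  have hψ7 : ψ ^ 7 = 1 := by
    rw [← map_pow, show (⟨τ, hτN⟩ : Subgroup.normalizer (P : Set (Equiv.Perm F))) ^ 7 = 1 from
      Subtype.ext hτ7, map_one]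
  have hψ : ψ = 1 := by
    have hcard : Nat.card (MulAut P) = 22 := by
      rw [IsCyclic.card_mulAut, hPc]; rfl
    have hd1 : orderOf ψ ∣ 7 := orderOf_dvd_of_pow_eq_one hψ7
    have hd2 : orderOf ψ ∣ 22 := hcard ▸ orderOf_dvd_natCard ψ
    exact orderOf_eq_one_iff.mp (Nat.dvd_one.mp (Nat.dvd_gcd hd1 hd2))
  have hker : (⟨τ, hτN⟩ : Subgroup.normalizer (P : Set (Equiv.Perm F))) ∈
      P.normalizerMonoidHom.ker := hψ
  rw [Subgroup.normalizerMonoidHom_ker, Subgroup.mem_subgroupOf] at hker
  have hcσ : τ ∈ Subgroup.centralizer ({σ} : Set (Equiv.Perm F)) :=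
    Subgroup.centralizer_le (by simp [hP]) hker
  have hd := orderOf_dvd_natCard (⟨τ, hcσ⟩ : Subgroup.centralizer ({σ} : Set (Equiv.Perm F)))
  rw [Subgroup.orderOf_mk, card_centralizer_of_orderOf_eq (by rw [hFcard]; norm_num) hσ, hFcard,
    orderOf_eq_prime hτ7 hτ1] at hd
  norm_num at hd

/-- A group inducing all permutations of every `k`-set class is `k`-transitive. -/
theorem isMultiplyPretransitive_of_fixed {G α : Type*} [Group G] [MulAction G α] [DecidableEq α]
    {k : ℕ} (h : Homogeneous.IsHom G α k) (c : Cls G α k)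
    (hc : ∀ σ : Equiv.Perm (Fin k), σ • c = c) : IsMultiplyPretransitive G α k := by
  rw [isMultiplyPretransitive_iff]
  intro x y
  have hall : ∀ d : Cls G α k, d = c := fun d => by
    obtain ⟨σ, hσ⟩ := exists_smul_cls_eq h c d
    rw [← hσ, hc]
  exact cls_eq_iff.mp ((hall (cls G y)).trans (hall (cls G x)).symm)

theorem fixed_of_odd {G α : Type*} [Group G] [MulAction G α] {k : ℕ} (c : Cls G α k)
    (hA : ∀ σ ∈ alternatingGroup (Fin k), σ • c = c) (π : Equiv.Perm (Fin k))
    (hπ : Equiv.Perm.sign π = -1) (hπc : π • c = c) : ∀ σ : Equiv.Perm (Fin k), σ • c = c := by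
  intro σ
  rcases Int.units_eq_one_or (Equiv.Perm.sign σ) with h | h
  · exact hA σ (Equiv.Perm.mem_alternatingGroup.mpr h)
  · have h' := hA (σ * π⁻¹) (Equiv.Perm.mem_alternatingGroup.mpr (by simp [h, hπ]))
    calc σ • c = (σ * π⁻¹) • π • c := by rw [← mul_smul, inv_mul_cancel_right]
      _ = c := by rw [hπc, h']

/-- Four transitive and upwards: one step needs only one homogeneity. -/
theorem succ_of_four_le {α : Type u} [Fintype α] [DecidableEq α] (G : Subgroup (Equiv.Perm α))
    {t : ℕ} (ht4 : 4 ≤ t) (ht : IsMultiplyPretransitive G α t)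
    (hom : Homogeneous.IsHom G α (t + 1)) (hn : t + 3 ≤ Fintype.card α) :
    IsMultiplyPretransitive G α (t + 1) := by
  obtain ⟨c, hc⟩ := hasEvenClass_aux _ rfl G t ht4 (by omega) ht
  have hno : ¬ NoOdd G α (t + 1) := fun h => by
    have := card_le_of_noOdd t G ht ht4 h
    omega
  simp only [NoOdd, not_forall] at hno
  obtain ⟨g, u, σ, hg, hσ⟩ := hno
  have hσ' : Equiv.Perm.sign σ = -1 := (Int.units_eq_one_or _).resolve_left hσ
  have hσc : σ • cls G u = cls G u := smul_cls_eq_self_iff.mpr ⟨g, hg⟩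
  obtain ⟨π, hπ⟩ := exists_smul_cls_eq hom c (cls G u)
  refine isMultiplyPretransitive_of_fixed hom c (fixed_of_odd c hc (π⁻¹ * σ * π) ?_ ?_)
  · simp [hσ']
  · rw [mul_smul, mul_smul, hπ, hσc, ← hπ, inv_smul_smul]

/-- A doubly transitive group other than the symmetric group has an element inducing a double
transposition on four points. -/
theorem exists_double {α : Type u} [Fintype α] [DecidableEq α] (G : Subgroup (Equiv.Perm α))
    (h2 : IsMultiplyPretransitive G α 2) (hn : 2 ≤ Fintype.card α) (hG : G ≠ ⊤) :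
    ∃ (g : G) (φ : Fin 4 ↪ α),
      g • φ = (Equiv.swap (0 : Fin 4) 1 * Equiv.swap (2 : Fin 4) 3).toEmbedding.trans φ := by
  haveI := h2
  obtain ⟨e⟩ := Embedding.nonempty_of_card_le (α := Fin 2) (β := α) (by
    rw [Fintype.card_fin]; omega)
  obtain ⟨g, hg⟩ := exists_smul_eq G e ((Equiv.swap (0 : Fin 2) 1).toEmbedding.trans e)
  have hg0 : g • e 0 = e 1 := DFunLike.congr_fun hg 0
  have hg1 : g • e 1 = e 0 := DFunLike.congr_fun hg 1
  have hev : Even (Nat.card G) := by
    rw [← Nat.not_odd_iff_even]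
    intro hodd
    obtain ⟨l, hl⟩ := hodd.of_dvd_nat (orderOf_dvd_natCard g)
    have hmm : g * g ∈ stabilizer G (e 0) := by rw [mem_stabilizer_iff, mul_smul, hg0, hg1]
    have hk : (g * g) ^ l • e 0 = e 0 := mem_stabilizer_iff.mp (pow_mem hmm l)
    have hp := pow_orderOf_eq_one g
    rw [hl, pow_succ', pow_mul, pow_two] at hp
    have h' : (g * (g * g) ^ l) • e 0 = e 0 := by rw [hp, one_smul]
    rw [mul_smul, hk, hg0] at h'
    exact absurd (e.injective h') (by decide)
  haveI := Fact.mk Nat.prime_two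
  obtain ⟨z, hz⟩ := exists_prime_orderOf_dvd_card' (G := G) 2 (even_iff_two_dvd.mp hev)
  have hzz : z * z = 1 := by rw [← pow_two, ← hz, pow_orderOf_eq_one]
  have hz1 : z ≠ 1 := fun h => by rw [h, orderOf_one] at hz; omega
  have hzv : ∀ p : α, z • z • p = p := fun p => by rw [← mul_smul, hzz, one_smul]
  obtain ⟨c, hc⟩ : ∃ c : α, z • c ≠ c := by
    by_contra hall
    push Not at hall
    exact hz1 (Subtype.ext (Equiv.ext hall))
  by_cases h : ∃ d : α, z • d ≠ d ∧ d ≠ c ∧ d ≠ z • c
  · obtain ⟨d, hd, hdc, hdz⟩ := h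
    have h13 : z • c ≠ z • d := fun e => hdc (MulAction.injective z e).symm
    have h03 : c ≠ z • d := fun e => hdz (by rw [e, hzv])
    have hinj : Injective ![c, z • c, d, z • d] := by
      intro i j hij
      fin_cases i <;> fin_cases j <;> first
        | rfl
        | exact absurd hij hc | exact absurd hij.symm hc
        | exact absurd hij hd | exact absurd hij.symm hd
        | exact absurd hij hdc | exact absurd hij.symm hdc
        | exact absurd hij hdz | exact absurd hij.symm hdz
        | exact absurd hij h13 | exact absurd hij.symm h13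
        | exact absurd hij h03 | exact absurd hij.symm h03
    refine ⟨z, ⟨_, hinj⟩, ?_⟩
    ext i
    fin_cases i
    · rfl
    · show z • z • c = c; exact hzv c
    · rfl
    · show z • z • d = d; exact hzv d
  · exfalso
    push Not at h
    have hzswap : (z : Equiv.Perm α) = Equiv.swap c (z • c) := by
      refine Equiv.ext fun p => ?_
      show z • p = Equiv.swap c (z • c) p
      by_cases hpc : p = c
      · rw [hpc, Equiv.swap_apply_left]
      by_cases hpz : p = z • c
      · rw [hpz, hzv, Equiv.swap_apply_right]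
      rw [Equiv.swap_apply_of_ne_of_ne hpc hpz]
      by_contra hp
      exact hpz (h p hp hpc)
    apply hG
    rw [eq_top_iff, ← Equiv.Perm.closure_isSwap, Subgroup.closure_le]
    rintro s ⟨x, y, hxy, rfl⟩
    obtain ⟨u, hu⟩ := (MulAction.is_two_pretransitive_iff).mp h2 hc.symm hxy
    have hs : Equiv.swap x y = (u : Equiv.Perm α) * z * (u : Equiv.Perm α)⁻¹ := by
      rw [hzswap, ← Equiv.swap_apply_apply]
      show Equiv.swap x y = Equiv.swap (u • c) (u • z • c)
      rw [hu.1, hu.2]
    rw [hs]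
    exact G.mul_mem (G.mul_mem u.2 z.2) (G.inv_mem u.2)

/-- One step of the Livingstone–Wagner induction. -/
theorem succ_transitive {α : Type u} [Fintype α] [DecidableEq α] (G : Subgroup (Equiv.Perm α))
    {t : ℕ} (ht1 : 1 ≤ t) (ht : IsMultiplyPretransitive G α t)
    (h1 : Homogeneous.IsHom G α (t + 1)) (h2 : Homogeneous.IsHom G α (t + 2))
    (hn : 2 * (t + 2) ≤ Fintype.card α) : IsMultiplyPretransitive G α (t + 1) := by
  haveI := ht
  by_cases h4 : 4 ≤ t
  · exact succ_of_four_le G h4 ht h1 (by omega)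
  by_contra hnot
  obtain ⟨u⟩ := Embedding.nonempty_of_card_le (α := Fin (t + 1)) (β := α) (by
    rw [Fintype.card_fin]; omega)
  set c := cls G u with hc
  have hex : ∀ d : Cls G α (t + 1), ∃ π : Equiv.Perm (Fin (t + 1)), π • c = d :=
    exists_smul_cls_eq h1 c
  choose π hπ using hex
  have hπmem : ∀ σ d, (π (σ • d))⁻¹ * σ * π d ∈ stabilizer (Equiv.Perm (Fin (t + 1))) c := by
    intro σ d
    rw [mem_stabilizer_iff, mul_smul, mul_smul, hπ, inv_smul_eq_iff, hπ]
  -- the alternating group is not in the stabiliser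
  have halt : ¬ ∀ σ ∈ alternatingGroup (Fin (t + 1)), σ • c = c := by
    intro hA
    have hev : ∀ σ : Equiv.Perm (Fin (t + 1)), σ • c = c → Equiv.Perm.sign σ = 1 := by
      intro σ hσ
      by_contra hs
      exact hnot (isMultiplyPretransitive_of_fixed h1 c
        (fixed_of_odd c hA σ ((Int.units_eq_one_or _).resolve_left hs) hσ))
    refine no_orientation (G := G) ht1 (by omega) h2 hn
      (fun d => (Equiv.Perm.sign (π d) : ℤ)) (fun σ d => ?_) (fun d => ?_)
    · have h := hev _ (mem_stabilizer_iff.mp (hπmem σ d))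
      rw [map_mul, map_mul, Equiv.Perm.sign_inv, mul_assoc, mul_eq_one_iff_eq_inv] at h
      show (Equiv.Perm.sign (π (σ • d)) : ℤ) = _
      rw [h, Int.units_inv_eq_self, Units.val_mul]
    · rw [← Units.val_mul, Int.units_mul_self, Units.val_one]
  rcases (by omega : t = 1 ∨ t = 2 ∨ t = 3) with h | h | h <;> subst h
  · apply halt
    intro σ hσ
    have : ∀ σ : Equiv.Perm (Fin (1 + 1)), Equiv.Perm.sign σ = 1 → σ = 1 := by decide +kernel
    rw [this σ (Equiv.Perm.mem_alternatingGroup.mp hσ), one_smul]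
  · -- apex
    by_cases hfree : ∃ γ : Equiv.Perm (Fin 3), γ • c = c ∧ ∀ i, γ i ≠ i
    · obtain ⟨γ, hγ, hγf⟩ := hfree
      apply halt
      intro σ hσ
      rcases a3_of_free γ hγf σ (Equiv.Perm.mem_alternatingGroup.mp hσ) with h | h | h <;> subst h
      · exact one_smul _ c
      · exact hγ
      · rw [mul_smul, hγ, hγ]
    push Not at hfree
    obtain ⟨i₀, hi₀⟩ : ∃ i₀, ∀ σ : Equiv.Perm (Fin 3), σ • c = c → σ i₀ = i₀ := by
      by_cases hne : ∃ a : Equiv.Perm (Fin 3), a • c = c ∧ a ≠ 1
      · obtain ⟨a, ha, ha1⟩ := hne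
        obtain ⟨i, hi⟩ := hfree a ha
        refine ⟨i, fun σ hσ => ?_⟩
        by_cases hσ1 : σ = 1
        · rw [hσ1]; rfl
        by_cases hσa : σ = a
        · rw [hσa, hi]
        exfalso
        obtain ⟨j, hj⟩ := hfree (a * σ) (by rw [mul_smul, hσ, ha])
        exact free_of_two a σ ha1 hσ1 ⟨i, hi⟩ (hfree σ hσ) (Ne.symm hσa) j hj
      · push Not at hne
        exact ⟨0, fun σ hσ => by rw [hne σ hσ]; rfl⟩
    have hGtop : G ≠ ⊤ := by
      intro hG
      apply hnot
      rw [isMultiplyPretransitive_iff]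
      intro x y
      obtain ⟨σ, hσ⟩ := (Equiv.Perm.isMultiplyPretransitive α (2 + 1)).exists_smul_eq x y
      exact ⟨⟨σ, hG ▸ Subgroup.mem_top σ⟩, hσ⟩
    obtain ⟨g₁, φ₁, hφ₁⟩ := exists_double G ht (by omega) hGtop
    refine no_apex (G := G) h2 hn (fun d => π d i₀) (fun σ d => ?_) φ₁ g₁ hφ₁
    have h := hi₀ _ (mem_stabilizer_iff.mp (hπmem σ d))
    rw [Equiv.Perm.mul_apply, Equiv.Perm.mul_apply] at h
    exact ((π (σ • d)).symm_apply_eq.mp h).symm
  · -- pairing
    haveI : IsMultiplyPretransitive G α 2 :=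
      MulAction.isMultiplyPretransitive_of_le (n := 3) (by norm_num)
        (by rw [Nat.card_eq_fintype_card]; omega)
    have hGtop : G ≠ ⊤ := by
      intro hG
      apply hnot
      rw [isMultiplyPretransitive_iff]
      intro x y
      obtain ⟨σ, hσ⟩ := (Equiv.Perm.isMultiplyPretransitive α (3 + 1)).exists_smul_eq x y
      exact ⟨⟨σ, hG ▸ Subgroup.mem_top σ⟩, hσ⟩
    obtain ⟨g₁, φ₁, hφ₁⟩ := exists_double G inferInstance (by omega) hGtop
    set z₀ := Equiv.swap (0 : Fin 4) 1 * Equiv.swap (2 : Fin 4) 3 with hz₀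
    have hz₀c : z₀ • cls G φ₁ = cls G φ₁ :=
      smul_cls_eq_self_iff.mpr ⟨g₁, fun i => DFunLike.congr_fun hφ₁ i⟩
    set z := (π (cls G φ₁))⁻¹ * z₀ * π (cls G φ₁) with hzdef
    have hzc : z • c = c := by
      rw [hzdef, mul_smul, mul_smul, hπ, hz₀c, inv_smul_eq_iff, hπ]
    have hz0free : (∀ i, z₀ i ≠ i) ∧ z₀ * z₀ = 1 := by rw [hz₀]; decide +kernel
    have hzfree : ∀ i, z i ≠ i := fun i e => by
      rw [hzdef, Equiv.Perm.mul_apply, Equiv.Perm.mul_apply] at e
      exact hz0free.1 _ ((π (cls G φ₁)).symm_apply_eq.mp e)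
    have hzz : z * z = 1 := by
      rw [hzdef]
      calc _ = (π (cls G φ₁))⁻¹ * (z₀ * z₀) * π (cls G φ₁) := by group
        _ = 1 := by rw [hz0free.2, mul_one, inv_mul_cancel]
    by_cases h3 : ∃ γ : Equiv.Perm (Fin 4), γ • c = c ∧ γ * γ * γ = 1 ∧ γ ≠ 1
    · obtain ⟨γ, hγ, hγ3, hγ1⟩ := h3
      apply halt
      intro σ hσ
      have hm : ∀ {p : Equiv.Perm (Fin (3 + 1))},
          p • c = c → p ∈ stabilizer (Equiv.Perm (Fin (3 + 1))) c := fun h => h
      have hg := hm hγ
      have hzm := hm hzc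
      set S := stabilizer (Equiv.Perm (Fin (3 + 1))) c
      have hσS : σ ∈ S := by
        rcases a4_of_three z hzfree hzz γ hγ3 hγ1 σ (Equiv.Perm.mem_alternatingGroup.mp hσ) with
          h | h | h | h | h | h | h | h | h | h | h | h <;> subst h
        · exact S.one_mem
        · exact hg
        · exact S.mul_mem hg hg
        · exact hzm
        · exact S.mul_mem (S.mul_mem hg hzm) (S.inv_mem hg)
        · exact S.mul_mem (S.mul_mem (S.inv_mem hg) hzm) hg
        · exact S.mul_mem hg hzm
        · exact S.mul_mem hzm hg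
        · exact S.mul_mem (S.mul_mem hg hg) hzm
        · exact S.mul_mem hzm (S.mul_mem hg hg)
        · exact S.mul_mem (S.mul_mem hg hzm) hg
        · exact S.mul_mem (S.mul_mem (S.mul_mem hg hg) hzm) (S.mul_mem hg hg)
      exact hσS
    push Not at h3
    -- the stabiliser is a 2-group, so fixes one of the three pairings
    set S := stabilizer (Equiv.Perm (Fin (3 + 1))) c with hS
    have hS2 : IsPGroup 2 S := by
      intro ⟨s, hs⟩
      refine ⟨2, Subtype.ext ?_⟩
      show s ^ 2 ^ 2 = 1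
      have key : ∀ s : Equiv.Perm (Fin 4), s * s * s = 1 ∨ s ^ 2 ^ 2 = 1 := by decide +kernel
      rcases key s with h | h
      · rw [h3 s hs h, one_pow]
      · exact h
    let act : MulAction S {w : Equiv.Perm (Fin 4) // (∀ i, w i ≠ i) ∧ w * w = 1} :=
      { smul := fun s w => ⟨(s : Equiv.Perm (Fin 4)) * w.1 * (s : Equiv.Perm (Fin 4))⁻¹, fun i e => by
            rw [Equiv.Perm.mul_apply, Equiv.Perm.mul_apply] at e
            exact w.2.1 _ ((s : Equiv.Perm (Fin 4)).injective
              (e.trans ((s : Equiv.Perm (Fin 4)).apply_symm_apply i).symm)),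
          by rw [show (s : Equiv.Perm (Fin 4)) * w.1 * (s : Equiv.Perm (Fin 4))⁻¹ *
              ((s : Equiv.Perm (Fin 4)) * w.1 * (s : Equiv.Perm (Fin 4))⁻¹) =
              (s : Equiv.Perm (Fin 4)) * (w.1 * w.1) * (s : Equiv.Perm (Fin 4))⁻¹ by group,
            w.2.2, mul_one, mul_inv_cancel]⟩
        one_smul := fun w => Subtype.ext (show (1 : Equiv.Perm (Fin 4)) * w.1 * 1⁻¹ = w.1 by simp)
        mul_smul := fun s s' w => Subtype.ext (show ((s : Equiv.Perm (Fin 4)) * s') * w.1 *
          ((s : Equiv.Perm (Fin 4)) * s')⁻¹ = (s : Equiv.Perm (Fin 4)) *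
          ((s' : Equiv.Perm (Fin 4)) * w.1 * (s' : Equiv.Perm (Fin 4))⁻¹) *
          (s : Equiv.Perm (Fin 4))⁻¹ by group) }
    letI := act
    haveI := Fact.mk Nat.prime_two
    obtain ⟨w, hw⟩ : ∃ w, w ∈ fixedPoints S
        {w : Equiv.Perm (Fin 4) // (∀ i, w i ≠ i) ∧ w * w = 1} := by
      refine hS2.nonempty_fixed_point_of_prime_not_dvd_card _ ?_
      rw [Nat.card_eq_fintype_card, card_double_four]
      norm_num
    have hwc : ∀ σ : Equiv.Perm (Fin 4), σ • c = c → σ * w.1 * σ⁻¹ = w.1 := fun σ hσ =>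
      congrArg Subtype.val (hw ⟨σ, hσ⟩)
    have hres := pairing_consequences (G := G) h2 (by omega) (fun d => π d * w.1 * (π d)⁻¹)
      (fun σ d => by
        have h := hwc _ (mem_stabilizer_iff.mp (hπmem σ d))
        calc π (σ • d) * w.1 * (π (σ • d))⁻¹
            = π (σ • d) * (((π (σ • d))⁻¹ * σ * π d) * w.1 * ((π (σ • d))⁻¹ * σ * π d)⁻¹) *
              (π (σ • d))⁻¹ := by rw [h]
          _ = σ * (π d * w.1 * (π d)⁻¹) * σ⁻¹ := by group)
      (fun d i e => by
        rw [Equiv.Perm.mul_apply, Equiv.Perm.mul_apply] at e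
        exact w.2.1 _ ((π d).injective (e.trans ((π d).apply_symm_apply i).symm)))
      (fun d => by
        calc _ = π d * (w.1 * w.1) * (π d)⁻¹ := by group
          _ = 1 := by rw [w.2.2, mul_one, mul_inv_cancel])
    exact no_twenty_four G hres.1 ht h1 hres.2

/-- A `k`-homogeneous group of degree at least `2k ≥ 4` is `(k - 1)`-transitive. -/
theorem isMultiplyPretransitive_pred {α : Type u} [Fintype α] [DecidableEq α]
    (G : Subgroup (Equiv.Perm α)) {k : ℕ} (hk : 2 ≤ k) (hkn : 2 * k ≤ Fintype.card α)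
    (h : Homogeneous.IsHom G α k) : IsMultiplyPretransitive G α (k - 1) := by
  have hall := Homogeneous.isHom_of_le h (by omega)
  suffices hs : ∀ j, j + 1 ≤ k → IsMultiplyPretransitive G α j from hs (k - 1) (by omega)
  intro j
  induction j with
  | zero => intro _; exact is_zero_pretransitive
  | succ j ih =>
    intro hj
    rcases Nat.eq_zero_or_pos j with rfl | hj0
    · refine is_one_pretransitive_iff.mpr ⟨fun x y => ?_⟩
      obtain ⟨g, hg⟩ := hall 1 (by omega) le_rfl {x} {y} (Finset.card_singleton x)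
        (Finset.card_singleton y)
      rw [Finset.smul_finset_singleton, Finset.singleton_inj] at hg
      exact ⟨g, hg⟩
    exact succ_transitive G hj0 (ih (by omega)) (hall (j + 1) (by omega) (by omega))
      (hall (j + 2) (by omega) (by omega)) (by omega)

/-- A `k`-homogeneous group of degree at least `2k ≥ 10` is `k`-transitive. -/
theorem isMultiplyPretransitive_self {α : Type u} [Fintype α] [DecidableEq α]
    (G : Subgroup (Equiv.Perm α)) {k : ℕ} (hk : 5 ≤ k) (hkn : 2 * k ≤ Fintype.card α)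
    (h : Homogeneous.IsHom G α k) : IsMultiplyPretransitive G α k := by
  obtain ⟨t, rfl⟩ : ∃ t, k = t + 1 := ⟨k - 1, by omega⟩
  have ht := isMultiplyPretransitive_pred G (by omega) hkn h
  exact succ_of_four_le G (by omega) ht h (by omega)

end CfsgLib.SmallGroups.TupleClass
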