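import Mathlib

/-!
Certificates for subgroups of `GL(2, p)` acting regularly on the non-zero vectors: a list of
matrices closed under the generators, times a group of scalars.
-/

set_option autoImplicit false

namespace CfsgLib.SmallGroups.MatCert

open Matrix

abbrev Code := ℕ × ℕ × ℕ × ℕ

def mulC (p : ℕ) (x y : Code) : Code :=
  ((x.1 * y.1 + x.2.1 * y.2.2.1) % p, (x.1 * y.2.1 + x.2.1 * y.2.2.2) % p,
   (x.2.2.1 * y.1 + x.2.2.2 * y.2.2.1) % p, (x.2.2.1 * y.2.1 + x.2.2.2 * y.2.2.2) % p)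

def oneC : Code := (1, 0, 0, 1)

def buildList (p : ℕ) (gens : List Code) (par : List (ℕ × ℕ)) : List Code :=
  par.foldl (fun L ij => L ++ [mulC p (L.getD ij.1 oneC) (gens.getD ij.2 oneC)]) [oneC]

def toMat (p : ℕ) (c : Code) : Matrix (Fin 2) (Fin 2) (ZMod p) :=
  !![(c.1 : ZMod p), (c.2.1 : ZMod p); (c.2.2.1 : ZMod p), (c.2.2.2 : ZMod p)]

/-- The conditions to be checked by computation. -/
def Good (p : ℕ) (gens : List Code) (z n : ℕ) (L : List Code) : Prop :=
  (∀ m ∈ L, ∀ g ∈ gens, mulC p m g ∈ L) ∧ oneC ∈ L ∧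
  (∀ m ∈ L, m.1 < p ∧ m.2.1 < p ∧ m.2.2.1 < p ∧ m.2.2.2 < p) ∧ L.Nodup ∧
  L.length * n + 1 = p * p ∧ z ^ n % p = 1 ∧ ((List.range n).map fun k => z ^ k % p).Nodup ∧
  (∀ m ∈ L, m.2.2.1 = 0 → m.1 ∈ (List.range n).map (fun k => z ^ k % p) → m = oneC)

instance instDecidableGood (p : ℕ) (gens : List Code) (z n : ℕ) (L : List Code) :
    Decidable (Good p gens z n L) := by unfold Good; infer_instance

variable {p : ℕ}

theorem toMat_mulC (x y : Code) : toMat p (mulC p x y) = toMat p x * toMat p y := by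
  ext i j
  fin_cases i <;> fin_cases j <;>
    simp [toMat, mulC, Matrix.mul_apply, Fin.sum_univ_two, ZMod.natCast_mod]

theorem toMat_one : toMat p oneC = 1 := by
  ext i j; fin_cases i <;> fin_cases j <;> simp [toMat, oneC]

theorem toMat_injective_of_lt {x y : Code}
    (hx : x.1 < p ∧ x.2.1 < p ∧ x.2.2.1 < p ∧ x.2.2.2 < p)
    (hy : y.1 < p ∧ y.2.1 < p ∧ y.2.2.1 < p ∧ y.2.2.2 < p)
    (h : toMat p x = toMat p y) : x = y := by
  obtain ⟨a, b, c, d⟩ := x
  obtain ⟨a', b', c', d'⟩ := y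
  have key : ∀ u v : ℕ, u < p → v < p → (u : ZMod p) = v → u = v := fun u v hu hv huv =>
    Nat.ModEq.eq_of_lt_of_lt ((ZMod.natCast_eq_natCast_iff _ _ _).mp huv) hu hv
  have h00 := congrFun (congrFun h 0) 0
  have h01 := congrFun (congrFun h 0) 1
  have h10 := congrFun (congrFun h 1) 0
  have h11 := congrFun (congrFun h 1) 1
  simp [toMat] at h00 h01 h10 h11
  simp only at hx hy
  rw [key _ _ hx.1 hy.1 h00, key _ _ hx.2.1 hy.2.1 h01, key _ _ hx.2.2.1 hy.2.2.1 h10,
    key _ _ hx.2.2.2 hy.2.2.2 h11]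

/-- The certificate theorem. -/
theorem regular_of_cert [Fact p.Prime] (gens : List Code) (par : List (ℕ × ℕ)) (z n : ℕ)
    (hgood : Good p gens z n (buildList p gens par))
    (H : Subgroup (GL (Fin 2) (ZMod p))) (S : Set (GL (Fin 2) (ZMod p)))
    (hH : H = Subgroup.closure S)
    (hS : ∀ s ∈ S, (∃ g ∈ gens, (s : Matrix (Fin 2) (Fin 2) (ZMod p)) = toMat p g) ∨
      (s : Matrix (Fin 2) (Fin 2) (ZMod p)) = (z : ZMod p) • 1)
    (hgens : ∀ g ∈ gens, ∃ s ∈ S, (s : Matrix (Fin 2) (Fin 2) (ZMod p)) = toMat p g)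
    (hz : n = 1 ∨ ∃ s ∈ S, (s : Matrix (Fin 2) (Fin 2) (ZMod p)) = (z : ZMod p) • 1) :
    Nat.card H = p * p - 1 ∧ ∀ v w : Fin 2 → ZMod p, v ≠ 0 → w ≠ 0 →
      ∃! h : H, Matrix.mulVec ((h : GL (Fin 2) (ZMod p)) : Matrix (Fin 2) (Fin 2) (ZMod p)) v = w := by
  classical
  set L := buildList p gens par with hL
  obtain ⟨hclosed, hone, hlt, hnd, hlen, hzn, hznd, hstab⟩ := hgood
  have hn : 0 < n := by
    rcases Nat.eq_zero_or_pos n with h | h
    · have hp2 := (Fact.out : p.Prime).two_le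
      rw [h] at hlen; nlinarith
    · exact h
  set S₀ : Set (GL (Fin 2) (ZMod p)) :=
    {s | ∃ g ∈ gens, (s : Matrix (Fin 2) (Fin 2) (ZMod p)) = toMat p g} with hS₀
  -- elements of the closure of the matrix generators have their matrices in the list
  have hmemL : ∀ h ∈ Subgroup.closure S₀,
      ∃ m ∈ L, (h : Matrix (Fin 2) (Fin 2) (ZMod p)) = toMat p m := by
    intro h hh
    rw [← Subgroup.mem_toSubmonoid, Subgroup.closure_toSubmonoid_of_finite] at hh
    induction hh using Submonoid.closure_induction_right with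
    | one => exact ⟨oneC, hone, by simp [toMat_one]⟩
    | mul_right x _ y hy ih =>
      obtain ⟨m, hm, hm'⟩ := ih
      obtain ⟨g, hg, hg'⟩ := hy
      exact ⟨_, hclosed m hm g hg, by rw [toMat_mulC, Units.val_mul, hm', hg']⟩
  -- every code in the list is the matrix of an element of both closures
  have hreal : ∀ m ∈ L, ∃ h ∈ H, h ∈ Subgroup.closure S₀ ∧
      (h : Matrix (Fin 2) (Fin 2) (ZMod p)) = toMat p m := by
    have hbase : ∀ m ∈ [oneC], ∃ h ∈ H, h ∈ Subgroup.closure S₀ ∧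
        (h : Matrix (Fin 2) (Fin 2) (ZMod p)) = toMat p m := by
      intro m hm
      rw [List.mem_singleton] at hm
      exact ⟨1, one_mem _, one_mem _, by simp [hm, toMat_one]⟩
    suffices ∀ (ps : List (ℕ × ℕ)) (L₀ : List Code),
        (∀ m ∈ L₀, ∃ h ∈ H, h ∈ Subgroup.closure S₀ ∧
          (h : Matrix (Fin 2) (Fin 2) (ZMod p)) = toMat p m) →
        ∀ m ∈ ps.foldl (fun L ij => L ++ [mulC p (L.getD ij.1 oneC) (gens.getD ij.2 oneC)]) L₀,
          ∃ h ∈ H, h ∈ Subgroup.closure S₀ ∧ (h : Matrix (Fin 2) (Fin 2) (ZMod p)) = toMat p m from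
      this par [oneC] hbase
    intro ps
    induction ps with
    | nil => intro L₀ h; exact h
    | cons ij ps ih =>
      intro L₀ h₀
      refine ih _ fun m hm => ?_
      rcases List.mem_append.mp hm with hm | hm
      · exact h₀ m hm
      rw [List.mem_singleton] at hm
      have h1 : ∃ h ∈ H, h ∈ Subgroup.closure S₀ ∧
          (h : Matrix (Fin 2) (Fin 2) (ZMod p)) = toMat p (L₀.getD ij.1 oneC) := by
        by_cases hi : ij.1 < L₀.length
        · rw [List.getD_eq_getElem _ _ hi]; exact h₀ _ (List.getElem_mem hi)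
        · rw [List.getD_eq_default _ _ (not_lt.mp hi)]
          exact ⟨1, one_mem _, one_mem _, by simp [toMat_one]⟩
      have h2 : ∃ h ∈ H, h ∈ Subgroup.closure S₀ ∧
          (h : Matrix (Fin 2) (Fin 2) (ZMod p)) = toMat p (gens.getD ij.2 oneC) := by
        by_cases hi : ij.2 < gens.length
        · rw [List.getD_eq_getElem _ _ hi]
          obtain ⟨s, hs, hs'⟩ := hgens _ (List.getElem_mem hi)
          exact ⟨s, hH ▸ Subgroup.subset_closure hs,
            Subgroup.subset_closure ⟨_, List.getElem_mem hi, hs'⟩, hs'⟩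
        · rw [List.getD_eq_default _ _ (not_lt.mp hi)]
          exact ⟨1, one_mem _, one_mem _, by simp [toMat_one]⟩
      obtain ⟨a, ha, ha0, ha'⟩ := h1
      obtain ⟨b, hb, hb0, hb'⟩ := h2
      exact ⟨a * b, mul_mem ha hb, mul_mem ha0 hb0,
        by rw [hm, toMat_mulC, Units.val_mul, ha', hb']⟩
  have hzk : (z : ZMod p) ^ n = 1 := by
    rw [← Nat.cast_pow, ← ZMod.natCast_mod (z ^ n) p, hzn, Nat.cast_one]
  -- upper bound
  have hupper : ∀ h ∈ H, ∃ m ∈ L, ∃ k < n,
      (h : Matrix (Fin 2) (Fin 2) (ZMod p)) = ((z : ZMod p) ^ k) • toMat p m := by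
    intro h hh
    rw [hH, ← Subgroup.mem_toSubmonoid, Subgroup.closure_toSubmonoid_of_finite] at hh
    induction hh using Submonoid.closure_induction_right with
    | one => exact ⟨oneC, hone, 0, hn, by simp [toMat_one]⟩
    | mul_right x _ y hy ih =>
      obtain ⟨m, hm, k, hk, hx⟩ := ih
      rcases hS y hy with ⟨g, hg, hg'⟩ | hy'
      · exact ⟨_, hclosed m hm g hg, k, hk, by rw [toMat_mulC, Units.val_mul, hx, hg', smul_mul_assoc]⟩
      · refine ⟨m, hm, (k + 1) % n, Nat.mod_lt _ hn, ?_⟩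
        have : (z : ZMod p) ^ ((k + 1) % n) = (z : ZMod p) ^ (k + 1) := by
          conv_rhs => rw [← Nat.mod_add_div (k + 1) n, pow_add, pow_mul]
          rw [hzk, one_pow, mul_one]
        rw [this, Units.val_mul, hx, hy', Algebra.mul_smul_comm, mul_one, smul_smul, pow_succ']
  let Z : ℕ → GL (Fin 2) (ZMod p) := fun k => if hs : n = 1 then 1 else
    (Exists.choose (hz.resolve_left hs)) ^ k
  have hZ : ∀ k < n, Z k ∈ H ∧ (Z k : Matrix (Fin 2) (Fin 2) (ZMod p)) = (z : ZMod p) ^ k • 1 := by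
    intro k hk
    by_cases hs : n = 1
    · have hk0 : k = 0 := by omega
      simp [Z, dif_pos hs, hk0]
    · have hspec := (hz.resolve_left hs).choose_spec
      simp only [Z, dif_neg hs]
      refine ⟨pow_mem (hH ▸ Subgroup.subset_closure hspec.1) _, ?_⟩
      rw [Units.val_pow_eq_pow_val, hspec.2, smul_pow, one_pow]
  choose h hhH hh0 hhm using hreal
  -- the injection into the non-zero vectors
  let e1 : Fin 2 → ZMod p := ![1, 0]
  have he1 : e1 ≠ 0 := fun h => by simpa [e1] using congrFun h 0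
  have hne : ∀ (g : GL (Fin 2) (ZMod p)) (v : Fin 2 → ZMod p), v ≠ 0 →
      (g : Matrix (Fin 2) (Fin 2) (ZMod p)) *ᵥ v ≠ 0 := fun g v hv h => hv <| by
    have h' := congrArg (((g⁻¹ : GL (Fin 2) (ZMod p)) : Matrix (Fin 2) (Fin 2) (ZMod p)) *ᵥ ·) h
    simp only [Matrix.mulVec_mulVec, ← Units.val_mul, inv_mul_cancel, Units.val_one,
      Matrix.one_mulVec, Matrix.mulVec_zero] at h'
    exact h'
  let E : {x // x ∈ L} × Fin n → H := fun x => ⟨Z x.2 * h x.1.1 x.1.2,
    mul_mem (hZ x.2 x.2.2).1 (hhH _ _)⟩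
  let act : H → {v : Fin 2 → ZMod p // v ≠ 0} := fun g =>
    ⟨((g : GL (Fin 2) (ZMod p)) : Matrix (Fin 2) (Fin 2) (ZMod p)) *ᵥ e1, hne _ _ he1⟩
  have hinj : Function.Injective (act ∘ E) := by
    rintro ⟨⟨m, hm⟩, ⟨k, hk⟩⟩ ⟨⟨m', hm'⟩, ⟨k', hk'⟩⟩ hx
    have hx' : (z : ZMod p) ^ k • (toMat p m *ᵥ e1) = (z : ZMod p) ^ k' • (toMat p m' *ᵥ e1) := by
      have := congrArg Subtype.val hx
      simpa only [act, E, Function.comp_apply, Units.val_mul, (hZ k hk).2, (hZ k' hk').2, hhm,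
        Matrix.smul_mulVec, smul_mul_assoc, one_mul] using this
    set q := (h m' hm')⁻¹ * h m hm with hq
    obtain ⟨r, hr, hr'⟩ := hmemL q (mul_mem (inv_mem (hh0 _ _)) (hh0 _ _))
    set j := (k' + (n - k)) % n with hjdef
    have hjn : j < n := Nat.mod_lt _ hn
    have hj : (z : ZMod p) ^ j * (z : ZMod p) ^ k = (z : ZMod p) ^ k' := by
      rw [hjdef, ← pow_eq_pow_mod _ hzk, ← pow_add, add_assoc, Nat.sub_add_cancel hk.le, pow_add,
        hzk, mul_one]
    have hqv : toMat p r *ᵥ e1 = (z : ZMod p) ^ j • e1 := by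
      have hz0 : (z : ZMod p) ^ k ≠ 0 := by
        intro h0
        have : (z : ZMod p) ^ n = 0 := by
          rw [← Nat.sub_add_cancel hk.le, pow_add, h0, mul_zero]
        rw [hzk] at this; exact one_ne_zero this
      apply smul_right_injective _ hz0
      show (z : ZMod p) ^ k • (toMat p r *ᵥ e1) = (z : ZMod p) ^ k • ((z : ZMod p) ^ j • e1)
      rw [smul_smul, mul_comm, hj, ← hr', hq, Units.val_mul, ← Matrix.mulVec_mulVec, hhm,
        ← Matrix.mulVec_smul, hx', Matrix.mulVec_smul, Matrix.mulVec_mulVec, ← hhm m' hm',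
        ← Units.val_mul, inv_mul_cancel, Units.val_one, Matrix.one_mulVec]
    have hr0 := congrFun hqv 0
    have hr1 := congrFun hqv 1
    simp [toMat, e1, Matrix.mulVec, dotProduct, Fin.sum_univ_two] at hr0 hr1
    have hpp : 0 < p := (Fact.out : p.Prime).pos
    have hlt' := hlt r hr
    have hc : r.2.2.1 = 0 := by
      exact Nat.eq_zero_of_dvd_of_lt ((ZMod.natCast_eq_zero_iff _ _).mp hr1) hlt'.2.2.1
    have ha : r.1 = z ^ j % p := by
      apply Nat.ModEq.eq_of_lt_of_lt _ hlt'.1 (Nat.mod_lt _ hpp)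
      rw [← ZMod.natCast_eq_natCast_iff, ZMod.natCast_mod, Nat.cast_pow, hr0]
    have hr1' : r = oneC := hstab r hr hc (List.mem_map.mpr ⟨j, List.mem_range.mpr hjn, ha.symm⟩)
    subst hr1'
    have hq1 : q = 1 := Units.ext (by rw [hr', toMat_one]; rfl)
    have hmm : m = m' := by
      apply toMat_injective_of_lt (hlt m hm) (hlt m' hm')
      have he : h m' hm' = h m hm := inv_mul_eq_one.mp hq1
      rw [← hhm m hm, ← hhm m' hm', he]
    subst hmm
    have hzz : z ^ k % p = z ^ k' % p := by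
      apply Nat.ModEq.eq_of_lt_of_lt _ (Nat.mod_lt _ hpp) (Nat.mod_lt _ hpp)
      rw [← ZMod.natCast_eq_natCast_iff, ZMod.natCast_mod, ZMod.natCast_mod, Nat.cast_pow, Nat.cast_pow,
        ← hj]
      have h10 : (z : ZMod p) ^ j = 1 := by
        rw [← hr0]; simp [oneC]
      rw [h10, one_mul]
    have : k = k' := List.inj_on_of_nodup_map hznd (List.mem_range.mpr hk) (List.mem_range.mpr hk') hzz
    subst this
    rfl
  have hcardV : Nat.card {v : Fin 2 → ZMod p // v ≠ 0} = p * p - 1 := by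
    rw [Nat.card_eq_fintype_card, Fintype.card_subtype_compl, Fintype.card_subtype_eq]
    simp [pow_two]
  have hcardE : Nat.card ({x // x ∈ L} × Fin n) = p * p - 1 := by
    rw [Nat.card_prod, Nat.card_fin, Nat.card_eq_fintype_card, Fintype.card_of_subtype L.toFinset
      (fun x => List.mem_toFinset), List.toFinset_card_of_nodup hnd]
    omega
  have hEs : Function.Surjective E := by
    rintro ⟨g, hg⟩
    obtain ⟨m, hm, k, hk, hgm⟩ := hupper g hg
    refine ⟨⟨⟨m, hm⟩, ⟨k, hk⟩⟩, Subtype.ext (Units.ext ?_)⟩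
    show ((Z k * h m hm : GL (Fin 2) (ZMod p)) : Matrix (Fin 2) (Fin 2) (ZMod p)) = _
    rw [Units.val_mul, (hZ k hk).2, hhm, smul_mul_assoc, one_mul, hgm]
  have hbij : Function.Bijective (act ∘ E) :=
    (Nat.bijective_iff_injective_and_card _).mpr ⟨hinj, hcardE.trans hcardV.symm⟩
  have hEb : Function.Bijective E := ⟨hinj.of_comp, hEs⟩
  have hcardH : Nat.card H = p * p - 1 := (Nat.card_eq_of_bijective E hEb).symm.trans hcardE
  refine ⟨hcardH, fun v w hv hw => ?_⟩
  have htr : ∀ v : Fin 2 → ZMod p, v ≠ 0 → ∃ g : H,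
      ((g : GL (Fin 2) (ZMod p)) : Matrix (Fin 2) (Fin 2) (ZMod p)) *ᵥ e1 = v := fun v hv => by
    obtain ⟨x, hx⟩ := hbij.2 ⟨v, hv⟩
    exact ⟨E x, congrArg Subtype.val hx⟩
  let actv : H → {v : Fin 2 → ZMod p // v ≠ 0} := fun g =>
    ⟨((g : GL (Fin 2) (ZMod p)) : Matrix (Fin 2) (Fin 2) (ZMod p)) *ᵥ v, hne _ _ hv⟩
  have hs : Function.Surjective actv := by
    rintro ⟨u, hu⟩
    obtain ⟨a, ha⟩ := htr v hv
    obtain ⟨b, hb⟩ := htr u hu
    refine ⟨b * a⁻¹, Subtype.ext ?_⟩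
    simp only [actv, Subgroup.coe_mul, Subgroup.coe_inv, Units.val_mul]
    rw [← ha, ← Matrix.mulVec_mulVec, Matrix.mulVec_mulVec e1, ← Units.val_mul, inv_mul_cancel,
      Units.val_one, Matrix.one_mulVec, hb]
  have hb' : Function.Bijective actv :=
    (Nat.bijective_iff_surjective_and_card _).mpr ⟨hs, hcardH.trans hcardV.symm⟩
  obtain ⟨g, hg, huniq⟩ := hb'.existsUnique ⟨w, hw⟩
  exact ⟨g, congrArg Subtype.val hg, fun g' hg' => huniq g' (Subtype.ext hg')⟩

end CfsgLib.SmallGroups.MatCert
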