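import Mathlib
import Cfsg.Agent.Lib.SmallSimple.Order168

/-!
A computable model of the simple group of order 168: the 168 permutations of eight points, each
coded as a natural number in base eight.
-/

set_option autoImplicit false

namespace CfsgLib.SmallGroups.Model168

open CfsgLib.SmallSimple.O168

/-- The `x`-th digit in base eight. -/
def dig (a x : ℕ) : ℕ := a / 8 ^ x % 8

/-- Composition of two codes. -/
def cm (a b : ℕ) : ℕ :=
  dig a (dig b 0) + 8 * dig a (dig b 1) + 64 * dig a (dig b 2) + 512 * dig a (dig b 3) +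
    4096 * dig a (dig b 4) + 32768 * dig a (dig b 5) + 262144 * dig a (dig b 6) +
    2097152 * dig a (dig b 7)

/-- The code of a permutation. -/
def code (p : Equiv.Perm (Fin 8)) : ℕ :=
  (p 0).val + 8 * (p 1).val + 64 * (p 2).val + 512 * (p 3).val + 4096 * (p 4).val +
    32768 * (p 5).val + 262144 * (p 6).val + 2097152 * (p 7).val

/-- The code of the identity. -/
def one : ℕ := 16434824

/-- Iterated composition. -/
def pw (c : ℕ) : ℕ → ℕ
  | 0 => one
  | n + 1 => cm (pw c n) c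

/-- The codes of the group elements. -/
def elems : List ℕ := [
  380282, 414967, 442134, 571823, 650853, 727804, 945105, 1012522, 1033613, 1139551, 1222585,
  1269387, 1392076, 1439921, 1549030, 1628130, 1766492, 1808723, 1886878, 1906485, 1977451,
  2189803, 2324133, 2337692, 2773435, 2811655, 2838360, 2895165, 2968119, 3018414, 3175795,
  3313114, 3397142, 3436244, 3507623, 3618874, 3785173, 3832514, 3913000, 4021472, 4041030,
  4108468, 4346846, 4390155, 4441969, 4487406, 4557812, 4701221, 5005217, 5169724, 5179727,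
  5288318, 5364807, 5414640, 5568388, 5706211, 5761112, 5786235, 5803805, 5903919, 6152489,
  6175624, 6243013, 6347964, 6365030, 6465655, 6743520, 6779220, 6805890, 6880048, 6954437,
  7061614, 7347095, 7401002, 7537789, 7685048, 7757967, 7810817, 7873516, 7960589, 8096417,
  8148238, 8258418, 8309777, 8435189, 8518230, 8625386, 8741117, 8761256, 8862343, 8942493,
  9111529, 9169419, 9272641, 9347534, 9425584, 9705150, 9743391, 9768563, 9977674, 10081337,
  10126039, 10282832, 10392963, 10440794, 10538899, 10643066, 10687775, 10831814, 10910872,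
  10985779, 11029711, 11109182, 11157041, 11278834, 11334694, 11504724, 11661706, 11744208,
  11789505, 12101880, 12136551, 12164740, 12346019, 12388761, 12527116, 12663609, 12698287,
  12725965, 12855143, 12934684, 13011131, 13228488, 13299937, 13349700, 13422871, 13505912,
  13553218, 13675459, 13727336, 13865117, 13911513, 14053907, 14124810, 14432341, 14451948,
  14522914, 14804300, 14857122, 14899409, 14969626, 15075221, 15156267, 15226484, 15240547,
  15374366, 15526021, 15536556, 15673952, 15744169, 15796942, 15835701, 16040178, 16096528,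
  16135238, 16339715, 16392537, 16434824]

/-- Each element as a word in the generators. -/
def words : List (ℕ × ℕ × ℕ × ℕ) := [
  (0, 2, 1, 6), (0, 1, 1, 0), (0, 0, 1, 4), (0, 2, 1, 0), (0, 1, 1, 4), (0, 0, 1, 6),
  (0, 2, 1, 5), (0, 1, 1, 3), (0, 0, 1, 2), (0, 0, 1, 0), (0, 1, 1, 6), (0, 2, 1, 4),
  (0, 1, 1, 5), (0, 0, 1, 3), (0, 2, 1, 2), (0, 0, 1, 5), (0, 2, 1, 3), (0, 1, 1, 2),
  (0, 1, 1, 1), (0, 2, 1, 1), (0, 0, 1, 1), (1, 0, 1, 5), (1, 2, 1, 3), (1, 1, 1, 2),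
  (1, 2, 1, 6), (1, 1, 1, 0), (1, 0, 1, 4), (1, 0, 1, 6), (1, 2, 1, 0), (1, 1, 1, 4),
  (1, 1, 1, 3), (1, 2, 1, 5), (1, 0, 1, 2), (1, 2, 1, 4), (1, 0, 1, 0), (1, 1, 1, 6),
  (1, 1, 1, 5), (1, 0, 1, 3), (1, 2, 1, 2), (1, 1, 1, 1), (1, 2, 1, 1), (1, 0, 1, 1),
  (2, 1, 1, 5), (2, 0, 1, 3), (2, 2, 1, 2), (2, 2, 1, 3), (2, 0, 1, 5), (2, 1, 1, 2),
  (2, 0, 1, 4), (2, 2, 1, 6), (2, 1, 1, 0), (2, 0, 1, 6), (2, 2, 1, 0), (2, 1, 1, 4),
  (2, 1, 1, 3), (2, 2, 1, 5), (2, 0, 1, 2), (2, 1, 1, 6), (2, 2, 1, 4), (2, 0, 1, 0),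
  (2, 1, 1, 1), (2, 2, 1, 1), (2, 0, 1, 1), (3, 1, 1, 6), (3, 2, 1, 4), (3, 0, 1, 0),
  (3, 1, 1, 5), (3, 0, 1, 3), (3, 2, 1, 2), (3, 2, 1, 3), (3, 0, 1, 5), (3, 1, 1, 2),
  (3, 1, 1, 0), (3, 0, 1, 4), (3, 2, 1, 6), (3, 0, 1, 6), (3, 2, 1, 0), (3, 1, 1, 4),
  (3, 2, 1, 5), (3, 1, 1, 3), (3, 0, 1, 2), (3, 0, 1, 1), (3, 1, 1, 1), (3, 2, 1, 1),
  (4, 2, 1, 5), (4, 1, 1, 3), (4, 0, 1, 2), (4, 1, 1, 6), (4, 2, 1, 4), (4, 0, 1, 0),
  (4, 0, 1, 3), (4, 1, 1, 5), (4, 2, 1, 2), (4, 2, 1, 3), (4, 0, 1, 5), (4, 1, 1, 2),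
  (4, 2, 1, 6), (4, 1, 1, 0), (4, 0, 1, 4), (4, 1, 1, 4), (4, 0, 1, 6), (4, 2, 1, 0),
  (4, 0, 1, 1), (4, 1, 1, 1), (4, 2, 1, 1), (5, 1, 1, 4), (5, 0, 1, 6), (5, 2, 1, 0),
  (5, 2, 1, 5), (5, 1, 1, 3), (5, 0, 1, 2), (5, 0, 1, 0), (5, 1, 1, 6), (5, 2, 1, 4),
  (5, 1, 1, 5), (5, 0, 1, 3), (5, 2, 1, 2), (5, 2, 1, 3), (5, 0, 1, 5), (5, 1, 1, 2),
  (5, 2, 1, 6), (5, 1, 1, 0), (5, 0, 1, 4), (5, 2, 1, 1), (5, 0, 1, 1), (5, 1, 1, 1),
  (6, 2, 1, 6), (6, 1, 1, 0), (6, 0, 1, 4), (6, 2, 1, 0), (6, 1, 1, 4), (6, 0, 1, 6),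
  (6, 2, 1, 5), (6, 1, 1, 3), (6, 0, 1, 2), (6, 0, 1, 0), (6, 1, 1, 6), (6, 2, 1, 4),
  (6, 1, 1, 5), (6, 0, 1, 3), (6, 2, 1, 2), (6, 0, 1, 5), (6, 2, 1, 3), (6, 1, 1, 2),
  (6, 1, 1, 1), (6, 2, 1, 1), (6, 0, 1, 1), (4, 2, 0, 0), (2, 1, 0, 0), (1, 0, 0, 0),
  (2, 0, 0, 0), (5, 2, 0, 0), (3, 1, 0, 0), (4, 1, 0, 0), (3, 0, 0, 0), (6, 2, 0, 0),
  (5, 1, 0, 0), (4, 0, 0, 0), (0, 2, 0, 0), (1, 2, 0, 0), (6, 1, 0, 0), (5, 0, 0, 0),
  (2, 2, 0, 0), (0, 1, 0, 0), (6, 0, 0, 0), (3, 2, 0, 0), (1, 1, 0, 0), (0, 0, 0, 0)]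

theorem dig_code (p : Equiv.Perm (Fin 8)) (x : Fin 8) : dig (code p) x.val = (p x).val := by
  have h0 := (p 0).isLt
  have h1 := (p 1).isLt
  have h2 := (p 2).isLt
  have h3 := (p 3).isLt
  have h4 := (p 4).isLt
  have h5 := (p 5).isLt
  have h6 := (p 6).isLt
  have h7 := (p 7).isLt
  have e : dig (code p) 0 = (p 0).val ∧ dig (code p) 1 = (p 1).val ∧ dig (code p) 2 = (p 2).val ∧
      dig (code p) 3 = (p 3).val ∧ dig (code p) 4 = (p 4).val ∧ dig (code p) 5 = (p 5).val ∧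
      dig (code p) 6 = (p 6).val ∧ dig (code p) 7 = (p 7).val := by
    unfold dig code
    norm_num
    omega
  obtain ⟨e0, e1, e2, e3, e4, e5, e6, e7⟩ := e
  fin_cases x <;> first
    | exact e0 | exact e1 | exact e2 | exact e3 | exact e4 | exact e5 | exact e6 | exact e7

theorem code_injective : Function.Injective code := fun p q h =>
  Equiv.ext fun x => Fin.ext (by rw [← dig_code p x, ← dig_code q x, h])

theorem code_mul (p q : Equiv.Perm (Fin 8)) : code (p * q) = cm (code p) (code q) := by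
  have e0 : dig (code q) 0 = (q 0).val := dig_code q 0
  have e1 : dig (code q) 1 = (q 1).val := dig_code q 1
  have e2 : dig (code q) 2 = (q 2).val := dig_code q 2
  have e3 : dig (code q) 3 = (q 3).val := dig_code q 3
  have e4 : dig (code q) 4 = (q 4).val := dig_code q 4
  have e5 : dig (code q) 5 = (q 5).val := dig_code q 5
  have e6 : dig (code q) 6 = (q 6).val := dig_code q 6
  have e7 : dig (code q) 7 = (q 7).val := dig_code q 7
  unfold cm
  rw [e0, e1, e2, e3, e4, e5, e6, e7, dig_code, dig_code, dig_code, dig_code, dig_code, dig_code,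
    dig_code, dig_code]
  rfl

theorem code_one : code 1 = one := rfl

theorem code_pow (p : Equiv.Perm (Fin 8)) : ∀ n, code (p ^ n) = pw (code p) n
  | 0 => code_one
  | n + 1 => by rw [pow_succ, code_mul, code_pow p n, pw]

set_option maxRecDepth 100000 in
theorem gen_closed : ∀ c ∈ elems, ∀ g ∈ [code sig, code sig⁻¹, code tau, code tau⁻¹, code wz,
    code wz⁻¹], cm g c ∈ elems := by decide +kernel

theorem one_mem : one ∈ elems := by decide +kernel

set_option maxRecDepth 100000 in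
theorem words_eq : words.map (fun w => cm (cm (pw (code sig) w.1) (pw (code tau) w.2.1))
    (cm (pw (code wz) w.2.2.1) (pw (code sig) w.2.2.2))) = elems := by decide +kernel

theorem mem_K168_iff (p : Equiv.Perm (Fin 8)) : p ∈ K168 ↔ code p ∈ elems := by
  constructor
  · intro hp
    induction hp using Subgroup.closure_induction_left with
    | one => exact code_one ▸ one_mem
    | mul_left x hx y _ ih =>
      rw [code_mul]
      rcases hx with rfl | rfl | rfl <;> exact gen_closed _ ih _ (by simp)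
    | inv_mul_cancel x hx y _ ih =>
      rw [code_mul]
      rcases hx with rfl | rfl | rfl <;> exact gen_closed _ ih _ (by simp)
  · intro hp
    rw [← words_eq, List.mem_map] at hp
    obtain ⟨w, -, hw⟩ := hp
    simp only [← code_pow, ← code_mul] at hw
    rw [← code_injective hw]
    exact mul_mem (mul_mem (pow_mem (Subgroup.subset_closure (by simp)) _)
      (pow_mem (Subgroup.subset_closure (by simp)) _))
      (mul_mem (pow_mem (Subgroup.subset_closure (by simp)) _)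
      (pow_mem (Subgroup.subset_closure (by simp)) _))

/-- A group with a faithful coding in the model. -/
structure Coding (G : Type*) [Group G] where
  f : G → ℕ
  inj : Function.Injective f
  map_mul : ∀ g h, f (g * h) = cm (f g) (f h)
  map_one : f 1 = one
  range : ∀ c, c ∈ elems ↔ ∃ g, f g = c

theorem exists_coding {G : Type*} [Group G] [Finite G] [IsSimpleGroup G] (h : Nat.card G = 168) :
    Nonempty (Coding G) := by
  obtain ⟨e⟩ := CfsgLib.SmallSimple.O168.nonempty_iso h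
  refine ⟨⟨fun g => code (e g : Equiv.Perm (Fin 8)), fun a b hab => ?_, fun a b => ?_, ?_,
    fun c => ⟨fun hc => ?_, ?_⟩⟩⟩
  · exact e.injective (Subtype.ext (code_injective hab))
  · show code _ = _
    rw [map_mul, Subgroup.coe_mul, code_mul]
  · show code _ = _
    rw [map_one, Subgroup.coe_one, code_one]
  · obtain ⟨p, rfl⟩ : ∃ p, code p = c := by
      have hc' := hc
      rw [← words_eq, List.mem_map] at hc'
      obtain ⟨w, -, hw⟩ := hc'
      exact ⟨_, by rw [← hw, ← code_pow, ← code_pow, ← code_pow, ← code_pow, ← code_mul,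
        ← code_mul, ← code_mul]⟩
    exact ⟨e.symm ⟨p, (mem_K168_iff p).mpr hc⟩, by simp⟩
  · rintro ⟨g, rfl⟩
    exact (mem_K168_iff _).mp (e g).2

namespace Coding

variable {G : Type*} [Group G] (C : Coding G)

theorem f_mem (g : G) : C.f g ∈ elems := (C.range _).mpr ⟨g, rfl⟩

theorem exists_f {c : ℕ} (hc : c ∈ elems) : ∃ g, C.f g = c := (C.range c).mp hc

theorem map_pow (g : G) : ∀ n, C.f (g ^ n) = pw (C.f g) n
  | 0 => by rw [pow_zero]; exact C.map_one
  | n + 1 => by rw [pow_succ, C.map_mul, map_pow g n, pw]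

theorem pow_eq_one_iff (g : G) (n : ℕ) : g ^ n = 1 ↔ pw (C.f g) n = one := by
  rw [← C.map_pow, ← C.map_one]
  exact ⟨fun h => by rw [h], fun h => C.inj h⟩

theorem eq_one_iff (g : G) : g = 1 ↔ C.f g = one := by
  rw [← C.map_one]
  exact ⟨fun h => by rw [h], fun h => C.inj h⟩

end Coding

theorem elems_nodup : elems.Nodup := by decide +kernel

namespace Coding

variable {G : Type*} [Group G] (C : Coding G)

theorem card_eq (P : ℕ → Bool) (Q : G → Prop) (hQ : ∀ g, Q g ↔ P (C.f g) = true) :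
    Nat.card {g : G // Q g} = (elems.filter P).length := by
  have hnd : (elems.filter P).Nodup := elems_nodup.filter _
  rw [← List.toFinset_card_of_nodup hnd, ← Nat.card_eq_finsetCard]
  refine Nat.card_eq_of_bijective (fun g => ⟨C.f g.1, List.mem_toFinset.mpr
    (List.mem_filter.mpr ⟨C.f_mem g.1, (hQ g.1).mp g.2⟩)⟩) ⟨fun a b h => ?_, fun c => ?_⟩
  · exact Subtype.ext (C.inj (congrArg Subtype.val h))
  · obtain ⟨hc, hP⟩ := List.mem_filter.mp (List.mem_toFinset.mp c.2)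
    obtain ⟨g, hg⟩ := C.exists_f hc
    exact ⟨⟨g, (hQ g).mpr (hg ▸ hP)⟩, Subtype.ext hg⟩

theorem isConj_iff (a b : G) : IsConj a b ↔ ∃ c ∈ elems, cm c (C.f a) = cm (C.f b) c := by
  constructor
  · intro h
    obtain ⟨u, hu⟩ := h
    exact ⟨C.f u, C.f_mem _, by rw [← C.map_mul, ← C.map_mul]; exact congrArg C.f hu⟩
  · rintro ⟨c, hc, h⟩
    obtain ⟨u, rfl⟩ := C.exists_f hc
    rw [← C.map_mul, ← C.map_mul] at h
    exact ⟨⟨u, u⁻¹, mul_inv_cancel u, inv_mul_cancel u⟩, C.inj h⟩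

end Coding

end CfsgLib.SmallGroups.Model168
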