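import Mathlib
import Cfsg.Agent.Lib.SmallGroups.Order168Model

/-!
The structure of the simple group of order 168, read off from the model.
-/

set_option autoImplicit false

namespace CfsgLib.SmallGroups.Model168

/-- A central involution of `dihList`. -/
def zc : ℕ := 10985779
/-- An element of order four. -/
def dc : ℕ := 650853
/-- An involution inverting `dc`. -/
def ic : ℕ := 3618874
/-- An element of order three. -/
def qc : ℕ := 16339715
/-- A Sylow 2-subgroup. -/
def dihList : List ℕ := [650853, 3618874, 4346846, 7347095, 9272641, 10985779, 14451948, 16434824]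
/-- The first class of Klein groups. -/
def kleinA : List ℕ := [4346846, 9272641, 10985779, 16434824]
/-- The second class of Klein groups. -/
def kleinB : List ℕ := [3618874, 10985779, 14451948, 16434824]
/-- The normaliser of `kleinA`. -/
def octA : List ℕ := [
  571823, 650853, 727804, 3436244, 3507623, 3618874, 4346846, 4390155, 4441969, 7347095, 7401002,
  7537789, 9272641, 9347534, 9425584, 10831814, 10910872, 10985779, 14432341, 14451948, 14522914,
  16339715, 16392537, 16434824]
/-- The normaliser of `kleinB`. -/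
def octB : List ℕ := [
  650853, 945105, 1139551, 3618874, 3913000, 4108468, 4346846, 5005217, 5364807, 6365030,
  6954437, 7347095, 8518230, 8942493, 9272641, 10985779, 12101880, 12527116, 13011131, 14124810,
  14451948, 15156267, 16040178, 16434824]
/-- The conjugate of `octB` containing `qc`. -/
def octB' : List ℕ := [
  1139551, 1222585, 1269387, 2773435, 2811655, 2838360, 4487406, 4557812, 4701221, 7685048,
  7757967, 7810817, 8435189, 8518230, 8625386, 11278834, 11334694, 11504724, 14432341, 14451948,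
  14522914, 16339715, 16392537, 16434824]
/-- The isomorphism onto `octA`. -/
def tableA : List (ℕ × ℕ) := [
  (6, 3618874), (7, 9425584), (9, 4441969), (11, 7537789), (13, 727804), (14, 10985779),
  (18, 10831814), (19, 7347095), (24, 14432341), (27, 9272641), (28, 16339715), (30, 3436244),
  (33, 571823), (35, 9347534), (36, 16434824), (39, 7401002), (44, 14451948), (45, 4390155),
  (49, 4346846), (50, 3507623), (52, 14522914), (54, 10910872), (56, 16392537), (57, 650853)]
/-- The isomorphism onto `octB`. -/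
def tableB : List (ℕ × ℕ) := [
  (6, 4346846), (7, 3913000), (9, 14124810), (11, 6954437), (13, 945105), (14, 10985779),
  (18, 12527116), (19, 7347095), (24, 8942493), (27, 3618874), (28, 15156267), (30, 5005217),
  (33, 1139551), (35, 4108468), (36, 16434824), (39, 6365030), (44, 9272641), (45, 13011131),
  (49, 14451948), (50, 5364807), (52, 8518230), (54, 12101880), (56, 16040178), (57, 650853)]

/-- Looking up a permutation of four points. -/
def phi4 (t : List (ℕ × ℕ)) (σ : Equiv.Perm (Fin 4)) : ℕ :=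
  (t.lookup ((σ 0).val + 4 * (σ 1).val + 16 * (σ 2).val)).getD 0

/-- The dihedral group inside the model. -/
def phiD : DihedralGroup 4 → ℕ
  | .r k => pw dc k.val
  | .sr k => cm ic (pw dc k.val)

set_option maxRecDepth 100000

theorem order_cases : ∀ c ∈ elems, pw c 2 = one ∨ pw c 3 = one ∨ pw c 4 = one ∨ pw c 7 = one := by
  decide +kernel

theorem count2 : (elems.filter fun c => decide (pw c 2 = one ∧ c ≠ one)).length = 21 := by
  decide +kernel

theorem count3 : (elems.filter fun c => decide (pw c 3 = one ∧ c ≠ one)).length = 56 := by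
  decide +kernel

theorem count4 : (elems.filter fun c => decide (pw c 4 = one ∧ pw c 2 ≠ one)).length = 42 := by
  decide +kernel

theorem count7 : (elems.filter fun c => decide (pw c 7 = one ∧ c ≠ one)).length = 48 := by
  decide +kernel

theorem conj2 : ∀ c ∈ elems, pw c 2 = one → c ≠ one → ∃ u ∈ elems, cm u zc = cm c u := by
  decide +kernel

theorem conj3 : ∀ c ∈ elems, pw c 3 = one → c ≠ one → ∃ u ∈ elems, cm u qc = cm c u := by
  decide +kernel

theorem conj4 : ∀ c ∈ elems, pw c 4 = one → pw c 2 ≠ one → ∃ u ∈ elems, cm u dc = cm c u := by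
  decide +kernel

theorem not_inverse7 : ∀ c ∈ elems, pw c 7 = one → c ≠ one →
    ∀ u ∈ elems, cm u c ≠ cm (pw c 6) u := by
  decide +kernel

theorem cent2 : ∀ c ∈ elems, pw c 2 = one → c ≠ one →
    (elems.filter fun y => decide (cm y c = cm c y)).length = 8 := by
  decide +kernel

theorem cent7 : ∀ c ∈ elems, pw c 7 = one → c ≠ one →
    (elems.filter fun y => decide (cm y c = cm c y)).length = 7 := by
  decide +kernel

theorem cent_zc : ∀ c ∈ elems, cm c zc = cm zc c ↔ c ∈ dihList := by decide +kernel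

theorem cent_separates : ∀ a ∈ dihList, pw a 2 = one → a ≠ one → a ≠ zc →
    ∃ c ∈ dihList, cm c a ≠ cm a c := by
  decide +kernel

theorem list_facts : (dihList ⊆ elems ∧ kleinA ⊆ dihList ∧ kleinB ⊆ dihList ∧ dihList ⊆ octA ∧
    octA ⊆ elems ∧ octB ⊆ elems ∧ octB' ⊆ elems) ∧ zc ∈ elems ∧ qc ∈ octA ∧ qc ∈ octB' ∧
    dc ∈ elems ∧ ∃ u ∈ elems, ∀ c ∈ octB, ∃ c' ∈ octB', cm u c = cm c' u := by
  decide +kernel

theorem closed_lists : ∀ S ∈ [dihList, kleinA, kleinB, octA, octB, octB'],
    one ∈ S ∧ S.Nodup ∧ ∀ a ∈ S, ∀ b ∈ S, cm a b ∈ S := by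
  decide +kernel

theorem klein_in_dih : ∀ a ∈ dihList, ∀ b ∈ dihList, pw a 2 = one → a ≠ one → pw b 2 = one →
    b ≠ one → a ≠ b → cm a b = cm b a →
    (a ∈ kleinA ∧ b ∈ kleinA) ∨ (a ∈ kleinB ∧ b ∈ kleinB) := by
  decide +kernel

theorem klein_not_conj : ∀ u ∈ elems, ¬ ∀ a ∈ kleinA, ∃ b ∈ kleinB, cm u a = cm b u := by
  decide +kernel

theorem norm_kleinA : ∀ u ∈ elems, (∀ a ∈ kleinA, ∃ b ∈ kleinA, cm u a = cm b u) ↔ u ∈ octA := by
  decide +kernel

theorem norm_kleinB : ∀ u ∈ elems, (∀ a ∈ kleinB, ∃ b ∈ kleinB, cm u a = cm b u) ↔ u ∈ octB := by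
  decide +kernel

theorem oct_not_conj : ∀ u ∈ elems, ¬ ∀ a ∈ octA, ∃ b ∈ octB, cm u a = cm b u := by
  decide +kernel

theorem union_test : ∀ g ∈ elems, g ∈ octA ∨ g ∈ octB' ∨
    ∃ w ∈ [g, cm qc g, cm (cm qc qc) g, cm (cm (cm qc g) (cm (cm qc qc) g)) g],
      pw w 7 = one ∧ w ≠ one := by
  decide +kernel

theorem phiA_spec : (∀ σ, phi4 tableA σ ∈ octA) ∧ (∀ σ τ, phi4 tableA σ = phi4 tableA τ → σ = τ) ∧
    ∀ σ τ, phi4 tableA (σ * τ) = cm (phi4 tableA σ) (phi4 tableA τ) := by
  decide +kernel

theorem phiB_spec : (∀ σ, phi4 tableB σ ∈ octB) ∧ (∀ σ τ, phi4 tableB σ = phi4 tableB τ → σ = τ) ∧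
    ∀ σ τ, phi4 tableB (σ * τ) = cm (phi4 tableB σ) (phi4 tableB τ) := by
  decide +kernel

theorem phiD_spec : (∀ x, phiD x ∈ dihList) ∧ (∀ x y, phiD x = phiD y → x = y) ∧
    ∀ x y, phiD (x * y) = cm (phiD x) (phiD y) := by
  decide +kernel

end CfsgLib.SmallGroups.Model168
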