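import Mathlib
import Cfsg.Agent.Lib.SmallGroups.Basic
import Cfsg.Agent.Lib.SmallGroups.Order168Facts

/-!
Orders, classes, Sylow subgroups, Klein subgroups and maximal subgroups of the simple group of
order 168.
-/

set_option autoImplicit false

namespace CfsgLib.SmallGroups.Model168

namespace Coding

variable {G : Type*} [Group G] (C : Coding G)

theorem orderOf_prime_iff (g : G) {q : ℕ} (hq : q.Prime) :
    orderOf g = q ↔ pw (C.f g) q = one ∧ C.f g ≠ one := by
  haveI := Fact.mk hq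
  rw [orderOf_eq_prime_iff, C.pow_eq_one_iff, ne_eq, C.eq_one_iff]

theorem orderOf_four_iff (g : G) : orderOf g = 4 ↔ pw (C.f g) 4 = one ∧ pw (C.f g) 2 ≠ one := by
  constructor
  · intro h
    refine ⟨(C.pow_eq_one_iff g 4).mp (h ▸ pow_orderOf_eq_one g), fun e => ?_⟩
    have := orderOf_dvd_of_pow_eq_one ((C.pow_eq_one_iff g 2).mpr e)
    rw [h] at this
    norm_num at this
  · rintro ⟨h1, h2⟩
    have h1' := (C.pow_eq_one_iff g 4).mpr h1
    have h2' : ¬ g ^ 2 = 1 := fun e => h2 ((C.pow_eq_one_iff g 2).mp e)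
    haveI := Fact.mk Nat.prime_two
    exact orderOf_eq_prime_pow (p := 2) (n := 1) (by simpa using h2') (by simpa using h1')

include C in
theorem order_mem (g : G) :
    orderOf g = 1 ∨ orderOf g = 2 ∨ orderOf g = 3 ∨ orderOf g = 4 ∨ orderOf g = 7 := by
  have key : ∀ n, 0 < n → pw (C.f g) n = one → orderOf g ∣ n ∧ 0 < orderOf g := fun n hn h =>
    have h' := orderOf_dvd_of_pow_eq_one ((C.pow_eq_one_iff g n).mpr h)
    ⟨h', Nat.pos_of_dvd_of_pos h' hn⟩
  rcases order_cases _ (C.f_mem g) with h | h | h | h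
  · obtain ⟨h1, h2⟩ := key 2 (by norm_num) h
    have := Nat.le_of_dvd (by norm_num) h1
    omega
  · obtain ⟨h1, h2⟩ := key 3 (by norm_num) h
    have := Nat.le_of_dvd (by norm_num) h1
    interval_cases orderOf g <;> simp_all
  · obtain ⟨h1, h2⟩ := key 4 (by norm_num) h
    have := Nat.le_of_dvd (by norm_num) h1
    interval_cases orderOf g <;> simp_all
  · obtain ⟨h1, h2⟩ := key 7 (by norm_num) h
    have := (Nat.dvd_prime (by norm_num : Nat.Prime 7)).mp h1
    omega

theorem isConj_of_model {P : ℕ → Prop} {r : ℕ}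
    (h : ∀ c ∈ elems, P c → ∃ u ∈ elems, cm u r = cm c u) (hr : r ∈ elems) {s t : G}
    (hs : P (C.f s)) (ht : P (C.f t)) : IsConj s t := by
  obtain ⟨g, hg⟩ := C.exists_f hr
  have : ∀ x : G, P (C.f x) → IsConj g x := fun x hx =>
    (C.isConj_iff g x).mpr (by rw [hg]; exact h _ (C.f_mem x) hx)
  exact (this s hs).symm.trans (this t ht)

theorem card_centralizer (x : G) : Nat.card (Subgroup.centralizer ({x} : Set G)) =
    (elems.filter fun y => decide (cm y (C.f x) = cm (C.f x) y)).length := by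
  refine C.card_eq _ (fun g => g ∈ Subgroup.centralizer ({x} : Set G)) fun g => ?_
  rw [Subgroup.mem_centralizer_singleton_iff, decide_eq_true_eq, ← C.map_mul, ← C.map_mul]
  exact ⟨fun h => by rw [h], fun h => C.inj h⟩

/-- The subgroup coded by a closed list. -/
def sub [Finite G] (S : List ℕ) (h1 : one ∈ S) (hc : ∀ a ∈ S, ∀ b ∈ S, cm a b ∈ S) : Subgroup G where
  carrier := {g | C.f g ∈ S}
  one_mem' := by show C.f 1 ∈ S; rw [C.map_one]; exact h1
  mul_mem' := fun {a b} ha hb => by show C.f (a * b) ∈ S; rw [C.map_mul]; exact hc _ ha _ hb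
  inv_mem' := fun {a} ha => by
    show C.f a⁻¹ ∈ S
    have hp : ∀ n, C.f (a ^ n) ∈ S := by
      intro n
      induction n with
      | zero => rw [pow_zero, C.map_one]; exact h1
      | succ n ih => rw [pow_succ, C.map_mul]; exact hc _ ih _ ha
    have he : a⁻¹ = a ^ (orderOf a - 1) := by
      refine inv_eq_of_mul_eq_one_right ?_
      rw [← pow_succ', Nat.sub_add_cancel (orderOf_pos a), pow_orderOf_eq_one]
    rw [he]
    exact hp _

theorem card_list (S : List ℕ) (hS : S.Nodup) (hsub : S ⊆ elems) :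
    Nat.card {g : G // C.f g ∈ S} = S.length := by
  rw [← List.toFinset_card_of_nodup hS, ← Nat.card_eq_finsetCard]
  refine Nat.card_eq_of_bijective (fun g => ⟨C.f g.1, List.mem_toFinset.mpr g.2⟩)
    ⟨fun a b h => Subtype.ext (C.inj (congrArg Subtype.val h)), fun c => ?_⟩
  obtain ⟨g, hg⟩ := C.exists_f (hsub (List.mem_toFinset.mp c.2))
  exact ⟨⟨g, by rw [hg]; exact List.mem_toFinset.mp c.2⟩, Subtype.ext hg⟩

theorem nonempty_mulEquiv [Finite G] {H : Type*} [Group H] [Fintype H] (φ : H → ℕ) (S : List ℕ)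
    (hS : ∀ x, φ x ∈ S) (hinj : ∀ x y, φ x = φ y → x = y)
    (hmul : ∀ x y, φ (x * y) = cm (φ x) (φ y)) (hsub : S ⊆ elems) (h1 : one ∈ S) (hnd : S.Nodup)
    (hc : ∀ a ∈ S, ∀ b ∈ S, cm a b ∈ S) (hcard : S.length = Fintype.card H) :
    Nonempty (↥(C.sub S h1 hc) ≃* H) := by
  have hex : ∀ x, ∃ g : G, C.f g = φ x := fun x => C.exists_f (hsub (hS x))
  choose ψ hψ using hex
  let F : H →* ↥(C.sub S h1 hc) :=
    MonoidHom.mk' (fun x => ⟨ψ x, by show C.f (ψ x) ∈ S; rw [hψ]; exact hS x⟩) (fun x y =>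
      Subtype.ext (C.inj (by
        show C.f (ψ (x * y)) = C.f (ψ x * ψ y)
        rw [C.map_mul, hψ, hψ, hψ, hmul])))
  have hF : Function.Injective F := fun x y h => hinj x y (by
    rw [← hψ x, ← hψ y]
    exact congrArg (fun z : ↥(C.sub S h1 hc) => C.f (z : G)) h)
  have hbij : Function.Bijective F := hF.bijective_of_nat_card_le (le_of_eq (by
    rw [Nat.card_eq_fintype_card (α := H), ← hcard]
    exact C.card_list S hnd hsub))
  exact ⟨(MulEquiv.ofBijective F hbij).symm⟩

end Coding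

variable {G : Type*} [Group G] [Finite G]

/-- The distinguished subgroups. -/
theorem exists_named (C : Coding G) : ∃ (T U W A B : Subgroup G) (z : G),
    (∀ g, g ∈ T ↔ C.f g ∈ dihList) ∧ (∀ g, g ∈ U ↔ C.f g ∈ kleinA) ∧
    (∀ g, g ∈ W ↔ C.f g ∈ kleinB) ∧ (∀ g, g ∈ A ↔ C.f g ∈ octA) ∧ (∀ g, g ∈ B ↔ C.f g ∈ octB) ∧
    C.f z = zc ∧ orderOf z = 2 ∧ Subgroup.centralizer ({z} : Set G) = T ∧
    Nat.card T = 8 ∧ Nat.card U = 4 ∧ Nat.card W = 4 ∧
    Nonempty (↥T ≃* DihedralGroup 4) ∧ Nonempty (↥A ≃* Equiv.Perm (Fin 4)) ∧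
    Nonempty (↥B ≃* Equiv.Perm (Fin 4)) := by
  obtain ⟨⟨hT, hU, hW, hTA, hA, hB, -⟩, hz, -, -, -, -⟩ := list_facts
  have cT := closed_lists dihList (by simp)
  have cU := closed_lists kleinA (by simp)
  have cW := closed_lists kleinB (by simp)
  have cA := closed_lists octA (by simp)
  have cB := closed_lists octB (by simp)
  obtain ⟨z, hzf⟩ := C.exists_f hz
  refine ⟨C.sub _ cT.1 cT.2.2, C.sub _ cU.1 cU.2.2, C.sub _ cW.1 cW.2.2, C.sub _ cA.1 cA.2.2,
    C.sub _ cB.1 cB.2.2, z, fun _ => Iff.rfl, fun _ => Iff.rfl, fun _ => Iff.rfl, fun _ => Iff.rfl,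
    fun _ => Iff.rfl, hzf, ?_, ?_, ?_, ?_, ?_, ?_, ?_, ?_⟩
  · rw [C.orderOf_prime_iff z Nat.prime_two, hzf]
    decide +kernel
  · ext g
    rw [Subgroup.mem_centralizer_singleton_iff]
    refine Iff.trans ?_ (cent_zc _ (C.f_mem g))
    rw [← hzf, ← C.map_mul, ← C.map_mul]
    exact ⟨fun h => by rw [h], fun h => C.inj h⟩
  · exact (C.card_list _ cT.2.1 hT).trans (by decide)
  · exact (C.card_list _ cU.2.1 (List.Subset.trans hU hT)).trans (by decide)
  · exact (C.card_list _ cW.2.1 (List.Subset.trans hW hT)).trans (by decide)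
  · exact C.nonempty_mulEquiv phiD _ phiD_spec.1 phiD_spec.2.1 phiD_spec.2.2 hT _ cT.2.1 _
      (by decide +kernel)
  · exact C.nonempty_mulEquiv (phi4 tableA) _ phiA_spec.1 phiA_spec.2.1 phiA_spec.2.2 hA _ cA.2.1 _
      (by decide +kernel)
  · exact C.nonempty_mulEquiv (phi4 tableB) _ phiB_spec.1 phiB_spec.2.1 phiB_spec.2.2 hB _ cB.2.1 _
      (by decide +kernel)

theorem map_conj_mem {H : Subgroup G} {g x : G} :
    x ∈ H.map (MulAut.conj g).toMonoidHom ↔ g⁻¹ * x * g ∈ H := by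
  constructor
  · rintro ⟨y, hy, rfl⟩
    rwa [show g⁻¹ * (MulAut.conj g).toMonoidHom y * g = y by
      show g⁻¹ * (g * y * g⁻¹) * g = y; group]
  · intro h
    exact ⟨_, h, show g * (g⁻¹ * x * g) * g⁻¹ = x by group⟩

theorem map_conj_map (H : Subgroup G) (g h : G) :
    (H.map (MulAut.conj g).toMonoidHom).map (MulAut.conj h).toMonoidHom =
      H.map (MulAut.conj (h * g)).toMonoidHom := by
  ext x
  rw [map_conj_mem, map_conj_mem, map_conj_mem, show (h * g)⁻¹ * x * (h * g) =
    g⁻¹ * (h⁻¹ * x * h) * g by group]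

theorem map_conj_one (H : Subgroup G) : H.map (MulAut.conj (1 : G)).toMonoidHom = H := by
  ext x
  rw [map_conj_mem]; simp

theorem eq_map_conj_inv {H K : Subgroup G} {g : G} (h : H.map (MulAut.conj g).toMonoidHom = K) :
    H = K.map (MulAut.conj g⁻¹).toMonoidHom := by
  rw [← h, map_conj_map, inv_mul_cancel, map_conj_one]

theorem card_map_conj (H : Subgroup G) (g : G) :
    Nat.card (H.map (MulAut.conj g).toMonoidHom) = Nat.card H :=
  (Nat.card_congr (Subgroup.equivMapOfInjective H _ (MulAut.conj g).injective).toEquiv).symm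

theorem normalizer_map_conj (H : Subgroup G) (g : G) :
    Subgroup.normalizer ((H.map (MulAut.conj g).toMonoidHom : Subgroup G) : Set G) =
      (Subgroup.normalizer (H : Set G)).map (MulAut.conj g).toMonoidHom :=
  (Subgroup.map_equiv_normalizer_eq H (MulAut.conj g)).symm

theorem card_sylow_two (h168 : Nat.card G = 168) (T : Sylow 2 G) :
    Nat.card (T : Subgroup G) = 8 :=
  (SmallGroups.card_sylow_eq (p := 2) (a := 3) (m := 21) h168 (by norm_num) T).trans (by norm_num)

/-- A Sylow 2-subgroup is the centraliser of each of its non-trivial central elements. -/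
theorem centralizer_central (C : Coding G) (h168 : Nat.card G = 168) (T : Sylow 2 G) {z : G}
    (hzT : z ∈ (T : Subgroup G)) (hz1 : z ≠ 1) (hzc : ∀ t ∈ (T : Subgroup G), t * z = z * t) :
    Subgroup.centralizer ({z} : Set G) = T := by
  haveI := Fact.mk Nat.prime_two
  have hle : (T : Subgroup G) ≤ Subgroup.centralizer ({z} : Set G) := fun t ht =>
    Subgroup.mem_centralizer_singleton_iff.mpr (hzc t ht)
  have hT := card_sylow_two h168 T
  -- the element is an involution
  have h2 : orderOf z = 2 := by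
    have hd : orderOf z ∣ 8 := hT ▸ Subgroup.orderOf_dvd_natCard _ hzT
    have hd' : 8 ∣ Nat.card (Subgroup.centralizer ({z} : Set G)) := hT ▸ Subgroup.card_dvd_of_le hle
    rcases C.order_mem z with h | h | h | h | h
    · exact absurd (orderOf_eq_one_iff.mp h) hz1
    · exact h
    · rw [h] at hd; norm_num at hd
    · exfalso
      -- the centraliser of an element of order four has order four
      have h4 := (C.orderOf_four_iff z).mp h
      have : ∀ c ∈ elems, pw c 4 = one → pw c 2 ≠ one →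
          (elems.filter fun y => decide (cm y c = cm c y)).length = 4 := by decide +kernel
      rw [C.card_centralizer, this _ (C.f_mem z) h4.1 h4.2] at hd'
      norm_num at hd'
    · rw [h] at hd; norm_num at hd
  have h2' := (C.orderOf_prime_iff z Nat.prime_two).mp h2
  refine (Subgroup.eq_of_le_of_card_ge hle ?_).symm
  rw [C.card_centralizer, cent2 _ (C.f_mem z) h2'.1 h2'.2, hT]

theorem exists_centre (h168 : Nat.card G = 168) (T : Sylow 2 G) :
    ∃ z ∈ (T : Subgroup G), z ≠ 1 ∧ ∀ t ∈ (T : Subgroup G), t * z = z * t := by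
  haveI := Fact.mk Nat.prime_two
  haveI : Nontrivial (T : Subgroup G) :=
    Finite.one_lt_card_iff_nontrivial.mp (by rw [card_sylow_two h168 T]; norm_num)
  haveI := T.2.center_nontrivial
  obtain ⟨⟨⟨z, hzT⟩, hzc⟩, hz⟩ := exists_ne (1 : Subgroup.center (T : Subgroup G))
  exact ⟨z, hzT, fun e => hz (Subtype.ext (Subtype.ext e)),
    fun t ht => congrArg Subtype.val (Subgroup.mem_center_iff.mp hzc ⟨t, ht⟩)⟩

theorem normalizer_sylow_two (C : Coding G) (h168 : Nat.card G = 168) (T : Sylow 2 G) :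
    Subgroup.normalizer ((T : Subgroup G) : Set G) = T := by
  refine le_antisymm ?_ Subgroup.le_normalizer
  intro g hg
  obtain ⟨z, hzT, hz1, hzc⟩ := exists_centre h168 T
  have hC := centralizer_central C h168 T hzT hz1 hzc
  rw [Subgroup.mem_normalizer_iff] at hg
  set w := g * z * g⁻¹ with hw
  have hwT : w ∈ (T : Subgroup G) := (hg z).mp hzT
  have hwc : ∀ t ∈ (T : Subgroup G), t * w = w * t := by
    intro t ht
    have ht' : g⁻¹ * t * g ∈ (T : Subgroup G) :=
      (hg _).mpr (by rw [show g * (g⁻¹ * t * g) * g⁻¹ = t by group]; exact ht)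
    have h := hzc _ ht'
    calc t * w = g * ((g⁻¹ * t * g) * z) * g⁻¹ := by rw [hw]; group
      _ = g * (z * (g⁻¹ * t * g)) * g⁻¹ := by rw [h]
      _ = w * t := by rw [hw]; group
  have hw1 : w ≠ 1 := fun e => hz1 (conj_eq_one_iff.mp (hw ▸ e))
  have hCw := centralizer_central C h168 T hwT hw1 hwc
  -- two such elements are equal
  suffices hwz : w = z by
    rw [← hC, Subgroup.mem_centralizer_singleton_iff]
    exact mul_inv_eq_iff_eq_mul.mp (hw.symm.trans hwz)
  obtain ⟨T₀, -, -, -, -, z₀, hT₀, -, -, -, -, hz₀, hz₀2, hC₀, -⟩ := exists_named C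
  haveI := Fact.mk Nat.prime_two
  have hz2 : ∀ v : G, v ∈ (T : Subgroup G) → v ≠ 1 → (∀ t ∈ (T : Subgroup G), t * v = v * t) →
      orderOf v = 2 := by
    intro v hv hv1 hvc
    have hd : orderOf v ∣ 8 := card_sylow_two h168 T ▸ Subgroup.orderOf_dvd_natCard _ hv
    have hcv := centralizer_central C h168 T hv hv1 hvc
    rcases C.order_mem v with h | h | h | h | h
    · exact absurd (orderOf_eq_one_iff.mp h) hv1
    · exact h
    · rw [h] at hd; norm_num at hd
    · exfalso
      have h4 := (C.orderOf_four_iff v).mp h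
      have : ∀ c ∈ elems, pw c 4 = one → pw c 2 ≠ one →
          (elems.filter fun y => decide (cm y c = cm c y)).length = 4 := by decide +kernel
      have hc := C.card_centralizer v
      rw [hcv, card_sylow_two h168 T, this _ (C.f_mem v) h4.1 h4.2] at hc
      norm_num at hc
    · rw [h] at hd; norm_num at hd
  -- move `z` to the model involution
  obtain ⟨u, hu⟩ : ∃ u, u * z * u⁻¹ = z₀ := by
    have h := C.isConj_of_model (P := fun c => pw c 2 = one ∧ c ≠ one)
      (fun c hc hP => conj2 c hc hP.1 hP.2) (hz₀ ▸ C.f_mem z₀)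
      ((C.orderOf_prime_iff z Nat.prime_two).mp (hz2 z hzT hz1 hzc))
      ((C.orderOf_prime_iff z₀ Nat.prime_two).mp hz₀2)
    exact isConj_iff.mp h
  by_contra hne
  have h1 := (C.orderOf_prime_iff _ Nat.prime_two).mp
    ((MulAut.conj u).orderOf_eq w ▸ hz2 w hwT hw1 hwc : orderOf (u * w * u⁻¹) = 2)
  have hmemT₀ : ∀ t ∈ (T : Subgroup G), C.f (u * t * u⁻¹) ∈ dihList := by
    intro t ht
    rw [← hT₀, ← hC₀, Subgroup.mem_centralizer_singleton_iff, ← hu]
    calc u * t * u⁻¹ * (u * z * u⁻¹) = u * (t * z) * u⁻¹ := by group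
      _ = u * (z * t) * u⁻¹ := by rw [hzc t ht]
      _ = u * z * u⁻¹ * (u * t * u⁻¹) := by group
  have hne' : C.f (u * w * u⁻¹) ≠ zc := by
    rw [← hz₀, ← hu]
    intro e
    exact hne (mul_left_cancel (mul_right_cancel (C.inj e)))
  obtain ⟨c, hc, hcne⟩ := cent_separates _ (hmemT₀ w hwT) h1.1 h1.2 hne'
  obtain ⟨t', rfl⟩ := C.exists_f (list_facts.1.1 hc)
  apply hcne
  have htT : u⁻¹ * t' * u ∈ (T : Subgroup G) := by
    rw [← hC, Subgroup.mem_centralizer_singleton_iff]
    have h : t' * z₀ = z₀ * t' := by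
      rw [← Subgroup.mem_centralizer_singleton_iff, hC₀, hT₀]; exact hc
    rw [← hu] at h
    calc u⁻¹ * t' * u * z = u⁻¹ * (t' * (u * z * u⁻¹)) * u := by group
      _ = u⁻¹ * (u * z * u⁻¹ * t') * u := by rw [h]
      _ = z * (u⁻¹ * t' * u) := by group
  rw [← C.map_mul, ← C.map_mul]
  refine congrArg C.f ?_
  calc t' * (u * w * u⁻¹) = u * (u⁻¹ * t' * u * w) * u⁻¹ := by group
    _ = u * (w * (u⁻¹ * t' * u)) * u⁻¹ := by rw [hwc _ htT]
    _ = u * w * u⁻¹ * t' := by group

/-- Every Sylow 2-subgroup is conjugate to the model one. -/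
theorem exists_conj_dih (C : Coding G) (h168 : Nat.card G = 168) {T₀ : Subgroup G} {z₀ : G}
    (hz₀ : orderOf z₀ = 2) (hC₀ : Subgroup.centralizer ({z₀} : Set G) = T₀) (T : Sylow 2 G) :
    ∃ g : G, (T : Subgroup G) = T₀.map (MulAut.conj g).toMonoidHom := by
  haveI := Fact.mk Nat.prime_two
  have hc : Nat.card T₀ = 8 := by
    have h := (C.orderOf_prime_iff z₀ Nat.prime_two).mp hz₀
    rw [← hC₀, C.card_centralizer, cent2 _ (C.f_mem z₀) h.1 h.2]
  obtain ⟨S, hS⟩ : ∃ S : Sylow 2 G, (S : Subgroup G) = T₀ := by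
    obtain ⟨S, hS⟩ := (IsPGroup.of_card (n := 3) (by rw [hc]; norm_num) : IsPGroup 2 T₀).exists_le_sylow
    exact ⟨S, (Subgroup.eq_of_le_of_card_ge hS (by rw [hc, card_sylow_two h168 S])).symm⟩
  obtain ⟨g, hg⟩ := MulAction.exists_smul_eq G S T
  exact ⟨g, by rw [← hg, Sylow.coe_subgroup_smul, ← hS]; rfl⟩

end CfsgLib.SmallGroups.Model168
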