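import Mathlib
import Cfsg.Agent.Lib.SmallGroups.Basic
import Cfsg.Agent.Lib.SmallGroups.Order168Structure

/-!
Klein subgroups and maximal subgroups of the simple group of order 168.
-/

set_option autoImplicit false

namespace CfsgLib.SmallGroups.Model168

variable {G : Type*} [Group G] [Finite G]

/-- A Klein subgroup inside the model Sylow subgroup is one of the two model Klein groups. -/
theorem klein_eq (C : Coding G) {T U W K : Subgroup G} (hT : ∀ g, g ∈ T ↔ C.f g ∈ dihList)
    (hU : ∀ g, g ∈ U ↔ C.f g ∈ kleinA) (hW : ∀ g, g ∈ W ↔ C.f g ∈ kleinB)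
    (hUc : Nat.card U = 4) (hWc : Nat.card W = 4) (hK : IsKleinFour K) (hKT : K ≤ T) :
    K = U ∨ K = W := by
  have hK4 : Nat.card K = 4 := hK.card_four
  classical
  haveI := Fintype.ofFinite K
  have hc : Fintype.card K = 4 := by rw [← Nat.card_eq_fintype_card, hK4]
  obtain ⟨a, ha⟩ := Fintype.exists_ne_of_one_lt_card (by omega) (1 : K)
  obtain ⟨b, hb⟩ : (({1, a} : Finset K)ᶜ).Nonempty := Finset.card_pos.mp (by
    rw [Finset.card_compl, Finset.card_pair (Ne.symm ha), hc]; omega)
  simp only [Finset.mem_compl, Finset.mem_insert, Finset.mem_singleton, not_or] at hb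
  have hsq : ∀ x : K, x * x = 1 := fun x => IsKleinFour.mul_self x
  have hinv : ∀ x : K, x ≠ 1 → pw (C.f (x : G)) 2 = one ∧ C.f (x : G) ≠ one := by
    intro x hx
    refine ⟨(C.pow_eq_one_iff _ 2).mp (by rw [pow_two]; exact congrArg Subtype.val (hsq x)),
      fun e => hx (Subtype.ext ((C.eq_one_iff _).mpr e))⟩
  have hcomm : a * b = b * a := by
    have hi : ∀ x : K, x⁻¹ = x := fun x => inv_eq_of_mul_eq_one_right (hsq x)
    calc a * b = (a * b)⁻¹ := (hi _).symm
      _ = b * a := by rw [mul_inv_rev, hi, hi]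
  have hab : a * b ≠ 1 := fun e => hb.2 (by
    calc b = a * a * b := by rw [hsq, one_mul]
      _ = a := by rw [mul_assoc, e, mul_one])
  have hall : ∀ x : K, x = 1 ∨ x = a ∨ x = b ∨ x = a * b := by
    have hs : ({1, a, b, a * b} : Finset K) = Finset.univ := by
      refine Finset.eq_univ_of_card _ ?_
      rw [hc, Finset.card_insert_of_notMem, Finset.card_insert_of_notMem, Finset.card_pair]
      · exact fun e => ha (mul_eq_right.mp e.symm)
      · simp only [Finset.mem_insert, Finset.mem_singleton, not_or]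
        exact ⟨fun e => hb.2 e.symm, fun e => hb.1 (mul_eq_left.mp e.symm)⟩
      · simp only [Finset.mem_insert, Finset.mem_singleton, not_or]
        exact ⟨Ne.symm ha, fun e => hb.1 e.symm, fun e => hab e.symm⟩
    intro x
    have hx := Finset.mem_univ x
    rw [← hs] at hx
    simpa only [Finset.mem_insert, Finset.mem_singleton] using hx
  have key := klein_in_dih _ ((hT _).mp (hKT a.2)) _ ((hT _).mp (hKT b.2)) (hinv a ha).1 (hinv a ha).2
    (hinv b hb.1).1 (hinv b hb.1).2 (fun e => hb.2 (Subtype.ext (C.inj e)).symm)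
    (by rw [← C.map_mul, ← C.map_mul]; exact congrArg C.f (congrArg Subtype.val hcomm))
  have hsub : ∀ V : Subgroup G, (a : G) ∈ V → (b : G) ∈ V → K ≤ V := by
    intro V h1 h2 x hx
    rcases hall ⟨x, hx⟩ with e | e | e | e <;> rw [show x = ((⟨x, hx⟩ : K) : G) from rfl, e]
    · exact V.one_mem
    · exact h1
    · exact h2
    · exact V.mul_mem h1 h2
  rcases key with ⟨h1, h2⟩ | ⟨h1, h2⟩
  · exact Or.inl (Subgroup.eq_of_le_of_card_ge (hsub U ((hU _).mpr h1) ((hU _).mpr h2))
      (by rw [hUc, hK4]))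
  · exact Or.inr (Subgroup.eq_of_le_of_card_ge (hsub W ((hW _).mpr h1) ((hW _).mpr h2))
      (by rw [hWc, hK4]))

theorem isKleinFour_model (C : Coding G) {U : Subgroup G} {S : List ℕ} (hU : ∀ g, g ∈ U ↔ C.f g ∈ S)
    (h4 : Nat.card U = 4) (hS : ∀ c ∈ S, pw c 2 = one) : IsKleinFour U := by
  haveI : Nontrivial U := Finite.one_lt_card_iff_nontrivial.mp (by rw [h4]; norm_num)
  refine ⟨h4, Monoid.exponent_eq_prime_iff Nat.prime_two |>.mpr fun g hg => ?_⟩
  haveI := Fact.mk Nat.prime_two
  refine orderOf_eq_prime ?_ hg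
  refine Subtype.ext ?_
  show (g : G) ^ 2 = 1
  exact (C.pow_eq_one_iff _ 2).mpr (hS _ ((hU _).mp g.2))

theorem normalizer_klein (C : Coding G) {U A : Subgroup G} {S S' : List ℕ}
    (hU : ∀ g, g ∈ U ↔ C.f g ∈ S) (hA : ∀ g, g ∈ A ↔ C.f g ∈ S') (hS : S ⊆ elems)
    (h : ∀ u ∈ elems, (∀ a ∈ S, ∃ b ∈ S, cm u a = cm b u) ↔ u ∈ S') :
    Subgroup.normalizer (U : Set G) = A := by
  ext g
  rw [hA, ← h _ (C.f_mem g)]
  constructor
  · intro hg a ha
    obtain ⟨x, rfl⟩ := C.exists_f (hS ha)
    refine ⟨C.f (g * x * g⁻¹), (hU _).mp ((Subgroup.mem_normalizer_iff.mp hg x).mp ((hU x).mpr ha)), ?_⟩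
    rw [← C.map_mul, ← C.map_mul, inv_mul_cancel_right]
  · intro hg
    refine Subgroup.mem_normalizer_fintype fun x hx => ?_
    obtain ⟨b, hb, hbx⟩ := hg _ ((hU x).mp hx)
    obtain ⟨y, rfl⟩ := C.exists_f (hS hb)
    rw [← C.map_mul, ← C.map_mul] at hbx
    have : g * x * g⁻¹ = y := mul_inv_eq_iff_eq_mul.mpr (C.inj hbx)
    rw [this]
    exact (hU y).mpr hb

/-- The maximal subgroups: every proper subgroup lies in one of the named ones. -/
theorem le_named [IsSimpleGroup G] (C : Coding G) (h168 : Nat.card G = 168) {A B : Subgroup G}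
    (hA : ∀ g, g ∈ A ↔ C.f g ∈ octA) (hB : ∀ g, g ∈ B ↔ C.f g ∈ octB) (M : Subgroup G) (hM : M ≠ ⊤) :
    (∃ g : G, M ≤ A.map (MulAut.conj g).toMonoidHom ∨ M ≤ B.map (MulAut.conj g).toMonoidHom) ∨
      ∃ P : Sylow 7 G, M ≤ Subgroup.normalizer ((P : Subgroup G) : Set G) ∧
        (P : Subgroup G) ≤ M := by
  haveI : Fact (Nat.Prime 7) := ⟨by norm_num⟩
  haveI : Fact (Nat.Prime 3) := ⟨Nat.prime_three⟩
  haveI : Fact (Nat.Prime 2) := ⟨Nat.prime_two⟩
  have hna : ¬ IsMulCommutative G :=
    SmallGroups.not_isMulCommutative_of_not_prime (by rw [h168]; norm_num)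
  have hdvd : Nat.card M ∣ 168 := h168 ▸ Subgroup.card_subgroup_dvd_card M
  have hidx : 7 ≤ M.index := by
    by_contra hlt
    have hne : M.index ≠ 1 := fun e => hM (Subgroup.index_eq_one.mp e)
    have hker : M.normalCore = ⊥ := SmallGroups.eq_bot_of_normal_ne_top inferInstance fun e =>
      hM (top_unique (e ▸ M.normalCore_le))
    have hd : Nat.card G ∣ M.index.factorial := by
      have hinj : Function.Injective (MulAction.toPermHom G (G ⧸ M)) := by
        rw [← MonoidHom.ker_eq_bot_iff, ← Subgroup.normalCore_eq_ker]; exact hker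
      have := Subgroup.card_dvd_of_injective _ hinj
      rwa [Nat.card_perm, ← Subgroup.index_eq_card] at this
    rw [h168] at hd
    have h0 := Subgroup.index_ne_zero_of_finite (H := M)
    obtain ⟨i, hi⟩ : ∃ i, M.index = i := ⟨_, rfl⟩
    rw [hi] at hlt hd hne h0
    interval_cases i <;> simp_all [Nat.factorial]
  have hle : Nat.card M ≤ 24 := by
    have h := M.card_mul_index
    rw [h168] at h
    have := Nat.mul_le_mul_left (Nat.card M) hidx
    omega
  by_cases h7 : 7 ∣ Nat.card M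
  · right
    obtain ⟨⟨x, hxM⟩, hx⟩ := exists_prime_orderOf_dvd_card' (G := M) 7 h7
    rw [← Subgroup.orderOf_coe] at hx
    change orderOf x = 7 at hx
    have hP7 : Nat.card (Subgroup.zpowers x) = 7 := by rw [Nat.card_zpowers, hx]
    obtain ⟨P, hP⟩ := (IsPGroup.of_card (n := 1) (by rw [hP7, pow_one]) :
      IsPGroup 7 (Subgroup.zpowers x)).exists_le_sylow
    have hPe : (P : Subgroup G) = Subgroup.zpowers x :=
      (Subgroup.eq_of_le_of_card_ge hP (by
        rw [hP7, SmallGroups.card_sylow_eq (p := 7) (a := 1) (m := 24) h168 (by norm_num) P,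
          pow_one])).symm
    have hPM : (P : Subgroup G) ≤ M := hPe ▸ Subgroup.zpowers_le.mpr hxM
    refine ⟨P, ?_, hPM⟩
    set Q : Sylow 7 M := P.subtype hPM
    have hQn : (Q : Subgroup M).Normal := by
      obtain ⟨m, hm⟩ := h7
      have hm3 : m ≤ 3 := by omega
      have hnd : ¬ 7 ∣ m := fun h => by
        have := Nat.le_of_dvd (Nat.pos_of_ne_zero fun e => by
          rw [e, mul_zero] at hm; exact Nat.card_pos.ne' hm) h
        omega
      refine SmallGroups.sylow_normal_of_card_eq_one ?_ Q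
      have hd : Nat.card (Sylow 7 M) ∣ m :=
        SmallGroups.card_sylow_dvd_of_card_eq (p := 7) (a := 1) (by rw [hm, pow_one]) hnd
      have h1 := SmallGroups.mod_eq_one_card_sylow (p := 7) (G := M)
      have hm0 : 0 < m := Nat.pos_of_ne_zero fun e => by
        rw [e, mul_zero] at hm; exact Nat.card_pos.ne' hm
      have := Nat.le_of_dvd hm0 hd
      omega
    intro g hg
    refine Subgroup.mem_normalizer_fintype fun y hy => ?_
    exact hQn.conj_mem ⟨y, hPM hy⟩ hy ⟨g, hg⟩
  left
  by_cases h3 : 3 ∣ Nat.card M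
  · obtain ⟨⟨q, hqM⟩, hq⟩ := exists_prime_orderOf_dvd_card' (G := M) 3 h3
    rw [← Subgroup.orderOf_coe] at hq
    change orderOf q = 3 at hq
    obtain ⟨⟨-, -, -, -, -, -, hB'⟩, -, hqA, hqB, -, u, hu, huB⟩ := list_facts
    obtain ⟨q₀, hq₀⟩ := C.exists_f (list_facts.1.2.2.2.2.1 hqA)
    have hq₀3 : orderOf q₀ = 3 := by
      rw [C.orderOf_prime_iff q₀ Nat.prime_three, hq₀]; decide +kernel
    obtain ⟨g, hg⟩ := isConj_iff.mp (C.isConj_of_model (P := fun c => pw c 3 = one ∧ c ≠ one)
      (fun c hc hP => conj3 c hc hP.1 hP.2) (hq₀ ▸ C.f_mem q₀)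
      ((C.orderOf_prime_iff q Nat.prime_three).mp hq)
      ((C.orderOf_prime_iff q₀ Nat.prime_three).mp hq₀3))
    set M' := M.map (MulAut.conj g).toMonoidHom with hM'
    have hqM' : q₀ ∈ M' := ⟨q, hqM, hg⟩
    obtain ⟨v, rfl⟩ := C.exists_f hu
    set B' := B.map (MulAut.conj v).toMonoidHom with hB'def
    have hmemB' : ∀ x, C.f x ∈ octB' → x ∈ B' := by
      intro x hx
      have hcard : Nat.card B' ≤ Nat.card {y : G // C.f y ∈ octB'} := le_of_eq (by
        rw [hB'def, card_map_conj, C.card_list octB' (closed_lists octB' (by simp)).2.1 hB',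
          Nat.card_congr (Equiv.subtypeEquivRight hB), C.card_list octB
            (closed_lists octB (by simp)).2.1 list_facts.1.2.2.2.2.2.1]
        decide)
      have hB'sub : (B' : Set G) ⊆ {y | C.f y ∈ octB'} := by
        intro y hy
        have hy' := map_conj_mem.mp hy
        obtain ⟨c', hc', he⟩ := huB _ ((hB _).mp hy')
        obtain ⟨w, rfl⟩ := C.exists_f (hB' hc')
        rw [← C.map_mul, ← C.map_mul] at he
        have : y = w := by
          have := C.inj he
          calc y = v * (v⁻¹ * y * v) * v⁻¹ := by group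
            _ = w := by rw [this, mul_inv_cancel_right]
        rwa [this]
      have := Set.eq_of_subset_of_ncard_le hB'sub
        (by rw [← Nat.card_coe_set_eq, ← Nat.card_coe_set_eq]
            exact le_of_eq (by
              show Nat.card {y : G // C.f y ∈ octB'} = Nat.card B'
              rw [hB'def, card_map_conj, C.card_list octB' (closed_lists octB' (by simp)).2.1 hB',
                Nat.card_congr (Equiv.subtypeEquivRight hB), C.card_list octB
                  (closed_lists octB (by simp)).2.1 list_facts.1.2.2.2.2.2.1]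
              decide))
        (Set.toFinite _)
      exact (Set.ext_iff.mp this x).mpr hx
    have hsplit : ∀ x ∈ M', x ∈ A ∨ x ∈ B' := by
      intro x hx
      rcases union_test _ (C.f_mem x) with h | h | ⟨w, hw, hw7, hw1⟩
      · exact Or.inl ((hA x).mpr h)
      · exact Or.inr (hmemB' x h)
      exfalso
      have hwm : ∃ y ∈ M', C.f y = w := by
        simp only [List.mem_cons, List.not_mem_nil, or_false] at hw
        have q2 : q₀ * q₀ ∈ M' := M'.mul_mem hqM' hqM'
        rcases hw with rfl | rfl | rfl | rfl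
        · exact ⟨x, hx, rfl⟩
        · exact ⟨q₀ * x, M'.mul_mem hqM' hx, by rw [C.map_mul, hq₀]⟩
        · exact ⟨q₀ * q₀ * x, M'.mul_mem q2 hx, by rw [C.map_mul, C.map_mul, hq₀]⟩
        · exact ⟨q₀ * x * (q₀ * q₀ * x) * x,
            M'.mul_mem (M'.mul_mem (M'.mul_mem hqM' hx) (M'.mul_mem q2 hx)) hx,
            by simp only [C.map_mul, hq₀]⟩
      obtain ⟨y, hy, rfl⟩ := hwm
      refine h7 ?_
      rw [← card_map_conj M g, ← (C.orderOf_prime_iff y (by norm_num : Nat.Prime 7)).mpr ⟨hw7, hw1⟩]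
      exact Subgroup.orderOf_dvd_natCard _ hy
    have hback : ∀ V : Subgroup G, M' ≤ V → M ≤ V.map (MulAut.conj g⁻¹).toMonoidHom := fun V h => by
      rw [eq_map_conj_inv hM'.symm]
      exact Subgroup.map_mono h
    by_cases hMA : M' ≤ A
    · exact ⟨g⁻¹, Or.inl (hback A hMA)⟩
    by_cases hMB : M' ≤ B'
    · refine ⟨g⁻¹ * v, Or.inr ?_⟩
      rw [← map_conj_map]
      exact hback B' hMB
    exfalso
    obtain ⟨x, hx, hxA⟩ := SetLike.not_le_iff_exists.mp hMA
    obtain ⟨y, hy, hyB⟩ := SetLike.not_le_iff_exists.mp hMB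
    have hxB := (hsplit x hx).resolve_left hxA
    have hyA := (hsplit y hy).resolve_right hyB
    rcases hsplit _ (M'.mul_mem hx hy) with h | h
    · exact hxA ((Subgroup.mul_mem_cancel_right A hyA).mp h)
    · exact hyB ((Subgroup.mul_mem_cancel_left B' hxB).mp h)
  · -- a 2-group
    have hp : IsPGroup 2 M := by
      have hd8 : Nat.card M ∣ 2 ^ 3 := by
        have hc21 : Nat.Coprime (Nat.card M) 21 := by
          rw [show (21 : ℕ) = 3 * 7 by norm_num, Nat.coprime_mul_iff_right]
          exact ⟨((Nat.prime_three.coprime_iff_not_dvd).mpr h3).symm,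
            (((by norm_num : Nat.Prime 7).coprime_iff_not_dvd).mpr h7).symm⟩
        exact hc21.dvd_of_dvd_mul_right (by norm_num; exact hdvd)
      obtain ⟨k, -, hk⟩ := (Nat.dvd_prime_pow Nat.prime_two).mp hd8
      exact IsPGroup.of_card hk
    obtain ⟨S, hS⟩ := hp.exists_le_sylow
    obtain ⟨T₀, -, -, -, -, z₀, hT₀, -, -, -, -, -, hz₀2, hC₀, -⟩ := exists_named C
    obtain ⟨g, hg⟩ := exists_conj_dih C h168 hz₀2 hC₀ S
    refine ⟨g, Or.inl (hS.trans (hg ▸ Subgroup.map_mono fun x hx => ?_))⟩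
    exact (hA x).mpr (list_facts.1.2.2.2.1 ((hT₀ x).mp hx))

end CfsgLib.SmallGroups.Model168
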