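import Mathlib

/-!
Regular normal subgroups of multiply primitive groups.
-/

set_option autoImplicit false

namespace CfsgLib.SmallGroups.RegularNormal

open MulAction SubMulAction

variable {G X : Type*} [Group G] [MulAction G X] (N : Subgroup G) [N.Normal]

theorem eq_of_smul_eq (hreg : ∀ x : X, stabilizer N x = ⊥) {n m : G} (hn : n ∈ N) (hm : m ∈ N)
    {a : X} (h : n • a = m • a) : n = m := by
  have hmem : (⟨m⁻¹ * n, N.mul_mem (N.inv_mem hm) hn⟩ : N) ∈ stabilizer N a := by
    show (m⁻¹ * n) • a = a
    rw [mul_smul, h, inv_smul_smul]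
  rw [hreg, Subgroup.mem_bot] at hmem
  exact (inv_mul_eq_one.mp (congrArg Subtype.val hmem)).symm

theorem eq_conj (hreg : ∀ x : X, stabilizer N x = ⊥) {n m : G} (hn : n ∈ N) (hm : m ∈ N)
    {g : G} {a : X} (hg : g • a = a) (h : g • n • a = m • a) : g * n * g⁻¹ = m := by
  refine eq_of_smul_eq N hreg (Subgroup.Normal.conj_mem inferInstance n hn g) hm (a := a) ?_
  rw [mul_smul, mul_smul, inv_smul_eq_iff.mpr hg.symm, h]

/-- In degree other than 3 a doubly primitive group has regular normal subgroups of exponent 2. -/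
theorem mul_self_eq_one [Fintype X] (hX : 2 ≤ Fintype.card X)
    (h2 : IsMultiplyPreprimitive G X 2) (hreg : ∀ x : X, stabilizer N x = ⊥)
    (h3 : Fintype.card X ≠ 3) {n : G} (hn : n ∈ N) : n * n = 1 := by
  classical
  by_contra hne
  obtain ⟨a⟩ : Nonempty X := Fintype.card_pos_iff.mp (by omega)
  haveI : IsMultiplyPreprimitive G X (Nat.succ 1) := h2
  haveI := h2.isMultiplyPretransitive
  haveI : IsPretransitive G X := isPretransitive_of_is_two_pretransitive
  haveI : IsPreprimitive (stabilizer G a) (ofStabilizer G a) :=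
    (is_one_preprimitive_iff _ _).mp (isMultiplyPreprimitive_ofStabilizer G X)
  have hn1 : n ≠ 1 := fun e => hne (by rw [e, one_mul])
  have hna : n • a ≠ a := fun e =>
    hn1 (eq_of_smul_eq N hreg hn N.one_mem (e.trans (one_smul G a).symm))
  have hia : n⁻¹ • a ≠ a := fun e => hna (inv_smul_eq_iff.mp e).symm
  have hni : n • a ≠ n⁻¹ • a := fun e =>
    hne (by
      have h := eq_of_smul_eq N hreg hn (N.inv_mem hn) e
      calc n * n = n * n⁻¹ := by rw [← h]
        _ = 1 := mul_inv_cancel n)
  let B : Set (ofStabilizer G a) := {x | (x : X) = n • a ∨ (x : X) = n⁻¹ • a}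
  have hB : IsBlock (stabilizer G a) B := by
    rw [isBlock_iff_smul_eq_of_mem]
    intro g x hx hgx
    have hg : (g : G) • a = a := g.2
    have hconj : ∀ m ∈ N, (g : G) • m • a = ((g : G) * m * (g : G)⁻¹) • a := fun m _ => by
      rw [mul_smul, mul_smul, inv_smul_eq_iff.mpr hg.symm]
    have key : (g : G) * n * (g : G)⁻¹ = n ∨ (g : G) * n * (g : G)⁻¹ = n⁻¹ := by
      rcases hx with hx | hx <;> rcases hgx with hgx | hgx <;>
        (change (g : G) • (x : X) = _ at hgx; rw [hx] at hgx)
      · exact Or.inl (eq_conj N hreg hn hn hg hgx)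
      · exact Or.inr (eq_conj N hreg hn (N.inv_mem hn) hg hgx)
      · have h := eq_conj N hreg (N.inv_mem hn) hn hg hgx
        exact Or.inr (by
          calc (g : G) * n * (g : G)⁻¹ = ((g : G) * n⁻¹ * (g : G)⁻¹)⁻¹ := by group
            _ = n⁻¹ := by rw [h])
      · have h := eq_conj N hreg (N.inv_mem hn) (N.inv_mem hn) hg hgx
        exact Or.inl (by
          calc (g : G) * n * (g : G)⁻¹ = ((g : G) * n⁻¹ * (g : G)⁻¹)⁻¹ := by group
            _ = n := by rw [h, inv_inv])
    refine Set.eq_of_subset_of_ncard_le ?_ (le_of_eq ?_) (Set.toFinite _)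
    · rintro _ ⟨y, hy, rfl⟩
      change (g : G) • (y : X) = n • a ∨ (g : G) • (y : X) = n⁻¹ • a
      have hinv : (g : G) * n⁻¹ * (g : G)⁻¹ = ((g : G) * n * (g : G)⁻¹)⁻¹ := by group
      rcases hy with hy | hy
      · rw [hy, hconj n hn]
        rcases key with k | k <;> rw [k] <;> simp
      · rw [hy, hconj _ (N.inv_mem hn), hinv]
        rcases key with k | k <;> rw [k] <;> simp
    · rw [← Set.image_smul, Set.ncard_image_of_injective _ (MulAction.injective g)]
  rcases IsPreprimitive.isTrivialBlock_of_isBlock hB with h | h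
  · exact hni (congrArg Subtype.val (h (x := ⟨n • a, hna⟩) (Or.inl rfl)
      (y := ⟨n⁻¹ • a, hia⟩) (Or.inr rfl)))
  · apply h3
    refine le_antisymm ?_ ?_
    · have hsub : (Finset.univ : Finset X) ⊆ {a, n • a, n⁻¹ • a} := by
        intro x _
        simp only [Finset.mem_insert, Finset.mem_singleton]
        by_cases hx : x = a
        · exact Or.inl hx
        · exact Or.inr (Set.eq_univ_iff_forall.mp h ⟨x, hx⟩)
      exact (Finset.card_le_card hsub).trans Finset.card_le_three
    · rw [← Finset.card_eq_three.mpr ⟨a, n • a, n⁻¹ • a, Ne.symm hna, Ne.symm hia, hni, rfl⟩]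
      exact Finset.card_le_univ _

/-- A triply primitive group with a regular normal subgroup has degree at most 4. -/
theorem card_le_four [Fintype X] (hX : 3 ≤ Fintype.card X) (h3 : IsMultiplyPreprimitive G X 3)
    (htrans : IsPretransitive N X) (hreg : ∀ x : X, stabilizer N x = ⊥) :
    Fintype.card X ≤ 4 := by
  classical
  by_contra hlt
  have h2 : IsMultiplyPreprimitive G X 2 := isMultiplyPreprimitive_of_le G X h3 (by norm_num)
    (by rw [ENat.card_eq_coe_fintype_card]; exact_mod_cast hX)
  have hsq : ∀ n ∈ N, n * n = 1 := fun n hn =>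
    mul_self_eq_one N (by omega) h2 hreg (by omega) hn
  obtain ⟨a⟩ : Nonempty X := Fintype.card_pos_iff.mp (by omega)
  obtain ⟨b, hb⟩ := Fintype.exists_ne_of_one_lt_card (by omega) a
  obtain ⟨c, hc⟩ : (({a, b} : Finset X)ᶜ).Nonempty := Finset.card_pos.mp (by
    rw [Finset.card_compl, Finset.card_pair (Ne.symm hb)]; omega)
  simp only [Finset.mem_compl, Finset.mem_insert, Finset.mem_singleton, not_or] at hc
  obtain ⟨⟨n, hn⟩, hnb⟩ := htrans.exists_smul_eq a b
  obtain ⟨⟨m, hm⟩, hmc⟩ := htrans.exists_smul_eq a c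
  change n • a = b at hnb
  change m • a = c at hmc
  set d := (n * m) • a with hd
  have hda : d ≠ a := fun e => by
    have h := eq_of_smul_eq N hreg (N.mul_mem hn hm) N.one_mem (e.trans (one_smul G a).symm)
    have : n = m := by
      calc n = n * (m * m) := by rw [hsq m hm, mul_one]
        _ = m := by rw [← mul_assoc, h, one_mul]
    exact hc.2 (by rw [← hmc, ← this, hnb])
  have hdb : d ≠ b := fun e => by
    have h := eq_of_smul_eq N hreg (N.mul_mem hn hm) hn (e.trans hnb.symm)
    exact hc.1 (by rw [← hmc, mul_eq_left.mp h, one_smul])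
  have hcd : c ≠ d := fun e => by
    have h := eq_of_smul_eq N hreg hm (N.mul_mem hn hm) (hmc.trans e)
    exact hb (by rw [← hnb, mul_eq_right.mp h.symm, one_smul])
  haveI : IsMultiplyPreprimitive G X (Nat.succ 2) := h3
  haveI : IsPretransitive G X := ⟨fun x y => by
    obtain ⟨g, hg⟩ := htrans.exists_smul_eq x y
    exact ⟨g, hg⟩⟩
  haveI : IsMultiplyPreprimitive (stabilizer G a) (ofStabilizer G a) (Nat.succ 1) :=
    isMultiplyPreprimitive_ofStabilizer G X
  haveI : IsPretransitive (stabilizer G a) (ofStabilizer G a) :=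
    is_one_pretransitive_iff.mp
      ((isMultiplyPreprimitive_of_le (n := 2) _ _ inferInstance (m := 1) (by norm_num) (by
        have := nat_card_ofStabilizer_add_one_eq (G := G) a
        rw [Nat.card_eq_fintype_card] at this
        rw [ENat.card_eq_coe_natCard, Nat.card_eq_fintype_card]
        norm_cast
        rw [Nat.card_eq_fintype_card] at this
        omega)).isMultiplyPretransitive)
  let b' : ofStabilizer G a := ⟨b, hb⟩
  haveI : IsPreprimitive (stabilizer (stabilizer G a) b') (ofStabilizer (stabilizer G a) b') :=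
    (is_one_preprimitive_iff _ _).mp
      (isMultiplyPreprimitive_ofStabilizer (stabilizer G a) (ofStabilizer G a))
  let B : Set (ofStabilizer (stabilizer G a) b') :=
    {x | ((x : ofStabilizer G a) : X) = c ∨ ((x : ofStabilizer G a) : X) = d}
  have hB : IsBlock (stabilizer (stabilizer G a) b') B := by
    rw [isBlock_iff_smul_eq_of_mem]
    intro g x hx hgx
    set h : G := ((g : stabilizer G a) : G)
    have hha : h • a = a := (g : stabilizer G a).2
    have hhb : h • b = b := congrArg Subtype.val g.2
    have hhn : h * n * h⁻¹ = n := eq_conj N hreg hn hn hha (by rw [hnb, hhb])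
    have key : (h • c = c ∧ h • d = d) ∨ (h • c = d ∧ h • d = c) := by
      have hcd' : h • d = n • h • c := by
        rw [hd, ← hmc, ← mul_smul, ← mul_smul, ← mul_smul, show h * (n * m) = (h * n * h⁻¹) * (h * m)
          by group, hhn, mul_assoc]
      have hdc' : h • c = n • h • d := by rw [hcd', ← mul_smul, hsq n hn, one_smul]
      have hnc : n • c = d := by rw [← hmc, ← mul_smul]
      have hnd : n • d = c := by rw [← hnc, ← mul_smul, hsq n hn, one_smul]
      rcases hx with hx | hx <;> rcases hgx with hgx | hgx <;>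
        (change h • ((x : ofStabilizer G a) : X) = _ at hgx; rw [hx] at hgx)
      · exact Or.inl ⟨hgx, by rw [hcd', hgx, hnc]⟩
      · exact Or.inr ⟨hgx, by rw [hcd', hgx, hnd]⟩
      · exact Or.inr ⟨by rw [hdc', hgx, hnc], hgx⟩
      · exact Or.inl ⟨by rw [hdc', hgx, hnd], hgx⟩
    refine Set.eq_of_subset_of_ncard_le ?_ (le_of_eq ?_) (Set.toFinite _)
    · rintro _ ⟨y, hy, rfl⟩
      change h • ((y : ofStabilizer G a) : X) = c ∨ h • ((y : ofStabilizer G a) : X) = d
      rcases hy with hy | hy <;> rcases key with k | k <;> rw [hy]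
      · exact Or.inl k.1
      · exact Or.inr k.1
      · exact Or.inr k.2
      · exact Or.inl k.2
    · rw [← Set.image_smul, Set.ncard_image_of_injective _ (MulAction.injective g)]
  rcases IsPreprimitive.isTrivialBlock_of_isBlock hB with h | h
  · exact hcd (congrArg (fun z : ofStabilizer (stabilizer G a) b' => ((z : ofStabilizer G a) : X))
      (h (x := ⟨⟨c, hc.1⟩, fun e => hc.2 (congrArg Subtype.val e)⟩) (Or.inl rfl)
        (y := ⟨⟨d, hda⟩, fun e => hdb (congrArg Subtype.val e)⟩) (Or.inr rfl)))
  · have hsub : (Finset.univ : Finset X) ⊆ {a, b, c, d} := by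
      intro x _
      simp only [Finset.mem_insert, Finset.mem_singleton]
      by_cases hxa : x = a
      · exact Or.inl hxa
      by_cases hxb : x = b
      · exact Or.inr (Or.inl hxb)
      exact Or.inr (Or.inr (Set.eq_univ_iff_forall.mp h
        ⟨⟨x, hxa⟩, fun e => hxb (congrArg Subtype.val e)⟩))
    have := (Finset.card_le_card hsub).trans Finset.card_le_four
    rw [Finset.card_univ] at this
    omega

end CfsgLib.SmallGroups.RegularNormal
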