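import Mathlib

/-!
Subdirect products of a non-abelian simple group are products of diagonals.
-/

set_option autoImplicit false

namespace CfsgLib.SmallGroups.Subdirect

variable {T : Type*} [Group T] [IsSimpleGroup T] {ι : Type*}

theorem map_inf_eq_top {Γ : Type*} [Group Γ] (hT : ∃ a b : T, a * b ≠ b * a) (f : Γ →* T)
    (hf : Function.Surjective f) (A B : Subgroup Γ) [A.Normal] [B.Normal] (hA : A.map f = ⊤)
    (hB : B.map f = ⊤) : (A ⊓ B).map f = ⊤ := by
  refine ((Subgroup.Normal.map (inferInstance : (A ⊓ B).Normal) f hf).eq_bot_or_eq_top).resolve_left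
    fun h => ?_
  obtain ⟨a, b, hab⟩ := hT
  obtain ⟨x, hx, hxa⟩ := (hA ▸ Subgroup.mem_top a : a ∈ A.map f)
  obtain ⟨y, hy, hyb⟩ := (hB ▸ Subgroup.mem_top b : b ∈ B.map f)
  have hm : x * y * x⁻¹ * y⁻¹ ∈ A ⊓ B := by
    refine ⟨?_, B.mul_mem (Subgroup.Normal.conj_mem inferInstance y hy x) (B.inv_mem hy)⟩
    rw [show x * y * x⁻¹ * y⁻¹ = x * (y * x⁻¹ * y⁻¹) by simp only [mul_assoc]]
    exact A.mul_mem hx (Subgroup.Normal.conj_mem inferInstance _ (A.inv_mem hx) y)
  have h1 := Subgroup.mem_map_of_mem f hm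
  rw [h, Subgroup.mem_bot, map_mul, map_mul, map_mul, map_inv, map_inv, hxa, hyb, mul_inv_eq_one,
    mul_inv_eq_iff_eq_mul] at h1
  exact hab h1

/-- Linked coordinates of a subgroup of a power. -/
def Linked (L : Subgroup (ι → T)) (i j : ι) : Prop := ∀ x ∈ L, x i = 1 → x j = 1

/-- The projection of a subgroup of a power to a coordinate. -/
def proj (L : Subgroup (ι → T)) (i : ι) : L →* T :=
  (Pi.evalMonoidHom (fun _ : ι => T) i).comp L.subtype

variable [Finite T] {L : Subgroup (ι → T)}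
  (hT : ∃ a b : T, a * b ≠ b * a) (hL : ∀ i t, ∃ x ∈ L, x i = t)

include hL

theorem proj_surjective (i : ι) : Function.Surjective (proj L i) := fun t => by
  obtain ⟨x, hx, h⟩ := hL i t
  exact ⟨⟨x, hx⟩, h⟩

theorem linked_symm [Finite ι] {i j : ι} (h : Linked L i j) : Linked L j i := by
  have hle : (proj L i).ker ≤ (proj L j).ker := fun x hx => h x.1 x.2 hx
  have hi : ∀ i, (proj L i).ker.index = Nat.card T := fun i => by
    rw [Subgroup.index_ker, MonoidHom.range_eq_top.mpr (proj_surjective hL i), Subgroup.card_top]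
  have heq : (proj L i).ker = (proj L j).ker := by
    refine le_antisymm hle ?_
    have h1 := Subgroup.relIndex_mul_index hle
    rw [hi, hi] at h1
    exact Subgroup.relIndex_eq_one.mp (Nat.eq_of_mul_eq_mul_right Nat.card_pos (by rw [h1, one_mul]))
  intro x hx hxj
  exact (heq ▸ (show (⟨x, hx⟩ : L) ∈ (proj L j).ker from hxj) : (⟨x, hx⟩ : L) ∈ (proj L i).ker)

theorem exists_link [Finite ι] {i j : ι} (h : Linked L i j) :
    ∃ φ : T ≃* T, ∀ x ∈ L, x j = φ (x i) := by
  classical
  choose sec hsec hsec' using hL i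
  have key : ∀ x ∈ L, x j = sec (x i) j := by
    intro x hx
    have := h ((sec (x i))⁻¹ * x) (L.mul_mem (L.inv_mem (hsec _)) hx) (by simp [hsec'])
    simpa [inv_mul_eq_one, eq_comm] using this
  let φ : T →* T := MonoidHom.mk' (fun t => sec t j) fun s t => by
    have := key (sec s * sec t) (L.mul_mem (hsec s) (hsec t))
    simpa [hsec'] using this.symm
  have hinj : Function.Injective φ := by
    rw [injective_iff_map_eq_one]
    intro t ht
    have := linked_symm hL h (sec t) (hsec t) ht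
    rwa [hsec'] at this
  exact ⟨MulEquiv.ofBijective φ (Finite.injective_iff_bijective.mp hinj), key⟩

include hT

theorem exists_single [Finite ι] (r : ι) (S : Finset ι) (hS : ∀ s ∈ S, ¬ Linked L s r) (t : T) :
    ∃ x ∈ L, x r = t ∧ ∀ s ∈ S, x s = 1 := by
  classical
  suffices h : (⨅ s ∈ S, (proj L s).ker).map (proj L r) = ⊤ by
    obtain ⟨x, hx, hxt⟩ := (h ▸ Subgroup.mem_top t : t ∈ (⨅ s ∈ S, (proj L s).ker).map (proj L r))
    refine ⟨x.1, x.2, hxt, fun s hs => ?_⟩
    rw [SetLike.mem_coe, Subgroup.mem_iInf] at hx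
    exact Subgroup.mem_iInf.mp (hx s) hs
  have hsurj := proj_surjective hL r
  induction S using Finset.induction with
  | empty => simpa using Subgroup.map_top_of_surjective _ hsurj
  | insert s S _ ih =>
    rw [Finset.iInf_insert]
    haveI : (⨅ u ∈ S, (proj L u).ker).Normal := Subgroup.normal_iInf_normal fun u =>
      Subgroup.normal_iInf_normal fun _ => MonoidHom.normal_ker _
    refine map_inf_eq_top hT _ hsurj _ _ ?_ (ih fun u hu => hS u (Finset.mem_insert_of_mem hu))
    refine ((MonoidHom.normal_ker (proj L s)).map (proj L r) hsurj).eq_bot_or_eq_top.resolve_left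
      fun h => hS s (Finset.mem_insert_self s S) fun x hx hxs => ?_
    have h1 := Subgroup.mem_map_of_mem (proj L r) (show (⟨x, hx⟩ : L) ∈ (proj L s).ker from hxs)
    rw [h, Subgroup.mem_bot] at h1
    exact h1

/-- Values on pairwise unlinked coordinates are arbitrary. -/
theorem exists_prescribed [Finite ι] (R : Finset ι)
    (hR : ∀ r ∈ R, ∀ s ∈ R, Linked L s r → s = r) (v : ι → T) :
    ∃ x ∈ L, ∀ r ∈ R, x r = v r := by
  classical
  let F : L →* (R → T) := MonoidHom.pi fun r => proj L r.1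
  have htop : ∀ w : R → T, w ∈ F.range := fun w => by
    refine Subgroup.pi_mem_of_mulSingle_mem w fun r => ?_
    obtain ⟨x, hx, hxr, hxo⟩ := exists_single hT hL r.1 (R.erase r.1)
      (fun s hs h => (Finset.mem_erase.mp hs).1 (hR r.1 r.2 s (Finset.mem_erase.mp hs).2 h)) (w r)
    refine ⟨⟨x, hx⟩, funext fun s => ?_⟩
    show x s.1 = _
    rcases eq_or_ne s r with rfl | hsr
    · rw [Pi.mulSingle_eq_same, hxr]
    · rw [Pi.mulSingle_eq_of_ne hsr, hxo s.1 (Finset.mem_erase.mpr ⟨fun e => hsr (Subtype.ext e), s.2⟩)]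
  obtain ⟨x, hx⟩ := htop fun r => v r.1
  exact ⟨x.1, x.2, fun r hr => congrFun hx ⟨r, hr⟩⟩

end CfsgLib.SmallGroups.Subdirect
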