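import Cfsg.Agent.Lib.SmallGroups.HalfTransitive
import Cfsg.Agent.Lib.SmallGroups.RegularNormal
import Mathlib

/-!
Wagner's theorem: non-trivial normal subgroups of triply transitive groups of odd degree.
-/

set_option autoImplicit false

namespace CfsgLib.SmallGroups.Wagner

open MulAction

variable {G α : Type*} [Group G] [Finite G] [Fintype α] [MulAction G α] (N : Subgroup G) [N.Normal]

/-- The elements of `N` mapping the pair `{a, b}` to itself. -/
def pairStab (a b : α) : Subgroup N where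
  carrier := {n | (n • a = a ∧ n • b = b) ∨ (n • a = b ∧ n • b = a)}
  one_mem' := Or.inl ⟨one_smul _ _, one_smul _ _⟩
  mul_mem' := by
    rintro x y (⟨h1, h2⟩ | ⟨h1, h2⟩) (⟨h3, h4⟩ | ⟨h3, h4⟩) <;>
      simp [mul_smul, h1, h2, h3, h4]
  inv_mem' := by
    rintro x (⟨h1, h2⟩ | ⟨h1, h2⟩)
    · exact Or.inl ⟨inv_smul_eq_iff.mpr h1.symm, inv_smul_eq_iff.mpr h2.symm⟩
    · exact Or.inr ⟨inv_smul_eq_iff.mpr h2.symm, inv_smul_eq_iff.mpr h1.symm⟩

theorem wagner [FaithfulSMul G α] (hodd : Odd (Fintype.card α)) (h5 : 5 ≤ Fintype.card α)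
    (h3 : ∀ a b c a' b' c' : α, a ≠ b → a ≠ c → b ≠ c → a' ≠ b' → a' ≠ c' → b' ≠ c' →
      ∃ g : G, g • a = a' ∧ g • b = b' ∧ g • c = c')
    (hN : N ≠ ⊥) {a b c a' b' c' : α} (hab : a ≠ b) (hac : a ≠ c) (hbc : b ≠ c) (hab' : a' ≠ b')
    (hac' : a' ≠ c') (hbc' : b' ≠ c') : ∃ n ∈ N, n • a = a' ∧ n • b = b' ∧ n • c = c' := by
  classical
  have thirdpt : ∀ x y : α, ∃ z, z ≠ x ∧ z ≠ y := fun x y => by
    have h : 0 < (({x, y} : Finset α)ᶜ).card := by
      rw [Finset.card_compl]
      have := Finset.card_le_two (a := x) (b := y)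
      omega
    obtain ⟨z, hz⟩ := Finset.card_pos.mp h
    simp only [Finset.mem_compl, Finset.mem_insert, Finset.mem_singleton, not_or] at hz
    exact ⟨z, hz⟩
  have h2 : ∀ a b a' b' : α, a ≠ b → a' ≠ b' → ∃ g : G, g • a = a' ∧ g • b = b' := by
    intro a b a' b' h h'
    obtain ⟨c, hc⟩ := thirdpt a b
    obtain ⟨c', hc'⟩ := thirdpt a' b'
    obtain ⟨g, h1, h2, -⟩ := h3 a b c a' b' c' h hc.1.symm hc.2.symm h' hc'.1.symm hc'.2.symm
    exact ⟨g, h1, h2⟩
  haveI : FaithfulSMul N α := ⟨fun h => Subtype.ext (eq_of_smul_eq_smul h)⟩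
  -- `N` is transitive
  haveI hNtr : IsPretransitive N α := by
    obtain ⟨⟨n, hn⟩, hn1⟩ : ∃ n : N, n ≠ 1 :=
      haveI := N.nontrivial_iff_ne_bot.mpr hN
      exists_ne 1
    obtain ⟨x, hx⟩ : ∃ x : α, n • x ≠ x := by
      by_contra h
      push Not at h
      exact hn1 (eq_of_smul_eq_smul (α := α) fun x => (h x).trans (one_smul N x).symm)
    refine ⟨fun u v => ?_⟩
    by_cases huv : u = v
    · exact ⟨1, by rw [one_smul, huv]⟩
    obtain ⟨g, hgx, hgy⟩ := h2 x (n • x) u v hx.symm huv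
    exact ⟨⟨g * n * g⁻¹, Subgroup.Normal.conj_mem inferInstance n hn g⟩, by
      show (g * n * g⁻¹) • u = v
      rw [mul_smul, mul_smul, inv_smul_eq_iff.mpr hgx.symm, hgy]⟩
  -- `N` is not regular
  have hnr : ∀ a : α, ∃ n ∈ N, n • a = a ∧ n ≠ 1 := by
    intro a
    by_contra h
    push Not at h
    have hreg : ∀ x : α, stabilizer N x = ⊥ := fun x => by
      rw [eq_bot_iff]
      intro n hn
      obtain ⟨g, hg⟩ := exists_smul_eq N a x
      have hfix : (((g⁻¹ * n * g : N) : G)) • a = a := by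
        show (g⁻¹ * n * g) • a = a
        rw [mul_smul, mul_smul, hg, mem_stabilizer_iff.mp hn, inv_smul_eq_iff, hg]
      have h1 : g⁻¹ * n * g = 1 := Subtype.ext (h _ (g⁻¹ * n * g).2 hfix)
      refine Subgroup.mem_bot.mpr ?_
      calc n = g * (g⁻¹ * n * g) * g⁻¹ := by group
        _ = 1 := by rw [h1]; group
    have hcardN : Nat.card N = Fintype.card α := by
      rw [← Nat.card_eq_fintype_card, ← index_stabilizer_of_transitive N a, hreg a,
        Subgroup.index_bot]
    obtain ⟨u, hu⟩ : ∃ u : N, u ≠ 1 :=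
      haveI := N.nontrivial_iff_ne_bot.mpr hN
      exists_ne 1
    have huu : u * u ≠ 1 := by
      intro h1
      have hd : orderOf u ∣ 2 := orderOf_dvd_of_pow_eq_one (by rw [pow_two, h1])
      rcases (Nat.dvd_prime Nat.prime_two).mp hd with h2 | h2
      · exact hu (orderOf_eq_one_iff.mp h2)
      · have := orderOf_dvd_natCard u
        rw [h2, hcardN] at this
        exact (Nat.not_even_iff_odd.mpr hodd) (even_iff_two_dvd.mpr this)
    have hmove : ∀ n : N, n ≠ 1 → n • a ≠ a := fun n hn e =>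
      hn (Subgroup.mem_bot.mp (hreg a ▸ mem_stabilizer_iff.mpr e))
    have h1 := hmove u hu
    have h2' : u⁻¹ • a ≠ a := hmove _ (inv_ne_one.mpr hu)
    have h12 : u • a ≠ u⁻¹ • a := fun e => hmove (u * u) huu (by rw [mul_smul, e, smul_inv_smul])
    obtain ⟨w, hw⟩ : ((({a, u • a, u⁻¹ • a} : Finset α))ᶜ).Nonempty := by
      rw [← Finset.card_pos, Finset.card_compl]
      have := Finset.card_le_three (a := a) (b := u • a) (c := u⁻¹ • a)
      omega
    simp only [Finset.mem_compl, Finset.mem_insert, Finset.mem_singleton, not_or] at hw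
    obtain ⟨g, hga, hgu, hgw⟩ := h3 a (u • a) (u⁻¹ • a) a (u • a) w h1.symm h2'.symm h12
      h1.symm (Ne.symm hw.1) (Ne.symm hw.2.1)
    have hconj := RegularNormal.eq_conj N hreg u.2 u.2 hga hgu
    apply hw.2.2
    rw [← hgw]
    show g • ((u⁻¹ : N) : G) • a = ((u⁻¹ : N) : G) • a
    rw [← mul_smul]
    have hc2 : g * ((u⁻¹ : N) : G) = ((u⁻¹ : N) : G) * g := by
      have h := mul_inv_eq_iff_eq_mul.mp hconj
      rw [Subgroup.coe_inv]
      exact ((show Commute g (u : G) from h).inv_right).eq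
    rw [hc2, mul_smul, hga]
  -- `N` is doubly transitive
  have hN2 : ∀ a x y : α, x ≠ a → y ≠ a → ∃ n : N, n • a = a ∧ n • x = y := by
    intro a x y hx hy
    obtain ⟨n, hnN, hna, hn1⟩ := hnr a
    obtain ⟨u, hu⟩ : ∃ u, n • u ≠ u := by
      by_contra h
      push Not at h
      exact hn1 (eq_of_smul_eq_smul (α := α) fun x => (h x).trans (one_smul G x).symm)
    have hua : u ≠ a := fun e => hu (e ▸ hna)
    have hnua : n • u ≠ a := fun e => hua (MulAction.injective n (e.trans hna.symm))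
    by_cases hxy : x = y
    · exact ⟨1, one_smul _ _, by rw [one_smul, hxy]⟩
    obtain ⟨g, hga, hgu, hgnu⟩ := h3 a u (n • u) a x y hua.symm hnua.symm hu.symm hx.symm hy.symm hxy
    refine ⟨⟨g * n * g⁻¹, Subgroup.Normal.conj_mem inferInstance n hnN g⟩, ?_, ?_⟩
    · show (g * n * g⁻¹) • a = a
      rw [mul_smul, mul_smul, inv_smul_eq_iff.mpr hga.symm, hna, hga]
    · show (g * n * g⁻¹) • x = y
      rw [mul_smul, mul_smul, inv_smul_eq_iff.mpr hgu.symm, hgnu]
  have hN22 : ∀ a b a' b' : α, a ≠ b → a' ≠ b' → ∃ n : N, n • a = a' ∧ n • b = b' := by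
    intro a b a' b' h h'
    obtain ⟨m, hm⟩ := exists_smul_eq N a a'
    obtain ⟨n, hn1, hn2⟩ := hN2 a' (m • b) b'
      (fun e => h (MulAction.injective m (hm.trans e.symm))) h'.symm
    exact ⟨n * m, by rw [mul_smul, hm, hn1], by rw [mul_smul, hn2]⟩
  -- two-point stabilisers are transitive on the other points
  have hD : ∀ a b x y : α, a ≠ b → x ≠ a → x ≠ b → y ≠ a → y ≠ b →
      ∃ n : N, n • a = a ∧ n • b = b ∧ n • x = y := by
    intro a b x y hab hxa hxb hya hyb
    set D := stabilizer N a ⊓ stabilizer N b with hDdef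
    set L := pairStab N a b with hLdef
    obtain ⟨s, hsa, hsb⟩ := hN22 a b b a hab hab.symm
    have hDL : D ≤ L := fun n hn => Or.inl ⟨hn.1, hn.2⟩
    have hsL : s ∈ L := Or.inr ⟨hsa, hsb⟩
    have hidx : (D.subgroupOf L).index = 2 := by
      rw [Subgroup.index_eq_two_iff]
      refine ⟨⟨s, hsL⟩, fun z => ?_⟩
      obtain ⟨z, hz⟩ := z
      simp only [Subgroup.mem_subgroupOf, Subgroup.coe_mul]
      rcases hz with ⟨h1, h2⟩ | ⟨h1, h2⟩
      · refine Or.inr ⟨⟨h1, h2⟩, fun h => hab ?_⟩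
        have h4 : (z * s) • a = a := h.1
        rw [mul_smul, hsa, h2] at h4
        exact h4.symm
      · refine Or.inl ⟨⟨?_, ?_⟩, fun h => hab (h.1.symm.trans h1)⟩
        · show (z * s) • a = a
          rw [mul_smul, hsa, h2]
        · show (z * s) • b = b
          rw [mul_smul, hsb, h1]
    have hcardL : Nat.card L = 2 * Nat.card D := by
      rw [← (D.subgroupOf L).card_mul_index, hidx,
        Nat.card_congr (Subgroup.subgroupOfEquivOfLe hDL).toEquiv, mul_comm]
    haveI : Fact (Nat.Prime 2) := ⟨Nat.prime_two⟩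
    obtain ⟨R⟩ : Nonempty (Sylow 2 L) := inferInstance
    have hRc : Nat.card (R : Subgroup L) = 2 * 2 ^ (Nat.card D).factorization 2 := by
      rw [R.card_eq_multiplicity, hcardL, Nat.factorization_mul (by norm_num) Nat.card_pos.ne',
        Finsupp.add_apply, Nat.prime_two.factorization_self, pow_add, pow_one]
    have hnot : ∀ K : Subgroup N, Nat.card K = Nat.card D → ¬ ((R : Subgroup L).map L.subtype ≤ K) := by
      intro K hK hle
      have h := Subgroup.card_dvd_of_le hle
      rw [Subgroup.card_map_of_injective L.subtype_injective, hRc, hK, ← pow_succ'] at h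
      exact Nat.pow_succ_factorization_not_dvd Nat.card_pos.ne' Nat.prime_two h
    have hconjcard : ∀ u v : α, u ≠ v → Nat.card ↥(stabilizer N u ⊓ stabilizer N v) = Nat.card D := by
      intro u v huv
      obtain ⟨t, hta, htb⟩ := hN22 a b u v hab huv
      rw [← hta, ← htb, stabilizer_smul_eq_stabilizer_map_conj, stabilizer_smul_eq_stabilizer_map_conj,
        ← Subgroup.map_inf _ _ _ (MulAut.conj t).injective]
      exact Subgroup.card_map_of_injective (MulAut.conj t).injective
    -- orbits of the two-point stabiliser on the other points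
    let U : Set α := {z | z ≠ a ∧ z ≠ b}
    have hUL : ∀ l ∈ L, ∀ z ∈ U, l • z ∈ U := by
      rintro l hl z ⟨hza, hzb⟩
      rcases hl with ⟨h1, h2⟩ | ⟨h1, h2⟩
      · exact ⟨fun e => hza (MulAction.injective l (e.trans h1.symm)),
          fun e => hzb (MulAction.injective l (e.trans h2.symm))⟩
      · exact ⟨fun e => hzb (MulAction.injective l (e.trans h2.symm)),
          fun e => hza (MulAction.injective l (e.trans h1.symm))⟩
    have hUcard : Odd U.ncard := by
      have hU : U = ({a, b} : Set α)ᶜ := by ext z; simp [U]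
      have h := Set.ncard_add_ncard_compl ({a, b} : Set α)
      rw [Set.ncard_pair hab, Nat.card_eq_fintype_card, ← hU] at h
      obtain ⟨k, hk⟩ := hodd
      exact ⟨k - 1, by omega⟩
    have horbU : ∀ u v, u ∈ U → v ∈ U → (orbit D u).ncard = (orbit D v).ncard := by
      intro u v hu hv
      obtain ⟨g, hga, hgb, hgu⟩ := h3 a b u a b v hab hu.1.symm hu.2.symm hab hv.1.symm hv.2.symm
      have him : orbit D v = (g • ·) '' orbit D u := by
        ext z
        constructor
        · rintro ⟨⟨n, hn⟩, rfl⟩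
          refine ⟨_, ⟨⟨⟨g⁻¹ * (n : G) * g, by
            simpa using Subgroup.Normal.conj_mem inferInstance _ n.2 g⁻¹⟩, ?_, ?_⟩, rfl⟩, ?_⟩
          · show (g⁻¹ * (n : G) * g) • a = a
            rw [mul_smul, mul_smul, hga, show (n : G) • a = a from hn.1, inv_smul_eq_iff, hga]
          · show (g⁻¹ * (n : G) * g) • b = b
            rw [mul_smul, mul_smul, hgb, show (n : G) • b = b from hn.2, inv_smul_eq_iff, hgb]
          · show g • (g⁻¹ * (n : G) * g) • u = (n : G) • v
            rw [mul_smul, mul_smul, smul_inv_smul, hgu]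
        · rintro ⟨_, ⟨⟨n, hn⟩, rfl⟩, rfl⟩
          refine ⟨⟨⟨g * (n : G) * g⁻¹, Subgroup.Normal.conj_mem inferInstance _ n.2 g⟩, ?_, ?_⟩, ?_⟩
          · show (g * (n : G) * g⁻¹) • a = a
            rw [mul_smul, mul_smul, inv_smul_eq_iff.mpr hga.symm, show (n : G) • a = a from hn.1, hga]
          · show (g * (n : G) * g⁻¹) • b = b
            rw [mul_smul, mul_smul, inv_smul_eq_iff.mpr hgb.symm, show (n : G) • b = b from hn.2, hgb]
          · show (g * (n : G) * g⁻¹) • v = g • (n : G) • u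
            rw [mul_smul, mul_smul, ← hgu, inv_smul_smul]
      rw [him, Set.ncard_image_of_injective _ (MulAction.injective g)]
    have hdodd : ∀ u ∈ U, Odd (orbit D u).ncard := by
      intro u hu
      have hd := HalfTransitive.dvd_ncard (H := D) (U := U) (fun n z hz => hUL n (hDL n.2) z hz)
        (d := (orbit D u).ncard) (fun z hz => horbU z u hz hu)
      exact hUcard.of_dvd_nat hd
    have hRfix : ∀ W : Set α, (∀ l : L, ∀ z ∈ W, (l : N) • z ∈ W) → Odd W.ncard →
        ∃ z ∈ W, ∀ r ∈ (R : Subgroup L), ((r : L) : N) • z = z := by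
      intro W hW hWodd
      letI : MulAction (R : Subgroup L) W :=
        { smul := fun r z => ⟨((r : L) : N) • (z : α), hW r.1 z z.2⟩
          one_smul := fun z => Subtype.ext (one_smul N (z : α))
          mul_smul := fun r r' z => Subtype.ext (mul_smul ((r : L) : N) ((r' : L) : N) (z : α)) }
      obtain ⟨z, hz⟩ := R.isPGroup'.nonempty_fixed_point_of_prime_not_dvd_card W (by
        rw [Nat.card_coe_set_eq]
        exact fun h => (Nat.not_even_iff_odd.mpr hWodd) (even_iff_two_dvd.mpr h))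
      exact ⟨z, z.2, fun r hr => congrArg Subtype.val (hz ⟨r, hr⟩)⟩
    obtain ⟨x₀, hx₀U, hx₀⟩ := hRfix U (fun l z hz => hUL l l.2 z hz) hUcard
    obtain ⟨r, hr, hrD⟩ : ∃ r ∈ (R : Subgroup L), (r : N) ∉ D := by
      by_contra h
      push Not at h
      exact hnot D rfl (by rintro _ ⟨r, hr, rfl⟩; exact h r hr)
    have hrswap : (r : N) • a = b ∧ (r : N) • b = a :=
      r.2.resolve_left fun h => hrD ⟨h.1, h.2⟩
    -- every orbit of `D` contains `x₀`
    have hall : ∀ u ∈ U, x₀ ∈ orbit D u := by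
      intro u hu
      obtain ⟨g, hga, hgb, hgx⟩ :=
        h3 a b x₀ a b u hab hx₀U.1.symm hx₀U.2.symm hab hu.1.symm hu.2.symm
      set h : N := ⟨g * ((r : N) : G) * g⁻¹, Subgroup.Normal.conj_mem inferInstance _ (r : N).2 g⟩
      have hha : h • a = b := by
        show (g * ((r : N) : G) * g⁻¹) • a = b
        rw [mul_smul, mul_smul, inv_smul_eq_iff.mpr hga.symm, show ((r : N) : G) • a = b from hrswap.1, hgb]
      have hhb : h • b = a := by
        show (g * ((r : N) : G) * g⁻¹) • b = a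
        rw [mul_smul, mul_smul, inv_smul_eq_iff.mpr hgb.symm, show ((r : N) : G) • b = a from hrswap.2, hga]
      have hhu : h • u = u := by
        show (g * ((r : N) : G) * g⁻¹) • u = u
        rw [mul_smul, mul_smul, inv_smul_eq_iff.mpr hgx.symm,
          show ((r : N) : G) • x₀ = x₀ from hx₀ r hr, hgx]
      have hinv : ∀ l : L, ∀ z ∈ orbit D u, (l : N) • z ∈ orbit D u := by
        rintro ⟨l, hl⟩ _ ⟨⟨n, hn⟩, rfl⟩
        show l • n • u ∈ orbit D u
        rcases hl with ⟨h1, h2⟩ | ⟨h1, h2⟩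
        · exact ⟨⟨l * n, D.mul_mem ⟨h1, h2⟩ hn⟩, mul_smul l n u⟩
        · refine ⟨⟨l * n * h, ⟨?_, ?_⟩⟩, ?_⟩
          · show (l * n * h) • a = a
            rw [mul_smul, mul_smul, hha, show n • b = b from hn.2, h2]
          · show (l * n * h) • b = b
            rw [mul_smul, mul_smul, hhb, show n • a = a from hn.1, h1]
          · show (l * n * h) • u = l • n • u
            rw [mul_smul, mul_smul, hhu]
      obtain ⟨z, hz, hzfix⟩ := hRfix (orbit D u) hinv (hdodd u hu)
      by_contra hne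
      have hzx : z ≠ x₀ := fun e => hne (e ▸ hz)
      refine hnot _ (hconjcard z x₀ hzx) ?_
      rintro _ ⟨q, hq, rfl⟩
      exact ⟨hzfix q hq, hx₀ q hq⟩
    obtain ⟨⟨n₁, h₁⟩, e₁⟩ := hall x ⟨hxa, hxb⟩
    obtain ⟨⟨n₂, h₂⟩, e₂⟩ := hall y ⟨hya, hyb⟩
    have e₁' : n₁ • x = x₀ := e₁
    have e₂' : n₂ • y = x₀ := e₂
    refine ⟨n₂⁻¹ * n₁, ?_, ?_, ?_⟩
    · rw [mul_smul, show n₁ • a = a from h₁.1, inv_smul_eq_iff, show n₂ • a = a from h₂.1]
    · rw [mul_smul, show n₁ • b = b from h₁.2, inv_smul_eq_iff, show n₂ • b = b from h₂.2]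
    · rw [mul_smul, e₁', inv_smul_eq_iff, e₂']
  obtain ⟨m, hma, hmb⟩ := hN22 a b a' b' hab hab'
  obtain ⟨n, hna, hnb, hnc⟩ := hD a' b' (m • c) c' hab'
    (fun e => hac (MulAction.injective m (hma.trans e.symm)))
    (fun e => hbc (MulAction.injective m (hmb.trans e.symm))) hac'.symm hbc'.symm
  refine ⟨(n * m : N), (n * m).2, ?_, ?_, ?_⟩
  · show (n * m) • a = a'
    rw [mul_smul, hma, hna]
  · show (n * m) • b = b'
    rw [mul_smul, hmb, hnb]
  · show (n * m) • c = c'
    rw [mul_smul, hnc]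

end CfsgLib.SmallGroups.Wagner
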