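import Mathlib

/-!
Witt's lemma on transitive extensions.
-/

set_option autoImplicit false

namespace CfsgLib.SmallGroups.Witt

variable {α : Type*}

/-- Double coset closure: `L ∪ L s L` is a subgroup. -/
theorem mem_or_of_mem_closure (L : Subgroup (Equiv.Perm α)) (s : Equiv.Perm α) (hs2 : s * s ∈ L)
    (hclose : ∀ a ∈ L, s * a * s ∈ L ∨ ∃ b ∈ L, ∃ c ∈ L, s * a * s = b * s * c)
    {g : Equiv.Perm α} (hg : g ∈ Subgroup.closure ((L : Set (Equiv.Perm α)) ∪ {s})) :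
    g ∈ L ∨ ∃ b ∈ L, ∃ c ∈ L, g = b * s * c := by
  let X : Subgroup (Equiv.Perm α) :=
    { carrier := {g | g ∈ L ∨ ∃ b ∈ L, ∃ c ∈ L, g = b * s * c}
      one_mem' := Or.inl L.one_mem
      mul_mem' := by
        rintro x y (hx | ⟨b, hb, c, hc, rfl⟩) (hy | ⟨b', hb', c', hc', rfl⟩)
        · exact Or.inl (L.mul_mem hx hy)
        · exact Or.inr ⟨x * b', L.mul_mem hx hb', c', hc', by simp only [mul_assoc]⟩
        · exact Or.inr ⟨b, hb, c * y, L.mul_mem hc hy, by simp only [mul_assoc]⟩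
        · rcases hclose (c * b') (L.mul_mem hc hb') with h | ⟨u, hu, v, hv, h⟩
          · left
            rw [show b * s * c * (b' * s * c') = b * (s * (c * b') * s) * c' by simp only [mul_assoc]]
            exact L.mul_mem (L.mul_mem hb h) hc'
          · right
            refine ⟨b * u, L.mul_mem hb hu, v * c', L.mul_mem hv hc', ?_⟩
            rw [show b * s * c * (b' * s * c') = b * (s * (c * b') * s) * c' by simp only [mul_assoc], h]
            simp only [mul_assoc]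
      inv_mem' := by
        rintro x (hx | ⟨b, hb, c, hc, rfl⟩)
        · exact Or.inl (L.inv_mem hx)
        · refine Or.inr ⟨c⁻¹ * (s * s)⁻¹, L.mul_mem (L.inv_mem hc) (L.inv_mem hs2), b⁻¹, L.inv_mem hb, ?_⟩
          group }
  have hle : Subgroup.closure ((L : Set (Equiv.Perm α)) ∪ {s}) ≤ X := by
    rw [Subgroup.closure_le]
    rintro x (hx | hx)
    · exact Or.inl hx
    · exact Or.inr ⟨1, L.one_mem, 1, L.one_mem, by rw [Set.mem_singleton_iff.mp hx]; simp⟩
  exact hle hg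

variable (t : ℕ) (q : ℕ → α) (G : Subgroup (Equiv.Perm α)) (s : ℕ → Equiv.Perm α)

/-- The intermediate groups. -/
def ext (k : ℕ) : Subgroup (Equiv.Perm α) :=
  Subgroup.closure ((G : Set (Equiv.Perm α)) ∪ {x | ∃ i : ℕ, 2 ≤ i ∧ i + 1 ≤ k ∧ x = s i})

/-- The points moved at stage `k`. -/
def Free (k : ℕ) (x : α) : Prop := ∀ j : ℕ, k < j → j ≤ t → x ≠ q j

theorem ext_two : ext G s 2 = G := by
  rw [ext, show {x | ∃ i : ℕ, 2 ≤ i ∧ i + 1 ≤ 2 ∧ x = s i} = (∅ : Set (Equiv.Perm α)) from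
    Set.eq_empty_iff_forall_notMem.mpr fun x ⟨i, h1, h2, _⟩ => by omega, Set.union_empty,
    Subgroup.closure_eq]

theorem ext_mono {k l : ℕ} (h : k ≤ l) : ext G s k ≤ ext G s l :=
  Subgroup.closure_mono (Set.union_subset_union_right _ fun _ ⟨i, h1, h2, h3⟩ => ⟨i, h1, by omega, h3⟩)

theorem ext_succ {k : ℕ} (hk : 2 ≤ k) :
    ext G s (k + 1) = Subgroup.closure ((ext G s k : Set (Equiv.Perm α)) ∪ {s k}) := by
  apply le_antisymm
  · rw [ext, Subgroup.closure_le]
    rintro x (hx | ⟨i, h1, h2, rfl⟩)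
    · exact Subgroup.subset_closure (Or.inl (Subgroup.subset_closure (Or.inl hx)))
    · rcases Nat.lt_or_ge i k with h | h
      · exact Subgroup.subset_closure (Or.inl (Subgroup.subset_closure (Or.inr ⟨i, h1, by omega, rfl⟩)))
      · exact Subgroup.subset_closure (Or.inr (show s i = s k by rw [show i = k by omega]))
  · rw [Subgroup.closure_le]
    rintro x (hx | hx)
    · exact ext_mono G s (Nat.le_succ k) hx
    · exact Subgroup.subset_closure (Or.inr ⟨k, hk, le_rfl, Set.mem_singleton_iff.mp hx⟩)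

variable {t q G s}

theorem witt [DecidableEq α] (ht : 2 ≤ t)
    (hq : ∀ i j : ℕ, 1 ≤ i → i ≤ t → 1 ≤ j → j ≤ t → q i = q j → i = j)
    (hfix : ∀ g ∈ G, ∀ i : ℕ, 3 ≤ i → i ≤ t → g (q i) = q i)
    (h2 : ∀ a b c d : α, (∀ i, 3 ≤ i → i ≤ t → a ≠ q i ∧ b ≠ q i ∧ c ≠ q i ∧ d ≠ q i) →
      a ≠ b → c ≠ d → ∃ g ∈ G, g a = c ∧ g b = d)
    (hs1 : s 1 ∈ G) (hs1q : s 1 (q 1) = q 2 ∧ s 1 (q 2) = q 1)
    (hsq : ∀ i : ℕ, 2 ≤ i → i + 1 ≤ t → s i (q i) = q (i + 1) ∧ s i (q (i + 1)) = q i ∧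
      ∀ j : ℕ, 1 ≤ j → j ≤ t → j ≠ i → j ≠ i + 1 → s i (q j) = q j)
    (H : Subgroup (Equiv.Perm α)) (hH : ∀ g, g ∈ H ↔ g ∈ G ∧ g (q 1) = q 1 ∧ g (q 2) = q 2)
    (hsq2 : ∀ i : ℕ, 1 ≤ i → i + 1 ≤ t → s i ^ 2 ∈ H)
    (hbraid : ∀ i : ℕ, 1 ≤ i → i + 2 ≤ t → (s i * s (i + 1)) ^ 3 ∈ H)
    (hcomm : ∀ i j : ℕ, 1 ≤ i → i + 2 ≤ j → j + 1 ≤ t → (s i * s j) ^ 2 ∈ H ∧ (s j * s i) ^ 2 ∈ H)
    (hnorm : ∀ i : ℕ, 2 ≤ i → i + 1 ≤ t → ∀ g ∈ G, g (q 2) = q 2 →
      s i * g * (s i)⁻¹ ∈ G ∧ (s i * g * (s i)⁻¹) (q 2) = q 2) :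
    (∀ x : ℕ → α, (∀ i j, 1 ≤ i → i ≤ t → 1 ≤ j → j ≤ t → x i = x j → i = j) →
      ∃ g ∈ ext G s t, ∀ i, 1 ≤ i → i ≤ t → g (x i) = q i) ∧
    ∀ g, (g ∈ ext G s t ∧ ∀ i, 1 ≤ i → i ≤ t → g (q i) = q i) ↔ g ∈ H := by
  -- the stabiliser of `q k` at stage `k`
  let K : ℕ → Subgroup (Equiv.Perm α) := fun k =>
    if k = 2 then G ⊓ MulAction.stabilizer (Equiv.Perm α) (q 2) else ext G s (k - 1)
  have hK2 : ∀ g, g ∈ K 2 ↔ g ∈ G ∧ g (q 2) = q 2 := fun g => Iff.rfl
  have hKsucc : ∀ k, 2 ≤ k → K (k + 1) = ext G s k := fun k hk => by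
    simp only [K, if_neg (show k + 1 ≠ 2 by omega), Nat.add_sub_cancel]
  have hHG : ∀ g ∈ H, g ∈ G := fun g hg => ((hH g).mp hg).1
  have hGext : ∀ k, 2 ≤ k → G ≤ ext G s k := fun k hk => by
    conv_lhs => rw [← ext_two G s]
    exact ext_mono G s hk
  have hHK : ∀ k, 2 ≤ k → ∀ g ∈ H, g ∈ K k := by
    intro k hk g hg
    rcases Nat.lt_or_ge 2 k with h | h
    · rw [show K k = ext G s (k - 1) from if_neg (by omega)]
      exact hGext (k - 1) (by omega) (hHG g hg)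
    · obtain rfl : k = 2 := by omega
      exact (hK2 g).mpr ⟨hHG g hg, ((hH g).mp hg).2.2⟩
  have hfree2 : ∀ i, 1 ≤ i → i ≤ 2 → ∀ j, 3 ≤ j → j ≤ t → q i ≠ q j := fun i h1 h2 j h3 h4 e => by
    have := hq i j h1 (by omega) (by omega) h4 e
    omega
  -- decomposition of `G`
  have hG_dec : ∀ g ∈ G, g (q 2) = q 2 ∨ ∃ u ∈ G, u (q 2) = q 2 ∧ ∃ v ∈ G, v (q 2) = q 2 ∧ g = u * s 1 * v := by
    intro g hg
    by_cases h : g (q 2) = q 2
    · exact Or.inl h
    refine Or.inr ?_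
    have hfree : ∀ i, 3 ≤ i → i ≤ t → g (q 2) ≠ q i := fun i h3 h4 e =>
      hfree2 2 (by omega) le_rfl i h3 h4 (g.injective (e.trans (hfix g hg i h3 h4).symm))
    obtain ⟨u, hu, hu1, hu2⟩ := h2 (q 1) (q 2) (g (q 2)) (q 2)
      (fun i h3 h4 => ⟨hfree2 1 le_rfl (by omega) i h3 h4, hfree2 2 (by omega) le_rfl i h3 h4,
        hfree i h3 h4, hfree2 2 (by omega) le_rfl i h3 h4⟩)
      (fun e => by have := hq 1 2 le_rfl (by omega) (by omega) ht e; omega) h
    refine ⟨u, hu, hu2, (u * s 1)⁻¹ * g, G.mul_mem (G.inv_mem (G.mul_mem hu hs1)) hg, ?_, by group⟩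
    rw [Equiv.Perm.mul_apply, Equiv.Perm.inv_eq_iff_eq, Equiv.Perm.mul_apply, hs1q.2, hu1]
  -- `s k` normalises the stabiliser of stage `k`
  have hnormK : ∀ k, 2 ≤ k → k + 1 ≤ t → ∀ g ∈ K k, s k * g * (s k)⁻¹ ∈ K k := by
    intro k hk hkt
    rcases Nat.lt_or_ge 2 k with hk3 | hk3
    · intro g hg
      rw [show K k = ext G s (k - 1) from if_neg (by omega)] at hg ⊢
      have hsmall : ∀ i, 1 ≤ i → i + 2 ≤ k → ∀ L : Subgroup (Equiv.Perm α), s i ∈ L →
          (∀ h ∈ H, h ∈ L) → s k * s i * (s k)⁻¹ ∈ L := by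
        intro i h1 hik L hiL hHL
        have h := (hcomm i k h1 hik hkt).1
        rw [pow_two] at h
        have hk2 := hsq2 k (by omega) hkt
        rw [pow_two] at hk2
        rw [show s k * s i * (s k)⁻¹ = (s i)⁻¹ * (s i * s k * (s i * s k)) * (s k * s k)⁻¹ by group]
        exact L.mul_mem (L.mul_mem (L.inv_mem hiL) (hHL _ h)) (L.inv_mem (hHL _ hk2))
      have hsub : ext G s (k - 1) ≤ (ext G s (k - 1)).comap (MulAut.conj (s k)).toMonoidHom := by
        conv_lhs => rw [ext]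
        rw [Subgroup.closure_le]
        rintro x (hx | ⟨i, h1, h2, rfl⟩)
        · show s k * x * (s k)⁻¹ ∈ ext G s (k - 1)
          have hG2 : ∀ u ∈ G, u (q 2) = q 2 → s k * u * (s k)⁻¹ ∈ G := fun u hu h =>
            (hnorm k hk hkt u hu h).1
          refine hGext (k - 1) (by omega) ?_
          rcases hG_dec x hx with h | ⟨u, hu, hu2, v, hv, hv2, rfl⟩
          · exact hG2 x hx h
          · rw [show s k * (u * s 1 * v) * (s k)⁻¹ =
              (s k * u * (s k)⁻¹) * (s k * s 1 * (s k)⁻¹) * (s k * v * (s k)⁻¹) by group]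
            exact G.mul_mem (G.mul_mem (hG2 u hu hu2) (hsmall 1 le_rfl (by omega) G hs1 hHG))
              (hG2 v hv hv2)
        · show s k * s i * (s k)⁻¹ ∈ ext G s (k - 1)
          exact hsmall i (by omega) (by omega) _ (Subgroup.subset_closure (Or.inr ⟨i, h1, h2, rfl⟩))
            (fun h hh => hGext (k - 1) (by omega) (hHG h hh))
      exact hsub hg
    · obtain rfl : k = 2 := by omega
      intro g hg
      exact (hK2 _).mpr (hnorm 2 le_rfl hkt g ((hK2 g).mp hg).1 ((hK2 g).mp hg).2)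
  have main : ∀ k, 2 ≤ k → k ≤ t →
      (∀ g ∈ ext G s k, ∀ j, k < j → j ≤ t → g (q j) = q j) ∧
      (∀ x, Free t q k x → x ≠ q k → ∃ u ∈ K k, u (q (k - 1)) = x) ∧
      (∀ x, Free t q k x → ∃ u ∈ ext G s k, u (q k) = x) ∧
      (∀ g ∈ ext G s k, g (q k) = q k → g ∈ K k) ∧
      K k ≤ ext G s k ∧ (∀ g ∈ K k, g (q k) = q k) ∧
      (∀ x : ℕ → α, (∀ i, 1 ≤ i → i ≤ k → Free t q k (x i)) →
        (∀ i j, 1 ≤ i → i ≤ k → 1 ≤ j → j ≤ k → x i = x j → i = j) →
        ∃ g ∈ ext G s k, ∀ i, 1 ≤ i → i ≤ k → g (x i) = q i) ∧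
      (∀ g ∈ ext G s k, (∀ i, 1 ≤ i → i ≤ k → g (q i) = q i) → g ∈ H) := by
    intro k hk
    induction k, hk using Nat.le_induction with
    | base =>
      intro _
      have hf : ∀ i, 1 ≤ i → i ≤ 2 → Free t q 2 (q i) := fun i h1 h2 j h3 h4 => hfree2 i h1 h2 j h3 h4
      have h12 : q 1 ≠ q 2 := fun e => by
        have := hq 1 2 le_rfl (by omega) (by omega) ht e
        omega
      rw [ext_two]
      refine ⟨fun g hg j h1 h2 => hfix g hg j (by omega) h2, fun x hx hx2 => ?_, fun x hx => ?_,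
        fun g hg h => (hK2 g).mpr ⟨hg, h⟩, fun g hg => ((hK2 g).mp hg).1,
        fun g hg => ((hK2 g).mp hg).2, fun x hx hinj => ?_, fun g hg h => (hH g).mpr
          ⟨hg, h 1 le_rfl (by omega), h 2 (by omega) le_rfl⟩⟩
      · obtain ⟨u, hu, hu1, hu2⟩ := h2 (q 1) (q 2) x (q 2) (fun i h3 h4 =>
          ⟨hf 1 le_rfl (by omega) i h3 h4, hf 2 (by omega) le_rfl i h3 h4, hx i h3 h4,
            hf 2 (by omega) le_rfl i h3 h4⟩) h12 hx2
        exact ⟨u, (hK2 u).mpr ⟨hu, hu2⟩, hu1⟩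
      · obtain ⟨z, hzf, hz⟩ : ∃ z, Free t q 2 z ∧ z ≠ x := by
          by_cases h : x = q 1
          · exact ⟨q 2, hf 2 (by omega) le_rfl, fun e => h12 (h.symm.trans e.symm)⟩
          · exact ⟨q 1, hf 1 le_rfl (by omega), fun e => h e.symm⟩
        obtain ⟨u, hu, hu1, -⟩ := h2 (q 2) (q 1) x z (fun i h3 h4 =>
          ⟨hf 2 (by omega) le_rfl i h3 h4, hf 1 le_rfl (by omega) i h3 h4, hx i h3 h4, hzf i h3 h4⟩)
          h12.symm hz.symm
        exact ⟨u, hu, hu1⟩
      · obtain ⟨g, hg, g1, g2⟩ := h2 (x 1) (x 2) (q 1) (q 2) (fun i h3 h4 =>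
          ⟨hx 1 le_rfl (by omega) i h3 h4, hx 2 (by omega) le_rfl i h3 h4,
            hf 1 le_rfl (by omega) i h3 h4, hf 2 (by omega) le_rfl i h3 h4⟩)
          (fun e => by have := hinj 1 2 le_rfl (by omega) (by omega) le_rfl e; omega) h12
        exact ⟨g, hg, fun i h1 h2 => by
          rcases (show i = 1 ∨ i = 2 by omega) with rfl | rfl <;> assumption⟩
    | succ k hk ih =>
      intro hkt
      obtain ⟨hFix, hKtr, hTr, hStab, hKle, hKfix, hTup, hInt⟩ := ih (by omega)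
      set L := ext G s k with hL
      have hkk : k - 1 + 1 = k := Nat.sub_add_cancel (by omega)
      have hprev : s (k - 1) ∈ L ∧ s (k - 1) (q (k - 1)) = q k ∧ s (k - 1) (q k) = q (k - 1) := by
        rcases Nat.lt_or_ge 2 k with hk3 | hk3
        · have h := hsq (k - 1) (by omega) (by omega)
          rw [hkk] at h
          exact ⟨Subgroup.subset_closure (Or.inr ⟨k - 1, by omega, by omega, rfl⟩), h.1, h.2.1⟩
        · obtain rfl : k = 2 := by omega
          exact ⟨hGext 2 le_rfl hs1, hs1q⟩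
      have hqk : ∀ i, 1 ≤ i → i ≤ k → Free t q k (q i) := fun i h1 h2 j h3 h4 e => by
        have := hq i j h1 (by omega) (by omega) h4 e
        omega
      have hFreeL : ∀ g ∈ L, ∀ x, Free t q k x → Free t q k (g x) := fun g hg x hx j h1 h2 e =>
        hx j h1 h2 (g.injective (e.trans (hFix g hg j h1 h2).symm))
      have hLdec : ∀ g ∈ L, g ∈ K k ∨ ∃ u ∈ K k, ∃ v ∈ K k, g = u * s (k - 1) * v := by
        intro g hg
        by_cases h : g (q k) = q k
        · exact Or.inl (hStab g hg h)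
        obtain ⟨u, hu, hu1⟩ := hKtr (g (q k)) (hFreeL g hg _ (hqk k (by omega) le_rfl)) h
        refine Or.inr ⟨u, hu, (u * s (k - 1))⁻¹ * g,
          hStab _ (L.mul_mem (L.inv_mem (L.mul_mem (hKle hu) hprev.1)) hg) ?_, by group⟩
        rw [Equiv.Perm.mul_apply, Equiv.Perm.inv_eq_iff_eq, Equiv.Perm.mul_apply, hprev.2.2, hu1]
      have hsk2 : s k * s k ∈ H := by rw [← pow_two]; exact hsq2 k (by omega) hkt
      have hclose : ∀ a ∈ L, s k * a * s k ∈ L ∨ ∃ b ∈ L, ∃ c ∈ L, s k * a * s k = b * s k * c := by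
        intro a ha
        rcases hLdec a ha with h | ⟨u, hu, v, hv, rfl⟩
        · left
          rw [show s k * a * s k = (s k * a * (s k)⁻¹) * (s k * s k) by group]
          exact L.mul_mem (hKle (hnormK k hk hkt a h)) (hKle (hHK k hk _ hsk2))
        · right
          have hb := hbraid (k - 1) (by omega) (by omega)
          rw [hkk] at hb
          set s' := s (k - 1) with hs'
          have hv' : (s k)⁻¹ * v * s k ∈ K k := by
            rw [show (s k)⁻¹ * v * s k = (s k * s k)⁻¹ * (s k * v * (s k)⁻¹) * (s k * s k) by group]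
            exact (K k).mul_mem ((K k).mul_mem ((K k).inv_mem (hHK k hk _ hsk2)) (hnormK k hk hkt v hv))
              (hHK k hk _ hsk2)
          refine ⟨(s k * u * (s k)⁻¹) * (s'⁻¹ * (s' * s k) ^ 3 * (s k * s k)⁻¹),
            L.mul_mem (hKle (hnormK k hk hkt u hu)) (L.mul_mem (L.mul_mem (L.inv_mem hprev.1)
              (hKle (hHK k hk _ hb))) (hKle ((K k).inv_mem (hHK k hk _ hsk2)))),
            s'⁻¹ * ((s k)⁻¹ * v * s k), L.mul_mem (L.inv_mem hprev.1) (hKle hv'), ?_⟩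
          simp only [pow_succ, pow_zero, one_mul, mul_inv_rev, mul_assoc, inv_mul_cancel_left,
            mul_inv_cancel_left]
      have hdec : ∀ g ∈ ext G s (k + 1), g ∈ L ∨ ∃ b ∈ L, ∃ c ∈ L, g = b * s k * c := fun g hg => by
        rw [ext_succ G s hk] at hg
        exact mem_or_of_mem_closure L (s k) (hKle (hHK k hk _ hsk2)) hclose hg
      have hsk := hsq k hk hkt
      have hskmem : s k ∈ ext G s (k + 1) := Subgroup.subset_closure (Or.inr ⟨k, hk, le_rfl, rfl⟩)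
      have hLle : L ≤ ext G s (k + 1) := ext_mono G s (Nat.le_succ k)
      have hFree' : ∀ x, Free t q (k + 1) x → x ≠ q (k + 1) → Free t q k x := fun x hx hne j h1 h2 => by
        rcases Nat.lt_or_ge (k + 1) j with h | h
        · exact hx j h h2
        · rw [show j = k + 1 by omega]; exact hne
      have hFixS : ∀ g ∈ ext G s (k + 1), ∀ j, k + 1 < j → j ≤ t → g (q j) = q j := by
        intro g hg j h1 h2
        rcases hdec g hg with h | ⟨b, hb, c, hc, rfl⟩
        · exact hFix g h j (by omega) h2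
        · rw [Equiv.Perm.mul_apply, Equiv.Perm.mul_apply, hFix c hc j (by omega) h2,
            hsk.2.2 j (by omega) h2 (by omega) (by omega), hFix b hb j (by omega) h2]
      have hStabS : ∀ g ∈ ext G s (k + 1), g (q (k + 1)) = q (k + 1) → g ∈ L := by
        intro g hg h
        rcases hdec g hg with hL' | ⟨b, hb, c, hc, rfl⟩
        · exact hL'
        · rw [Equiv.Perm.mul_apply, Equiv.Perm.mul_apply, hFix c hc (k + 1) (by omega) hkt, hsk.2.1] at h
          exact absurd (b.injective (h.trans (hFix b hb (k + 1) (by omega) hkt).symm))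
            (fun e => by have := hq k (k + 1) (by omega) (by omega) (by omega) hkt e; omega)
      have hTrS : ∀ x, Free t q (k + 1) x → ∃ u ∈ ext G s (k + 1), u (q (k + 1)) = x := by
        intro x hx
        by_cases h : x = q (k + 1)
        · exact ⟨1, Subgroup.one_mem _, h.symm⟩
        obtain ⟨u, hu, hu1⟩ := hTr x (hFree' x hx h)
        exact ⟨u * s k, Subgroup.mul_mem _ (hLle hu) hskmem, by
          rw [Equiv.Perm.mul_apply, hsk.2.1, hu1]⟩
      refine ⟨hFixS, fun x hx hne => ?_, hTrS, fun g hg h => ?_, ?_, fun g hg => ?_,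
        fun x hx hinj => ?_, fun g hg h => ?_⟩
      · obtain ⟨u, hu, hu1⟩ := hTr x (hFree' x hx hne)
        rw [hKsucc k hk, Nat.add_sub_cancel]
        exact ⟨u, hu, hu1⟩
      · rw [hKsucc k hk]; exact hStabS g hg h
      · rw [hKsucc k hk]; exact hLle
      · rw [hKsucc k hk] at hg
        exact hFix g hg (k + 1) (by omega) hkt
      · obtain ⟨u, hu, hu1⟩ := hTrS (x (k + 1)) (hx (k + 1) (by omega) le_rfl)
        have huf : ∀ i, 1 ≤ i → i ≤ k → Free t q k (u⁻¹ (x i)) := by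
          intro i h1 h2 j h3 h4 e
          rw [Equiv.Perm.inv_eq_iff_eq] at e
          rcases Nat.lt_or_ge (k + 1) j with h | h
          · rw [hFixS u hu j h h4] at e
            exact hx i h1 (by omega) j h h4 e
          · rw [show j = k + 1 by omega, hu1] at e
            have := hinj i (k + 1) h1 (by omega) (by omega) le_rfl e
            omega
        obtain ⟨g, hg, hgx⟩ := hTup (fun i => u⁻¹ (x i)) huf fun i j h1 h2 h3 h4 e =>
          hinj i j h1 (by omega) h3 (by omega) (u⁻¹.injective e)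
        refine ⟨g * u⁻¹, Subgroup.mul_mem _ (hLle hg) (Subgroup.inv_mem _ hu), fun i h1 h2 => ?_⟩
        rw [Equiv.Perm.mul_apply]
        rcases Nat.lt_or_ge i (k + 1) with h | h
        · exact hgx i h1 (by omega)
        · rw [show i = k + 1 by omega, ← hu1, ← Equiv.Perm.mul_apply u⁻¹, inv_mul_cancel,
            Equiv.Perm.one_apply, hFix g hg (k + 1) (by omega) hkt]
      · exact hInt g (hStabS g hg (h (k + 1) (by omega) le_rfl)) fun i h1 h2 => h i h1 (by omega)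
  obtain ⟨-, -, -, -, -, -, hTup, hInt⟩ := main t ht le_rfl
  refine ⟨fun x hx => hTup x (fun i _ _ j h h' => absurd h' (by omega)) hx,
    fun g => ⟨fun h => hInt g h.1 h.2, fun h => ⟨hGext t ht (hHG g h), fun i h1 h2 => ?_⟩⟩⟩
  rcases Nat.lt_or_ge i 3 with h3 | h3
  · rcases (show i = 1 ∨ i = 2 by omega) with rfl | rfl
    · exact ((hH g).mp h).2.1
    · exact ((hH g).mp h).2.2
  · exact hfix g (hHG g h) i h3 h2

end CfsgLib.SmallGroups.Witt
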